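import Groth.Agent.Lib.Helper16.CohFinite

/-!
# Epimorphisms / monomorphisms of O_X-modules via sections (helper16)

`app_map`, `hom_ext_of_basis`, `epi_of_surjective_on_basis`, `mono_of_injective_on_basis`,
`toSpecSections_naturality`, `surjective_app_of_epi` (qcoh, affine), `surjective_app_basicOpen`,
`epi_of_surjective_on_affine_cover`, `isIso_of_mono_of_surjective_on_affine_cover`.
-/

set_option autoImplicit false
universe u
open CategoryTheory CategoryTheory.Limits AlgebraicGeometry TopologicalSpace Opposite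

namespace Groth.Agent.Lib.helper16.QCohEpi

open Scheme.Modules Groth.Agent.Lib.helper7 Groth.Agent.Lib.helper16.CohFinite

variable {X : Scheme.{u}}

/-- naturality of `Hom.app` with restriction maps -/
theorem app_map {F G : X.Modules} (u : F ⟶ G) {W D : X.Opens} (h : D ≤ W) (s : Γ(F, W)) :
    (u.app D).hom (F.presheaf.map (homOfLE h).op s) =
      G.presheaf.map (homOfLE h).op ((u.app W).hom s) := by
  have := u.mapPresheaf.naturality (homOfLE h).op
  exact congr($(this).hom s)

/-- two morphisms of `O_X`-modules agreeing on a basis of opens are equal -/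
theorem hom_ext_of_basis {G N : X.Modules} (a b : G ⟶ N) (𝔅 : Set X.Opens)
    (h𝔅 : Opens.IsBasis 𝔅) (h : ∀ D ∈ 𝔅, ∀ s : Γ(G, D), (a.app D).hom s = (b.app D).hom s) :
    a = b := by
  apply Scheme.Modules.hom_ext
  intro W
  ext s
  refine TopCat.Presheaf.IsSheaf.section_ext N.isSheaf (U := op W) ?_
  intro x hx
  obtain ⟨D, hD, hxD, hDW⟩ := Opens.isBasis_iff_nbhd.mp h𝔅 hx
  refine ⟨D, hDW, hxD, ?_⟩
  have h1 := app_map a hDW s
  have h2 := app_map b hDW s
  exact h1.symm.trans ((h D hD _).trans h2)

/-- a morphism which is surjective on sections over a basis of opens is an epimorphism -/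
theorem epi_of_surjective_on_basis {F G : X.Modules} (u : F ⟶ G) (𝔅 : Set X.Opens)
    (h𝔅 : Opens.IsBasis 𝔅) (h : ∀ D ∈ 𝔅, Function.Surjective (u.app D).hom) : Epi u := by
  refine ⟨fun {N} a b hab => ?_⟩
  refine hom_ext_of_basis a b 𝔅 h𝔅 (fun D hD s => ?_)
  obtain ⟨t, rfl⟩ := h D hD s
  have h1 : (u ≫ a).app D = (u ≫ b).app D := by rw [hab]
  exact congr($(h1).hom t)

/-- a morphism which is injective on sections over a basis of opens is a monomorphism -/
theorem mono_of_injective_on_basis {F G : X.Modules} (u : F ⟶ G) (𝔅 : Set X.Opens)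
    (h𝔅 : Opens.IsBasis 𝔅) (h : ∀ D ∈ 𝔅, Function.Injective (u.app D).hom) : Mono u := by
  refine ⟨fun {N} a b hab => ?_⟩
  refine hom_ext_of_basis a b 𝔅 h𝔅 (fun D hD s => ?_)
  apply h D hD
  have h1 : (a ≫ u).app D = (b ≫ u).app D := by rw [hab]
  exact congr($(h1).hom s)

/-- naturality of `toSpecSections` -/
theorem toSpecSections_naturality {F G : X.Modules} (u : F ⟶ G) {U : X.Opens}
    (hU : IsAffineOpen U) (s : Γ(F, U)) :
    (moduleSpecΓFunctor.map ((restrictFunctor hU.fromSpec).map u)).hom (toSpecSections F hU s) =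
      toSpecSections G hU ((u.app U).hom s) :=
  app_map u (image_top_eq hU).le s

/-- **an epimorphism of quasi-coherent modules is surjective on sections over affine opens** -/
theorem surjective_app_of_epi {F G : X.Modules} [F.IsQuasicoherent] [G.IsQuasicoherent]
    (u : F ⟶ G) [Epi u] {U : X.Opens} (hU : IsAffineOpen U) :
    Function.Surjective (u.app U).hom := by
  let u' := (restrictFunctor hU.fromSpec).map u
  haveI : Epi u' := inferInstance
  have nat := (Scheme.Modules.fromTildeΓNatTrans (R := Γ(X, U))).naturality u'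
  simp only [Functor.comp_map, Functor.id_map] at nat
  haveI h1 : IsIso (F.restrict hU.fromSpec).fromTildeΓ := inferInstance
  haveI h2 : IsIso (G.restrict hU.fromSpec).fromTildeΓ := inferInstance
  have h3 : Epi ((tilde.functor Γ(X, U)).map (moduleSpecΓFunctor.map u')) := by
    have e1 : Epi ((tilde.functor Γ(X, U)).map (moduleSpecΓFunctor.map u') ≫
        fromTildeΓNatTrans.app ((restrictFunctor hU.fromSpec).obj G)) := by
      rw [nat]
      haveI : IsIso (fromTildeΓNatTrans.app ((restrictFunctor hU.fromSpec).obj F)) := h1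
      exact epi_comp' inferInstance ‹Epi u'›
    haveI : IsIso (fromTildeΓNatTrans.app ((restrictFunctor hU.fromSpec).obj G)) := h2
    exact (epi_comp_iff_of_isIso _ _).mp e1
  have h4 : Epi (moduleSpecΓFunctor.map u') := (tilde.functor Γ(X, U)).epi_of_epi_map h3
  have h5 : Function.Surjective (moduleSpecΓFunctor.map u').hom :=
    (ModuleCat.epi_iff_surjective _).mp h4
  intro t
  obtain ⟨x, hx⟩ := h5 (toSpecSections G hU t)
  obtain ⟨s, rfl⟩ := toSpecSections_surjective F hU x
  refine ⟨s, toSpecSections_injective G hU ?_⟩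
  rw [← toSpecSections_naturality]
  exact hx

/-- surjectivity on sections over an affine open passes to basic opens (target quasi-coherent) -/
theorem surjective_app_basicOpen {F G : X.Modules} [G.IsQuasicoherent] (u : F ⟶ G)
    {U : X.Opens} (hU : IsAffineOpen U) (g : Γ(X, U))
    (h : Function.Surjective (u.app U).hom) :
    Function.Surjective (u.app (X.basicOpen g)).hom := by
  intro t
  have L := isLocalizedModule_of_eq_basicOpen G hU g (X.basicOpen_le g) rfl
  letI := modOfLE G (X.basicOpen_le g)
  obtain ⟨⟨s, ⟨_, n, rfl⟩⟩, hs⟩ := L.surj t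
  obtain ⟨s', rfl⟩ := h s
  have hunit : IsUnit (resRing (X.basicOpen_le g) g) :=
    RingedSpace.isUnit_res_basicOpen X.toRingedSpace g
  obtain ⟨v, hv⟩ := hunit.pow n
  have hs' : (resRing (X.basicOpen_le g) (g ^ n)) • t =
      G.presheaf.map (homOfLE (X.basicOpen_le g)).op ((u.app U).hom s') := hs
  rw [map_pow, ← hv, ← app_map u (X.basicOpen_le g) s'] at hs'
  refine ⟨(↑v⁻¹ : Γ(X, X.basicOpen g)) • F.presheaf.map (homOfLE (X.basicOpen_le g)).op s', ?_⟩
  have h2 := Scheme.Modules.Hom.app_smul u (↑v⁻¹ : Γ(X, X.basicOpen g))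
    (F.presheaf.map (homOfLE (X.basicOpen_le g)).op s')
  refine h2.trans ?_
  erw [← hs']
  rw [smul_smul]
  simp

/-- **a morphism to a quasi-coherent module which is surjective on sections over an affine open
cover is an epimorphism** -/
theorem epi_of_surjective_on_affine_cover {F G : X.Modules} [G.IsQuasicoherent] (u : F ⟶ G)
    {ι : Type*} (W : ι → X.Opens) (hW : ∀ i, IsAffineOpen (W i)) (hcov : ∀ x : X, ∃ i, x ∈ W i)
    (h : ∀ i, Function.Surjective (u.app (W i)).hom) : Epi u := by
  let 𝔅 : Set X.Opens := {D | ∃ (i : ι) (g : Γ(X, W i)), D = X.basicOpen g}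
  refine epi_of_surjective_on_basis u 𝔅 ?_ ?_
  · rw [Opens.isBasis_iff_nbhd]
    intro O x hx
    obtain ⟨i, hi⟩ := hcov x
    obtain ⟨g, hg, hxg⟩ := (hW i).exists_basicOpen_le (V := O) ⟨x, hx⟩ hi
    exact ⟨X.basicOpen g, ⟨i, g, rfl⟩, hxg, hg⟩
  · rintro D ⟨i, g, rfl⟩
    exact surjective_app_basicOpen u (hW i) g (h i)

/-- a monomorphism to a quasi-coherent module which is surjective on sections over an affine open
cover is an isomorphism -/
theorem isIso_of_mono_of_surjective_on_affine_cover {F G : X.Modules} [G.IsQuasicoherent]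
    (u : F ⟶ G) [Mono u]
    {ι : Type*} (W : ι → X.Opens) (hW : ∀ i, IsAffineOpen (W i)) (hcov : ∀ x : X, ∃ i, x ∈ W i)
    (h : ∀ i, Function.Surjective (u.app (W i)).hom) : IsIso u := by
  haveI := epi_of_surjective_on_affine_cover u W hW hcov h
  exact isIso_of_mono_of_epi u

end Groth.Agent.Lib.helper16.QCohEpi
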