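import Groth.Agent.Lib.Helper16.QCohPullback

/-!
# Pullback of quasi-coherent modules: finiteness and fpqc descent (helper16)

* `isFiniteType_pullback`, `isFinitePresentation_pullback`
* `sectionsEquivOfIso`
* `exists_affine_faithfullyFlat` (affine faithfully flat chart over an affine open of the base of an
  fpqc morphism)
* `fp_of_fp_tensorProduct_of_faithfullyFlat` (module f.p. descends along faithfully flat)
* `finite_sections_of_pullback_fpqc`, `fp_sections_of_pullback_fpqc`,
  `isFiniteType_of_pullback_fpqc`, `isFinitePresentation_of_pullback_fpqc`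
-/

set_option autoImplicit false
universe u
open CategoryTheory CategoryTheory.Limits AlgebraicGeometry TopologicalSpace Opposite TensorProduct

namespace Groth.Agent.Lib.helper16.QCohPullback2

open Scheme.Modules Groth.Agent.Lib.helper16.CohFinite Groth.Agent.Lib.helper16.CohFP
  Groth.Agent.Lib.helper16.QCohPullback

variable {X Y : Scheme.{u}} (f : Y ⟶ X) (M : X.Modules)

/-- affine opens of `Y` mapping into affine opens of `X` -/
abbrev AffPair := {p : Y.affineOpens × X.affineOpens // p.1.1 ≤ f ⁻¹ᵁ p.2.1}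

theorem iSup_affPair : ⨆ p : AffPair f, p.1.1.1 = ⊤ := by
  rw [eq_top_iff]
  intro y _
  obtain ⟨U, hU, hyU, -⟩ := Opens.isBasis_iff_nbhd.mp X.isBasis_affineOpens
    (show f y ∈ (⊤ : X.Opens) from trivial)
  obtain ⟨V, hV, hyV, hVU⟩ := Opens.isBasis_iff_nbhd.mp Y.isBasis_affineOpens
    (show y ∈ f ⁻¹ᵁ U from hyU)
  exact Opens.mem_iSup.mpr ⟨⟨(⟨V, hV⟩, ⟨U, hU⟩), hVU⟩, hyV⟩

/-- **Pullback preserves finite type (for quasi-coherent modules).** -/
theorem isFiniteType_pullback [M.IsQuasicoherent]
    (hM : SheafOfModules.IsFiniteType (R := X.ringCatSheaf) M) :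
    SheafOfModules.IsFiniteType (R := Y.ringCatSheaf) ((Scheme.Modules.pullback f).obj M) := by
  haveI := isQuasicoherent_pullback f M
  refine isFiniteType_of_finite_sections _ (fun p : AffPair f => p.1.1.1) (fun p => p.1.1.2)
    (iSup_affPair f) (fun p => ?_)
  letI := (f.appLE p.1.2.1 p.1.1.1 p.2).hom.toAlgebra
  haveI : Module.Finite Γ(X, p.1.2.1) Γ(M, p.1.2.1) :=
    finite_sections_of_isFiniteType M hM p.1.2.2
  exact Module.Finite.equiv (pullbackSectionsEquiv f M p.1.2.2 p.1.1.2 p.2).symm

/-- **Pullback preserves finite presentation.** -/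
theorem isFinitePresentation_pullback
    (hM : SheafOfModules.IsFinitePresentation (R := X.ringCatSheaf) M) :
    SheafOfModules.IsFinitePresentation (R := Y.ringCatSheaf)
      ((Scheme.Modules.pullback f).obj M) := by
  haveI : M.IsQuasicoherent := inferInstance
  haveI := isQuasicoherent_pullback f M
  refine isFinitePresentation_of_fp_sections _ (fun p : AffPair f => p.1.1.1) (fun p => p.1.1.2)
    (iSup_affPair f) (fun p => ?_)
  letI := (f.appLE p.1.2.1 p.1.1.1 p.2).hom.toAlgebra
  haveI : Module.FinitePresentation Γ(X, p.1.2.1) Γ(M, p.1.2.1) :=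
    fp_sections_of_isFinitePresentation M hM p.1.2.2
  exact Module.FinitePresentation.of_equiv (pullbackSectionsEquiv f M p.1.2.2 p.1.1.2 p.2).symm

/-- sections of isomorphic modules -/
noncomputable def sectionsEquivOfIso {X : Scheme.{u}} {F G : X.Modules} (α : F ≅ G) (U : X.Opens) :
    Γ(F, U) ≃ₗ[Γ(X, U)] Γ(G, U) where
  toFun := α.hom.app U
  invFun := α.inv.app U
  map_add' := fun x y => map_add _ x y
  map_smul' := fun r x => Scheme.Modules.Hom.app_smul α.hom r x
  left_inv := fun x => by
    change (α.hom.app U ≫ α.inv.app U) x = x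
    rw [← Scheme.Modules.Hom.comp_app, α.hom_inv_id]
    rfl
  right_inv := fun x => by
    change (α.inv.app U ≫ α.hom.app U) x = x
    rw [← Scheme.Modules.Hom.comp_app, α.inv_hom_id]
    rfl

section Descent

variable [Flat f] [Surjective f] [QuasiCompact f] {U : X.Opens} (hU : IsAffineOpen U)

include hU in
/-- over an affine open `U` of the base of an fpqc morphism `f : Y ⟶ X` there is an affine scheme
`W` with a flat morphism `p : W ⟶ Y` such that `Γ(X,U) → Γ(W,⊤)` is faithfully flat -/
theorem exists_affine_faithfullyFlat :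
    ∃ (W : Scheme.{u}) (_ : IsAffine W) (p : W ⟶ Y) (_ : Flat p) (e : (⊤ : W.Opens) ≤ (p ≫ f) ⁻¹ᵁ U),
      ((p ≫ f).appLE U ⊤ e).hom.FaithfullyFlat := by
  haveI : CompactSpace ((f ⁻¹ᵁ U : Y.Opens) : Scheme.{u}) :=
    isCompact_iff_compactSpace.mp (f.isCompact_preimage hU.isCompact)
  obtain ⟨W, p₀, hsurj, hflat, haff⟩ :=
    Scheme.exists_hom_isAffine_of_isZariskiLocalAtSource @Flat (f ⁻¹ᵁ U : Scheme.{u})
  haveI : Flat p₀ := hflat
  have e : (⊤ : W.Opens) ≤ ((p₀ ≫ (f ⁻¹ᵁ U).ι) ≫ f) ⁻¹ᵁ U := by
    intro w _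
    exact (p₀ w).2
  refine ⟨W, haff, p₀ ≫ (f ⁻¹ᵁ U).ι, inferInstance, e, ?_⟩
  rw [RingHom.FaithfullyFlat.iff_flat_and_comap_surjective]
  constructor
  · exact HasRingHomProperty.appLE (P := @Flat) ((p₀ ≫ (f ⁻¹ᵁ U).ι) ≫ f) inferInstance
      ⟨U, hU⟩ ⟨⊤, isAffineOpen_top W⟩ e
  · intro q
    have hcomm := IsAffineOpen.SpecMap_appLE_fromSpec ((p₀ ≫ (f ⁻¹ᵁ U).ι) ≫ f) hU
      (isAffineOpen_top W) e
    have hx : hU.fromSpec q ∈ U := by
      have : hU.fromSpec q ∈ Set.range hU.fromSpec := ⟨q, rfl⟩
      rwa [hU.range_fromSpec] at this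
    obtain ⟨y, hy⟩ := f.surjective (hU.fromSpec q)
    have hyU : y ∈ f ⁻¹ᵁ U := by
      show f y ∈ U
      rw [hy]; exact hx
    obtain ⟨w, hw⟩ := hsurj.surj ⟨y, hyU⟩
    have hwtop : w ∈ Set.range (isAffineOpen_top W).fromSpec := by
      rw [(isAffineOpen_top W).range_fromSpec]; trivial
    obtain ⟨w', rfl⟩ := hwtop
    refine ⟨w', ?_⟩
    apply hU.fromSpec.isOpenEmbedding.injective
    have h2 := congr($(hcomm) w')
    rw [Scheme.Hom.comp_apply, Scheme.Hom.comp_apply] at h2
    refine h2.trans ?_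
    rw [Scheme.Hom.comp_apply, Scheme.Hom.comp_apply, hw]
    exact hy

/-- faithfully flat descent of finite presentation of modules -/
theorem fp_of_fp_tensorProduct_of_faithfullyFlat (R T M : Type*) [CommRing R] [CommRing T]
    [Algebra R T] [AddCommGroup M] [Module R M] [Module.FaithfullyFlat R T]
    [Module.FinitePresentation T (T ⊗[R] M)] : Module.FinitePresentation R M := by
  haveI : Module.Finite R M := Module.Finite.of_finite_tensorProduct_of_faithfullyFlat T
  obtain ⟨n, g, hg⟩ := Module.Finite.exists_fin' R M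
  rw [← Module.FinitePresentation.fg_ker_iff g hg, ← Module.Finite.iff_fg]
  haveI : Module.Finite T (T ⊗[R] LinearMap.ker g) := by
    haveI : Module.Finite T (LinearMap.ker (AlgebraTensorModule.lTensor T T g)) := by
      rw [Module.Finite.iff_fg]
      refine Module.FinitePresentation.fg_ker (AlgebraTensorModule.lTensor T T g) ?_
      have := LinearMap.lTensor_surjective T hg
      exact this
    exact Module.Finite.equiv (LinearMap.tensorKerEquiv T T g).symm
  exact Module.Finite.of_finite_tensorProduct_of_faithfullyFlat T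

include hU in
/-- **fpqc descent of finite generation of sections** -/
theorem finite_sections_of_pullback_fpqc [M.IsQuasicoherent]
    (h : SheafOfModules.IsFiniteType (R := Y.ringCatSheaf) ((Scheme.Modules.pullback f).obj M)) :
    Module.Finite Γ(X, U) Γ(M, U) := by
  obtain ⟨W, haff, p, hflat, e, hff⟩ := exists_affine_faithfullyFlat f hU
  letI := ((p ≫ f).appLE U ⊤ e).hom.toAlgebra
  haveI : Module.FaithfullyFlat Γ(X, U) Γ(W, ⊤) := hff
  let β : (Scheme.Modules.pullback (p ≫ f)).obj M ≅
      (Scheme.Modules.pullback p).obj ((Scheme.Modules.pullback f).obj M) :=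
    ((Scheme.Modules.pullbackComp p f).app M).symm
  haveI := isQuasicoherent_pullback f M
  have h1 := isFiniteType_pullback p _ h
  haveI := isQuasicoherent_pullback p ((Scheme.Modules.pullback f).obj M)
  have h2 : Module.Finite Γ(W, ⊤) Γ((Scheme.Modules.pullback p).obj
      ((Scheme.Modules.pullback f).obj M), ⊤) :=
    finite_sections_of_isFiniteType _ h1 (isAffineOpen_top W)
  have h3 : Module.Finite Γ(W, ⊤) Γ((Scheme.Modules.pullback (p ≫ f)).obj M, ⊤) :=
    Module.Finite.equiv (sectionsEquivOfIso β ⊤).symm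
  haveI : Module.Finite Γ(W, ⊤) (Γ(W, ⊤) ⊗[Γ(X, U)] Γ(M, U)) :=
    Module.Finite.equiv (pullbackSectionsEquiv (p ≫ f) M hU (isAffineOpen_top W) e)
  exact Module.Finite.of_finite_tensorProduct_of_faithfullyFlat Γ(W, ⊤)

include hU in
/-- **fpqc descent of finite presentation of sections** -/
theorem fp_sections_of_pullback_fpqc [M.IsQuasicoherent]
    (h : SheafOfModules.IsFinitePresentation (R := Y.ringCatSheaf)
      ((Scheme.Modules.pullback f).obj M)) :
    Module.FinitePresentation Γ(X, U) Γ(M, U) := by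
  obtain ⟨W, haff, p, hflat, e, hff⟩ := exists_affine_faithfullyFlat f hU
  letI := ((p ≫ f).appLE U ⊤ e).hom.toAlgebra
  haveI : Module.FaithfullyFlat Γ(X, U) Γ(W, ⊤) := hff
  let β : (Scheme.Modules.pullback (p ≫ f)).obj M ≅
      (Scheme.Modules.pullback p).obj ((Scheme.Modules.pullback f).obj M) :=
    ((Scheme.Modules.pullbackComp p f).app M).symm
  have h1 := isFinitePresentation_pullback p _ h
  have h2 : Module.FinitePresentation Γ(W, ⊤) Γ((Scheme.Modules.pullback p).obj
      ((Scheme.Modules.pullback f).obj M), ⊤) :=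
    fp_sections_of_isFinitePresentation _ h1 (isAffineOpen_top W)
  have h3 : Module.FinitePresentation Γ(W, ⊤) Γ((Scheme.Modules.pullback (p ≫ f)).obj M, ⊤) :=
    Module.FinitePresentation.of_equiv (sectionsEquivOfIso β ⊤).symm
  haveI : Module.FinitePresentation Γ(W, ⊤) (Γ(W, ⊤) ⊗[Γ(X, U)] Γ(M, U)) :=
    Module.FinitePresentation.of_equiv
      (pullbackSectionsEquiv (p ≫ f) M hU (isAffineOpen_top W) e)
  exact fp_of_fp_tensorProduct_of_faithfullyFlat Γ(X, U) Γ(W, ⊤) Γ(M, U)

/-- **fpqc descent of finite type** for quasi-coherent modules -/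
theorem isFiniteType_of_pullback_fpqc [M.IsQuasicoherent]
    (h : SheafOfModules.IsFiniteType (R := Y.ringCatSheaf) ((Scheme.Modules.pullback f).obj M)) :
    SheafOfModules.IsFiniteType (R := X.ringCatSheaf) M :=
  (isFiniteType_iff_finite_sections M).mpr
    (fun U => finite_sections_of_pullback_fpqc f M U.2 h)

/-- **fpqc descent of finite presentation** for quasi-coherent modules -/
theorem isFinitePresentation_of_pullback_fpqc [M.IsQuasicoherent]
    (h : SheafOfModules.IsFinitePresentation (R := Y.ringCatSheaf)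
      ((Scheme.Modules.pullback f).obj M)) :
    SheafOfModules.IsFinitePresentation (R := X.ringCatSheaf) M :=
  (isFinitePresentation_iff_fp_sections M).mpr
    (fun U => fp_sections_of_pullback_fpqc f M U.2 h)

end Descent

end Groth.Agent.Lib.helper16.QCohPullback2
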