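import Groth.Prelude.Def_Coh
import Mathlib
import Groth.Agent.Lib.Helper7.QCohAffine

/-!
# Finite type quasi-coherent modules and finitely generated sections on affine opens (helper16)

Bridge between Mathlib's `SheafOfModules.IsFiniteType` / `IsQuasicoherent` (hence the prelude's
`Coh.IsCoh`) and commutative algebra.

* `isLocalizedModule_of_eq_basicOpen`: for quasi-coherent `F`, affine `U`, `f ∈ Γ(X,U)`:
  `Γ(F,U) → Γ(F,D(f))` is a localization at `f` (`IsLocalizedModule`), with the `Γ(X,U)`-module
  structure `modOfLE` on the target.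
* `finite_of_eq_basicOpen`, `finite_of_basicOpen_cover`: finite generation passes to basic opens and
  glues along a cover by basic opens.
* `finite_of_generatingSections` (on `Spec R`), `finite_sections_of_generatingSections`.
* `finite_sections_of_isFiniteType`: **`F` quasi-coherent of finite type, `V` affine open ⇒
  `Γ(F,V)` is a finite `Γ(X,V)`-module.**
* `exists_generatingSections_tilde`, `isFiniteType_of_generatingSections`.
-/

set_option autoImplicit false
universe u
open CategoryTheory CategoryTheory.Limits AlgebraicGeometry TopologicalSpace Opposite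

namespace Groth.Agent.Lib.helper16.CohFinite

open Scheme.Modules Groth.Agent.Lib.helper7

section Spec

variable {R : CommRingCat.{u}}

/-- On `Spec R`: a quasi-coherent module with a finite family of global generating sections has
finitely generated global sections. -/
theorem finite_of_generatingSections (N : (Spec R).Modules) [N.IsQuasicoherent]
    (G : SheafOfModules.GeneratingSections N) [Finite G.I] :
    Module.Finite R ((modulesSpecToSheaf.obj N).presheaf.obj (.op ⊤)) := by
  have h1 : IsIso N.fromTildeΓ := Scheme.Modules.isIso_fromTildeΓ_of_isQuasicoherent N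
  let e := asIso N.fromTildeΓ
  let π'' : tilde (ModuleCat.of R (G.I →₀ R)) ⟶
      tilde ((modulesSpecToSheaf.obj N).presheaf.obj (.op ⊤)) :=
    (tildeFinsupp G.I).hom ≫ G.π ≫ e.inv
  have h2 : Epi π'' := by
    have i1 : Epi G.π := G.epi
    have i2 : Epi e.inv := inferInstance
    exact epi_comp' inferInstance (epi_comp' i1 i2)
  obtain ⟨g, hg⟩ := (tilde.functor R).map_surjective
    (show (tilde.functor R).obj _ ⟶ (tilde.functor R).obj _ from π'')
  have h3 : Epi ((tilde.functor R).map g) := by rw [hg]; exact h2
  have h4 : Epi g := (tilde.functor R).epi_of_epi_map h3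
  have h5 : Function.Surjective g.hom := (ModuleCat.epi_iff_surjective g).mp h4
  exact Module.Finite.of_surjective g.hom h5

/-- generating sections of a sheaf of modules from an epimorphism from a free module -/
noncomputable def genOfEpi {C : Type*} [Category C] {J : GrothendieckTopology C}
    {S : Sheaf J RingCat.{u}} [HasWeakSheafify J AddCommGrpCat.{u}]
    [J.WEqualsLocallyBijective AddCommGrpCat.{u}] {N : SheafOfModules.{u} S} {I : Type u}
    (p : SheafOfModules.free I ⟶ N) [Epi p] : N.GeneratingSections where
  I := I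
  s := N.freeHomEquiv p
  epi := by simpa using ‹Epi p›

/-- On `Spec R`: tilde of a finitely generated module has a finite family of global generating
sections. -/
theorem exists_generatingSections_tilde (M : ModuleCat.{u} R) [Module.Finite R M] :
    ∃ G : SheafOfModules.GeneratingSections (tilde M), Finite G.I := by
  obtain ⟨n, f, hf⟩ := Module.Finite.exists_fin' R M
  let e : (ULift.{u} (Fin n) →₀ R) ≃ₗ[R] (Fin n → R) :=
    (Finsupp.mapDomain.linearEquiv R R Equiv.ulift).trans
      (Finsupp.linearEquivFunOnFinite R R (Fin n))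
  let g : (ULift.{u} (Fin n) →₀ R) →ₗ[R] M := f.comp e.toLinearMap
  have hg : Function.Surjective g := by
    dsimp only [g]
    exact hf.comp e.surjective
  have h1 : Epi (ModuleCat.ofHom g) := (ModuleCat.epi_iff_surjective _).mpr hg
  have h2 : Epi ((tilde.functor R).map (ModuleCat.ofHom g)) := inferInstance
  let p : SheafOfModules.free (ULift.{u} (Fin n)) ⟶ tilde M :=
    (tildeFinsupp (ULift.{u} (Fin n))).inv ≫ (tilde.functor R).map (ModuleCat.ofHom g)
  have h3 : Epi p := epi_comp' inferInstance h2
  exact ⟨genOfEpi p, inferInstanceAs (Finite (ULift.{u} (Fin n)))⟩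

end Spec

/-- A module with a finite family of global generating sections is of finite type. -/
theorem isFiniteType_of_generatingSections {X : Scheme.{u}} (N : X.Modules)
    (G : SheafOfModules.GeneratingSections N) [Finite G.I] :
    SheafOfModules.IsFiniteType (R := X.ringCatSheaf) N := by
  have h : G.localGeneratorsData.IsFiniteType :=
    @SheafOfModules.LocalGeneratorsData.IsFiniteType.mk _ _ _ _ _ _ _ G.localGeneratorsData
      (fun x => @SheafOfModules.GeneratingSections.IsFiniteType.mk _ _ _ _ _ _ _
        (G.localGeneratorsData.generators x) (inferInstanceAs (Finite G.I)))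
  exact @SheafOfModules.IsFiniteType.mk _ _ _ _ _ _ N ⟨G.localGeneratorsData, h⟩

set_option backward.isDefEq.respectTransparency false in
/-- a finite type module has, on an affine open cover, finite families of generating sections of
its restrictions -/
lemma exists_isOpenCover_generators {X : Scheme.{u}} (M : X.Modules)
    (hM : SheafOfModules.IsFiniteType (R := X.ringCatSheaf) M) :
    ∃ (ι : Type u) (U : ι → X.Opens) (G : ∀ i, (M.restrict (U i).ι).GeneratingSections),
      (∀ i, Finite (G i).I) ∧ IsOpenCover U ∧ (∀ i, IsAffineOpen (U i)) := by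
  obtain ⟨σ, hσ⟩ := SheafOfModules.IsFiniteType.exists_localGeneratorsData M
  choose κ hsub heq using fun i ↦ Opens.isBasis_iff_cover.mp X.isBasis_affineOpens (σ.X i)
  have hcov := σ.coversTop
  refine ⟨Σ (i : σ.I), κ i, fun j ↦ j.2, fun i ↦ ?_, ?_, ?_, ?_⟩
  · let u := X.homOfLE (U := i.2) (V := σ.X i.1) (by simp [heq, le_sSup])
    have : PreservesColimitsOfSize.{u, u} (restrictFunctor u) := inferInstance
    let F := (overEquiv (σ.X i.1)).functor ⋙ restrictFunctor u
    let iso : SheafOfModules.overFunctor X.ringCatSheaf _ ⋙ F ≅ restrictFunctor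
      (Scheme.Opens.ι i.2.1) := (Functor.associator _ _ _).symm ≪≫
        Functor.isoWhiskerRight (Scheme.Modules.overFunctorEquiv _) _ ≪≫
        (restrictFunctorComp _ _).symm ≪≫ (restrictFunctorCongr (by simp [u]))
    exact SheafOfModules.GeneratingSections.equivOfIso (iso.app M)
      ((σ.generators i.1).map F (Scheme.Modules.restrictUnitIso _).symm)
  · intro i
    exact (hσ.isFiniteType i.1).finite
  · rw [Opens.coversTop_iff, IsOpenCover] at hcov
    rw [IsOpenCover, iSup_sigma, ← hcov]
    refine iSup_congr fun i ↦ ?_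
    rw [heq i, sSup_eq_iSup']
  · intro j
    exact hsub _ j.2.2

set_option backward.isDefEq.respectTransparency false in
/-- generating sections restrict along open immersions -/
noncomputable def genRestrict {X Y : Scheme.{u}} (f : Y ⟶ X) [IsOpenImmersion f] {M : X.Modules}
    (G : SheafOfModules.GeneratingSections M) :
    SheafOfModules.GeneratingSections (M.restrict f) :=
  have : PreservesColimitsOfSize.{u, u} (Scheme.Modules.restrictFunctor f) := inferInstance
  G.map (Scheme.Modules.restrictFunctor.{u} f) (Scheme.Modules.restrictUnitIso _).symm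

variable {X : Scheme.{u}} (F : X.Modules) {U V : X.Opens}

/-- If `F` is quasi-coherent and `F|_U` (`U` affine) is generated by finitely many sections, then
`Γ(F,U)` is a finite `Γ(X,U)`-module. -/
theorem finite_sections_of_generatingSections (hU : IsAffineOpen U)
    [F.IsQuasicoherent] (G : SheafOfModules.GeneratingSections (F.restrict U.ι)) [Finite G.I] :
    Module.Finite Γ(X, U) Γ(F, U) := by
  let G1 := genRestrict hU.isoSpec.inv G
  let iso : (F.restrict U.ι).restrict hU.isoSpec.inv ≅ F.restrict hU.fromSpec :=
    ((restrictFunctorComp hU.isoSpec.inv U.ι).app F).symm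
  let G2 := SheafOfModules.GeneratingSections.equivOfIso iso G1
  haveI : Finite G2.I := inferInstanceAs (Finite G.I)
  have h := finite_of_generatingSections (F.restrict hU.fromSpec) G2
  have e1 : hU.fromSpec ''ᵁ ⊤ = U := image_top_eq hU
  let l : ((modulesSpecToSheaf.obj (F.restrict hU.fromSpec)).presheaf.obj (.op ⊤)) →ₗ[Γ(X, U)]
      Γ(F, U) :=
    { toFun := fun x => F.presheaf.map (homOfLE e1.ge).op
        (show Γ(F, hU.fromSpec ''ᵁ ⊤) from x)
      map_add' := fun x y => map_add _ _ _
      map_smul' := fun r x => by
        have h1 := smul_eq hU F ⊤ r x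
        have h2 := Scheme.Modules.map_smul F (homOfLE e1.ge)
          (X.presheaf.map (homOfLE (image_le hU ⊤)).op r) (show Γ(F, hU.fromSpec ''ᵁ ⊤) from x)
        have h3 : X.presheaf.map (homOfLE e1.ge).op
            (X.presheaf.map (homOfLE (image_le hU ⊤)).op r) = r := by
          rw [← ConcreteCategory.comp_apply, ← Functor.map_comp]
          have : (homOfLE (image_le hU ⊤)).op ≫ (homOfLE e1.ge).op = 𝟙 (op U) := rfl
          rw [this, X.presheaf.map_id]
          rfl
        rw [h3] at h2
        simp only [RingHom.id_apply]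
        exact (congrArg (F.presheaf.map (homOfLE e1.ge).op) h1).trans h2 }
  refine Module.Finite.of_surjective l ?_
  intro y
  refine ⟨F.presheaf.map (homOfLE e1.le).op y, ?_⟩
  change F.presheaf.map (homOfLE e1.ge).op (F.presheaf.map (homOfLE e1.le).op y) = y
  rw [map_map, map_self]

/-! ### Sections over basic opens as localizations -/

/-- the restriction ring map `Γ(X,U) → Γ(X,V)` -/
noncomputable abbrev resRing (h : V ≤ U) : Γ(X, U) →+* Γ(X, V) :=
  (X.presheaf.map (homOfLE h).op).hom

/-- `Γ(X,U)`-algebra structure on `Γ(X,V)` for `V ≤ U` -/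
@[reducible] noncomputable def algOfLE (h : V ≤ U) : Algebra Γ(X, U) Γ(X, V) :=
  (resRing h).toAlgebra

/-- `Γ(X,U)`-module structure on `Γ(F,V)` for `V ≤ U` -/
@[reducible] noncomputable def modOfLE (h : V ≤ U) : Module Γ(X, U) Γ(F, V) :=
  Module.compHom Γ(F, V) (resRing h)

theorem isScalarTower_ofLE (h : V ≤ U) :
    @IsScalarTower Γ(X, U) Γ(X, V) Γ(F, V) (algOfLE h).toSMul _ (modOfLE F h).toSMul := by
  letI := algOfLE (X := X) h
  letI := modOfLE F h
  exact ⟨fun a b m => by
    change (resRing h a * b) • m = resRing h a • (b • m)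
    rw [mul_smul]⟩

/-- restriction of sections as a `Γ(X,U)`-linear map -/
noncomputable def resLin (h : V ≤ U) :
    @LinearMap Γ(X, U) Γ(X, U) _ _ (RingHom.id _) Γ(F, U) Γ(F, V) _ _ _ (modOfLE F h) :=
  letI := modOfLE F h
  { toFun := fun m => F.presheaf.map (homOfLE h).op m
    map_add' := fun _ _ => map_add _ _ _
    map_smul' := fun r m => Scheme.Modules.map_smul F (homOfLE h) r m }

theorem resLin_apply (h : V ≤ U) (m : Γ(F, U)) :
    letI := modOfLE F h
    resLin F h m = F.presheaf.map (homOfLE h).op m := rfl

/-- **Sections of a quasi-coherent module over a basic open are the localization.** -/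
theorem isLocalizedModule_of_eq_basicOpen [F.IsQuasicoherent] (hU : IsAffineOpen U) (f : Γ(X, U))
    (h : V ≤ U) (e : V = X.basicOpen f) :
    @IsLocalizedModule Γ(X, U) _ Γ(F, U) Γ(F, V) _ _ _ (modOfLE F h) (Submonoid.powers f)
      (resLin F h) := by
  subst e
  letI := modOfLE F h
  have hunit : IsUnit (resRing h f) := by
    have := RingedSpace.isUnit_res_basicOpen X.toRingedSpace f
    exact this
  refine ⟨?_, ?_, ?_⟩
  · rintro ⟨_, n, rfl⟩
    rw [Module.End.isUnit_iff]
    obtain ⟨v, hv⟩ := hunit.pow n
    refine ⟨fun a b hab => ?_, fun b => ⟨(↑v⁻¹ : Γ(X, X.basicOpen f)) • b, ?_⟩⟩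
    · have h1 : (resRing h (f ^ n)) • a = (resRing h (f ^ n)) • b := hab
      rw [map_pow, ← hv] at h1
      have := congrArg (fun z => (↑v⁻¹ : Γ(X, X.basicOpen f)) • z) h1
      simpa [smul_smul] using this
    · change (resRing h (f ^ n)) • ((↑v⁻¹ : Γ(X, X.basicOpen f)) • b) = b
      rw [map_pow, ← hv, smul_smul]
      simp
  · intro y
    obtain ⟨n, s, hs⟩ := exists_pow_smul_eq_map_of_isAffineOpen hU F f y
    refine ⟨(s, ⟨f ^ n, n, rfl⟩), ?_⟩
    change (resRing h (f ^ n)) • y = F.presheaf.map (homOfLE h).op s
    rw [map_pow]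
    exact hs.symm
  · intro x₁ x₂ hx
    have h0 : F.presheaf.map (homOfLE (X.basicOpen_le f)).op (x₁ - x₂) = 0 := by
      rw [map_sub]
      exact sub_eq_zero.mpr hx
    obtain ⟨n, hn⟩ := exists_pow_smul_eq_zero_of_isAffineOpen hU F f (x₁ - x₂) h0
    refine ⟨⟨f ^ n, n, rfl⟩, ?_⟩
    change f ^ n • x₁ = f ^ n • x₂
    rw [smul_sub] at hn
    exact sub_eq_zero.mp hn

theorem finite_of_eq_basicOpen [F.IsQuasicoherent] (hU : IsAffineOpen U) (f : Γ(X, U))
    (h : V ≤ U) (e : V = X.basicOpen f) [Module.Finite Γ(X, U) Γ(F, U)] :
    Module.Finite Γ(X, V) Γ(F, V) := by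
  letI := algOfLE (X := X) h
  letI := modOfLE F h
  haveI := isScalarTower_ofLE F h
  haveI : IsLocalization.Away f Γ(X, V) := hU.isLocalization_of_eq_basicOpen f (homOfLE h) e
  haveI := isLocalizedModule_of_eq_basicOpen F hU f h e
  exact Module.Finite.of_isLocalizedModule (Submonoid.powers f) (resLin F h)

theorem finite_of_basicOpen_cover [F.IsQuasicoherent] (hU : IsAffineOpen U) (t : Set Γ(X, U))
    (ht : Ideal.span t = ⊤)
    (H : ∀ g : t, Module.Finite Γ(X, X.basicOpen g.1) Γ(F, X.basicOpen g.1)) :
    Module.Finite Γ(X, U) Γ(F, U) := by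
  letI i1 (g : t) : Algebra Γ(X, U) Γ(X, X.basicOpen g.1) := algOfLE (X := X) (X.basicOpen_le g.1)
  letI i2 (g : t) : Module Γ(X, U) Γ(F, X.basicOpen g.1) := modOfLE F (X.basicOpen_le g.1)
  haveI i3 (g : t) : IsScalarTower Γ(X, U) Γ(X, X.basicOpen g.1) Γ(F, X.basicOpen g.1) :=
    isScalarTower_ofLE F (X.basicOpen_le g.1)
  haveI i4 (g : t) : IsLocalization.Away g.1 Γ(X, X.basicOpen g.1) :=
    hU.isLocalization_basicOpen g.1
  haveI i5 (g : t) : IsLocalizedModule (Submonoid.powers g.1) (resLin F (X.basicOpen_le g.1)) :=
    isLocalizedModule_of_eq_basicOpen F hU g.1 (X.basicOpen_le g.1) rfl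
  exact Module.Finite.of_localizationSpan' t ht (fun g => resLin F (X.basicOpen_le g.1)) H

/-- If `Γ(F, U i)` is finite over `Γ(X, U i)` for an affine open cover, then `Γ(F,V)` is finite over
`Γ(X,V)` for every affine open `V`. -/
theorem finite_sections_of_cover [F.IsQuasicoherent] {ι : Type*} (W : ι → X.Opens)
    (hW : ∀ i, IsAffineOpen (W i)) (hcov : ∀ x : X, ∃ i, x ∈ W i)
    (H : ∀ i, Module.Finite Γ(X, W i) Γ(F, W i)) (hV : IsAffineOpen V) :
    Module.Finite Γ(X, V) Γ(F, V) := by
  let t : Set Γ(X, V) := {f | Module.Finite Γ(X, X.basicOpen f) Γ(F, X.basicOpen f)}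
  refine finite_of_basicOpen_cover F hV t ?_ (fun g => g.2)
  rw [← hV.self_le_iSup_basicOpen_iff]
  intro x hxV
  obtain ⟨i, hxi⟩ := hcov x
  obtain ⟨f, g, hfg, hxf⟩ := exists_basicOpen_le_affine_inter hV (hW i) x ⟨hxV, hxi⟩
  have hle : X.basicOpen f ≤ W i := hfg ▸ X.basicOpen_le g
  haveI := H i
  have hfin : Module.Finite Γ(X, X.basicOpen f) Γ(F, X.basicOpen f) :=
    finite_of_eq_basicOpen F (hW i) g hle hfg
  exact Opens.mem_iSup.mpr ⟨⟨f, hfin⟩, hxf⟩

/-- **Quasi-coherent + finite type ⇒ finitely generated sections on every affine open.** -/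
theorem finite_sections_of_isFiniteType [F.IsQuasicoherent]
    (hF : SheafOfModules.IsFiniteType (R := X.ringCatSheaf) F) (hV : IsAffineOpen V) :
    Module.Finite Γ(X, V) Γ(F, V) := by
  obtain ⟨ι, W, G, hfin, hcov, haff⟩ := exists_isOpenCover_generators F hF
  refine finite_sections_of_cover F W haff (fun x => ?_) (fun i => ?_) hV
  · have : x ∈ (⨆ i, W i : X.Opens) := by rw [hcov.iSup_eq_top]; trivial
    exact Opens.mem_iSup.mp this
  · haveI := hfin i
    exact finite_sections_of_generatingSections F (haff i) (G i)

/-! ### Converse: finitely generated sections give finite type -/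

/-- the `Γ(X,U)`-linear identification of `Γ(F,U)` with the global sections of `F|_{Spec Γ(X,U)}` -/
noncomputable def toSpecSections (hU : IsAffineOpen U) :
    Γ(F, U) →ₗ[Γ(X, U)] ((modulesSpecToSheaf.obj (F.restrict hU.fromSpec)).presheaf.obj (.op ⊤)) :=
  { toFun := fun y => F.presheaf.map (homOfLE (image_top_eq hU).le).op y
    map_add' := fun _ _ => map_add _ _ _
    map_smul' := fun r y => by
      have e1 : hU.fromSpec ''ᵁ ⊤ = U := image_top_eq hU
      have h2 := Scheme.Modules.map_smul F (homOfLE e1.le) r y
      have h1 := smul_eq hU F ⊤ r (F.presheaf.map (homOfLE e1.le).op y)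
      simp only [RingHom.id_apply]
      exact h2.trans h1.symm }

theorem toSpecSections_surjective (hU : IsAffineOpen U) :
    Function.Surjective (toSpecSections F hU) := by
  intro x
  have e1 : hU.fromSpec ''ᵁ ⊤ = U := image_top_eq hU
  refine ⟨F.presheaf.map (homOfLE e1.ge).op (show Γ(F, hU.fromSpec ''ᵁ ⊤) from x), ?_⟩
  change F.presheaf.map (homOfLE e1.le).op (F.presheaf.map (homOfLE e1.ge).op _) = _
  rw [map_map, map_self]

theorem toSpecSections_injective (hU : IsAffineOpen U) :
    Function.Injective (toSpecSections F hU) := by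
  have e1 : hU.fromSpec ''ᵁ ⊤ = U := image_top_eq hU
  intro a b hab
  have hab' : F.presheaf.map (homOfLE e1.symm.ge).op a = F.presheaf.map (homOfLE e1.symm.ge).op b :=
    hab
  exact map_injective_of_eq F e1.symm hab'

set_option backward.isDefEq.respectTransparency false in
/-- If `F` is quasi-coherent, `U` is affine and `Γ(F,U)` is a finite `Γ(X,U)`-module, then `F|_U` is
generated by finitely many sections. -/
theorem exists_generatingSections_restrict_of_finite [F.IsQuasicoherent] (hU : IsAffineOpen U)
    [Module.Finite Γ(X, U) Γ(F, U)] :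
    ∃ G : SheafOfModules.GeneratingSections (F.restrict U.ι), Finite G.I := by
  let N := F.restrict hU.fromSpec
  haveI : Module.Finite Γ(X, U) ((modulesSpecToSheaf.obj N).presheaf.obj (.op ⊤)) :=
    Module.Finite.of_surjective (toSpecSections F hU) (toSpecSections_surjective F hU)
  obtain ⟨G0, hG0⟩ := exists_generatingSections_tilde
    ((modulesSpecToSheaf.obj N).presheaf.obj (.op ⊤))
  have h1 : IsIso N.fromTildeΓ := Scheme.Modules.isIso_fromTildeΓ_of_isQuasicoherent N
  let G1 : SheafOfModules.GeneratingSections N :=
    SheafOfModules.GeneratingSections.equivOfIso (asIso N.fromTildeΓ) G0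
  let G2 := genRestrict hU.isoSpec.hom G1
  let iso : (F.restrict hU.fromSpec).restrict hU.isoSpec.hom ≅ F.restrict U.ι :=
    ((restrictFunctorComp hU.isoSpec.hom hU.fromSpec).app F).symm ≪≫
      (restrictFunctorCongr (by simp)).app F
  exact ⟨SheafOfModules.GeneratingSections.equivOfIso iso G2, hG0⟩

set_option backward.isDefEq.respectTransparency false in
/-- generating sections of `F|_W` (as a module on the scheme `W`) give generating sections of
`F.over W` -/
noncomputable def genOver (W : X.Opens)
    (G : SheafOfModules.GeneratingSections (F.restrict W.ι)) :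
    SheafOfModules.GeneratingSections (F.over W) :=
  have : PreservesColimitsOfSize.{u, u} (overEquiv W).inverse := inferInstance
  SheafOfModules.GeneratingSections.equivOfIso
    ((overEquiv W).inverse.mapIso ((overFunctorEquiv W).app F).symm ≪≫
      ((overEquiv W).unitIso.app (F.over W)).symm)
    (G.map (overEquiv W).inverse
      ((overEquiv W).unitIso.app (SheafOfModules.unit (X.ringCatSheaf.over W))))

theorem genOver_I (W : X.Opens) (G : SheafOfModules.GeneratingSections (F.restrict W.ι)) :
    (genOver F W G).I = G.I := rfl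

/-- A module which, on an open cover, is generated by finitely many sections is of finite type. -/
theorem isFiniteType_of_cover {ι : Type u} (W : ι → X.Opens) (hcov : ⨆ i, W i = ⊤)
    (G : ∀ i, SheafOfModules.GeneratingSections (F.restrict (W i).ι)) (hG : ∀ i, Finite (G i).I) :
    SheafOfModules.IsFiniteType (R := X.ringCatSheaf) F := by
  let σ : SheafOfModules.LocalGeneratorsData.{u} F :=
    { I := ι
      X := W
      coversTop := (Opens.coversTop_iff _ _).mpr hcov
      generators := fun i => genOver F (W i) (G i) }
  have h : σ.IsFiniteType :=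
    @SheafOfModules.LocalGeneratorsData.IsFiniteType.mk _ _ _ _ _ _ _ σ
      (fun i => @SheafOfModules.GeneratingSections.IsFiniteType.mk _ _ _ _ _ _ _
        (σ.generators i) (hG i))
  exact @SheafOfModules.IsFiniteType.mk _ _ _ _ _ _ F ⟨σ, h⟩

/-- **Quasi-coherent with finitely generated sections on an affine open cover ⇒ finite type.** -/
theorem isFiniteType_of_finite_sections [F.IsQuasicoherent] {ι : Type u} (W : ι → X.Opens)
    (hW : ∀ i, IsAffineOpen (W i)) (hcov : ⨆ i, W i = ⊤)
    (H : ∀ i, Module.Finite Γ(X, W i) Γ(F, W i)) :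
    SheafOfModules.IsFiniteType (R := X.ringCatSheaf) F := by
  have h := fun i => by
    haveI := H i
    exact exists_generatingSections_restrict_of_finite F (hW i)
  choose G hG using h
  exact isFiniteType_of_cover F W hcov G hG

/-- For quasi-coherent `F`: finite type iff `Γ(F,U)` is a finite `Γ(X,U)`-module for all affine
opens `U`. -/
theorem isFiniteType_iff_finite_sections [F.IsQuasicoherent] :
    SheafOfModules.IsFiniteType (R := X.ringCatSheaf) F ↔
      ∀ U : X.affineOpens, Module.Finite Γ(X, U.1) Γ(F, U.1) := by
  refine ⟨fun h U => finite_sections_of_isFiniteType F h U.2, fun H => ?_⟩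
  refine isFiniteType_of_finite_sections F (fun U : X.affineOpens => U.1) (fun U => U.2) ?_ H
  exact iSup_affineOpens_eq_top X

/-- `Coh.IsCoh F` in terms of sections on affine opens. -/
theorem isCoh_iff : Coh.IsCoh F ↔ F.IsQuasicoherent ∧
    ∀ U : X.affineOpens, Module.Finite Γ(X, U.1) Γ(F, U.1) := by
  constructor
  · rintro ⟨h1, h2⟩
    haveI : F.IsQuasicoherent := h1
    exact ⟨h1, (isFiniteType_iff_finite_sections F).mp h2⟩
  · rintro ⟨h1, h2⟩
    haveI : F.IsQuasicoherent := h1
    exact ⟨h1, (isFiniteType_iff_finite_sections F).mpr h2⟩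

/-- sections of a coherent module over an affine open are finitely generated -/
theorem finite_sections_of_isCoh (hF : Coh.IsCoh F) (hV : IsAffineOpen V) :
    Module.Finite Γ(X, V) Γ(F, V) := by
  haveI : F.IsQuasicoherent := hF.1
  exact finite_sections_of_isFiniteType F hF.2 hV

/-- quasi-coherent with finitely generated sections on an affine cover is coherent -/
theorem isCoh_of_finite_sections [F.IsQuasicoherent] {ι : Type u} (W : ι → X.Opens)
    (hW : ∀ i, IsAffineOpen (W i)) (hcov : ⨆ i, W i = ⊤)
    (H : ∀ i, Module.Finite Γ(X, W i) Γ(F, W i)) : Coh.IsCoh F :=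
  ⟨inferInstance, isFiniteType_of_finite_sections F W hW hcov H⟩

/-! ### Finite presentation -/

section SpecFP
variable {R : CommRingCat.{u}}

/-- On `Spec R`: tilde of a finitely presented module has a finite global presentation. -/
theorem exists_presentation_tilde (M : ModuleCat.{u} R) [Module.FinitePresentation R M] :
    ∃ P : SheafOfModules.Presentation (tilde M), P.IsFinite := by
  obtain ⟨s, hs⟩ := (inferInstance : Module.Finite R M).fg_top
  let S : Set M := ↑s
  have hS : Submodule.span R S = ⊤ := hs
  haveI : Finite S := s.finite_toSet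
  let f : (S →₀ R) →ₗ[R] M := Finsupp.linearCombination R (Subtype.val : S → M)
  have hf : Function.Surjective f := by
    rw [← LinearMap.range_eq_top, Finsupp.range_linearCombination]
    simpa using hS
  obtain ⟨t, ht⟩ := Module.FinitePresentation.fg_ker f hf
  let T : Set (S →₀ R) := ↑t
  haveI : Finite T := t.finite_toSet
  let P := presentationTilde M S hS T ht
  refine ⟨P, ⟨⟨?_⟩, ⟨?_⟩⟩⟩
  · change Finite S
    infer_instance
  · change Finite T
    infer_instance


end SpecFP

section
variable {C : Type*} [Category C] {J : GrothendieckTopology C} {S₁ : Sheaf J RingCat.{u}}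
  [HasSheafify J AddCommGrpCat.{u}] [J.WEqualsLocallyBijective AddCommGrpCat.{u}]
  {C' : Type*} [Category C'] {J' : GrothendieckTopology C'} {S₂ : Sheaf J' RingCat.{u}}
  [HasSheafify J' AddCommGrpCat.{u}] [J'.WEqualsLocallyBijective AddCommGrpCat.{u}]

theorem isFinite_map {M : SheafOfModules.{u} S₁} (P : SheafOfModules.Presentation M) [P.IsFinite]
    (F : SheafOfModules.{u} S₁ ⥤ SheafOfModules.{u} S₂) [PreservesColimitsOfSize.{u, u} F]
    (η : SheafOfModules.unit S₂ ≅ F.obj (SheafOfModules.unit S₁)) : (P.map F η).IsFinite :=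
  ⟨⟨inferInstanceAs (Finite P.generators.I)⟩, ⟨inferInstanceAs (Finite P.relations.I)⟩⟩
end


set_option backward.isDefEq.respectTransparency false in
/-- a presentation of `F|_W` (as a module on the scheme `W`) gives a presentation of `F.over W` -/
noncomputable def presOver (W : X.Opens)
    (P : SheafOfModules.Presentation (F.restrict W.ι)) :
    SheafOfModules.Presentation (F.over W) :=
  have : PreservesColimitsOfSize.{u, u} (overEquiv W).inverse := inferInstance
  (P.map (overEquiv W).inverse
      ((overEquiv W).unitIso.app (SheafOfModules.unit (X.ringCatSheaf.over W)))).ofIsIso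
    ((overEquiv W).inverse.mapIso ((overFunctorEquiv W).app F).symm ≪≫
      ((overEquiv W).unitIso.app (F.over W)).symm).hom

set_option backward.isDefEq.respectTransparency false in
theorem presOver_isFinite (W : X.Opens) (P : SheafOfModules.Presentation (F.restrict W.ι))
    [P.IsFinite] : (presOver F W P).IsFinite := by
  have : PreservesColimitsOfSize.{u, u} (overEquiv W).inverse := inferInstance
  haveI := isFinite_map P (overEquiv W).inverse
      ((overEquiv W).unitIso.app (SheafOfModules.unit (X.ringCatSheaf.over W)))
  unfold presOver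
  infer_instance

/-- A module which, on an open cover, has finite presentations is finitely presented. -/
theorem isFinitePresentation_of_cover {ι : Type u} (W : ι → X.Opens) (hcov : ⨆ i, W i = ⊤)
    (P : ∀ i, SheafOfModules.Presentation (F.restrict (W i).ι)) (hP : ∀ i, (P i).IsFinite) :
    SheafOfModules.IsFinitePresentation (R := X.ringCatSheaf) F := by
  let σ : SheafOfModules.QuasicoherentData (R := X.ringCatSheaf) F :=
    { I := ι
      X := W
      coversTop := (Opens.coversTop_iff _ _).mpr hcov
      presentation := fun i => presOver F (W i) (P i) }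
  have h : σ.IsFinitePresentation :=
    @SheafOfModules.QuasicoherentData.IsFinitePresentation.mk _ _ _ _ _ _ _ σ
      (fun i => by haveI := hP i; exact presOver_isFinite F (W i) (P i))
  exact @SheafOfModules.IsFinitePresentation.mk _ _ _ _ _ _ F ⟨σ, h⟩


set_option backward.isDefEq.respectTransparency false in
theorem exists_presentation_restrict_of_fp [F.IsQuasicoherent] (hU : IsAffineOpen U)
    [Module.FinitePresentation Γ(X, U) Γ(F, U)] :
    ∃ P : SheafOfModules.Presentation (F.restrict U.ι), P.IsFinite := by
  let N := F.restrict hU.fromSpec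
  let e := LinearEquiv.ofBijective (toSpecSections F hU)
    ⟨toSpecSections_injective F hU, toSpecSections_surjective F hU⟩
  haveI : Module.FinitePresentation Γ(X, U) ((modulesSpecToSheaf.obj N).presheaf.obj (.op ⊤)) :=
    Module.FinitePresentation.of_equiv e
  obtain ⟨P0, hP0⟩ := exists_presentation_tilde
    ((modulesSpecToSheaf.obj N).presheaf.obj (.op ⊤))
  have h1 : IsIso N.fromTildeΓ := Scheme.Modules.isIso_fromTildeΓ_of_isQuasicoherent N
  let P1 : SheafOfModules.Presentation N := P0.ofIsIso N.fromTildeΓ
  haveI : P1.IsFinite := inferInstance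
  have : PreservesColimitsOfSize.{u, u} (Scheme.Modules.restrictFunctor hU.isoSpec.hom) :=
    inferInstance
  let P2 := P1.map (Scheme.Modules.restrictFunctor hU.isoSpec.hom)
    (Scheme.Modules.restrictUnitIso _).symm
  haveI : P2.IsFinite := isFinite_map P1 _ _
  let iso : (F.restrict hU.fromSpec).restrict hU.isoSpec.hom ≅ F.restrict U.ι :=
    ((restrictFunctorComp hU.isoSpec.hom hU.fromSpec).app F).symm ≪≫
      (restrictFunctorCongr (by simp)).app F
  exact ⟨P2.ofIsIso iso.hom, inferInstance⟩


/-- **Quasi-coherent with finitely presented sections on an affine open cover ⇒ finitely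
presented.** -/
theorem isFinitePresentation_of_fp_sections [F.IsQuasicoherent] {ι : Type u} (W : ι → X.Opens)
    (hW : ∀ i, IsAffineOpen (W i)) (hcov : ⨆ i, W i = ⊤)
    (H : ∀ i, Module.FinitePresentation Γ(X, W i) Γ(F, W i)) :
    SheafOfModules.IsFinitePresentation (R := X.ringCatSheaf) F := by
  have h := fun i => by
    haveI := H i
    exact exists_presentation_restrict_of_fp F (hW i)
  choose P hP using h
  exact isFinitePresentation_of_cover F W hcov P hP

/-- On a locally Noetherian scheme, a coherent module (quasi-coherent of finite type) is finitely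
presented. -/
theorem isFinitePresentation_of_isCoh [IsLocallyNoetherian X] (hF : Coh.IsCoh F) :
    SheafOfModules.IsFinitePresentation (R := X.ringCatSheaf) F := by
  haveI : F.IsQuasicoherent := hF.1
  refine isFinitePresentation_of_fp_sections F (fun U : X.affineOpens => U.1) (fun U => U.2)
    (iSup_affineOpens_eq_top X) (fun U => ?_)
  haveI : IsNoetherianRing Γ(X, U.1) := IsLocallyNoetherian.component_noetherian U
  haveI : Module.Finite Γ(X, U.1) Γ(F, U.1) := finite_sections_of_isCoh F hF U.2
  exact Module.finitePresentation_of_finite Γ(X, U.1) Γ(F, U.1)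

/-- A finitely presented module is coherent (quasi-coherent of finite type). -/
theorem isCoh_of_isFinitePresentation
    (hF : SheafOfModules.IsFinitePresentation (R := X.ringCatSheaf) F) : Coh.IsCoh F :=
  ⟨inferInstance, inferInstance⟩

end Groth.Agent.Lib.helper16.CohFinite
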