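import Groth.Prelude.Def_CurvBase
import Groth.Prelude.Def_CohB1
import Mathlib
import Groth.Agent.Lib.Helper28.QCohSupport

/-!
# Weakly associated points of quasi-coherent modules via sections on affine opens (helper16)

* `LocData`: abstract elementwise description of `Γ(F,U) → F_x` as a localization at `p_x`.
* `locData`: instantiation for quasi-coherent `F` and affine `U`.
* `isWeakAssPoint_iff`: `x` weakly associated to `F` iff `p_x` minimal over `Ann m` for a section `m`.
* `isAssPoint_iff_isWeakAssPoint`: with Mathlib's (radical) definition of associated primes the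
  two notions coincide.
* `exists_weakAssPoint_specializes`: a section with nonzero germ at `x` has nonzero germ at a weakly
  associated generization of `x`.
-/

set_option autoImplicit false
universe u
open CategoryTheory CategoryTheory.Limits AlgebraicGeometry TopologicalSpace Opposite

namespace Groth.Agent.Lib.helper16.QCohAss

open Groth.Agent.Lib.helper7 Groth.Agent.Lib.helper28


/-- elementwise form of minimality of a prime over an ideal -/
theorem exists_mul_pow_mem {A : Type*} [CommRing A] {p I : Ideal A} (hp : p ∈ I.minimalPrimes)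
    {a : A} (ha : a ∈ p) : ∃ c, c ∉ p ∧ ∃ k : ℕ, c * a ^ k ∈ I := by
  haveI : p.IsPrime := hp.1.1
  have h := IsLocalization.AtPrime.radical_map_of_mem_minimalPrimes
    (A := Localization.AtPrime p) p I hp
  have h1 : algebraMap A (Localization.AtPrime p) a ∈
      (I.map (algebraMap A (Localization.AtPrime p))).radical := by
    rw [h]; exact Ideal.mem_map_of_mem _ ha
  obtain ⟨k, hk⟩ := h1
  rw [← map_pow, IsLocalization.algebraMap_mem_map_algebraMap_iff p.primeCompl] at hk
  obtain ⟨c, hc, hck⟩ := hk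
  exact ⟨c, hc, k, hck⟩

/-- Abstract localization data for a module map `g : M → N` over `A → R = A_p`. -/
structure LocData (A : Type*) [CommRing A] (p : Ideal A) [p.IsPrime] (R : Type*) [CommRing R]
    [IsLocalRing R] [Algebra A R] (M : Type*) [AddCommGroup M] [Module A M] (N : Type*)
    [AddCommGroup N] [Module R N] (g : M →+ N) : Prop where
  smul : ∀ (a : A) (m : M), g (a • m) = algebraMap A R a • g m
  ker : ∀ m : M, g m = 0 → ∃ a : A, a ∉ p ∧ a • m = 0
  surj : ∀ n : N, ∃ (a : A) (m : M), a ∉ p ∧ algebraMap A R a • n = g m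

section

variable {A : Type*} [CommRing A] {p : Ideal A} [p.IsPrime] {R : Type*} [CommRing R]
    [IsLocalRing R] [Algebra A R] [IsLocalization.AtPrime R p]
    {M : Type*} [AddCommGroup M] [Module A M] {N : Type*}
    [AddCommGroup N] [Module R N] {g : M →+ N}

/-- the annihilator ideal of an element -/
abbrev ann (A : Type*) [CommRing A] {M : Type*} [AddCommGroup M] [Module A M] (m : M) : Ideal A :=
  LinearMap.ker (LinearMap.toSpanSingleton A M m)

omit [p.IsPrime] [IsLocalRing R] [IsLocalization.AtPrime R p] in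
theorem mem_ann {a : A} {m : M} : a ∈ ann A m ↔ a • m = 0 := by
  simp [ann, LinearMap.mem_ker, LinearMap.toSpanSingleton_apply]

theorem isUnit_of_notMem {a : A} (ha : a ∉ p) : IsUnit (algebraMap A R a) :=
  IsLocalization.map_units R (⟨a, ha⟩ : p.primeCompl)

theorem mem_maximalIdeal_iff {a : A} : algebraMap A R a ∈ IsLocalRing.maximalIdeal R ↔ a ∈ p :=
  IsLocalization.AtPrime.to_map_mem_maximal_iff R p a

theorem LocData.map_eq_zero_iff (h : LocData A p R M N g) (m : M) :
    g m = 0 ↔ ∃ a : A, a ∉ p ∧ a • m = 0 := by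
  refine ⟨h.ker m, ?_⟩
  rintro ⟨a, ha, ham⟩
  have := h.smul a m
  rw [ham, map_zero] at this
  exact ((isUnit_of_notMem (R := R) ha).smul_eq_zero).1 this.symm

/-- if `g m ≠ 0` then the annihilator of `m` is contained in `p` -/
theorem LocData.ann_le (h : LocData A p R M N g) (m : M) (hm : g m ≠ 0) : ann A m ≤ p := by
  intro a ha
  by_contra hap
  exact hm ((h.map_eq_zero_iff m).2 ⟨a, hap, mem_ann.1 ha⟩)

theorem LocData.map_ne_zero_of_ann_le (h : LocData A p R M N g) (m : M) (hm : ann A m ≤ p) :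
    g m ≠ 0 := by
  intro h0
  obtain ⟨a, ha, ham⟩ := h.ker m h0
  exact ha (hm (mem_ann.2 ham))

/-- annihilator in the localization, elementwise -/
theorem LocData.mem_ann_map_iff (h : LocData A p R M N g) (m : M) (a : A) :
    algebraMap A R a ∈ ann R (g m) ↔ ∃ c : A, c ∉ p ∧ (c * a) • m = 0 := by
  rw [mem_ann, ← h.smul, h.map_eq_zero_iff]
  constructor
  · rintro ⟨c, hc, hcm⟩
    exact ⟨c, hc, by rw [mul_smul]; exact hcm⟩
  · rintro ⟨c, hc, hcm⟩
    exact ⟨c, hc, by rw [← mul_smul]; exact hcm⟩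

/-- `p` minimal over `Ann m` implies `rad (Ann (g m))` is the maximal ideal -/
theorem LocData.radical_ann_of_minimal (h : LocData A p R M N g) (m : M)
    (hp : p ∈ (ann A m).minimalPrimes) :
    (ann R (g m)).radical = IsLocalRing.maximalIdeal R := by
  have hne : g m ≠ 0 := h.map_ne_zero_of_ann_le m hp.1.2
  apply le_antisymm
  · have h2 : ann R (g m) ≤ IsLocalRing.maximalIdeal R := by
      apply IsLocalRing.le_maximalIdeal
      intro htop
      have : (1 : R) ∈ ann R (g m) := htop ▸ Submodule.mem_top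
      rw [mem_ann, one_smul] at this
      exact hne this
    have := Ideal.radical_mono h2
    rwa [(IsLocalRing.maximalIdeal.isMaximal R).isPrime.radical] at this
  · intro r hr
    obtain ⟨⟨a, b⟩, hab⟩ := IsLocalization.surj p.primeCompl r
    simp only at hab
    have hbu : IsUnit (algebraMap A R b) := isUnit_of_notMem b.2
    have hap : a ∈ p := by
      rw [← mem_maximalIdeal_iff (R := R), ← hab]
      exact Ideal.mul_mem_right _ _ hr
    obtain ⟨c, hc, k, hck⟩ := exists_mul_pow_mem hp hap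
    refine ⟨k, ?_⟩
    rw [mem_ann] at hck ⊢
    have h1 : algebraMap A R c • (algebraMap A R a) ^ k • g m = 0 := by
      rw [← map_pow, ← h.smul, ← h.smul, ← mul_smul, hck, map_zero]
    have h2 : (algebraMap A R a) ^ k • g m = 0 :=
      ((isUnit_of_notMem (R := R) hc).smul_eq_zero).1 h1
    rw [← hab, mul_pow, mul_smul] at h2
    have h3 : (algebraMap A R b) ^ k • (r ^ k • g m) = 0 := by
      rw [smul_comm]; exact h2
    exact ((hbu.pow k).smul_eq_zero).1 h3

/-- if `rad (Ann (g m))` is the maximal ideal then `p` is minimal over `Ann m` -/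
theorem LocData.minimal_of_radical_ann (h : LocData A p R M N g) (m : M)
    (hr : (ann R (g m)).radical = IsLocalRing.maximalIdeal R) :
    p ∈ (ann A m).minimalPrimes := by
  have hne : g m ≠ 0 := by
    intro h0
    have : (1 : R) ∈ (ann R (g m)).radical := Ideal.le_radical (by rw [mem_ann, h0, smul_zero])
    rw [hr] at this
    exact (IsLocalRing.maximalIdeal.isMaximal R).ne_top ((Ideal.eq_top_iff_one _).2 this)
  refine ⟨⟨inferInstance, h.ann_le m hne⟩, ?_⟩
  rintro q ⟨hq, hmq⟩ hqp b hb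
  have hb' : algebraMap A R b ∈ (ann R (g m)).radical := by
    rw [hr, mem_maximalIdeal_iff (p := p)]; exact hb
  obtain ⟨k, hk⟩ := hb'
  rw [← map_pow, h.mem_ann_map_iff] at hk
  obtain ⟨c, hc, hcm⟩ := hk
  have : c * b ^ k ∈ q := hmq (mem_ann.2 hcm)
  rcases hq.mem_or_mem this with h1 | h1
  · exact absurd (hqp h1) hc
  · exact hq.mem_of_pow_mem k h1

/-- weakly associated: transfer between the module of sections and the stalk -/
theorem LocData.weakAss_iff (h : LocData A p R M N g) :
    (∃ n : N, (ann R n).radical = IsLocalRing.maximalIdeal R) ↔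
      ∃ m : M, p ∈ (ann A m).minimalPrimes := by
  constructor
  · rintro ⟨n, hn⟩
    obtain ⟨a, m, ha, ham⟩ := h.surj n
    refine ⟨m, h.minimal_of_radical_ann m ?_⟩
    rw [← hn, ← ham]
    congr 1
    ext r
    rw [mem_ann, mem_ann, smul_comm]
    exact (isUnit_of_notMem (R := R) ha).smul_eq_zero
  · rintro ⟨m, hm⟩
    exact ⟨g m, h.radical_ann_of_minimal m hm⟩

end


section geo

variable {X : Scheme.{u}} (F : X.Modules)

theorem germ_smul' (U : X.Opens) (x : X) (hx : x ∈ U) (r : Γ(X, U)) (m : Γ(F, U)) :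
    (F.presheaf.germ U x hx).hom (r • m) =
      (X.presheaf.germ U x hx).hom r • (F.presheaf.germ U x hx).hom m :=
  PresheafOfModules.germ_smul (R := X.presheaf)
    (show PresheafOfModules (X.presheaf ⋙ forget₂ CommRingCat RingCat) from F.val) x U hx r m

theorem isUnit_germ_of_mem_basicOpen {U : X.Opens} (x : X) (hx : x ∈ U) (f : Γ(X, U))
    (hxf : x ∈ X.basicOpen f) : IsUnit ((X.presheaf.germ U x hx).hom f) := by
  have hu : IsUnit (X.presheaf.map (homOfLE (X.basicOpen_le f)).op f) :=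
    RingedSpace.isUnit_res_basicOpen _ f
  have := hu.map (X.presheaf.germ (X.basicOpen f) x hxf).hom
  rwa [TopCat.Presheaf.germ_res_apply] at this

theorem ker_germ [F.IsQuasicoherent] {U : X.Opens} (hU : IsAffineOpen U) (x : X) (hx : x ∈ U)
    (m : Γ(F, U)) (h : (F.presheaf.germ U x hx).hom m = 0) :
    ∃ a : Γ(X, U), a ∉ (hU.primeIdealOf ⟨x, hx⟩).asIdeal ∧ a • m = 0 := by
  obtain ⟨f, hxf, hfm⟩ := exists_smul_eq_zero_of_germ_eq_zero F hU m x hx h
  exact ⟨f, (mem_basicOpen_iff hU x hx f).1 hxf, hfm⟩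

theorem surj_germ [F.IsQuasicoherent] {U : X.Opens} (hU : IsAffineOpen U) (x : X) (hx : x ∈ U)
    (n : ToType (F.presheaf.stalk x)) :
    ∃ (a : Γ(X, U)) (m : Γ(F, U)), a ∉ (hU.primeIdealOf ⟨x, hx⟩).asIdeal ∧
      (X.presheaf.germ U x hx).hom a • n = (F.presheaf.germ U x hx).hom m := by
  obtain ⟨f, hxf, t₁, k, s, ht₁, hs⟩ := exists_section_of_stalk F hU x hx n
  refine ⟨f ^ k, s, ?_, ?_⟩
  · intro hmem
    have hp : (hU.primeIdealOf ⟨x, hx⟩).asIdeal.IsPrime := inferInstance
    exact (mem_basicOpen_iff hU x hx f).1 hxf (hp.mem_of_pow_mem k hmem)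
  · have e1 := congrArg (F.presheaf.germ (X.basicOpen f) x hxf).hom hs
    rw [TopCat.Presheaf.germ_res_apply] at e1
    rw [e1, germ_smul', ht₁, map_pow, map_pow, TopCat.Presheaf.germ_res_apply]


/-- the localization data of a quasi-coherent module at a point of an affine open -/
theorem locData [F.IsQuasicoherent] {U : X.Opens} (hU : IsAffineOpen U) (x : X) (hx : x ∈ U) :
    letI := TopCat.Presheaf.algebra_section_stalk X.presheaf (⟨x, hx⟩ : U)
    LocData Γ(X, U) (hU.primeIdealOf ⟨x, hx⟩).asIdeal (X.presheaf.stalk x) Γ(F, U)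
      (F.presheaf.stalk x) (F.presheaf.germ U x hx).hom := by
  letI := TopCat.Presheaf.algebra_section_stalk X.presheaf (⟨x, hx⟩ : U)
  exact ⟨fun a m => germ_smul' F U x hx a m, fun m h => ker_germ F hU x hx m h,
    fun n => surj_germ F hU x hx n⟩

theorem isWeakAssPoint_iff [F.IsQuasicoherent] {U : X.Opens} (hU : IsAffineOpen U) (x : X)
    (hx : x ∈ U) :
    Curv2.IsWeakAssPoint F x ↔
      ∃ m : Γ(F, U), (hU.primeIdealOf ⟨x, hx⟩).asIdeal ∈ (ann Γ(X, U) m).minimalPrimes := by
  letI := TopCat.Presheaf.algebra_section_stalk X.presheaf (⟨x, hx⟩ : U)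
  haveI : IsLocalization.AtPrime (X.presheaf.stalk x) (hU.primeIdealOf ⟨x, hx⟩).asIdeal :=
    hU.isLocalization_stalk ⟨x, hx⟩
  exact (locData F hU x hx).weakAss_iff

theorem isAssPoint_iff_isWeakAssPoint (x : X) :
    Curv2.IsAssPoint F x ↔ Curv2.IsWeakAssPoint F x := by
  unfold Curv2.IsAssPoint Curv2.IsWeakAssPoint IsAssociatedPrime
  rw [Submodule.isAssociatedPrime_def]
  constructor
  · rintro ⟨-, m, hm⟩
    refine ⟨m, ?_⟩
    rw [hm]
    congr 1
    ext r
    rw [Submodule.mem_colon_singleton, LinearMap.mem_ker, LinearMap.toSpanSingleton_apply,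
      Submodule.mem_bot]
  · rintro ⟨m, hm⟩
    refine ⟨(IsLocalRing.maximalIdeal.isMaximal _).isPrime, m, ?_⟩
    rw [← hm]
    congr 1
    ext r
    rw [Submodule.mem_colon_singleton, LinearMap.mem_ker, LinearMap.toSpanSingleton_apply,
      Submodule.mem_bot]

/-! ### points and primes of an affine open -/

theorem fromSpec_mem {U : X.Opens} (hU : IsAffineOpen U) (Q : PrimeSpectrum Γ(X, U)) :
    hU.fromSpec Q ∈ U := by
  have : hU.fromSpec Q ∈ Set.range hU.fromSpec := ⟨Q, rfl⟩
  rw [hU.range_fromSpec] at this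
  exact this

theorem primeIdealOf_fromSpec {U : X.Opens} (hU : IsAffineOpen U) (Q : PrimeSpectrum Γ(X, U)) :
    hU.primeIdealOf ⟨hU.fromSpec Q, fromSpec_mem hU Q⟩ = Q := by
  apply hU.fromSpec.isOpenEmbedding.injective
  rw [hU.fromSpec_primeIdealOf ⟨hU.fromSpec Q, fromSpec_mem hU Q⟩]

theorem specializes_of_le {U : X.Opens} (hU : IsAffineOpen U) (x y : X) (hx : x ∈ U) (hy : y ∈ U)
    (h : (hU.primeIdealOf ⟨y, hy⟩).asIdeal ≤ (hU.primeIdealOf ⟨x, hx⟩).asIdeal) : y ⤳ x := by
  have h1 : hU.primeIdealOf ⟨y, hy⟩ ⤳ hU.primeIdealOf ⟨x, hx⟩ :=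
    (PrimeSpectrum.le_iff_specializes _ _).1 h
  have h2 := h1.map hU.fromSpec.continuous
  rwa [hU.fromSpec_primeIdealOf ⟨y, hy⟩, hU.fromSpec_primeIdealOf ⟨x, hx⟩] at h2

/-- a section with nonzero germ at `x` has nonzero germ at a weakly associated generization -/
theorem exists_weakAssPoint_specializes [F.IsQuasicoherent] {U : X.Opens} (hU : IsAffineOpen U)
    (x : X) (hx : x ∈ U) (m : Γ(F, U)) (hm : (F.presheaf.germ U x hx).hom m ≠ 0) :
    ∃ (y : X) (hy : y ∈ U), y ⤳ x ∧ Curv2.IsWeakAssPoint F y ∧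
      (F.presheaf.germ U y hy).hom m ≠ 0 := by
  letI := TopCat.Presheaf.algebra_section_stalk X.presheaf (⟨x, hx⟩ : U)
  haveI : IsLocalization.AtPrime (X.presheaf.stalk x) (hU.primeIdealOf ⟨x, hx⟩).asIdeal :=
    hU.isLocalization_stalk ⟨x, hx⟩
  have hle := (locData F hU x hx).ann_le m hm
  obtain ⟨q, hq, hqp⟩ := Ideal.exists_minimalPrimes_le hle
  haveI := hq.1.1
  set Q : PrimeSpectrum Γ(X, U) := ⟨q, hq.1.1⟩ with hQ
  set y := hU.fromSpec Q with hy_def
  have hy : y ∈ U := fromSpec_mem hU Q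
  have hQ' : hU.primeIdealOf ⟨y, hy⟩ = Q := primeIdealOf_fromSpec hU Q
  refine ⟨y, hy, ?_, ?_, ?_⟩
  · apply specializes_of_le hU x y hx hy
    rw [hQ']; exact hqp
  · rw [isWeakAssPoint_iff F hU y hy]
    refine ⟨m, ?_⟩
    rw [hQ']; exact hq
  · letI := TopCat.Presheaf.algebra_section_stalk X.presheaf (⟨y, hy⟩ : U)
    haveI : IsLocalization.AtPrime (X.presheaf.stalk y) (hU.primeIdealOf ⟨y, hy⟩).asIdeal :=
      hU.isLocalization_stalk ⟨y, hy⟩
    apply (locData F hU y hy).map_ne_zero_of_ann_le m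
    rw [hQ']; exact hq.1.2

/-- sections of a module are determined by their germs -/
theorem section_eq_zero_of_germ_eq_zero (U : X.Opens) (s : Γ(F, U))
    (h : ∀ (x : X) (hx : x ∈ U), (F.presheaf.germ U x hx).hom s = 0) : s = 0 := by
  apply TopCat.Presheaf.section_ext (⟨F.presheaf, F.isSheaf⟩ : TopCat.Sheaf Ab X) U s 0
  intro x hx
  rw [map_zero]
  exact h x hx

/-- a nonzero germ of any module lifts to a section on an affine neighbourhood -/
theorem exists_affine_section_of_germ_ne_zero (x : X) (n : ToType (F.presheaf.stalk x)) :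
    ∃ (U : X.Opens) (_ : IsAffineOpen U) (hx : x ∈ U) (m : Γ(F, U)),
      (F.presheaf.germ U x hx).hom m = n := by
  obtain ⟨V, hxV, t, rfl⟩ := F.presheaf.exists_germ_eq n
  obtain ⟨_, ⟨W, hW, rfl⟩, hxW, hWV⟩ :=
    X.isBasis_affineOpens.exists_subset_of_mem_open (show x ∈ (V : Set X) from hxV) V.2
  have hWV' : W ≤ V := hWV
  exact ⟨W, hW, hxW, F.presheaf.map (homOfLE hWV').op t,
    TopCat.Presheaf.germ_res_apply F.presheaf (homOfLE hWV') x hxW t⟩

end geo

end Groth.Agent.Lib.helper16.QCohAss
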