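import Groth.Prelude.Def_Coh
import Mathlib
import Groth.Agent.Lib.Helper16.CohFinite
import Groth.Agent.Lib.Helper16.QCohAss

/-!
# Stalks of quasi-coherent modules as localizations (helper16)

* `isLocalizedModule_of_locData`: abstract `LocData` (from `QCohAss`) gives `IsLocalizedModule`.
* `isLocalizedModule_stalk`: for quasi-coherent `F`, affine `U ∋ x`: the germ map
  `germLin F x hx : Γ(F,U) →ₗ[Γ(X,U)] F_x` is `IsLocalizedModule` at the prime of `x`
  (module structure `modStalk`, scalar tower `isScalarTower_stalk` over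
  `TopCat.Presheaf.algebra_section_stalk`).
* `finite_stalk_of_isCoh`: stalks of a coherent module are finitely generated.
-/

set_option autoImplicit false
universe u
open CategoryTheory CategoryTheory.Limits AlgebraicGeometry TopologicalSpace Opposite

namespace Groth.Agent.Lib.helper16.CohStalk

open Scheme.Modules Groth.Agent.Lib.helper7 Groth.Agent.Lib.helper16.CohFinite
  Groth.Agent.Lib.helper16.QCohAss

/-- abstract localization data gives `IsLocalizedModule` -/
theorem isLocalizedModule_of_locData {A : Type*} [CommRing A] {p : Ideal A} [p.IsPrime]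
    {R : Type*} [CommRing R] [IsLocalRing R] [Algebra A R] [IsLocalization.AtPrime R p]
    {M : Type*} [AddCommGroup M] [Module A M] {N : Type*} [AddCommGroup N] [Module R N]
    [Module A N] [IsScalarTower A R N] {g : M →+ N} (h : LocData A p R M N g)
    (gl : M →ₗ[A] N) (hgl : ∀ m, gl m = g m) : IsLocalizedModule p.primeCompl gl := by
  refine ⟨?_, ?_, ?_⟩
  · rintro ⟨a, ha⟩
    rw [Module.End.isUnit_iff]
    obtain ⟨v, hv⟩ := isUnit_of_notMem (R := R) (p := p) ha
    refine ⟨fun n₁ n₂ hn => ?_, fun n => ⟨(↑v⁻¹ : R) • n, ?_⟩⟩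
    · have h1 : a • n₁ = a • n₂ := hn
      rw [← algebraMap_smul R a n₁, ← algebraMap_smul R a n₂, ← hv] at h1
      have := congrArg (fun z => (↑v⁻¹ : R) • z) h1
      simpa [smul_smul] using this
    · change a • ((↑v⁻¹ : R) • n) = n
      rw [← algebraMap_smul R a, ← hv, smul_smul]
      simp
  · intro n
    obtain ⟨a, m, ha, hm⟩ := h.surj n
    refine ⟨(m, ⟨a, ha⟩), ?_⟩
    change a • n = gl m
    rw [hgl, ← hm, algebraMap_smul]
  · intro x₁ x₂ hx
    have h0 : g (x₁ - x₂) = 0 := by
      rw [map_sub, ← hgl, ← hgl, hx, sub_self]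
    obtain ⟨a, ha, ha0⟩ := h.ker _ h0
    refine ⟨⟨a, ha⟩, ?_⟩
    change a • x₁ = a • x₂
    rw [smul_sub] at ha0
    exact sub_eq_zero.mp ha0


variable {X : Scheme.{u}} (F : X.Modules) {U : X.Opens}

/-- `Γ(X,U)`-module structure on the stalk `F_x` for `x ∈ U` -/
@[reducible] noncomputable def modStalk (x : X) (hx : x ∈ U) :
    Module Γ(X, U) ↑(F.presheaf.stalk x) :=
  Module.compHom _ (X.presheaf.germ U x hx).hom

theorem isScalarTower_stalk (x : X) (hx : x ∈ U) :
    @IsScalarTower Γ(X, U) (X.presheaf.stalk x) (F.presheaf.stalk x)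
      (TopCat.Presheaf.algebra_section_stalk X.presheaf (⟨x, hx⟩ : U)).toSMul _
      (modStalk F x hx).toSMul := by
  letI := TopCat.Presheaf.algebra_section_stalk X.presheaf (⟨x, hx⟩ : U)
  letI := modStalk F x hx
  exact ⟨fun a b m => by
    change ((X.presheaf.germ U x hx).hom a * b) • m = (X.presheaf.germ U x hx).hom a • (b • m)
    rw [mul_smul]⟩

/-- the germ map as a `Γ(X,U)`-linear map -/
noncomputable def germLin (x : X) (hx : x ∈ U) :
    @LinearMap Γ(X, U) Γ(X, U) _ _ (RingHom.id _) Γ(F, U) (F.presheaf.stalk x) _ _ _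
      (modStalk F x hx) :=
  letI := modStalk F x hx
  { toFun := fun m => (F.presheaf.germ U x hx).hom m
    map_add' := fun _ _ => map_add _ _ _
    map_smul' := fun r m => germ_smul' F U x hx r m }

/-- **Stalks of a quasi-coherent module are the localizations of the sections over an affine
open.** -/
theorem isLocalizedModule_stalk [F.IsQuasicoherent] (hU : IsAffineOpen U) (x : X) (hx : x ∈ U) :
    @IsLocalizedModule Γ(X, U) _ Γ(F, U) (F.presheaf.stalk x) _ _ _ (modStalk F x hx)
      (hU.primeIdealOf ⟨x, hx⟩).asIdeal.primeCompl (germLin F x hx) := by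
  letI := TopCat.Presheaf.algebra_section_stalk X.presheaf (⟨x, hx⟩ : U)
  letI := modStalk F x hx
  haveI := isScalarTower_stalk F x hx
  haveI : IsLocalization.AtPrime (X.presheaf.stalk x) (hU.primeIdealOf ⟨x, hx⟩).asIdeal :=
    hU.isLocalization_stalk ⟨x, hx⟩
  exact isLocalizedModule_of_locData (locData F hU x hx) (germLin F x hx) (fun _ => rfl)

/-- stalks of a coherent module are finitely generated -/
theorem finite_stalk_of_isCoh (hF : Coh.IsCoh F) (x : X) :
    Module.Finite (X.presheaf.stalk x) (F.presheaf.stalk x) := by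
  haveI : F.IsQuasicoherent := hF.1
  obtain ⟨_, ⟨U, hU : IsAffineOpen U, rfl⟩, hxU, -⟩ :=
    X.isBasis_affineOpens.exists_subset_of_mem_open (Set.mem_univ x) isOpen_univ
  letI := TopCat.Presheaf.algebra_section_stalk X.presheaf (⟨x, hxU⟩ : U)
  letI := modStalk F x hxU
  haveI := isScalarTower_stalk F x hxU
  haveI : IsLocalization.AtPrime (X.presheaf.stalk x) (hU.primeIdealOf ⟨x, hxU⟩).asIdeal :=
    hU.isLocalization_stalk ⟨x, hxU⟩
  haveI := isLocalizedModule_stalk F hU x hxU
  haveI : Module.Finite Γ(X, U) Γ(F, U) := finite_sections_of_isCoh F hF hU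
  exact Module.Finite.of_isLocalizedModule (hU.primeIdealOf ⟨x, hxU⟩).asIdeal.primeCompl
    (germLin F x hxU)


end Groth.Agent.Lib.helper16.CohStalk
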