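import Groth.Agent.Lib.Helper16.CohFP

/-!
# Pullback of quasi-coherent modules (helper16)

* `tildePullbackIso φ : tilde.functor R ⋙ pullback (Spec.map φ) ≅ extendScalars φ ⋙ tilde.functor S`
* `pullbackRestrictIso f M hU hV e`: `(f^*M)|_{Spec Γ(Y,V)} ≅ (Γ(Y,V) ⊗ Γ(M,U))^~`
* `pullbackSectionsIso`, `pullbackSectionsEquiv f M hU hV e :
    Γ(f^*M, V) ≃ₗ[Γ(Y,V)] Γ(Y,V) ⊗[Γ(X,U)] Γ(M,U)` (algebra via `(f.appLE U V e).hom.toAlgebra`)
* `isQuasicoherent_pullback f M`
* `nonempty_presentation_restrict_of_iso_tilde`, `isQuasicoherent_of_cover`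
-/

set_option autoImplicit false
universe u
open CategoryTheory CategoryTheory.Limits AlgebraicGeometry TopologicalSpace Opposite

namespace Groth.Agent.Lib.helper16.QCohPullback

open Scheme.Modules

section Spec
variable {R S : CommRingCat.{u}} (φ : R ⟶ S)

/-- global sections of a pushforward along `Spec.map φ`, as an `R`-module -/
noncomputable def pushΓIso :
    pushforward (Spec.map φ) ⋙ moduleSpecΓFunctor (R := R) ≅
      moduleSpecΓFunctor (R := S) ⋙ ModuleCat.restrictScalars φ.hom :=
  Functor.isoWhiskerRight (pushforwardCompModulesSpecToSheafIso φ)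
    (TopCat.Sheaf.forget _ _ ⋙ (evaluation _ _).obj (.op ⊤))

/-- `tilde` followed by pullback is left adjoint to pushforward followed by global sections -/
noncomputable def adj1 :
    (tilde.functor R ⋙ pullback (Spec.map φ)) ⊣
      (pushforward (Spec.map φ) ⋙ moduleSpecΓFunctor (R := R)) :=
  tilde.adjunction.comp (pullbackPushforwardAdjunction (Spec.map φ))

noncomputable def adj2 :
    (ModuleCat.extendScalars φ.hom ⋙ tilde.functor S) ⊣
      (moduleSpecΓFunctor (R := S) ⋙ ModuleCat.restrictScalars φ.hom) :=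
  (ModuleCat.extendRestrictScalarsAdj φ.hom).comp tilde.adjunction

/-- **Pullback of `M^~` along `Spec S → Spec R` is `(S ⊗_R M)^~`.** -/
noncomputable def tildePullbackIso :
    tilde.functor R ⋙ pullback (Spec.map φ) ≅ ModuleCat.extendScalars φ.hom ⋙ tilde.functor S :=
  (adj1 φ).leftAdjointUniq ((adj2 φ).ofNatIsoRight (pushΓIso φ).symm)

end Spec

section Global

variable {X Y : Scheme.{u}} (f : Y ⟶ X) (M : X.Modules)
  {U : X.Opens} (hU : IsAffineOpen U) {V : Y.Opens} (hV : IsAffineOpen V) (e : V ≤ f ⁻¹ᵁ U)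

/-- the module of sections of `M` over the affine open `U`, as global sections of
`M|_{Spec Γ(X,U)}` -/
noncomputable abbrev secMod : ModuleCat.{u} Γ(X, U) :=
  (modulesSpecToSheaf.obj (M.restrict hU.fromSpec)).presheaf.obj (.op ⊤)

/-- **Restriction of a pullback of a quasi-coherent module to an affine open `V` mapping into an
affine open `U` is the tilde of the base change of the sections over `U`.** -/
noncomputable def pullbackRestrictIso [M.IsQuasicoherent] :
    ((Scheme.Modules.pullback f).obj M).restrict hV.fromSpec ≅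
      tilde ((ModuleCat.extendScalars (f.appLE U V e).hom).obj (secMod M hU)) :=
  (restrictFunctorIsoPullback hV.fromSpec).app _ ≪≫
    (pullbackComp hV.fromSpec f).app M ≪≫
    (pullbackCongr (IsAffineOpen.SpecMap_appLE_fromSpec f hU hV e).symm).app M ≪≫
    ((pullbackComp (Spec.map (f.appLE U V e)) hU.fromSpec).app M).symm ≪≫
    (Scheme.Modules.pullback (Spec.map (f.appLE U V e))).mapIso
      (((restrictFunctorIsoPullback hU.fromSpec).app M).symm ≪≫
        (asIso (M.restrict hU.fromSpec).fromTildeΓ).symm) ≪≫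
    (tildePullbackIso (f.appLE U V e)).app (secMod M hU)

/-- **Sections of the pullback of a quasi-coherent module over an affine open `V` mapping into an
affine open `U`: base change of the sections over `U`.** -/
noncomputable def pullbackSectionsIso [M.IsQuasicoherent] :
    secMod ((Scheme.Modules.pullback f).obj M) hV ≅
      (ModuleCat.extendScalars (f.appLE U V e).hom).obj (secMod M hU) :=
  moduleSpecΓFunctor.mapIso (pullbackRestrictIso f M hU hV e) ≪≫ (tilde.isoTop _).symm

end Global

section Presentation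

open Groth.Agent.Lib.helper16.CohFinite

set_option backward.isDefEq.respectTransparency false in
/-- a module whose restriction to `Spec Γ(Y,V)` is a tilde has a presentation on `V` -/
theorem nonempty_presentation_restrict_of_iso_tilde {Y : Scheme.{u}} (F : Y.Modules)
    {V : Y.Opens} (hV : IsAffineOpen V) (N : ModuleCat.{u} Γ(Y, V))
    (iso : F.restrict hV.fromSpec ≅ tilde N) :
    Nonempty (SheafOfModules.Presentation (F.restrict V.ι)) := by
  let P0 : SheafOfModules.Presentation (tilde N) :=
    presentationTilde.{u} _ .univ (by simp) _ (Submodule.span_eq _)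
  let P1 : SheafOfModules.Presentation (F.restrict hV.fromSpec) := P0.ofIsIso iso.inv
  have : PreservesColimitsOfSize.{u, u} (Scheme.Modules.restrictFunctor hV.isoSpec.hom) :=
    inferInstance
  let P2 := P1.map (Scheme.Modules.restrictFunctor hV.isoSpec.hom)
    (Scheme.Modules.restrictUnitIso _).symm
  let iso' : (F.restrict hV.fromSpec).restrict hV.isoSpec.hom ≅ F.restrict V.ι :=
    ((Scheme.Modules.restrictFunctorComp hV.isoSpec.hom hV.fromSpec).app F).symm ≪≫
      (Scheme.Modules.restrictFunctorCongr (by simp)).app F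
  exact ⟨P2.ofIsIso iso'.hom⟩

/-- A module with presentations on an open cover is quasi-coherent. -/
theorem isQuasicoherent_of_cover {X : Scheme.{u}} (F : X.Modules) {ι : Type u} (W : ι → X.Opens)
    (hcov : ⨆ i, W i = ⊤)
    (P : ∀ i, Nonempty (SheafOfModules.Presentation (F.restrict (W i).ι))) :
    F.IsQuasicoherent := by
  let σ : SheafOfModules.QuasicoherentData (R := X.ringCatSheaf) F :=
    { I := ι
      X := W
      coversTop := (Opens.coversTop_iff _ _).mpr hcov
      presentation := fun i => presOver F (W i) (P i).some }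
  exact σ.isQuasicoherent

end Presentation

section Global2

variable {X Y : Scheme.{u}} (f : Y ⟶ X) (M : X.Modules)

/-- **The pullback of a quasi-coherent module is quasi-coherent.** -/
theorem isQuasicoherent_pullback [M.IsQuasicoherent] :
    ((Scheme.Modules.pullback f).obj M).IsQuasicoherent := by
  let ι := {p : Y.affineOpens × X.affineOpens // p.1.1 ≤ f ⁻¹ᵁ p.2.1}
  refine isQuasicoherent_of_cover _ (fun p : ι => p.1.1.1) ?_ (fun p => ?_)
  · rw [eq_top_iff]
    intro y _
    obtain ⟨U, hU, hyU, -⟩ := Opens.isBasis_iff_nbhd.mp X.isBasis_affineOpens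
      (show f y ∈ (⊤ : X.Opens) from trivial)
    obtain ⟨V, hV, hyV, hVU⟩ := Opens.isBasis_iff_nbhd.mp Y.isBasis_affineOpens
      (show y ∈ f ⁻¹ᵁ U from hyU)
    exact Opens.mem_iSup.mpr ⟨⟨(⟨V, hV⟩, ⟨U, hU⟩), hVU⟩, hyV⟩
  · exact nonempty_presentation_restrict_of_iso_tilde _ p.1.1.2 _
      (pullbackRestrictIso f M p.1.2.2 p.1.1.2 p.2)

end Global2

section Equiv

open Groth.Agent.Lib.helper16.CohFinite TensorProduct

set_option backward.isDefEq.respectTransparency false in
/-- the carrier of `extendScalars` is the tensor product -/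
noncomputable def extendScalarsEquiv {R S : Type u} [CommRing R] [CommRing S] (φ : R →+* S)
    (N : ModuleCat.{u} R) :
    letI := φ.toAlgebra
    ((ModuleCat.extendScalars φ).obj N) ≃ₗ[S] S ⊗[R] N :=
  letI := φ.toAlgebra
  LinearEquiv.refl S _

variable {X Y : Scheme.{u}} (f : Y ⟶ X) (M : X.Modules)
  {U : X.Opens} (hU : IsAffineOpen U) {V : Y.Opens} (hV : IsAffineOpen V) (e : V ≤ f ⁻¹ᵁ U)

/-- `Γ(M,U)` as the global sections of `M|_{Spec Γ(X,U)}` -/
noncomputable def secEquiv : Γ(M, U) ≃ₗ[Γ(X, U)] secMod M hU :=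
  LinearEquiv.ofBijective (toSpecSections M hU)
    ⟨toSpecSections_injective M hU, toSpecSections_surjective M hU⟩

/-- **`Γ(f^*M, V) ≃ Γ(Y,V) ⊗_{Γ(X,U)} Γ(M,U)`** for `M` quasi-coherent, `U`, `V` affine,
`V ≤ f⁻¹U`, where `Γ(Y,V)` is a `Γ(X,U)`-algebra via `f.appLE U V e`. -/
noncomputable def pullbackSectionsEquiv [M.IsQuasicoherent] :
    letI := (f.appLE U V e).hom.toAlgebra
    Γ((Scheme.Modules.pullback f).obj M, V) ≃ₗ[Γ(Y, V)] Γ(Y, V) ⊗[Γ(X, U)] Γ(M, U) :=
  letI := (f.appLE U V e).hom.toAlgebra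
  (secEquiv _ hV) ≪≫ₗ (pullbackSectionsIso f M hU hV e).toLinearEquiv ≪≫ₗ
    extendScalarsEquiv (f.appLE U V e).hom (secMod M hU) ≪≫ₗ
    (TensorProduct.AlgebraTensorModule.congr (LinearEquiv.refl Γ(Y, V) Γ(Y, V))
      (secEquiv M hU).symm)

end Equiv

end Groth.Agent.Lib.helper16.QCohPullback
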