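import Mathlib
import Groth.Agent.S1683

/-!
# Relative effective Cartier divisors: flatness toolkit (helper16)
-/

set_option autoImplicit false
universe u
open CategoryTheory CategoryTheory.Limits AlgebraicGeometry TopologicalSpace

namespace Groth.Agent.Lib.helper16.RelCartier

section part0

open TensorProduct

/-- Extension of flat modules is flat. -/
theorem flat_of_exact {A : Type u} [CommRing A] {M' M M'' : Type u}
    [AddCommGroup M'] [AddCommGroup M] [AddCommGroup M''] [Module A M'] [Module A M] [Module A M'']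
    (g : M' →ₗ[A] M) (f : M →ₗ[A] M'') (hg : Function.Injective g) (hf : Function.Surjective f)
    (H : Function.Exact g f) [Module.Flat A M'] [Module.Flat A M''] : Module.Flat A M := by
  rw [Module.Flat.iff_rTensor_preserves_injective_linearMap]
  intro N N' _ _ _ _ i hi
  rw [injective_iff_map_eq_zero]
  intro x hx
  -- image in N ⊗ M''
  have h1 : (i.rTensor M'') (f.lTensor N x) = 0 := by
    have : (i.rTensor M'') (f.lTensor N x) = f.lTensor N' (i.rTensor M x) := by
      rw [← LinearMap.comp_apply, ← LinearMap.comp_apply, LinearMap.rTensor_comp_lTensor,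
        LinearMap.lTensor_comp_rTensor]
    rw [this, hx, map_zero]
  have h2 : f.lTensor N x = 0 :=
    (injective_iff_map_eq_zero _).1
      (Module.Flat.rTensor_preserves_injective_linearMap (M := M'') i hi) _ h1
  obtain ⟨y, rfl⟩ := (lTensor_exact N H hf x).1 h2
  have hgN' : Function.Injective (g.lTensor N') :=
    LinearMap.lTensor_injective_of_exact_of_flat f hf g hg H N'
  have h3 : g.lTensor N' (i.rTensor M' y) = 0 := by
    have : g.lTensor N' (i.rTensor M' y) = i.rTensor M (g.lTensor N y) := by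
      rw [← LinearMap.comp_apply, ← LinearMap.comp_apply, LinearMap.rTensor_comp_lTensor,
        LinearMap.lTensor_comp_rTensor]
    rw [this, hx]
  have h4 : i.rTensor M' y = 0 := (injective_iff_map_eq_zero _).1 hgN' _ h3
  have h5 : y = 0 := (injective_iff_map_eq_zero _).1
      (Module.Flat.rTensor_preserves_injective_linearMap (M := M') i hi) _ h4
  rw [h5, map_zero]

/-- Kernel of a surjection of flat modules is flat. -/
theorem flat_ker_of_exact {A : Type u} [CommRing A] {M' M M'' : Type u}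
    [AddCommGroup M'] [AddCommGroup M] [AddCommGroup M''] [Module A M'] [Module A M] [Module A M'']
    (g : M' →ₗ[A] M) (f : M →ₗ[A] M'') (hg : Function.Injective g) (hf : Function.Surjective f)
    (H : Function.Exact g f) [Module.Flat A M] [Module.Flat A M''] : Module.Flat A M' := by
  rw [Module.Flat.iff_rTensor_preserves_injective_linearMap]
  intro N N' _ _ _ _ i hi
  have hgN : Function.Injective (g.lTensor N) :=
    LinearMap.lTensor_injective_of_exact_of_flat f hf g hg H N
  have h1 : Function.Injective ((i.rTensor M) ∘ (g.lTensor N)) :=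
    (Module.Flat.rTensor_preserves_injective_linearMap (M := M) i hi).comp hgN
  have h2 : (i.rTensor M) ∘ (g.lTensor N) = (g.lTensor N') ∘ (i.rTensor M') := by
    funext y
    simp only [Function.comp_apply]
    rw [← LinearMap.comp_apply, ← LinearMap.comp_apply, LinearMap.rTensor_comp_lTensor,
        LinearMap.lTensor_comp_rTensor]
  rw [h2] at h1
  exact Function.Injective.of_comp h1

end part0

section part1

open TensorProduct

variable {A B : Type u} [CommRing A] [CommRing B] [Algebra A B]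

/-- multiplication by `t₁` as a map `B/(t₂) → B/(t₁ t₂)`. -/
noncomputable def mulQ (t₁ t₂ : B) : (B ⧸ Ideal.span {t₂}) →ₗ[A] (B ⧸ Ideal.span {t₁ * t₂}) :=
  (Submodule.mapQ (Ideal.span {t₂}) (Ideal.span {t₁ * t₂}) (LinearMap.mulLeft B t₁) (by
    intro b hb
    rw [Ideal.mem_span_singleton'] at hb
    obtain ⟨c, rfl⟩ := hb
    simp only [Submodule.mem_comap, LinearMap.mulLeft_apply]
    rw [Ideal.mem_span_singleton']
    exact ⟨c, by ring⟩)).restrictScalars A

/-- the quotient map `B/(t₁ t₂) → B/(t₁)`. -/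
noncomputable def facQ (t₁ t₂ : B) : (B ⧸ Ideal.span {t₁ * t₂}) →ₗ[A] (B ⧸ Ideal.span {t₁}) :=
  (Submodule.mapQ (Ideal.span {t₁ * t₂}) (Ideal.span {t₁}) LinearMap.id (by
    intro b hb
    rw [Ideal.mem_span_singleton'] at hb
    obtain ⟨c, rfl⟩ := hb
    simp only [Submodule.mem_comap, LinearMap.id_apply]
    rw [Ideal.mem_span_singleton']
    exact ⟨c * t₂, by ring⟩)).restrictScalars A

theorem mulQ_mk (t₁ t₂ b : B) :
    mulQ (A := A) t₁ t₂ (Ideal.Quotient.mk _ b) = Ideal.Quotient.mk _ (t₁ * b) := rfl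

theorem facQ_mk (t₁ t₂ b : B) :
    facQ (A := A) t₁ t₂ (Ideal.Quotient.mk _ b) = Ideal.Quotient.mk _ b := rfl

theorem facQ_surjective (t₁ t₂ : B) : Function.Surjective (facQ (A := A) t₁ t₂) := by
  intro y
  obtain ⟨b, rfl⟩ := Ideal.Quotient.mk_surjective y
  exact ⟨Ideal.Quotient.mk _ b, rfl⟩

theorem mulQ_injective (t₁ t₂ : B) (h₁ : t₁ ∈ nonZeroDivisors B) :
    Function.Injective (mulQ (A := A) t₁ t₂) := by
  rw [injective_iff_map_eq_zero]
  intro y hy
  obtain ⟨b, rfl⟩ := Ideal.Quotient.mk_surjective y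
  rw [mulQ_mk, Ideal.Quotient.eq_zero_iff_mem, Ideal.mem_span_singleton'] at hy
  obtain ⟨c, hc⟩ := hy
  rw [Ideal.Quotient.eq_zero_iff_mem, Ideal.mem_span_singleton']
  refine ⟨c, ?_⟩
  have : t₁ * (c * t₂ - b) = 0 := by rw [mul_sub, ← hc]; ring
  have := (mem_nonZeroDivisors_iff.1 h₁).1 _ this
  exact sub_eq_zero.1 this

theorem exact_mulQ_facQ (t₁ t₂ : B) :
    Function.Exact (mulQ (A := A) t₁ t₂) (facQ (A := A) t₁ t₂) := by
  intro y
  obtain ⟨b, rfl⟩ := Ideal.Quotient.mk_surjective y
  rw [facQ_mk, Ideal.Quotient.eq_zero_iff_mem, Ideal.mem_span_singleton']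
  constructor
  · rintro ⟨c, rfl⟩
    exact ⟨Ideal.Quotient.mk _ c, by rw [mulQ_mk, mul_comm t₁ c]⟩
  · rintro ⟨z, hz⟩
    obtain ⟨c, rfl⟩ := Ideal.Quotient.mk_surjective z
    rw [mulQ_mk, Ideal.Quotient.eq, Ideal.mem_span_singleton'] at hz
    obtain ⟨d, hd⟩ := hz
    refine ⟨c - d * t₂, ?_⟩
    have : b = t₁ * c - d * (t₁ * t₂) := by rw [hd]; ring
    rw [this]; ring

end part1

section part2

open TensorProduct

variable {A B : Type u} [CommRing A] [CommRing B] [Algebra A B]

/-- If `t` is a nonzerodivisor of `B`, `B/(t)` is `A`-flat and `B_t` is `A`-flat then `B` is `A`-flat. -/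
theorem flat_of_flat_away_of_flat_quot (t : B) (ht : t ∈ nonZeroDivisors B)
    (Bt : Type u) [CommRing Bt] [Algebra B Bt] [Algebra A Bt] [IsScalarTower A B Bt]
    [IsLocalization.Away t Bt]
    [Module.Flat A (B ⧸ Ideal.span {t})] [Module.Flat A Bt] : Module.Flat A B := by
  rw [Module.Flat.iff_lTensor_preserves_injective_linearMap]
  intro N N' _ _ _ _ i hi
  -- multiplication by t on B ⊗ N is injective
  let g : B →ₗ[A] B := LinearMap.mulLeft A t
  let f : B →ₗ[A] (B ⧸ Ideal.span {t}) := (Submodule.mkQ (Ideal.span {t})).restrictScalars A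
  have hf : Function.Surjective f := Submodule.mkQ_surjective _
  have hg : Function.Injective g := by
    intro a b hab
    simp only [g, LinearMap.mulLeft_apply] at hab
    exact (mul_cancel_left_mem_nonZeroDivisors ht).1 hab
  have H : Function.Exact g f := by
    intro b
    change (Ideal.Quotient.mk _ b = 0) ↔ _
    rw [Ideal.Quotient.eq_zero_iff_mem, Ideal.mem_span_singleton']
    constructor
    · rintro ⟨c, rfl⟩; exact ⟨c, by simp [g, mul_comm]⟩
    · rintro ⟨c, rfl⟩; exact ⟨c, by simp [g, mul_comm]⟩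
  have hgN : ∀ (N : Type u) [AddCommGroup N] [Module A N], Function.Injective (g.rTensor N) := by
    intro N _ _
    rw [← LinearMap.lTensor_inj_iff_rTensor_inj]
    exact LinearMap.lTensor_injective_of_exact_of_flat f hf g hg H N
  have hsmul : ∀ (N : Type u) [AddCommGroup N] [Module A N] (y : B ⊗[A] N), t • y = g.rTensor N y := by
    intro N _ _ y
    induction y using TensorProduct.induction_on with
    | zero => simp
    | tmul b n => simp [g, TensorProduct.smul_tmul']
    | add a b ha hb => rw [smul_add, map_add, ha, hb]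
  have hpow : ∀ (N : Type u) [AddCommGroup N] [Module A N] (n : ℕ) (y : B ⊗[A] N),
      t ^ n • y = 0 → y = 0 := by
    intro N _ _ n
    induction n with
    | zero => intro y hy; simpa using hy
    | succ n ih =>
      intro y hy
      apply ih
      rw [pow_succ', mul_smul, hsmul] at hy
      exact (injective_iff_map_eq_zero _).1 (hgN N) _ hy
  rw [injective_iff_map_eq_zero]
  intro x hx
  let ℓ : B →ₗ[B] Bt := Algebra.linearMap B Bt
  have : IsLocalizedModule (Submonoid.powers t) ℓ :=
    (isLocalizedModule_iff_isLocalization).2 inferInstance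
  have hloc : IsLocalizedModule (Submonoid.powers t) (AlgebraTensorModule.rTensor A N ℓ) :=
    inferInstance
  have hcomm : ∀ y : B ⊗[A] N, (i.lTensor Bt) (AlgebraTensorModule.rTensor A N ℓ y) =
        AlgebraTensorModule.rTensor A N' ℓ (i.lTensor B y) := by
    intro y
    induction y using TensorProduct.induction_on with
    | zero => simp
    | tmul b n => simp
    | add a b ha hb => simp only [map_add, ha, hb]
  have h1 : (i.lTensor Bt) (AlgebraTensorModule.rTensor A N ℓ x) = 0 := by
    rw [hcomm, hx, map_zero]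
  have h2 : AlgebraTensorModule.rTensor A N ℓ x = 0 :=
    (injective_iff_map_eq_zero _).1
      (Module.Flat.lTensor_preserves_injective_linearMap (M := Bt) i hi) _ h1
  obtain ⟨⟨c, n, rfl⟩, hc⟩ := (IsLocalizedModule.eq_zero_iff (Submonoid.powers t) _).1 h2
  exact hpow N n x hc

end part2

section part3

open TensorProduct

/-- base change of a nonzerodivisor with flat quotient is a nonzerodivisor -/
theorem nzd_of_isPushout {A B A' B' : Type u} [CommRing A] [CommRing B] [CommRing A'] [CommRing B']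
    [Algebra A B] [Algebra A A'] [Algebra A B'] [Algebra B B'] [Algebra A' B']
    [IsScalarTower A B B'] [IsScalarTower A A' B'] [Algebra.IsPushout A A' B B']
    (t : B) (ht : t ∈ nonZeroDivisors B) [Module.Flat A (B ⧸ Ideal.span {t})] :
    algebraMap B B' t ∈ nonZeroDivisors B' := by
  let g : B →ₗ[A] B := LinearMap.mulLeft A t
  let f : B →ₗ[A] (B ⧸ Ideal.span {t}) := (Submodule.mkQ (Ideal.span {t})).restrictScalars A
  have hf : Function.Surjective f := Submodule.mkQ_surjective _
  have hg : Function.Injective g := by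
    intro a b hab
    simp only [g, LinearMap.mulLeft_apply] at hab
    exact (mul_cancel_left_mem_nonZeroDivisors ht).1 hab
  have H : Function.Exact g f := by
    intro b
    change (Ideal.Quotient.mk _ b = 0) ↔ _
    rw [Ideal.Quotient.eq_zero_iff_mem, Ideal.mem_span_singleton']
    constructor
    · rintro ⟨c, rfl⟩; exact ⟨c, by simp [g, mul_comm]⟩
    · rintro ⟨c, rfl⟩; exact ⟨c, by simp [g, mul_comm]⟩
  have hgN : Function.Injective (g.lTensor A') :=
    LinearMap.lTensor_injective_of_exact_of_flat f hf g hg H A'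
  have hbc : IsBaseChange A' (IsScalarTower.toAlgHom A B B').toLinearMap :=
    Algebra.IsPushout.out
  have hcomm : ∀ y : A' ⊗[A] B, hbc.equiv (g.lTensor A' y) = algebraMap B B' t * hbc.equiv y := by
    intro y
    induction y using TensorProduct.induction_on with
    | zero => simp
    | tmul a b =>
      simp only [LinearMap.lTensor_tmul, IsBaseChange.equiv_tmul, g, LinearMap.mulLeft_apply,
        AlgHom.toLinearMap_apply, IsScalarTower.coe_toAlgHom', map_mul]
      rw [Algebra.smul_def, Algebra.smul_def]; ring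
    | add a b ha hb => simp only [map_add, ha, hb, mul_add]
  rw [mem_nonZeroDivisors_iff_right]
  intro z hz
  obtain ⟨y, rfl⟩ := hbc.equiv.surjective z
  rw [mul_comm, ← hcomm] at hz
  have := hgN ((hbc.equiv.injective (hz.trans (map_zero _).symm)).trans (map_zero _).symm)
  rw [this, map_zero]

end part3

section part4

theorem flat_comp_mk_iff {A B : Type u} [CommRing A] [CommRing B] [Algebra A B] (I : Ideal B) :
    ((Ideal.Quotient.mk I).comp (algebraMap A B)).Flat ↔ Module.Flat A (B ⧸ I) := by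
  have : (Ideal.Quotient.mk I).comp (algebraMap A B) = algebraMap A (B ⧸ I) := rfl
  rw [this, RingHom.flat_algebraMap_iff]

end part4

section part5

theorem appLE_sub_eq {X S : Scheme.{u}} (f : X ⟶ S) (𝓘 : X.IdealSheafData)
    (U : X.affineOpens) (V : S.Opens) (e : U.1 ≤ f ⁻¹ᵁ V)
    (e' : 𝓘.subschemeι ⁻¹ᵁ U.1 ≤ (𝓘.subschemeι ≫ f) ⁻¹ᵁ V) :
    (𝓘.subschemeι ≫ f).appLE V (𝓘.subschemeι ⁻¹ᵁ U.1) e' =
      f.appLE V U.1 e ≫ CommRingCat.ofHom (Ideal.Quotient.mk (𝓘.ideal U)) ≫
        (𝓘.subschemeObjIso U).inv := by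
  rw [← 𝓘.subschemeι_app U, Scheme.Hom.app_eq_appLE, Scheme.Hom.appLE_comp_appLE]

theorem flat_sub_appLE_iff {X S : Scheme.{u}} (f : X ⟶ S) (𝓘 : X.IdealSheafData)
    (U : X.affineOpens) (V : S.Opens) (e : U.1 ≤ f ⁻¹ᵁ V)
    (e' : 𝓘.subschemeι ⁻¹ᵁ U.1 ≤ (𝓘.subschemeι ≫ f) ⁻¹ᵁ V) :
    ((𝓘.subschemeι ≫ f).appLE V (𝓘.subschemeι ⁻¹ᵁ U.1) e').hom.Flat ↔
      ((Ideal.Quotient.mk (𝓘.ideal U)).comp (f.appLE V U.1 e).hom).Flat := by
  rw [appLE_sub_eq f 𝓘 U V e e']
  have : (f.appLE V U.1 e ≫ CommRingCat.ofHom (Ideal.Quotient.mk (𝓘.ideal U)) ≫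
        (𝓘.subschemeObjIso U).inv).hom =
      ((𝓘.subschemeObjIso U).symm.commRingCatIsoToRingEquiv : _ →+* _).comp
        ((Ideal.Quotient.mk (𝓘.ideal U)).comp (f.appLE V U.1 e).hom) := rfl
  rw [this]
  exact RingHom.Flat.comp_iff_of_bijective_left
    ((𝓘.subschemeObjIso U).symm.commRingCatIsoToRingEquiv.bijective)

/-- A→ -/
theorem flat_quot_of_flat_sub {X S : Scheme.{u}} (f : X ⟶ S) (𝓘 : X.IdealSheafData)
    [Flat (𝓘.subschemeι ≫ f)]
    (U : X.affineOpens) (V : S.affineOpens) (e : U.1 ≤ f ⁻¹ᵁ V.1) :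
    ((Ideal.Quotient.mk (𝓘.ideal U)).comp (f.appLE V.1 U.1 e).hom).Flat := by
  have e' : 𝓘.subschemeι ⁻¹ᵁ U.1 ≤ (𝓘.subschemeι ≫ f) ⁻¹ᵁ V.1 := by
    intro z hz
    exact e hz
  rw [← flat_sub_appLE_iff f 𝓘 U V.1 e e']
  exact HasRingHomProperty.appLE (P := @Flat) _ inferInstance V
    ⟨𝓘.subschemeι ⁻¹ᵁ U.1, U.2.preimage 𝓘.subschemeι⟩ e'

/-- A← -/
theorem flat_sub_of_flat_quot {X S : Scheme.{u}} (f : X ⟶ S) (𝓘 : X.IdealSheafData)
    (H : ∀ x ∈ 𝓘.support, ∃ (U : X.affineOpens) (V : S.affineOpens) (_ : x ∈ U.1)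
      (e : U.1 ≤ f ⁻¹ᵁ V.1),
      ((Ideal.Quotient.mk (𝓘.ideal U)).comp (f.appLE V.1 U.1 e).hom).Flat) :
    Flat (𝓘.subschemeι ≫ f) := by
  rw [HasRingHomProperty.iff_exists_appLE (P := @Flat)
    (RingHom.Flat.stableUnderComposition.stableUnderCompositionWithLocalizationAway
      RingHom.Flat.holdsForLocalizationAway).1]
  intro z
  have hz : 𝓘.subschemeι z ∈ 𝓘.support := by
    have : 𝓘.subschemeι z ∈ (𝓘.support : Set X) := by
      rw [← 𝓘.range_subschemeι]; exact ⟨z, rfl⟩
    exact this
  obtain ⟨U, V, hxU, e, hflat⟩ := H _ hz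
  have e' : 𝓘.subschemeι ⁻¹ᵁ U.1 ≤ (𝓘.subschemeι ≫ f) ⁻¹ᵁ V.1 := by
    intro z hz
    exact e hz
  refine ⟨V, ⟨𝓘.subschemeι ⁻¹ᵁ U.1, U.2.preimage 𝓘.subschemeι⟩, hxU, e', ?_⟩
  rw [flat_sub_appLE_iff f 𝓘 U V.1 e e']
  exact hflat

end part5

section part6

/-- restriction of a nonzerodivisor generator to a smaller affine open -/
theorem gen_restrict {X : Scheme.{u}} (𝓘 : X.IdealSheafData) (U D : X.affineOpens) (h : D.1 ≤ U.1)
    (t : Γ(X, U.1)) (ht : t ∈ nonZeroDivisors Γ(X, U.1)) (hI : 𝓘.ideal U = Ideal.span {t}) :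
    (X.presheaf.map (homOfLE h).op).hom t ∈ nonZeroDivisors Γ(X, D.1) ∧
      𝓘.ideal D = Ideal.span {(X.presheaf.map (homOfLE h).op).hom t} := by
  refine ⟨Groth.Agent.S1683.nzd_restrict U D h t ht, ?_⟩
  have e1 := 𝓘.map_ideal (U := D) (V := U) h
  rw [hI, Ideal.map_span, Set.image_singleton] at e1
  exact e1.symm

/-- an effective Cartier ideal is generated by a nonzerodivisor on arbitrarily small affine
neighbourhoods of any point -/
theorem exists_gen_le {X : Scheme.{u}} (𝓘 : X.IdealSheafData) (h𝓘 : BlowUp.IsEffCartierIdeal 𝓘)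
    (x : X) (W : X.Opens) (hxW : x ∈ W) :
    ∃ D : X.affineOpens, x ∈ D.1 ∧ D.1 ≤ W ∧
      ∃ t ∈ nonZeroDivisors Γ(X, D.1), 𝓘.ideal D = Ideal.span {t} := by
  obtain ⟨U, hxU, t, ht, hI⟩ := h𝓘 x
  obtain ⟨_, ⟨D, hD, rfl⟩, hxD, hDU⟩ :=
    X.isBasis_affineOpens.exists_subset_of_mem_open (show x ∈ ((U.1 ⊓ W : X.Opens) : Set X) from
      ⟨hxU, hxW⟩) (U.1 ⊓ W).2
  have h1 : D ≤ U.1 := fun y hy => (hDU hy).1
  have h2 : D ≤ W := fun y hy => (hDU hy).2
  obtain ⟨hnzd, hgen⟩ := gen_restrict 𝓘 U ⟨D, hD⟩ h1 t ht hI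
  exact ⟨⟨D, hD⟩, hxD, h2, _, hnzd, hgen⟩

end part6

section part7

open TensorProduct

/-- Stacks 062Y (algebra): `B` Noetherian local, `h ∈ m_B` a nonzerodivisor, `B/hB` flat over `A`;
then `B` is flat over `A`. -/
theorem flat_of_flat_quot_of_noetherian_local {A B : Type u} [CommRing A] [CommRing B] [Algebra A B]
    [IsLocalRing B] [IsNoetherianRing B] (h : B) (hm : h ∈ IsLocalRing.maximalIdeal B)
    (hnzd : h ∈ nonZeroDivisors B) [Module.Flat A (B ⧸ Ideal.span {h})] : Module.Flat A B := by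
  rw [Module.Flat.iff_lTensor_injective]
  intro I hI
  let g : B →ₗ[A] B := LinearMap.mulLeft A h
  let π : B →ₗ[A] (B ⧸ Ideal.span {h}) := (Submodule.mkQ (Ideal.span {h})).restrictScalars A
  have hπ : Function.Surjective π := Submodule.mkQ_surjective _
  have H : Function.Exact g π := by
    intro b
    change (Ideal.Quotient.mk _ b = 0) ↔ _
    rw [Ideal.Quotient.eq_zero_iff_mem, Ideal.mem_span_singleton']
    constructor
    · rintro ⟨c, rfl⟩; exact ⟨c, by simp [g, mul_comm]⟩
    · rintro ⟨c, rfl⟩; exact ⟨c, by simp [g, mul_comm]⟩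
  have hsmul : ∀ (N : Type u) [AddCommGroup N] [Module A N] (y : B ⊗[A] N), h • y = g.rTensor N y := by
    intro N _ _ y
    induction y using TensorProduct.induction_on with
    | zero => simp
    | tmul b n => simp [g, TensorProduct.smul_tmul']
    | add a b ha hb => rw [smul_add, map_add, ha, hb]
  let L : B ⊗[A] I →ₗ[B] B ⊗[A] A := AlgebraTensorModule.lTensor B B I.subtype
  have hL : ∀ y, L y = I.subtype.lTensor B y := fun y => rfl
  let K : Submodule B (B ⊗[A] I) := LinearMap.ker L
  have hfin : Module.Finite A I := Module.Finite.iff_fg.2 hI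
  have hfinB : Module.Finite B (B ⊗[A] I) := inferInstance
  have hnoeth : IsNoetherian B (B ⊗[A] I) := isNoetherian_of_isNoetherianRing_of_finite B _
  have hKfg : K.FG := IsNoetherian.noetherian K
  have hKle : K ≤ (Ideal.span {h}) • K := by
    intro k hk
    have hk0 : L k = 0 := hk
    have h1 : (I.subtype.lTensor (B ⧸ Ideal.span {h})) (π.rTensor I k) = 0 := by
      have : (I.subtype.lTensor (B ⧸ Ideal.span {h})) (π.rTensor I k) =
          π.rTensor A (I.subtype.lTensor B k) := by
        rw [← LinearMap.comp_apply, ← LinearMap.comp_apply, LinearMap.rTensor_comp_lTensor,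
          LinearMap.lTensor_comp_rTensor]
      rw [this, ← hL, hk0, map_zero]
    have h2 : π.rTensor I k = 0 :=
      (injective_iff_map_eq_zero _).1
        (Module.Flat.lTensor_preserves_injective_linearMap (M := B ⧸ Ideal.span {h}) I.subtype
          I.injective_subtype) _ h1
    obtain ⟨k', hk'⟩ := (rTensor_exact I H hπ k).1 h2
    rw [← hsmul] at hk'
    have hk'K : k' ∈ K := by
      change L k' = 0
      have h3 : h • L k' = 0 := by rw [← map_smul, hk', hk0]
      have h4 : h • (AlgebraTensorModule.rid A B B (L k')) = 0 := by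
        rw [← map_smul, h3, map_zero]
      rw [smul_eq_mul] at h4
      have h5 := (mem_nonZeroDivisors_iff.1 hnzd).1 _ h4
      exact (AlgebraTensorModule.rid A B B).injective (h5.trans (map_zero _).symm)
    rw [← hk']
    exact Submodule.smul_mem_smul (Ideal.mem_span_singleton_self h) hk'K
  have hjac : Ideal.span {h} ≤ Ideal.jacobson (⊥ : Ideal B) := by
    rw [IsLocalRing.jacobson_eq_maximalIdeal ⊥ bot_ne_top, Ideal.span_singleton_le_iff_mem]
    exact hm
  have hK0 : K = ⊥ := Submodule.eq_bot_of_le_smul_of_le_jacobson_bot _ K hKfg hKle hjac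
  rw [injective_iff_map_eq_zero]
  intro y hy
  have : y ∈ K := hy
  rw [hK0] at this
  exact this



/-- a localization (w.r.t. a submonoid of `C`) of an `A`-flat `C`-module is `A`-flat -/
theorem flat_of_isLocalizedModule {A C : Type u} [CommRing A] [CommRing C] [Algebra A C]
    (S : Submonoid C) {M M' : Type u} [AddCommGroup M] [AddCommGroup M'] [Module A M] [Module C M]
    [IsScalarTower A C M] [Module A M'] [Module C M'] [IsScalarTower A C M']
    (g : M →ₗ[C] M') [IsLocalizedModule S g] [Module.Flat A M] : Module.Flat A M' := by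
  rw [Module.Flat.iff_lTensor_preserves_injective_linearMap]
  intro N N' _ _ _ _ i hi
  have h1 : Function.Injective (AlgebraTensorModule.lTensor C M i) :=
    Module.Flat.lTensor_preserves_injective_linearMap (M := M) i hi
  have h2 := IsLocalizedModule.map_injective S (AlgebraTensorModule.rTensor A N g)
    (AlgebraTensorModule.rTensor A N' g) (AlgebraTensorModule.lTensor C M i) h1
  rw [IsLocalizedModule.map_lTensor] at h2
  exact h2

theorem flat_localization_of_flat_quot {A C B : Type u} [CommRing A] [CommRing C] [CommRing B]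
    [Algebra A C] [Algebra C B] [Algebra A B] [IsScalarTower A C B]
    (q : Ideal C) [q.IsPrime] [IsLocalization.AtPrime B q] [IsNoetherianRing B]
    (t : C) (htq : t ∈ q) (ht : t ∈ nonZeroDivisors C) [Module.Flat A (C ⧸ Ideal.span {t})] :
    Module.Flat A B := by
  have : IsLocalRing B := IsLocalization.AtPrime.isLocalRing B q
  have hm : algebraMap C B t ∈ IsLocalRing.maximalIdeal B :=
    (IsLocalization.AtPrime.to_map_mem_maximal_iff B q t).2 htq
  have hnzd : algebraMap C B t ∈ nonZeroDivisors B :=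
    IsLocalization.map_nonZeroDivisors_le q.primeCompl B (Submonoid.mem_map_of_mem _ ht)
  have : IsLocalizedModule q.primeCompl (Algebra.linearMap C B) :=
    (isLocalizedModule_iff_isLocalization).2 inferInstance
  set J : Ideal B := (Ideal.span {t} : Ideal C).localized' B q.primeCompl (Algebra.linearMap C B)
    with hJ
  have hJeq : J = Ideal.span {algebraMap C B t} := by
    rw [hJ, Submodule.localized'_eq_span]
    change Ideal.map (algebraMap C B) (Ideal.span {t}) = _
    rw [Ideal.map_span, Set.image_singleton]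
  have hflat : Module.Flat A (B ⧸ J) :=
    flat_of_isLocalizedModule (A := A) q.primeCompl
      ((Ideal.span {t} : Ideal C).toLocalizedQuotient' B q.primeCompl (Algebra.linearMap C B))
  rw [hJeq] at hflat
  exact flat_of_flat_quot_of_noetherian_local (algebraMap C B t) hm hnzd

end part7

end Groth.Agent.Lib.helper16.RelCartier
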