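import Groth.Agent.Lib.Helper16.QCohAss

/-!
# Weakly associated points of a pushforward (helper16)

For `f : X ⟶ S`, `F` quasi-coherent on `X`, `V ⊆ S` affine open with `f⁻¹V` affine: the germ map
`Γ(f_*F, V) → (f_*F)_s` is a localization at `p_s` (`locData_push`), hence
`isWeakAssPoint_push_iff`.
-/

set_option autoImplicit false
universe u
open CategoryTheory CategoryTheory.Limits AlgebraicGeometry TopologicalSpace Opposite

namespace Groth.Agent.Lib.helper16.QCohPush

open Groth.Agent.Lib.helper7 Groth.Agent.Lib.helper28 Groth.Agent.Lib.helper16.QCohAss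

variable {X S : Scheme.{u}} (f : X ⟶ S) (F : X.Modules)

/-- the pushforward module -/
noncomputable abbrev push : S.Modules := (Scheme.Modules.pushforward f).obj F

theorem push_smul (V : S.Opens) (a : Γ(S, V)) (m : Γ(push f F, V)) :
    a • m = (((f.app V).hom a • (show Γ(F, f ⁻¹ᵁ V) from m) : Γ(F, f ⁻¹ᵁ V))) := rfl

theorem preimage_mono {V W : S.Opens} (h : W ≤ V) : f ⁻¹ᵁ W ≤ f ⁻¹ᵁ V := fun _ hx => h hx

theorem push_map {V W : S.Opens} (h : W ≤ V) (m : Γ(push f F, V)) :
    ((push f F).presheaf.map (homOfLE h).op).hom m =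
      (F.presheaf.map (homOfLE (preimage_mono f h)).op).hom (show Γ(F, f ⁻¹ᵁ V) from m) := rfl

theorem app_res {V W : S.Opens} (h : W ≤ V) (a : Γ(S, V)) :
    (f.app W).hom ((S.presheaf.map (homOfLE h).op).hom a) =
      (X.presheaf.map (homOfLE (preimage_mono f h)).op).hom ((f.app V).hom a) := by
  have := f.naturality (homOfLE h).op
  exact congr($(this).hom a)

theorem res_res {V₁ V₂ V₃ : X.Opens} (h₁ : V₂ ≤ V₁) (h₂ : V₃ ≤ V₂) (a : Γ(X, V₁)) :
    (X.presheaf.map (homOfLE h₂).op).hom ((X.presheaf.map (homOfLE h₁).op).hom a) =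
      (X.presheaf.map (homOfLE (h₂.trans h₁)).op).hom a := by
  rw [← CommRingCat.comp_apply, ← Functor.map_comp]
  rfl

theorem ker_germ_push [F.IsQuasicoherent] {V : S.Opens} (hV : IsAffineOpen V)
    (hU : IsAffineOpen (f ⁻¹ᵁ V)) (s : S) (hs : s ∈ V)
    (m : Γ(push f F, V))
    (h : ((push f F).presheaf.germ V s hs).hom m = 0) :
    ∃ a : Γ(S, V), a ∉ (hV.primeIdealOf ⟨s, hs⟩).asIdeal ∧ a • m = 0 := by
  have h0 : ((push f F).presheaf.germ V s hs).hom m = ((push f F).presheaf.germ V s hs).hom 0 := by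
    rw [h, map_zero]
  obtain ⟨W, hsW, iU, iV, e⟩ := TopCat.Presheaf.germ_eq (push f F).presheaf s hs hs m 0 h0
  rw [map_zero] at e
  obtain ⟨a, haW, hsa⟩ := hV.exists_basicOpen_le (V := W) ⟨s, hsW⟩ hs
  -- m restricted to D(a) vanishes
  have h1 : ((push f F).presheaf.map (homOfLE (S.basicOpen_le a)).op).hom m = 0 := by
    have : ((push f F).presheaf.map (homOfLE haW).op).hom (((push f F).presheaf.map iU.op).hom m)
        = 0 := by
      have e' : ((push f F).presheaf.map iU.op).hom m = 0 := e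
      rw [e', map_zero]
    rw [← this]
    exact (map_map (push f F) iU.le haW m).symm
  have heq : f ⁻¹ᵁ S.basicOpen a = X.basicOpen ((f.app V).hom a) := Scheme.preimage_basicOpen f a
  have h2 : (F.presheaf.map (homOfLE (X.basicOpen_le ((f.app V).hom a))).op).hom
      (show Γ(F, f ⁻¹ᵁ V) from m) = 0 := by
    have h1' : (F.presheaf.map (homOfLE (preimage_mono f (S.basicOpen_le a))).op).hom
        (show Γ(F, f ⁻¹ᵁ V) from m) = 0 := h1
    have := map_map F (preimage_mono f (S.basicOpen_le a)) heq.ge (show Γ(F, f ⁻¹ᵁ V) from m)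
    have h3 : (F.presheaf.map (homOfLE (X.basicOpen_le ((f.app V).hom a))).op).hom
        (show Γ(F, f ⁻¹ᵁ V) from m) = (F.presheaf.map (homOfLE heq.ge).op).hom
          ((F.presheaf.map (homOfLE (preimage_mono f (S.basicOpen_le a))).op).hom
            (show Γ(F, f ⁻¹ᵁ V) from m)) := this.symm
    rw [h3, h1', map_zero]
  obtain ⟨n, hn⟩ := exists_pow_smul_eq_zero_of_isAffineOpen hU F ((f.app V).hom a)
    (show Γ(F, f ⁻¹ᵁ V) from m) h2
  refine ⟨a ^ n, ?_, ?_⟩
  · intro hmem
    have hp : (hV.primeIdealOf ⟨s, hs⟩).asIdeal.IsPrime := inferInstance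
    exact (mem_basicOpen_iff hV s hs a).1 hsa (hp.mem_of_pow_mem n hmem)
  · rw [push_smul, map_pow]
    exact hn

theorem surj_germ_push [F.IsQuasicoherent] {V : S.Opens} (hV : IsAffineOpen V)
    (hU : IsAffineOpen (f ⁻¹ᵁ V)) (s : S) (hs : s ∈ V)
    (n : ToType ((push f F).presheaf.stalk s)) :
    ∃ (a : Γ(S, V)) (m : Γ(push f F, V)),
      a ∉ (hV.primeIdealOf ⟨s, hs⟩).asIdeal ∧
      (S.presheaf.germ V s hs).hom a • n = ((push f F).presheaf.germ V s hs).hom m := by
  obtain ⟨W, hsW, t, rfl⟩ := (push f F).presheaf.exists_germ_eq n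
  obtain ⟨a, haW, hsa⟩ := hV.exists_basicOpen_le (V := W) ⟨s, hsW⟩ hs
  set t₁ : Γ(push f F, S.basicOpen a) := ((push f F).presheaf.map (homOfLE haW).op).hom t with ht₁
  have hgt₁ : ((push f F).presheaf.germ (S.basicOpen a) s hsa).hom t₁ =
      ((push f F).presheaf.germ W s hsW).hom t :=
    TopCat.Presheaf.germ_res_apply (push f F).presheaf (homOfLE haW) s hsa t
  have heq : f ⁻¹ᵁ S.basicOpen a = X.basicOpen ((f.app V).hom a) := Scheme.preimage_basicOpen f a
  set t₂ : Γ(F, X.basicOpen ((f.app V).hom a)) :=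
    (F.presheaf.map (homOfLE heq.ge).op).hom (show Γ(F, f ⁻¹ᵁ S.basicOpen a) from t₁) with ht₂
  obtain ⟨k, m, hm⟩ := exists_pow_smul_eq_map_of_isAffineOpen hU F ((f.app V).hom a) t₂
  refine ⟨a ^ k, (show Γ(push f F, V) from m), ?_, ?_⟩
  · intro hmem
    have hp : (hV.primeIdealOf ⟨s, hs⟩).asIdeal.IsPrime := inferInstance
    exact (mem_basicOpen_iff hV s hs a).1 hsa (hp.mem_of_pow_mem k hmem)
  · -- restrict the identity `hm` back to `f⁻¹ D(a)`
    have hm' := congrArg (F.presheaf.map (homOfLE heq.le).op).hom hm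
    rw [map_map F (X.basicOpen_le _) heq.le m, Scheme.Modules.map_smul, ht₂,
      map_map F heq.ge heq.le, map_self] at hm'
    -- now an identity in Γ(G, D(a))
    have hm'' : ((push f F).presheaf.map (homOfLE (S.basicOpen_le a)).op).hom
        (show Γ(push f F, V) from m) =
        ((S.presheaf.map (homOfLE (S.basicOpen_le a)).op).hom a) ^ k • t₁ := by
      rw [push_smul]
      refine hm'.trans ?_
      congr 1
      simp only [map_pow]
      congr 1
      exact (res_res (X.basicOpen_le _) heq.le _).trans (app_res f (S.basicOpen_le a) a).symm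
    have e1 := congrArg ((push f F).presheaf.germ (S.basicOpen a) s hsa).hom hm''
    rw [TopCat.Presheaf.germ_res_apply] at e1
    rw [e1, germ_smul', hgt₁, map_pow, map_pow, TopCat.Presheaf.germ_res_apply]

/-- the localization data of the pushforward of a quasi-coherent module at a point of an affine
open with affine preimage -/
theorem locData_push [F.IsQuasicoherent] {V : S.Opens} (hV : IsAffineOpen V)
    (hU : IsAffineOpen (f ⁻¹ᵁ V)) (s : S) (hs : s ∈ V) :
    letI := TopCat.Presheaf.algebra_section_stalk S.presheaf (⟨s, hs⟩ : V)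
    LocData Γ(S, V) (hV.primeIdealOf ⟨s, hs⟩).asIdeal (S.presheaf.stalk s) Γ(push f F, V)
      ((push f F).presheaf.stalk s) ((push f F).presheaf.germ V s hs).hom := by
  letI := TopCat.Presheaf.algebra_section_stalk S.presheaf (⟨s, hs⟩ : V)
  exact ⟨fun a m => germ_smul' (push f F) V s hs a m, fun m h => ker_germ_push f F hV hU s hs m h,
    fun n => surj_germ_push f F hV hU s hs n⟩

theorem isWeakAssPoint_push_iff [F.IsQuasicoherent] {V : S.Opens} (hV : IsAffineOpen V)
    (hU : IsAffineOpen (f ⁻¹ᵁ V)) (s : S) (hs : s ∈ V) :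
    Curv2.IsWeakAssPoint (push f F) s ↔
      ∃ m : Γ(push f F, V), (hV.primeIdealOf ⟨s, hs⟩).asIdeal ∈ (ann Γ(S, V) m).minimalPrimes := by
  letI := TopCat.Presheaf.algebra_section_stalk S.presheaf (⟨s, hs⟩ : V)
  haveI : IsLocalization.AtPrime (S.presheaf.stalk s) (hV.primeIdealOf ⟨s, hs⟩).asIdeal :=
    hV.isLocalization_stalk ⟨s, hs⟩
  exact (locData_push f F hV hU s hs).weakAss_iff

end Groth.Agent.Lib.helper16.QCohPush
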