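import Groth.Agent.Lib.Helper16.QCohPush
import Groth.Agent.S1580

/-!
# More on weakly associated points of pushforwards (helper16)

* `exists_weakAss_of_push`: for quasi-compact `f` and quasi-coherent `F`, a weakly associated point
  of `f_* F` is the image of a weakly associated point of `F`.
* `exists_eq_ann_of_minimal`: in a Noetherian ring a prime minimal over `Ann m` is `Ann m'`.
* `weakAss_push_of_noetherian`: if `V`, `f⁻¹V` are affine and `Γ(X, f⁻¹V)` is Noetherian, the image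
  of a weakly associated point of `F` in `f⁻¹V` is weakly associated to `f_* F`.
-/

set_option autoImplicit false
universe u
open CategoryTheory CategoryTheory.Limits AlgebraicGeometry TopologicalSpace Opposite

namespace Groth.Agent.Lib.helper16.QCohPush2

open Groth.Agent.Lib.helper7 Groth.Agent.Lib.helper28
open Groth.Agent.Lib.helper16.QCohAss Groth.Agent.Lib.helper16.QCohPush
open Groth.Agent.S1580

variable {X S : Scheme.{u}} (f : X ⟶ S) (F : X.Modules)

theorem main_aux' [F.IsQuasicoherent] {V : S.Opens} (hV : IsAffineOpen V)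
    (hU : IsCompact (f ⁻¹ᵁ V : X.Opens).1) (s : S) (hs : s ∈ V) (m' : Γ(F, f ⁻¹ᵁ V))
    (hm : (hV.primeIdealOf ⟨s, hs⟩).asIdeal ∈
      ((ann Γ(X, f ⁻¹ᵁ V) m').comap (f.app V).hom).minimalPrimes) :
    ∃ x : X, f x = s ∧ Curv2.IsWeakAssPoint F x := by
  classical
  obtain ⟨T, hT, e⟩ := isCompact_and_isOpen_iff_finite_and_eq_biUnion_affineOpens.mp
    ⟨hU, (f ⁻¹ᵁ V).2⟩
  have hle : ∀ W ∈ T, (W : X.Opens) ≤ f ⁻¹ᵁ V := by
    intro W hW x hx
    have : x ∈ ⋃ i ∈ T, ((i : X.Opens) : Set X) := Set.mem_biUnion hW hx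
    rw [← e] at this
    exact this
  let J : X.affineOpens → Ideal Γ(S, V) := fun W =>
    if h : (W : X.Opens) ≤ f ⁻¹ᵁ V then
      (ann Γ(X, W) ((F.presheaf.map (homOfLE h).op).hom m')).comap (psi f h) else ⊤
  have hJ : ∀ (W : X.affineOpens) (h : (W : X.Opens) ≤ f ⁻¹ᵁ V), J W =
      (ann Γ(X, W) ((F.presheaf.map (homOfLE h).op).hom m')).comap (psi f h) := by
    intro W h
    simp only [J, dif_pos h]
  have hann : (ann Γ(X, f ⁻¹ᵁ V) m').comap (f.app V).hom = hT.toFinset.inf J := by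
    ext a
    rw [Submodule.mem_finsetInf, Ideal.mem_comap, mem_ann]
    constructor
    · intro ha W hW
      rw [Set.Finite.mem_toFinset] at hW
      rw [hJ W (hle W hW), Ideal.mem_comap, mem_ann]
      have := congrArg (F.presheaf.map (homOfLE (hle W hW)).op).hom ha
      rw [Scheme.Modules.map_smul, map_zero] at this
      exact this
    · intro ha
      apply section_eq_zero_of_germ_eq_zero F (f ⁻¹ᵁ V)
      intro x hx
      have hx' : x ∈ ⋃ i ∈ T, ((i : X.Opens) : Set X) := by rw [← e]; exact hx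
      simp only [Set.mem_iUnion] at hx'
      obtain ⟨W, hW, hxW⟩ := hx'
      have h1 := ha W (by rw [Set.Finite.mem_toFinset]; exact hW)
      rw [hJ W (hle W hW), Ideal.mem_comap, mem_ann] at h1
      have h2 : (F.presheaf.map (homOfLE (hle W hW)).op).hom ((f.app V).hom a • m') = 0 := by
        rw [Scheme.Modules.map_smul]; exact h1
      rw [← TopCat.Presheaf.germ_res_apply F.presheaf (homOfLE (hle W hW)) x hxW]
      have h2' : (F.presheaf.map (homOfLE (hle W hW)).op) ((f.app V).hom a • m') = 0 := h2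
      rw [h2', map_zero]
  haveI hpp : (hV.primeIdealOf ⟨s, hs⟩).asIdeal.IsPrime := inferInstance
  have h1 : hT.toFinset.inf J ≤ (hV.primeIdealOf ⟨s, hs⟩).asIdeal := hann ▸ hm.1.2
  obtain ⟨W, hW, hJW⟩ := (Ideal.IsPrime.inf_le' hpp).1 h1
  rw [Set.Finite.mem_toFinset] at hW
  have hmin : (hV.primeIdealOf ⟨s, hs⟩).asIdeal ∈ (J W).minimalPrimes := by
    refine ⟨⟨hpp, hJW⟩, ?_⟩
    rintro q ⟨hq, hJq⟩ hqp
    apply hm.2 ⟨hq, ?_⟩ hqp
    rw [hann]
    exact (Finset.inf_le (by rw [Set.Finite.mem_toFinset]; exact hW)).trans hJq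
  rw [hJ W (hle W hW)] at hmin
  obtain ⟨q, hq, hqp⟩ := Ideal.exists_minimalPrimes_comap_eq (psi f (hle W hW)) _ hmin
  haveI := hq.1.1
  refine ⟨W.2.fromSpec ⟨q, hq.1.1⟩, ?_, ?_⟩
  · rw [map_fromSpec' f hV W.2 (hle W hW)]
    have : (⟨Ideal.comap (psi f (hle W hW)) q, Ideal.comap_isPrime _ _⟩ : PrimeSpectrum Γ(S, V)) =
        hV.primeIdealOf ⟨s, hs⟩ := PrimeSpectrum.ext hqp
    rw [this, hV.fromSpec_primeIdealOf ⟨s, hs⟩]
  · rw [isWeakAssPoint_iff F W.2 _ (fromSpec_mem W.2 ⟨q, hq.1.1⟩)]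
    refine ⟨(F.presheaf.map (homOfLE (hle W hW)).op).hom m', ?_⟩
    rw [primeIdealOf_fromSpec W.2 ⟨q, hq.1.1⟩]
    exact hq

/-- weakly associated points of a pushforward along a quasi-compact morphism come from weakly
associated points -/
theorem exists_weakAss_of_push [QuasiCompact f] [F.IsQuasicoherent] (s : S)
    (hs : Curv2.IsWeakAssPoint (push f F) s) :
    ∃ x : X, f x = s ∧ Curv2.IsWeakAssPoint F x := by
  obtain ⟨n, hn⟩ := hs
  obtain ⟨W, hsW, t, rfl⟩ := (push f F).presheaf.exists_germ_eq n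
  obtain ⟨_, ⟨V, hV, rfl⟩, hsV, hVW⟩ :=
    S.isBasis_affineOpens.exists_subset_of_mem_open (show s ∈ (W : Set S) from hsW) W.2
  have hVW' : V ≤ W := hVW
  set m : Γ(push f F, V) := ((push f F).presheaf.map (homOfLE hVW').op).hom t with hm
  have hgm : ((push f F).presheaf.germ V s hsV).hom m = ((push f F).presheaf.germ W s hsW).hom t :=
    TopCat.Presheaf.germ_res_apply (push f F).presheaf (homOfLE hVW') s hsV t
  have hU : IsCompact (f ⁻¹ᵁ V : X.Opens).1 := f.isCompact_preimage hV.isCompact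
  letI := TopCat.Presheaf.algebra_section_stalk S.presheaf (⟨s, hsV⟩ : V)
  haveI : IsLocalization.AtPrime (S.presheaf.stalk s) (hV.primeIdealOf ⟨s, hsV⟩).asIdeal :=
    hV.isLocalization_stalk ⟨s, hsV⟩
  have hmin := (preLocData_push f F hV hU s hsV).minimal_of_radical_ann m (by rw [hgm]; exact hn)
  have hann : ann Γ(S, V) m =
      (ann Γ(X, f ⁻¹ᵁ V) (show Γ(F, f ⁻¹ᵁ V) from m)).comap (f.app V).hom := by
    ext a
    rw [Ideal.mem_comap, mem_ann, mem_ann, push_smul]
    exact Iff.rfl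
  rw [hann] at hmin
  exact main_aux' f F hV hU s hsV _ hmin

/-- in a Noetherian ring a prime minimal over an annihilator is an annihilator -/
theorem exists_eq_ann_of_minimal {B : Type*} [CommRing B] [IsNoetherianRing B] {M : Type*}
    [AddCommGroup M] [Module B M] (q : Ideal B) (m : M) (hq : q ∈ (ann B m).minimalPrimes) :
    ∃ m' : M, q = ann B m' := by
  have h1 : ann B m = (⊥ : Submodule B M).colon {m} := by
    ext r
    rw [mem_ann, Submodule.mem_colon_singleton, Submodule.mem_bot]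
  rw [h1] at hq
  obtain ⟨m', hm'⟩ := Submodule.exists_eq_colon_of_mem_minimalPrimes hq
  refine ⟨m', ?_⟩
  rw [hm']
  ext r
  rw [mem_ann, Submodule.mem_colon_singleton, Submodule.mem_bot]

/-- image of a weakly associated point under a morphism, Noetherian case -/
theorem weakAss_push_of_noetherian [F.IsQuasicoherent] {V : S.Opens} (hV : IsAffineOpen V)
    (hU : IsAffineOpen (f ⁻¹ᵁ V)) [IsNoetherianRing Γ(X, f ⁻¹ᵁ V)] (x : X) (hx : x ∈ f ⁻¹ᵁ V)
    (hxF : Curv2.IsWeakAssPoint F x) : Curv2.IsWeakAssPoint (push f F) (f x) := by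
  have hsV : f x ∈ V := hx
  obtain ⟨m, hm⟩ := (isWeakAssPoint_iff F hU x hx).1 hxF
  obtain ⟨m', hm'⟩ := exists_eq_ann_of_minimal _ m hm
  rw [isWeakAssPoint_push_iff f F hV hU (f x) hsV]
  refine ⟨m', ?_⟩
  have hann : ann Γ(S, V) (show Γ(push f F, V) from m') =
      (ann Γ(X, f ⁻¹ᵁ V) m').comap (f.app V).hom := by
    ext a
    rw [Ideal.mem_comap, mem_ann, mem_ann, push_smul]
    exact Iff.rfl
  rw [hann, ← hm']
  have hprime : (hV.primeIdealOf ⟨f x, hsV⟩).asIdeal =
      (hU.primeIdealOf ⟨x, hx⟩).asIdeal.comap (f.app V).hom := by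
    have h1 := map_fromSpec' f hV hU le_rfl (hU.primeIdealOf ⟨x, hx⟩)
    rw [hU.fromSpec_primeIdealOf ⟨x, hx⟩] at h1
    have h2 : hV.primeIdealOf ⟨f x, hsV⟩ =
        ⟨(hU.primeIdealOf ⟨x, hx⟩).asIdeal.comap (psi f le_rfl), Ideal.comap_isPrime _ _⟩ := by
      apply hV.fromSpec.isOpenEmbedding.injective
      rw [hV.fromSpec_primeIdealOf ⟨f x, hsV⟩]
      exact h1
    rw [h2]
    change Ideal.comap (psi f le_rfl) _ = _
    congr 1
    ext a
    simp [psi]
  rw [hprime]
  haveI : ((hU.primeIdealOf ⟨x, hx⟩).asIdeal.comap (f.app V).hom).IsPrime :=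
    Ideal.comap_isPrime _ _
  rw [Ideal.minimalPrimes_eq_subsingleton_self]
  rfl

end Groth.Agent.Lib.helper16.QCohPush2
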