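import Groth.Agent.Lib.Helper7.QCohPushQC
import Groth.Agent.Lib.Helper16.QCohAss

/-!
# Quasi-coherence of pushforwards, checked locally on the target (helper16)

* `isQuasicoherent_of_loc_cover`: the localization criterion of helper7 (`QCohLoc`), needed only
  on an affine open cover.
* `push_hinj`, `push_hsurj`: the two localization properties for `f_* F` over an affine open `V`
  of the target whose preimage is quasi-compact (and quasi-separated).
* `isQuasicoherent_push_of_cover`: `f_* F` is quasi-coherent if the target has an affine open cover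
  `W i` such that each `f⁻¹(W i)` is qcqs or `F` has no nonzero sections inside `f⁻¹(W i)`.
* `finite_push_sections_of_surjective`.
-/

set_option autoImplicit false
universe u
open CategoryTheory CategoryTheory.Limits AlgebraicGeometry TopologicalSpace Opposite
open Scheme.Modules Groth.Agent.Lib.helper7 Groth.Agent.Lib.helper16.QCohPush

namespace Groth.Agent.Lib.helper16.QCohPushLoc

/-- **Localization criterion for quasi-coherence, on an affine open cover.** -/
theorem isQuasicoherent_of_loc_cover {X : Scheme.{u}} (G : X.Modules) {ι : Type u}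
    (W : ι → X.Opens) (hW : ∀ i, IsAffineOpen (W i)) (hcov : ⨆ i, W i = ⊤)
    (hinj : ∀ (i : ι) (f : Γ(X, W i)) (s : Γ(G, W i)),
      G.presheaf.map (homOfLE (X.basicOpen_le f)).op s = 0 → ∃ n : ℕ, f ^ n • s = 0)
    (hsurj : ∀ (i : ι) (f : Γ(X, W i)) (t : Γ(G, X.basicOpen f)),
      ∃ (n : ℕ) (s : Γ(G, W i)),
      G.presheaf.map (homOfLE (X.basicOpen_le f)).op s =
        (X.presheaf.map (homOfLE (X.basicOpen_le f)).op f) ^ n • t) :
    G.IsQuasicoherent := by
  refine CohKer.isQuasicoherent_of_presentations G W hcov (fun i => Nonempty.some ?_)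
  refine CohKer.exists_presentation_restrict G (hW i) ?_
  rw [isQuasicoherent_iff_isIso_fromTildeΓ, isIso_fromTildeΓ_iff_isLocalizing]
  exact QCohLoc.isLocalizing_restrict_of (hW i) G (hinj i) (hsurj i)

variable {X Y : Scheme.{u}} (f : X ⟶ Y) (F : X.Modules)

theorem push_hinj [F.IsQuasicoherent] {V : Y.Opens} (hc : IsCompact (f ⁻¹ᵁ V).1)
    (g : Γ(Y, V)) (s : Γ(push f F, V))
    (hs : (push f F).presheaf.map (homOfLE (Y.basicOpen_le g)).op s = 0) :
    ∃ n : ℕ, g ^ n • s = 0 := by
  have heq : f ⁻¹ᵁ Y.basicOpen g = X.basicOpen ((f.app V).hom g) := Scheme.preimage_basicOpen f g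
  have hs' : (F.presheaf.map (homOfLE (preimage_mono f (Y.basicOpen_le g))).op).hom
      (show Γ(F, f ⁻¹ᵁ V) from s) = 0 := hs
  obtain ⟨n, hn⟩ := exists_pow_smul_eq_zero_of_isCompact F hc ((f.app V).hom g)
    (show Γ(F, f ⁻¹ᵁ V) from s) (by
      rw [← map_map F (preimage_mono f (Y.basicOpen_le g)) heq.ge, hs', map_zero])
  refine ⟨n, ?_⟩
  rw [push_smul, map_pow]
  exact hn

theorem push_hsurj [F.IsQuasicoherent] {V : Y.Opens} (hc : IsCompact (f ⁻¹ᵁ V).1)
    (hqs : IsQuasiSeparated (f ⁻¹ᵁ V).1)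
    (g : Γ(Y, V)) (t : Γ(push f F, Y.basicOpen g)) :
    ∃ (n : ℕ) (s : Γ(push f F, V)),
      (push f F).presheaf.map (homOfLE (Y.basicOpen_le g)).op s =
        (Y.presheaf.map (homOfLE (Y.basicOpen_le g)).op g) ^ n • t := by
  have heq : f ⁻¹ᵁ Y.basicOpen g = X.basicOpen ((f.app V).hom g) := Scheme.preimage_basicOpen f g
  obtain ⟨n, s, hs⟩ := exists_pow_smul_eq_map_of_isCompact_of_isQuasiSeparated F hc hqs
    ((f.app V).hom g) (F.presheaf.map (homOfLE heq.ge).op (show Γ(F, f ⁻¹ᵁ Y.basicOpen g) from t))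
  refine ⟨n, (show Γ(push f F, V) from s), ?_⟩
  have goal' : F.presheaf.map (homOfLE (preimage_mono f (Y.basicOpen_le g))).op s =
      ((f.app (Y.basicOpen g)).hom ((Y.presheaf.map (homOfLE (Y.basicOpen_le g)).op).hom g ^ n) •
        (@id Γ(F, f ⁻¹ᵁ Y.basicOpen g) t) : Γ(F, f ⁻¹ᵁ Y.basicOpen g)) := by
    apply map_injective_of_eq F heq
    rw [map_map]
    refine hs.trans ?_
    rw [Scheme.Modules.map_smul]
    congr 1
    rw [map_pow, map_pow]
    congr 1
    rw [app_res]
    exact (Groth.Agent.Lib.helper16.QCohPush.res_res _ _ _).symm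
  exact goal'

/-- `f_* F` is quasi-coherent as soon as the target has an affine open cover `W i` such that each
`f⁻¹(W i)` is quasi-compact and quasi-separated, or `F` has only zero sections on opens inside
`f⁻¹(W i)`. -/
theorem isQuasicoherent_push_of_cover [F.IsQuasicoherent] {ι : Type u}
    (W : ι → Y.Opens) (hW : ∀ i, IsAffineOpen (W i)) (hcov : ⨆ i, W i = ⊤)
    (h : ∀ i, (IsCompact (f ⁻¹ᵁ W i).1 ∧ IsQuasiSeparated (f ⁻¹ᵁ W i).1) ∨
      (∀ V' : X.Opens, V' ≤ f ⁻¹ᵁ W i → Subsingleton Γ(F, V'))) :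
    ((Scheme.Modules.pushforward f).obj F).IsQuasicoherent := by
  refine isQuasicoherent_of_loc_cover (push f F) W hW hcov ?_ ?_
  · intro i g s hs
    rcases h i with ⟨hc, -⟩ | hz
    · exact push_hinj f F hc g s hs
    · haveI : Subsingleton Γ(F, f ⁻¹ᵁ W i) := hz _ le_rfl
      refine ⟨0, ?_⟩
      exact Subsingleton.elim (α := Γ(F, f ⁻¹ᵁ W i)) _ _
  · intro i g t
    rcases h i with ⟨hc, hqs⟩ | hz
    · exact push_hsurj f F hc hqs g t
    · haveI : Subsingleton Γ(F, f ⁻¹ᵁ Y.basicOpen g) :=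
        hz _ (preimage_mono f (Y.basicOpen_le g))
      refine ⟨0, (0 : Γ(push f F, W i)), ?_⟩
      exact Subsingleton.elim (α := Γ(F, f ⁻¹ᵁ Y.basicOpen g)) _ _

/-- if all stalks of `F` at points of `V` vanish, `F` has only the zero section over `V`. -/
theorem subsingleton_sections_of_stalks (V : X.Opens)
    (h : ∀ x ∈ V, Subsingleton (ToType (F.presheaf.stalk x))) : Subsingleton Γ(F, V) := by
  refine ⟨fun a b => ?_⟩
  have : a - b = 0 := by
    apply QCohAss.section_eq_zero_of_germ_eq_zero F V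
    intro x hx
    haveI := h x hx
    exact Subsingleton.elim _ _
  exact sub_eq_zero.mp this

/-- Finiteness of sections of a pushforward when the ring map on sections is surjective. -/
theorem finite_push_sections_of_surjective {V : Y.Opens}
    (hsurj : Function.Surjective (f.app V).hom)
    [hfin : Module.Finite Γ(X, f ⁻¹ᵁ V) Γ(F, f ⁻¹ᵁ V)] :
    Module.Finite Γ(Y, V) Γ(push f F, V) := by
  obtain ⟨S, hS⟩ := hfin.1
  refine ⟨⟨S, ?_⟩⟩
  rw [eq_top_iff]
  rintro (m : Γ(F, f ⁻¹ᵁ V)) -
  have hm : m ∈ Submodule.span Γ(X, f ⁻¹ᵁ V) (S : Set Γ(F, f ⁻¹ᵁ V)) := by rw [hS]; trivial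
  induction hm using Submodule.span_induction with
  | mem x hx => exact Submodule.subset_span hx
  | zero => exact Submodule.zero_mem _
  | add x y _ _ hx hy => exact Submodule.add_mem _ hx hy
  | smul a x _ hx =>
    obtain ⟨b, rfl⟩ := hsurj a
    exact Submodule.smul_mem _ b hx

end Groth.Agent.Lib.helper16.QCohPushLoc
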