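import Mathlib

import Groth.Agent.Lib.Helper7.CohKer
import Groth.Agent.Lib.Helper7.QCohExt

/-!
# Finite limits of quasi-coherent modules (helper16)

* `isQuasicoherent_of_iso`
* `isQuasicoherent_biprod`: `A ⊞ B` quasi-coherent
* `isQuasicoherent_pullback`: fibre product `pullback f g` of quasi-coherent modules is quasi-coherent
-/

set_option autoImplicit false
universe u
open CategoryTheory CategoryTheory.Limits AlgebraicGeometry

namespace Groth.Agent.Lib.helper16.QCohFibre
open Groth.Agent.Lib.helper7

theorem isQuasicoherent_of_iso {X : Scheme.{u}} {A B : X.Modules} (e : A ≅ B)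
    [hA : A.IsQuasicoherent] : B.IsQuasicoherent :=
  (SheafOfModules.isQuasicoherent X.ringCatSheaf).prop_of_iso e hA

/-- binary biproduct of quasi-coherent modules is quasi-coherent -/
theorem isQuasicoherent_biprod {X : Scheme.{u}} (A B : X.Modules)
    [A.IsQuasicoherent] [B.IsQuasicoherent] : (A ⊞ B).IsQuasicoherent := by
  let S : ShortComplex X.Modules := ShortComplex.mk (biprod.inl : A ⟶ A ⊞ B) biprod.snd (by simp)
  have hS : S.ShortExact := by
    have hsp : S.Splitting :=
      { r := biprod.fst
        s := biprod.inr
        f_r := by simp [S]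
        s_g := by simp [S]
        id := by simp [S] }
    exact hsp.shortExact
  haveI : S.X₁.IsQuasicoherent := inferInstanceAs A.IsQuasicoherent
  haveI : S.X₃.IsQuasicoherent := inferInstanceAs B.IsQuasicoherent
  exact QCohExt.isQuasicoherent_of_extension S hS

/-- fibre product of quasi-coherent modules is quasi-coherent -/
theorem isQuasicoherent_pullback {X : Scheme.{u}} {A B C : X.Modules}
    [A.IsQuasicoherent] [B.IsQuasicoherent] [C.IsQuasicoherent] (f : A ⟶ C) (g : B ⟶ C) :
    (pullback f g).IsQuasicoherent := by
  haveI := isQuasicoherent_biprod A B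
  haveI : (kernel (biprod.desc f (-g))).IsQuasicoherent := CohKer.isQuasicoherent_kernel _
  -- pullback f g ≅ kernel (A ⊞ B → C)
  have hlim : IsLimit (PullbackCone.mk (f := f) (g := g)
      (kernel.ι (biprod.desc f (-g)) ≫ biprod.fst) (kernel.ι (biprod.desc f (-g)) ≫ biprod.snd)
      (by
        have h := kernel.condition (biprod.desc f (-g))
        have h2 : kernel.ι (biprod.desc f (-g)) ≫ (biprod.fst ≫ f - biprod.snd ≫ g) = 0 := by
          have : (biprod.fst ≫ f - biprod.snd ≫ g : A ⊞ B ⟶ C) = biprod.desc f (-g) := by
            apply biprod.hom_ext' <;> simp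
          rw [this, h]
        rw [Preadditive.comp_sub, sub_eq_zero] at h2
        simpa using h2)) := by
    refine PullbackCone.IsLimit.mk _ (fun s => kernel.lift _ (biprod.lift s.fst s.snd) (by
      simp [s.condition])) (fun s => by simp) (fun s => by simp) ?_
    intro s m h1 h2
    apply (cancel_mono (kernel.ι (biprod.desc f (-g)))).1
    apply biprod.hom_ext
    · simpa using h1
    · simpa using h2
  exact isQuasicoherent_of_iso (A := kernel (biprod.desc f (-g)))
    (hlim.conePointUniqueUpToIso (limit.isLimit _))


end Groth.Agent.Lib.helper16.QCohFibre
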