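import Groth.Agent.Lib.Helper16.CohFinite
import Groth.Agent.Lib.Helper16.QCohPush

/-!
# Pushforward of quasi-coherent modules along affine morphisms (helper16)

`isLocalizing_push_restrict`, `exists_presentation_restrict`, `isQuasicoherent_of_cover`,
`isQuasicoherent_push`.
-/

set_option autoImplicit false
universe u
open CategoryTheory CategoryTheory.Limits AlgebraicGeometry TopologicalSpace Opposite

namespace Groth.Agent.Lib.helper16.QCohAffinePush

open Groth.Agent.Lib.helper7 Groth.Agent.Lib.helper16.QCohPush Groth.Agent.Lib.helper16.CohFinite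

variable {X Y : Scheme.{u}} (f : X ⟶ Y) (F : X.Modules)

section
variable {V : Y.Opens} (hV : IsAffineOpen V)

/-- the ring map `Γ(Y,V) → Γ(X, f⁻¹(fromSpec '' ⊤))` -/
noncomputable def phi : Γ(Y, V) →+* Γ(X, f ⁻¹ᵁ (hV.fromSpec ''ᵁ ⊤)) :=
  (f.app (hV.fromSpec ''ᵁ ⊤)).hom.comp (Y.presheaf.map (homOfLE (image_top_eq hV).le).op).hom

theorem key_smul (W : (Spec Γ(Y, V)).Opens) (r : Γ(Y, V))
    (y : Γ((push f F).restrict hV.fromSpec, W)) :
    r • y = (((X.presheaf.map (homOfLE (preimage_mono f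
      (Scheme.Hom.image_mono hV.fromSpec (le_top : W ≤ ⊤)))).op).hom (phi f hV r) •
        (show Γ(F, f ⁻¹ᵁ (hV.fromSpec ''ᵁ W)) from y) : Γ(F, f ⁻¹ᵁ (hV.fromSpec ''ᵁ W)))) := by
  rw [smul_eq hV (push f F) W r y]
  erw [push_smul]
  congr 1
  unfold phi
  rw [RingHom.comp_apply, ← app_res f (Scheme.Hom.image_mono hV.fromSpec (le_top : W ≤ ⊤)), res_res]


theorem isLocalizing_push_restrict [F.IsQuasicoherent]
    (hU : IsAffineOpen (f ⁻¹ᵁ V)) :
    IsLocalizing (modulesSpecToSheaf.obj ((push f F).restrict hV.fromSpec)) := by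
  intro g
  have e1 : hV.fromSpec ''ᵁ ⊤ = V := image_top_eq hV
  have e2 : hV.fromSpec ''ᵁ (PrimeSpectrum.basicOpen g) = Y.basicOpen g :=
    hV.fromSpec_image_basicOpen g
  have hU₀ : IsAffineOpen (f ⁻¹ᵁ (hV.fromSpec ''ᵁ ⊤)) := by rw [e1]; exact hU
  set g₀ := phi f hV g with hg₀
  have hle : f ⁻¹ᵁ (hV.fromSpec ''ᵁ (PrimeSpectrum.basicOpen g)) ≤ f ⁻¹ᵁ (hV.fromSpec ''ᵁ ⊤) :=
    preimage_mono f (Scheme.Hom.image_mono hV.fromSpec le_top)
  have he : f ⁻¹ᵁ (hV.fromSpec ''ᵁ (PrimeSpectrum.basicOpen g)) = X.basicOpen g₀ := by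
    rw [e2, hg₀]
    unfold phi
    rw [RingHom.comp_apply]
    erw [← Scheme.preimage_basicOpen]
    congr 1
    exact (Scheme.basicOpen_res_eq Y g (eqToHom e1).op).symm
  have L := isLocalizedModule_of_eq_basicOpen F hU₀ g₀ hle he
  letI := modOfLE F hle
  refine ⟨?_, ?_, ?_⟩
  · rintro ⟨_, n, rfl⟩
    have := Scheme.Modules.isUnit_algebraMap_end_of_le_basicOpen
      (M := (push f F).restrict hV.fromSpec) g (le_refl (PrimeSpectrum.basicOpen g))
    have h2 := this.pow n
    rw [← map_pow] at h2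
    exact h2
  · intro y
    obtain ⟨⟨x, ⟨_, n, rfl⟩⟩, hx⟩ := L.surj (show Γ(F, f ⁻¹ᵁ (hV.fromSpec ''ᵁ (PrimeSpectrum.basicOpen g))) from y)
    refine ⟨(x, ⟨g ^ n, n, rfl⟩), ?_⟩
    refine Eq.trans ?_ hx
    refine (key_smul f F hV _ (g ^ n) y).trans ?_
    rw [map_pow]
    rfl
  · intro x₁ x₂ hx
    obtain ⟨⟨_, n, rfl⟩, hn⟩ := L.exists_of_eq (x₁ := (show Γ(F, f ⁻¹ᵁ (hV.fromSpec ''ᵁ ⊤)) from x₁))
      (x₂ := (show Γ(F, f ⁻¹ᵁ (hV.fromSpec ''ᵁ ⊤)) from x₂)) hx
    refine ⟨⟨g ^ n, n, rfl⟩, ?_⟩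
    refine (key_smul f F hV _ (g ^ n) x₁).trans (Eq.trans ?_ (key_smul f F hV _ (g ^ n) x₂).symm)
    rw [map_pow]
    have hid : ∀ a : Γ(X, f ⁻¹ᵁ (hV.fromSpec ''ᵁ ⊤)),
        (X.presheaf.map (homOfLE (preimage_mono f
          (Scheme.Hom.image_mono hV.fromSpec (le_top : (⊤ : (Spec Γ(Y, V)).Opens) ≤ ⊤)))).op).hom a = a := by
      intro a
      have : (homOfLE (preimage_mono f
          (Scheme.Hom.image_mono hV.fromSpec (le_top : (⊤ : (Spec Γ(Y, V)).Opens) ≤ ⊤)))).op = 𝟙 _ := rfl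
      rw [this, X.presheaf.map_id]
      rfl
    rw [hid]
    exact hn


set_option backward.isDefEq.respectTransparency false in
include hV in
theorem exists_presentation_restrict [F.IsQuasicoherent] (hU : IsAffineOpen (f ⁻¹ᵁ V)) :
    Nonempty (SheafOfModules.Presentation ((push f F).restrict V.ι)) := by
  let N := (push f F).restrict hV.fromSpec
  have h1 : IsIso N.fromTildeΓ :=
    (isIso_fromTildeΓ_iff_isLocalizing N).mpr (isLocalizing_push_restrict f F hV hU)
  let P0 : SheafOfModules.Presentation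
      (tilde ((modulesSpecToSheaf.obj N).presheaf.obj (.op ⊤))) :=
    presentationTilde.{u} _ .univ (by simp) _ (Submodule.span_eq _)
  let P1 : SheafOfModules.Presentation N := P0.ofIsIso N.fromTildeΓ
  have : PreservesColimitsOfSize.{u, u} (Scheme.Modules.restrictFunctor hV.isoSpec.hom) :=
    inferInstance
  let P2 := P1.map (Scheme.Modules.restrictFunctor hV.isoSpec.hom)
    (Scheme.Modules.restrictUnitIso _).symm
  let iso : ((push f F).restrict hV.fromSpec).restrict hV.isoSpec.hom ≅ (push f F).restrict V.ι :=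
    ((Scheme.Modules.restrictFunctorComp hV.isoSpec.hom hV.fromSpec).app (push f F)).symm ≪≫
      (Scheme.Modules.restrictFunctorCongr (by simp)).app (push f F)
  exact ⟨P2.ofIsIso iso.hom⟩

end

/-- A module with presentations on an open cover is quasi-coherent. -/
theorem isQuasicoherent_of_cover {X : Scheme.{u}} (F : X.Modules) {ι : Type u} (W : ι → X.Opens)
    (hcov : ⨆ i, W i = ⊤)
    (P : ∀ i, SheafOfModules.Presentation (F.restrict (W i).ι)) : F.IsQuasicoherent := by
  let σ : SheafOfModules.QuasicoherentData (R := X.ringCatSheaf) F :=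
    { I := ι
      X := W
      coversTop := (Opens.coversTop_iff _ _).mpr hcov
      presentation := fun i => presOver F (W i) (P i) }
  exact σ.isQuasicoherent

/-- **Pushforward of a quasi-coherent module along an affine morphism is quasi-coherent.** -/
theorem isQuasicoherent_push [IsAffineHom f] [F.IsQuasicoherent] :
    (push f F).IsQuasicoherent := by
  have h : ∀ V : Y.affineOpens, Nonempty (SheafOfModules.Presentation ((push f F).restrict V.1.ι)) :=
    fun V => exists_presentation_restrict f F V.2 (V.2.preimage f)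
  exact isQuasicoherent_of_cover (push f F) (fun V : Y.affineOpens => V.1)
    (iSup_affineOpens_eq_top Y) (fun V => (h V).some)

end Groth.Agent.Lib.helper16.QCohAffinePush
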