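import Groth.Agent.Lib.Helper16.FLF4
import Groth.Agent.Lib.Helper11.InvMod

/-!
# Finite locally free modules: rank, restriction, pullback, biproducts (helper16, LT2)

* `freeModOneIso X : freeMod X 1 ≅ O_X`, `isInvertible_iff_isFinLocFreeOfRank_one`
* `isFinLocFree_of_isFinLocFreeOfRank`, `isFinLocFreeOfRank_of_iso`, `isFinLocFreeOfRank_freeMod`
* `isFinLocFreeOfRank_restrict`, `isFinLocFree_restrict` (open immersions)
* `pullbackFreeModIso f n`, `isFinLocFreeOfRank_pullback`, `isFinLocFree_pullback`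
* `freeModBiprodIso`, `isFinLocFreeOfRank_biprod`, `isFinLocFree_biprod`
* `finrank_stalk_of_isFinLocFreeOfRank`, `isFinLocFreeOfRank_iff_sections`
-/

set_option autoImplicit false
universe u
open CategoryTheory CategoryTheory.Limits AlgebraicGeometry TopologicalSpace Opposite

namespace Groth.Agent.Lib.helper16.FLF

open Scheme.Modules Groth.Agent.Lib.helper16.QCohPullback Groth.Agent.Lib.helper16.CohFinite
  Groth.Agent.Lib.helper16.CohFP Groth.Agent.Lib.helper16.CohStalk Groth.Agent.Lib.helper7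
  Groth.Agent.Lib.helper11.InvMod

variable {X Y : Scheme.{u}}

/-- `O_X^1 ≅ O_X` -/
noncomputable def freeModOneIso (X : Scheme.{u}) : FlatMod.freeMod X 1 ≅ Coh.structureModule X :=
  coproductUniqueIso (fun _ : Fin 1 => Coh.structureModule X)

/-- **invertible = finite locally free of rank one** -/
theorem isInvertible_iff_isFinLocFreeOfRank_one (L : X.Modules) :
    PicF.IsInvertible L ↔ FlatMod.IsFinLocFreeOfRank 1 L := by
  constructor
  · intro h x
    obtain ⟨U, hx, ⟨e⟩⟩ := h x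
    exact ⟨U, hx, ⟨e ≪≫ (freeModOneIso _).symm⟩⟩
  · intro h x
    obtain ⟨U, hx, ⟨e⟩⟩ := h x
    exact ⟨U, hx, ⟨e ≪≫ freeModOneIso _⟩⟩

theorem isFinLocFree_of_isFinLocFreeOfRank {n : ℕ} {M : X.Modules}
    (h : FlatMod.IsFinLocFreeOfRank n M) : FlatMod.IsFinLocFree M := fun x => by
  obtain ⟨U, hx, e⟩ := h x
  exact ⟨U, n, hx, e⟩

theorem isFinLocFree_of_isInvertible {L : X.Modules} (h : PicF.IsInvertible L) :
    FlatMod.IsFinLocFree L :=
  isFinLocFree_of_isFinLocFreeOfRank ((isInvertible_iff_isFinLocFreeOfRank_one L).1 h)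

theorem isFinLocFreeOfRank_of_iso {n : ℕ} {M N : X.Modules} (e : M ≅ N)
    (h : FlatMod.IsFinLocFreeOfRank n M) : FlatMod.IsFinLocFreeOfRank n N := fun x => by
  obtain ⟨U, hx, ⟨i⟩⟩ := h x
  exact ⟨U, hx, ⟨(restrictFunctor U.ι).mapIso e.symm ≪≫ i⟩⟩

theorem isFinLocFreeOfRank_freeMod (X : Scheme.{u}) (n : ℕ) :
    FlatMod.IsFinLocFreeOfRank n (FlatMod.freeMod X n) :=
  fun _ => ⟨⊤, trivial, ⟨restrictFreeModIso (⊤ : X.Opens).ι n⟩⟩

theorem isFinLocFreeOfRank_structureModule (X : Scheme.{u}) :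
    FlatMod.IsFinLocFreeOfRank 1 (Coh.structureModule X) :=
  isFinLocFreeOfRank_of_iso (freeModOneIso X) (isFinLocFreeOfRank_freeMod X 1)

theorem isFinLocFree_structureModule (X : Scheme.{u}) :
    FlatMod.IsFinLocFree (Coh.structureModule X) :=
  isFinLocFree_of_isFinLocFreeOfRank (isFinLocFreeOfRank_structureModule X)

/-! ### restriction to opens -/

theorem isFinLocFreeOfRank_restrict (f : Y ⟶ X) [IsOpenImmersion f] {n : ℕ} {M : X.Modules}
    (h : FlatMod.IsFinLocFreeOfRank n M) : FlatMod.IsFinLocFreeOfRank n (M.restrict f) := by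
  intro y
  obtain ⟨U, hx, ⟨e⟩⟩ := h (f y)
  exact ⟨f ⁻¹ᵁ U, hx, ⟨restrictRestrictIso' f M U ≪≫ (restrictFunctor (f ∣_ U)).mapIso e ≪≫
    restrictFreeModIso (f ∣_ U) n⟩⟩

theorem isFinLocFree_restrict (f : Y ⟶ X) [IsOpenImmersion f] {M : X.Modules}
    (h : FlatMod.IsFinLocFree M) : FlatMod.IsFinLocFree (M.restrict f) := by
  intro y
  obtain ⟨U, n, hx, ⟨e⟩⟩ := h (f y)
  exact ⟨f ⁻¹ᵁ U, n, hx, ⟨restrictRestrictIso' f M U ≪≫ (restrictFunctor (f ∣_ U)).mapIso e ≪≫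
    restrictFreeModIso (f ∣_ U) n⟩⟩

/-! ### pullback -/

/-- the pullback of a free module is free -/
noncomputable def pullbackFreeModIso (f : Y ⟶ X) (n : ℕ) :
    (Scheme.Modules.pullback f).obj (FlatMod.freeMod X n) ≅ FlatMod.freeMod Y n := by
  haveI : PreservesColimitsOfSize.{0, 0} (Scheme.Modules.pullback f) :=
    (Scheme.Modules.pullbackPushforwardAdjunction f).leftAdjoint_preservesColimits
  exact PreservesCoproduct.iso (Scheme.Modules.pullback f) _ ≪≫
    Sigma.mapIso (fun _ => pullbackUnitIso f)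

theorem isFinLocFreeOfRank_pullback (f : Y ⟶ X) {n : ℕ} {M : X.Modules}
    (h : FlatMod.IsFinLocFreeOfRank n M) :
    FlatMod.IsFinLocFreeOfRank n ((Scheme.Modules.pullback f).obj M) := by
  intro y
  obtain ⟨U, hx, ⟨e⟩⟩ := h (f y)
  exact ⟨f ⁻¹ᵁ U, hx, ⟨pullbackRestrictIso f M U ≪≫
    (Scheme.Modules.pullback (f ∣_ U)).mapIso e ≪≫ pullbackFreeModIso (f ∣_ U) n⟩⟩

theorem isFinLocFree_pullback (f : Y ⟶ X) {M : X.Modules}
    (h : FlatMod.IsFinLocFree M) :
    FlatMod.IsFinLocFree ((Scheme.Modules.pullback f).obj M) := by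
  intro y
  obtain ⟨U, n, hx, ⟨e⟩⟩ := h (f y)
  exact ⟨f ⁻¹ᵁ U, n, hx, ⟨pullbackRestrictIso f M U ≪≫
    (Scheme.Modules.pullback (f ∣_ U)).mapIso e ≪≫ pullbackFreeModIso (f ∣_ U) n⟩⟩

/-! ### biproducts -/

/-- `O^m ⊞ O^n ≅ O^(m+n)` -/
noncomputable def freeModBiprodIso (X : Scheme.{u}) (m n : ℕ) :
    FlatMod.freeMod X m ⊞ FlatMod.freeMod X n ≅ FlatMod.freeMod X (m + n) := by
  let f₁ : Fin m → X.Modules := fun _ => Coh.structureModule X
  let f₂ : Fin n → X.Modules := fun _ => Coh.structureModule X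
  have h₁ : IsColimit (Cofan.mk (∐ f₁) (Sigma.ι f₁)) := coproductIsCoproduct f₁
  have h₂ : IsColimit (Cofan.mk (∐ f₂) (Sigma.ι f₂)) := coproductIsCoproduct f₂
  have h : IsColimit (BinaryBiproduct.bicone (∐ f₁) (∐ f₂)).toCocone :=
    BinaryBiproduct.isColimit _ _
  have hc := Cofan.combPairIsColimit h₁ h₂ h
  refine hc.coconePointUniqueUpToIso (coproductIsCoproduct (Sum.elim f₁ f₂)) ≪≫
    Sigma.whiskerEquiv (f := Sum.elim f₁ f₂) (g := fun _ : Fin (m + n) => Coh.structureModule X)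
      finSumFinEquiv (fun j => ?_)
  cases j <;> exact Iso.refl _

theorem isFinLocFreeOfRank_biprod {m n : ℕ} {M N : X.Modules}
    (hM : FlatMod.IsFinLocFreeOfRank m M) (hN : FlatMod.IsFinLocFreeOfRank n N) :
    FlatMod.IsFinLocFreeOfRank (m + n) (M ⊞ N) := by
  intro x
  obtain ⟨U, hxU, ⟨e⟩⟩ := hM x
  obtain ⟨V, hxV, ⟨e'⟩⟩ := hN x
  obtain ⟨i⟩ := restrict_iso_freeMod_of_le M (inf_le_left : U ⊓ V ≤ U) m e
  obtain ⟨i'⟩ := restrict_iso_freeMod_of_le N (inf_le_right : U ⊓ V ≤ V) n e'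
  haveI : PreservesColimitsOfSize.{0, 0} (restrictFunctor (U ⊓ V).ι) :=
    (restrictAdjunction (U ⊓ V).ι).leftAdjoint_preservesColimits
  haveI := preservesBinaryBiproducts_of_preservesBinaryCoproducts (restrictFunctor (U ⊓ V).ι)
  exact ⟨U ⊓ V, ⟨hxU, hxV⟩, ⟨(restrictFunctor (U ⊓ V).ι).mapBiprod M N ≪≫ biprod.mapIso i i' ≪≫
    freeModBiprodIso _ m n⟩⟩

theorem isFinLocFree_biprod {M N : X.Modules}
    (hM : FlatMod.IsFinLocFree M) (hN : FlatMod.IsFinLocFree N) :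
    FlatMod.IsFinLocFree (M ⊞ N) := by
  intro x
  obtain ⟨U, m, hxU, ⟨e⟩⟩ := hM x
  obtain ⟨V, n, hxV, ⟨e'⟩⟩ := hN x
  obtain ⟨i⟩ := restrict_iso_freeMod_of_le M (inf_le_left : U ⊓ V ≤ U) m e
  obtain ⟨i'⟩ := restrict_iso_freeMod_of_le N (inf_le_right : U ⊓ V ≤ V) n e'
  haveI : PreservesColimitsOfSize.{0, 0} (restrictFunctor (U ⊓ V).ι) :=
    (restrictAdjunction (U ⊓ V).ι).leftAdjoint_preservesColimits
  haveI := preservesBinaryBiproducts_of_preservesBinaryCoproducts (restrictFunctor (U ⊓ V).ι)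
  exact ⟨U ⊓ V, m + n, ⟨hxU, hxV⟩,
    ⟨(restrictFunctor (U ⊓ V).ι).mapBiprod M N ≪≫ biprod.mapIso i i' ≪≫
      freeModBiprodIso _ m n⟩⟩

/-! ### rank -/

theorem exists_affine_free_sections_of_isFinLocFreeOfRank {n : ℕ} (M : X.Modules)
    (hM : FlatMod.IsFinLocFreeOfRank n M) (x : X) :
    ∃ (U : X.Opens), IsAffineOpen U ∧ x ∈ U ∧
      Nonempty (M.restrict U.ι ≅ FlatMod.freeMod (↑U) n) ∧
      Nonempty (Γ(M, U) ≃ₗ[Γ(X, U)] (Fin n → Γ(X, U))) := by
  obtain ⟨U, hxU, ⟨iso⟩⟩ := hM x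
  obtain ⟨V, hV, hxV, hVU⟩ := Opens.isBasis_iff_nbhd.mp X.isBasis_affineOpens hxU
  obtain ⟨iso'⟩ := restrict_iso_freeMod_of_le M hVU n iso
  exact ⟨V, hV, hxV, ⟨iso'⟩, sections_of_restrict_iso_freeMod M hV n iso'⟩

/-- **Bridge, fixed rank**: a quasi-coherent module is finite locally free of rank `n` iff locally on
affine opens its module of sections is free of rank `n`. -/
theorem isFinLocFreeOfRank_iff_sections (M : X.Modules) [M.IsQuasicoherent] (n : ℕ) :
    FlatMod.IsFinLocFreeOfRank n M ↔ ∀ x : X, ∃ (U : X.Opens), IsAffineOpen U ∧ x ∈ U ∧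
      Nonempty (Γ(M, U) ≃ₗ[Γ(X, U)] (Fin n → Γ(X, U))) := by
  constructor
  · intro hM x
    obtain ⟨U, hU, hxU, -, hsec⟩ := exists_affine_free_sections_of_isFinLocFreeOfRank M hM x
    exact ⟨U, hU, hxU, hsec⟩
  · intro h x
    obtain ⟨U, hU, hxU, ⟨e⟩⟩ := h x
    exact ⟨U, hxU, restrict_iso_freeMod_of_sections M hU n e⟩

/-- the rank of a stalk is the rank of a free module of sections on an affine neighbourhood -/
theorem finrank_stalk_of_sections {n : ℕ} (M : X.Modules) [M.IsQuasicoherent] {U : X.Opens}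
    (hU : IsAffineOpen U) (x : X) (hx : x ∈ U) (e : Γ(M, U) ≃ₗ[Γ(X, U)] (Fin n → Γ(X, U))) :
    Module.finrank (X.presheaf.stalk x) (M.presheaf.stalk x) = n := by
  haveI : Module.Free Γ(X, U) Γ(M, U) := Module.Free.of_equiv e.symm
  haveI : Module.Finite Γ(X, U) Γ(M, U) := Module.Finite.equiv e.symm
  letI := TopCat.Presheaf.algebra_section_stalk X.presheaf (⟨x, hx⟩ : U)
  letI := modStalk M x hx
  haveI := isScalarTower_stalk M x hx
  haveI : IsLocalization.AtPrime (X.presheaf.stalk x) (hU.primeIdealOf ⟨x, hx⟩).asIdeal :=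
    hU.isLocalization_stalk ⟨x, hx⟩
  haveI := isLocalizedModule_stalk M hU x hx
  rw [Module.finrank_of_isLocalizedModule_of_free (X.presheaf.stalk x)
    (hU.primeIdealOf ⟨x, hx⟩).asIdeal.primeCompl (germLin M x hx), e.finrank_eq]
  haveI : Nontrivial Γ(X, U) := (algebraMap Γ(X, U) (X.presheaf.stalk x)).domain_nontrivial
  simp

/-- the stalks of a module finite locally free of rank `n` have rank `n` -/
theorem finrank_stalk_of_isFinLocFreeOfRank {n : ℕ} (M : X.Modules)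
    (hM : FlatMod.IsFinLocFreeOfRank n M) (x : X) :
    Module.finrank (X.presheaf.stalk x) (M.presheaf.stalk x) = n := by
  haveI := isQuasicoherent_of_isFinLocFree M (isFinLocFree_of_isFinLocFreeOfRank hM)
  obtain ⟨U, hU, hx, -, ⟨e⟩⟩ := exists_affine_free_sections_of_isFinLocFreeOfRank M hM x
  exact finrank_stalk_of_sections M hU x hx e

/-- the rank of a finite locally free module on a nonempty scheme is unique -/
theorem rank_unique_of_isFinLocFreeOfRank [Nonempty X] {m n : ℕ} (M : X.Modules)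
    (hm : FlatMod.IsFinLocFreeOfRank m M) (hn : FlatMod.IsFinLocFreeOfRank n M) : m = n := by
  obtain ⟨x⟩ := ‹Nonempty X›
  rw [← finrank_stalk_of_isFinLocFreeOfRank M hm x, finrank_stalk_of_isFinLocFreeOfRank M hn x]

/-- a finite locally free module is of rank `n` iff all its stalks have rank `n` -/
theorem isFinLocFreeOfRank_iff_finrank_stalk {n : ℕ} (M : X.Modules)
    (hM : FlatMod.IsFinLocFree M) :
    FlatMod.IsFinLocFreeOfRank n M ↔
      ∀ x : X, Module.finrank (X.presheaf.stalk x) (M.presheaf.stalk x) = n := by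
  refine ⟨fun h x => finrank_stalk_of_isFinLocFreeOfRank M h x, fun h x => ?_⟩
  haveI := isQuasicoherent_of_isFinLocFree M hM
  obtain ⟨U, m, hU, hxU, ⟨iso⟩, ⟨e⟩⟩ := exists_affine_free_sections_of_isFinLocFree M hM x
  have h1 := finrank_stalk_of_sections M hU x hxU e
  rw [h x] at h1
  subst h1
  exact ⟨U, hxU, ⟨iso⟩⟩

end Groth.Agent.Lib.helper16.FLF
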