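import Groth.Prelude.Def_FlatMod2
import Groth.Agent.Lib.Helper16.QCohPullback

/-!
# Finite locally free modules: bridge to sections (helper16)

* `freeModIso X n : FlatMod.freeMod X n ≅ SheafOfModules.free (ULift (Fin n))`
* `restrictFreeModIso f n : (freeMod X n).restrict f ≅ freeMod U n` for an open immersion `f : U ⟶ X`
* `tildeFreeModIso R n : tilde (R^n) ≅ freeMod (Spec R) n`
* `restrict_iso_freeMod_of_sections`: `M` qcoh, `U` affine, `Γ(M,U) ≃ₗ Γ(X,U)^n` ⇒ `M|_U ≅ freeMod U n`
* `sections_of_restrict_iso_freeMod`: the converse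
* `restrict_iso_freeMod_of_le`: shrink the open
* `isFinLocFree_iff_sections`: the bridge
-/

set_option autoImplicit false
universe u
open CategoryTheory CategoryTheory.Limits AlgebraicGeometry TopologicalSpace Opposite

namespace Groth.Agent.Lib.helper16.FLF

open Scheme.Modules Groth.Agent.Lib.helper16.QCohPullback

/-- `freeMod X n` is Mathlib's free sheaf of modules on `ULift (Fin n)`. -/
noncomputable def freeModIso (X : Scheme.{u}) (n : ℕ) :
    FlatMod.freeMod X n ≅ SheafOfModules.free (R := X.ringCatSheaf) (ULift.{u} (Fin n)) :=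
  Sigma.whiskerEquiv (f := fun _ : Fin n => Coh.structureModule X)
    (g := fun _ : ULift.{u} (Fin n) => SheafOfModules.unit X.ringCatSheaf)
    Equiv.ulift.symm (fun _ => Iso.refl _)

/-- restriction of a free module along an open immersion is free -/
noncomputable def restrictFreeIso {U X : Scheme.{u}} (f : U ⟶ X) [IsOpenImmersion f] (I : Type u) :
    (Scheme.Modules.restrictFunctor f).obj (SheafOfModules.free (R := X.ringCatSheaf) I) ≅
      SheafOfModules.free (R := U.ringCatSheaf) I := by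
  have h1 : PreservesColimitsOfSize.{u, u} (Scheme.Modules.restrictFunctor f) := inferInstance
  have h2 : PreservesColimitsOfShape (Discrete I) (Scheme.Modules.restrictFunctor f) :=
    PreservesColimitsOfSize.preservesColimitsOfShape
  exact (@SheafOfModules.mapFreeIso _ _ _ _ _ _ _ _ _ _ _ _ (Scheme.Modules.restrictFunctor f) I h2
    (Scheme.Modules.restrictUnitIso f).symm).symm

/-- restriction of `freeMod X n` along an open immersion is `freeMod U n` -/
noncomputable def restrictFreeModIso {U X : Scheme.{u}} (f : U ⟶ X) [IsOpenImmersion f] (n : ℕ) :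
    (FlatMod.freeMod X n).restrict f ≅ FlatMod.freeMod U n :=
  (Scheme.Modules.restrictFunctor f).mapIso (freeModIso X n) ≪≫ restrictFreeIso f _ ≪≫
    (freeModIso U n).symm

/-- `R^n` as a module in `ModuleCat` -/
noncomputable abbrev stdFree (R : CommRingCat.{u}) (n : ℕ) : ModuleCat.{u} R :=
  ModuleCat.of R (Fin n → R)

noncomputable def finsuppEquiv (R : Type u) [CommRing R] (n : ℕ) :
    (ULift.{u} (Fin n) →₀ R) ≃ₗ[R] (Fin n → R) :=
  (Finsupp.mapDomain.linearEquiv R R Equiv.ulift).trans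
    (Finsupp.linearEquivFunOnFinite R R (Fin n))

/-- the tilde of `R^n` is `freeMod (Spec R) n` -/
noncomputable def tildeFreeModIso (R : CommRingCat.{u}) (n : ℕ) :
    tilde (stdFree R n) ≅ FlatMod.freeMod (Spec R) n :=
  (tilde.functor R).mapIso (finsuppEquiv R n).symm.toModuleIso ≪≫
    tildeFinsupp (ULift.{u} (Fin n)) ≪≫ (freeModIso (Spec R) n).symm

variable {X : Scheme.{u}} (M : X.Modules) {U : X.Opens}

/-- `M|_U` from `M|_{Spec Γ(X,U)}` -/
noncomputable def restrictIsoSpecIso (hU : IsAffineOpen U) :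
    (M.restrict hU.fromSpec).restrict hU.isoSpec.hom ≅ M.restrict U.ι :=
  ((Scheme.Modules.restrictFunctorComp hU.isoSpec.hom hU.fromSpec).app M).symm ≪≫
    (Scheme.Modules.restrictFunctorCongr (by simp)).app M

/-- `M|_{Spec Γ(X,U)}` from `M|_U` -/
noncomputable def restrictIsoSpecIso' (hU : IsAffineOpen U) :
    (M.restrict U.ι).restrict hU.isoSpec.inv ≅ M.restrict hU.fromSpec :=
  ((Scheme.Modules.restrictFunctorComp hU.isoSpec.inv U.ι).app M).symm

/-- **Free sections over an affine open give a free restriction.** -/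
theorem restrict_iso_freeMod_of_sections [M.IsQuasicoherent] (hU : IsAffineOpen U) (n : ℕ)
    (e : Γ(M, U) ≃ₗ[Γ(X, U)] (Fin n → Γ(X, U))) :
    Nonempty (M.restrict U.ι ≅ FlatMod.freeMod (↑U) n) := by
  let e' : secMod M hU ≃ₗ[Γ(X, U)] (Fin n → Γ(X, U)) := (secEquiv M hU).symm ≪≫ₗ e
  let i1 : M.restrict hU.fromSpec ≅ tilde (secMod M hU) :=
    (asIso (M.restrict hU.fromSpec).fromTildeΓ).symm
  let i2 : tilde (secMod M hU) ≅ tilde (stdFree Γ(X, U) n) :=
    (tilde.functor Γ(X, U)).mapIso e'.toModuleIso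
  let i3 : M.restrict hU.fromSpec ≅ FlatMod.freeMod (Spec Γ(X, U)) n :=
    i1 ≪≫ i2 ≪≫ tildeFreeModIso Γ(X, U) n
  exact ⟨(restrictIsoSpecIso M hU).symm ≪≫
    (Scheme.Modules.restrictFunctor hU.isoSpec.hom).mapIso i3 ≪≫
    restrictFreeModIso hU.isoSpec.hom n⟩

/-- **A free restriction to an affine open has free sections.** -/
theorem sections_of_restrict_iso_freeMod (hU : IsAffineOpen U) (n : ℕ)
    (iso : M.restrict U.ι ≅ FlatMod.freeMod (↑U) n) :
    Nonempty (Γ(M, U) ≃ₗ[Γ(X, U)] (Fin n → Γ(X, U))) := by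
  let i1 : M.restrict hU.fromSpec ≅ FlatMod.freeMod (Spec Γ(X, U)) n :=
    (restrictIsoSpecIso' M hU).symm ≪≫
      (Scheme.Modules.restrictFunctor hU.isoSpec.inv).mapIso iso ≪≫
      restrictFreeModIso hU.isoSpec.inv n
  let i2 : M.restrict hU.fromSpec ≅ tilde (stdFree Γ(X, U) n) :=
    i1 ≪≫ (tildeFreeModIso Γ(X, U) n).symm
  let i3 : secMod M hU ≅ stdFree Γ(X, U) n :=
    moduleSpecΓFunctor.mapIso i2 ≪≫ (tilde.isoTop _).symm
  exact ⟨(secEquiv M hU) ≪≫ₗ i3.toLinearEquiv⟩

end Groth.Agent.Lib.helper16.FLF
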