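import Groth.Agent.Lib.Helper16.FLF6

/-!
# Finite locally free modules via fibre rank (helper16, LT2)

* `fibreRank M x`: the dimension of `κ(x) ⊗ M_x`
* `exists_affine_generators`: a finite type quasi-coherent module is generated near `x` by
  `fibreRank M x` sections (Nakayama)
-/

set_option autoImplicit false
universe u
open CategoryTheory CategoryTheory.Limits AlgebraicGeometry TopologicalSpace Opposite TensorProduct

namespace Groth.Agent.Lib.helper16.FLF

open Scheme.Modules Groth.Agent.Lib.helper16.QCohPullback Groth.Agent.Lib.helper16.CohFinite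
  Groth.Agent.Lib.helper16.CohFP Groth.Agent.Lib.helper16.CohStalk Groth.Agent.Lib.helper7
  Groth.Agent.Lib.helper16.QCohAss

/-- Nakayama: a finite module over a local ring is generated by `dim (k ⊗ P)` elements. -/
theorem exists_generators_of_local (R : Type*) [CommRing R] [IsLocalRing R] (P : Type*)
    [AddCommGroup P] [Module R P] [Module.Finite R P] :
    ∃ s : Fin (Module.finrank (IsLocalRing.ResidueField R) (IsLocalRing.ResidueField R ⊗[R] P)) → P,
      Submodule.span R (Set.range s) = ⊤ := by
  let b := Module.finBasis (IsLocalRing.ResidueField R) (IsLocalRing.ResidueField R ⊗[R] P)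
  have hsurj : Function.Surjective (TensorProduct.mk R (IsLocalRing.ResidueField R) P 1) :=
    TensorProduct.mk_surjective R P (IsLocalRing.ResidueField R) Ideal.Quotient.mk_surjective
  choose s hs using fun i => hsurj (b i)
  exact ⟨s, IsLocalRing.span_eq_top_of_tmul_eq_basis s b hs⟩

variable {X : Scheme.{u}} (M : X.Modules)

/-- the fibre rank of a module at a point -/
noncomputable def fibreRank (x : X) : ℕ :=
  Module.finrank (IsLocalRing.ResidueField (X.presheaf.stalk x))
    (TensorProduct (X.presheaf.stalk x) (IsLocalRing.ResidueField (X.presheaf.stalk x))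
      (M.presheaf.stalk x))

/-- stalks of a finite type quasi-coherent module are finitely generated -/
theorem finite_stalk_of_isFiniteType [M.IsQuasicoherent] (hft : CohB1.IsFT M) (x : X) :
    Module.Finite (X.presheaf.stalk x) (M.presheaf.stalk x) := by
  obtain ⟨U, hU, hx, -⟩ := Opens.isBasis_iff_nbhd.mp X.isBasis_affineOpens
    (show x ∈ (⊤ : X.Opens) from trivial)
  haveI := finite_sections_of_isFiniteType M hft hU
  letI := TopCat.Presheaf.algebra_section_stalk X.presheaf (⟨x, hx⟩ : U)
  letI := modStalk M x hx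
  haveI := isScalarTower_stalk M x hx
  haveI : IsLocalization.AtPrime (X.presheaf.stalk x) (hU.primeIdealOf ⟨x, hx⟩).asIdeal :=
    hU.isLocalization_stalk ⟨x, hx⟩
  haveI := isLocalizedModule_stalk M hU x hx
  exact Module.Finite.of_isLocalizedModule (hU.primeIdealOf ⟨x, hx⟩).asIdeal.primeCompl
      (germLin M x hx)

/-- generators of the stalk can be chosen as germs of sections over any affine neighbourhood -/
theorem exists_sections_span_stalk [M.IsQuasicoherent] {U : X.Opens} (hU : IsAffineOpen U) (x : X)
    (hx : x ∈ U) [Module.Finite (X.presheaf.stalk x) (M.presheaf.stalk x)] :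
    ∃ t : Fin (fibreRank M x) → Γ(M, U),
      Submodule.span (X.presheaf.stalk x)
        (Set.range fun i => (M.presheaf.germ U x hx).hom (t i)) = ⊤ := by
  obtain ⟨s, hs⟩ := exists_generators_of_local (X.presheaf.stalk x) (M.presheaf.stalk x)
  choose a m ha hm using fun i => surj_germ M hU x hx (s i)
  refine ⟨m, ?_⟩
  rw [eq_top_iff, ← hs, Submodule.span_le]
  rintro _ ⟨i, rfl⟩
  have hu : IsUnit ((X.presheaf.germ U x hx).hom (a i)) := by
    letI := TopCat.Presheaf.algebra_section_stalk X.presheaf (⟨x, hx⟩ : U)
    haveI : IsLocalization.AtPrime (X.presheaf.stalk x) (hU.primeIdealOf ⟨x, hx⟩).asIdeal :=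
      hU.isLocalization_stalk ⟨x, hx⟩
    exact IsLocalization.map_units (X.presheaf.stalk x)
      (⟨a i, ha i⟩ : (hU.primeIdealOf ⟨x, hx⟩).asIdeal.primeCompl)
  obtain ⟨v, hv⟩ := hu
  have : s i = (↑v⁻¹ : X.presheaf.stalk x) • (M.presheaf.germ U x hx).hom (m i) := by
    rw [← hm i, ← hv, smul_smul, Units.inv_mul, one_smul]
  rw [SetLike.mem_coe, this]
  exact Submodule.smul_mem _ _ (Submodule.subset_span ⟨i, rfl⟩)

/-- if the germs of `t` span the stalk at `x`, then some `f` with `x ∈ D(f)` multiplies all sections
into the span of `t` -/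
theorem exists_smul_mem_span [M.IsQuasicoherent] {U : X.Opens} (hU : IsAffineOpen U) (x : X)
    (hx : x ∈ U) [Module.Finite Γ(X, U) Γ(M, U)] {n : ℕ} (t : Fin n → Γ(M, U))
    (ht : Submodule.span (X.presheaf.stalk x)
      (Set.range fun i => (M.presheaf.germ U x hx).hom (t i)) = ⊤) :
    ∃ f : Γ(X, U), x ∈ X.basicOpen f ∧
      ∀ m : Γ(M, U), f • m ∈ Submodule.span Γ(X, U) (Set.range t) := by
  letI := TopCat.Presheaf.algebra_section_stalk X.presheaf (⟨x, hx⟩ : U)
  letI := modStalk M x hx
  haveI := isScalarTower_stalk M x hx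
  haveI : IsLocalization.AtPrime (X.presheaf.stalk x) (hU.primeIdealOf ⟨x, hx⟩).asIdeal :=
    hU.isLocalization_stalk ⟨x, hx⟩
  haveI := isLocalizedModule_stalk M hU x hx
  set P := hU.primeIdealOf ⟨x, hx⟩ with hP
  set N' := Submodule.span Γ(X, U) (Set.range t) with hN'
  have h1 : N'.localized' (X.presheaf.stalk x) P.asIdeal.primeCompl (germLin M x hx) = ⊤ := by
    rw [hN', Submodule.localized'_span, ← Set.range_comp]
    exact ht
  have hsupp : P ∉ Module.support Γ(X, U) (Γ(M, U) ⧸ N') := by
    rw [Module.notMem_support_iff']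
    intro q
    obtain ⟨m, rfl⟩ := Submodule.Quotient.mk_surjective _ q
    have hm : germLin M x hx m ∈
        N'.localized' (X.presheaf.stalk x) P.asIdeal.primeCompl (germLin M x hx) := by
      rw [h1]; trivial
    rw [Submodule.mem_localized'] at hm
    obtain ⟨m', hm', s, hs⟩ := hm
    rw [IsLocalizedModule.mk'_eq_iff] at hs
    have hs' : germLin M x hx m' = germLin M x hx ((s : Γ(X, U)) • m) := by
      rw [hs, _root_.map_smul]; rfl
    obtain ⟨c, hc⟩ := IsLocalizedModule.exists_of_eq (S := P.asIdeal.primeCompl) hs'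
    refine ⟨(c : Γ(X, U)) * (s : Γ(X, U)), ?_, ?_⟩
    · exact (P.asIdeal.primeCompl.mul_mem c.2 s.2)
    · rw [← Submodule.Quotient.mk_smul, Submodule.Quotient.mk_eq_zero, mul_smul]
      have : (c : Γ(X, U)) • (s : Γ(X, U)) • m = (c : Γ(X, U)) • m' := hc.symm
      rw [this]
      exact Submodule.smul_mem _ _ hm'
  rw [Module.mem_support_iff_of_finite, SetLike.not_le_iff_exists] at hsupp
  obtain ⟨f, hf, hfP⟩ := hsupp
  refine ⟨f, (Groth.Agent.Lib.helper28.mem_basicOpen_iff hU x hx f).2 hfP, fun m => ?_⟩
  have := Module.mem_annihilator.mp hf (Submodule.Quotient.mk m)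
  rwa [← Submodule.Quotient.mk_smul, Submodule.Quotient.mk_eq_zero] at this

/-- if `f` multiplies all sections over `U` into the span of `t`, then the restrictions of `t`
generate the sections over `D(f)` -/
theorem span_restrict_eq_top [M.IsQuasicoherent] {U : X.Opens} (hU : IsAffineOpen U)
    (f : Γ(X, U)) {n : ℕ} (t : Fin n → Γ(M, U))
    (hf : ∀ m : Γ(M, U), f • m ∈ Submodule.span Γ(X, U) (Set.range t)) :
    Submodule.span Γ(X, X.basicOpen f)
      (Set.range fun i => M.presheaf.map (homOfLE (X.basicOpen_le f)).op (t i)) = ⊤ := by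
  have h : X.basicOpen f ≤ U := X.basicOpen_le f
  letI := algOfLE (X := X) h
  letI := modOfLE M h
  haveI := isScalarTower_ofLE M h
  haveI : IsLocalization.Away f Γ(X, X.basicOpen f) := hU.isLocalization_basicOpen f
  haveI := isLocalizedModule_of_eq_basicOpen M hU f h rfl
  set N' := Submodule.span Γ(X, U) (Set.range t) with hN'
  have h1 : N'.localized' Γ(X, X.basicOpen f) (Submonoid.powers f) (resLin M h) =
      Submodule.span Γ(X, X.basicOpen f)
        (Set.range fun i => M.presheaf.map (homOfLE (X.basicOpen_le f)).op (t i)) := by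
    rw [hN', Submodule.localized'_span, ← Set.range_comp]
    rfl
  rw [← h1, eq_top_iff]
  intro y _
  obtain ⟨⟨m, s⟩, rfl⟩ := IsLocalizedModule.mk'_surjective (Submonoid.powers f) (resLin M h) y
  rw [Submodule.mem_localized']
  refine ⟨f • m, hf m, ⟨f, Submonoid.mem_powers f⟩ * s, ?_⟩
  exact IsLocalizedModule.mk'_cancel_left (f := resLin M h) m ⟨f, Submonoid.mem_powers f⟩ s

/-- **Nakayama, geometric form**: a finite type quasi-coherent module is generated, over a small
affine neighbourhood of `x`, by `fibreRank M x` sections. -/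
theorem exists_affine_generators [M.IsQuasicoherent] (hft : CohB1.IsFT M) (x : X) (W : X.Opens)
    (hxW : x ∈ W) :
    ∃ (U : X.Opens) (t : Fin (fibreRank M x) → Γ(M, U)), IsAffineOpen U ∧ x ∈ U ∧ U ≤ W ∧
      Submodule.span Γ(X, U) (Set.range t) = ⊤ := by
  obtain ⟨U, hU, hx, hUW⟩ := Opens.isBasis_iff_nbhd.mp X.isBasis_affineOpens hxW
  haveI := finite_sections_of_isFiniteType M hft hU
  haveI := finite_stalk_of_isFiniteType M hft x
  obtain ⟨t, ht⟩ := exists_sections_span_stalk M hU x hx
  obtain ⟨f, hxf, hf⟩ := exists_smul_mem_span M hU x hx t ht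
  exact ⟨X.basicOpen f, fun i => M.presheaf.map (homOfLE (X.basicOpen_le f)).op (t i),
    hU.basicOpen f, hxf, (X.basicOpen_le f).trans hUW, span_restrict_eq_top M hU f t hf⟩

/-- germs of generators of the sections over an affine open generate the stalks -/
theorem span_germ_eq_top [M.IsQuasicoherent] {U : X.Opens} (hU : IsAffineOpen U) {n : ℕ}
    (t : Fin n → Γ(M, U)) (ht : Submodule.span Γ(X, U) (Set.range t) = ⊤) (y : X) (hy : y ∈ U) :
    Submodule.span (X.presheaf.stalk y)
      (Set.range fun i => (M.presheaf.germ U y hy).hom (t i)) = ⊤ := by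
  letI := TopCat.Presheaf.algebra_section_stalk X.presheaf (⟨y, hy⟩ : U)
  letI := modStalk M y hy
  haveI := isScalarTower_stalk M y hy
  haveI : IsLocalization.AtPrime (X.presheaf.stalk y) (hU.primeIdealOf ⟨y, hy⟩).asIdeal :=
    hU.isLocalization_stalk ⟨y, hy⟩
  haveI := isLocalizedModule_stalk M hU y hy
  have h1 := Submodule.localized'_span (X.presheaf.stalk y)
    (hU.primeIdealOf ⟨y, hy⟩).asIdeal.primeCompl (germLin M y hy) (Set.range t)
  rw [ht, Submodule.localized'_top, ← Set.range_comp] at h1
  exact h1.symm

/-- the germ of a linear combination of sections -/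
theorem germ_linearCombination {U : X.Opens} {n : ℕ} (t : Fin n → Γ(M, U)) (k : Fin n → Γ(X, U))
    (y : X) (hy : y ∈ U) :
    (M.presheaf.germ U y hy).hom (Fintype.linearCombination Γ(X, U) t k) =
      Fintype.linearCombination (X.presheaf.stalk y)
        (fun i => (M.presheaf.germ U y hy).hom (t i))
        (fun i => (X.presheaf.germ U y hy).hom (k i)) := by
  rw [Fintype.linearCombination_apply, Fintype.linearCombination_apply, map_sum]
  exact Finset.sum_congr rfl fun i _ => germ_smul' M U y hy (k i) (t i)

/-- sections of the structure sheaf are determined by their germs -/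
theorem function_eq_zero_of_germ_eq_zero (U : X.Opens) (s : Γ(X, U))
    (h : ∀ (y : X) (hy : y ∈ U), (X.presheaf.germ U y hy).hom s = 0) : s = 0 := by
  apply TopCat.Presheaf.section_ext X.sheaf U s 0
  intro y hy
  rw [map_zero]
  exact h y hy

/-- a generating family whose germs are linearly independent in all stalks is a basis of the
sections -/
theorem nonempty_equivFun_of_injective_stalks {U : X.Opens} {n : ℕ}
    (t : Fin n → Γ(M, U)) (ht : Submodule.span Γ(X, U) (Set.range t) = ⊤)
    (hinj : ∀ (y : X) (hy : y ∈ U), Function.Injective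
      (Fintype.linearCombination (X.presheaf.stalk y)
        (fun i => (M.presheaf.germ U y hy).hom (t i)))) :
    Nonempty (Γ(M, U) ≃ₗ[Γ(X, U)] (Fin n → Γ(X, U))) := by
  have hsurj : Function.Surjective (Fintype.linearCombination Γ(X, U) t) := by
    rw [← LinearMap.range_eq_top, Fintype.range_linearCombination, ht]
  have hinj' : Function.Injective (Fintype.linearCombination Γ(X, U) t) := by
    rw [← LinearMap.ker_eq_bot, LinearMap.ker_eq_bot']
    intro k hk
    funext i
    apply function_eq_zero_of_germ_eq_zero U (k i)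
    intro y hy
    have h1 := germ_linearCombination M t k y hy
    rw [hk, map_zero] at h1
    have h2 := hinj y hy (h1.symm.trans (map_zero _).symm)
    exact congrFun h2 i
  exact ⟨(LinearEquiv.ofBijective _ ⟨hinj', hsurj⟩).symm⟩

/-- the fibre rank of a free stalk is its rank -/
theorem fibreRank_eq_finrank_of_free (x : X)
    [Module.Free (X.presheaf.stalk x) (M.presheaf.stalk x)] :
    fibreRank M x = Module.finrank (X.presheaf.stalk x) (M.presheaf.stalk x) :=
  Module.finrank_baseChange

/-- **Free stalks + locally constant fibre rank ⇒ locally free sections** -/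
theorem exists_affine_free_sections_of_free_stalks [M.IsQuasicoherent] (hft : CohB1.IsFT M) (x : X)
    (hfree : ∀ y : X, Module.Free (X.presheaf.stalk y) (M.presheaf.stalk y))
    (W : X.Opens) (hxW : x ∈ W) (hW : ∀ y ∈ W, fibreRank M y = fibreRank M x) :
    ∃ (U : X.Opens), IsAffineOpen U ∧ x ∈ U ∧
      Nonempty (Γ(M, U) ≃ₗ[Γ(X, U)] (Fin (fibreRank M x) → Γ(X, U))) := by
  obtain ⟨U, t, hU, hxU, hUW, ht⟩ := exists_affine_generators M hft x W hxW
  refine ⟨U, hU, hxU, nonempty_equivFun_of_injective_stalks M t ht (fun y hy => ?_)⟩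
  haveI := hfree y
  haveI := finite_stalk_of_isFiniteType M hft y
  have hrk : Module.finrank (X.presheaf.stalk y) (M.presheaf.stalk y) = fibreRank M x := by
    rw [← fibreRank_eq_finrank_of_free, hW y (hUW hy)]
  let b := Module.finBasisOfFinrankEq (X.presheaf.stalk y) (M.presheaf.stalk y) hrk
  have hsurj : Function.Surjective (Fintype.linearCombination (X.presheaf.stalk y)
      (fun i => (M.presheaf.germ U y hy).hom (t i))) := by
    rw [← LinearMap.range_eq_top, Fintype.range_linearCombination]
    exact span_germ_eq_top M hU t ht y hy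
  have h2 : Function.Injective (b.equivFun.toLinearMap ∘ₗ
      Fintype.linearCombination (X.presheaf.stalk y)
        (fun i => (M.presheaf.germ U y hy).hom (t i))) :=
    OrzechProperty.injective_of_surjective_endomorphism _
      (b.equivFun.surjective.comp hsurj)
  rw [LinearMap.coe_comp] at h2
  exact Function.Injective.of_comp h2

/-- pure algebra: over a local ring, generators of `P` whose number is the fibre dimension are
linearly independent modulo the maximal ideal -/
theorem residue_eq_zero_of_linearCombination_eq_zero (R : Type*) [CommRing R] [IsLocalRing R]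
    (P : Type*) [AddCommGroup P] [Module R P] [Module.Finite R P] {n : ℕ} (v : Fin n → P)
    (hv : Submodule.span R (Set.range v) = ⊤)
    (hn : Module.finrank (IsLocalRing.ResidueField R) (IsLocalRing.ResidueField R ⊗[R] P) = n)
    (c : Fin n → R) (hc : Fintype.linearCombination R v c = 0) (i : Fin n) :
    c i ∈ IsLocalRing.maximalIdeal R := by
  let κ := IsLocalRing.ResidueField R
  let w : Fin n → κ ⊗[R] P := fun i => (1 : κ) ⊗ₜ[R] v i
  have hsurj : Function.Surjective (Fintype.linearCombination κ w) := by
    rw [← LinearMap.range_eq_top, Fintype.range_linearCombination]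
    have h1 := Submodule.baseChange_span (R := R) (A := κ) (Set.range v)
    rw [hv, Submodule.baseChange_top, ← Set.range_comp] at h1
    exact h1.symm
  have hfin : Module.finrank κ (Fin n → κ) = Module.finrank κ (κ ⊗[R] P) := by
    rw [hn, Module.finrank_fin_fun]
  have hinj : Function.Injective (Fintype.linearCombination κ w) :=
    (LinearMap.injective_iff_surjective_of_finrank_eq_finrank hfin).2 hsurj
  have h0 : Fintype.linearCombination κ w (fun i => IsLocalRing.residue R (c i)) = 0 := by
    rw [Fintype.linearCombination_apply]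
    have : ∀ i, IsLocalRing.residue R (c i) • w i = (1 : κ) ⊗ₜ[R] (c i • v i) := by
      intro i
      change IsLocalRing.residue R (c i) • ((1 : κ) ⊗ₜ[R] v i) = _
      rw [TensorProduct.smul_tmul', smul_eq_mul, mul_one, TensorProduct.tmul_smul,
        TensorProduct.smul_tmul', Algebra.smul_def, mul_one]
      rfl
    simp_rw [this]
    rw [← TensorProduct.tmul_sum]
    rw [Fintype.linearCombination_apply] at hc
    rw [hc, TensorProduct.tmul_zero]
  have h1 := hinj (h0.trans (map_zero _).symm)
  have h2 : IsLocalRing.residue R (c i) = 0 := congrFun h1 i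
  exact (IsLocalRing.residue_eq_zero_iff _).1 h2

/-- **Reduced + locally constant fibre rank ⇒ locally free sections** -/
theorem exists_affine_free_sections_of_isReduced [IsReduced X] [M.IsQuasicoherent]
    (hft : CohB1.IsFT M) (x : X)
    (W : X.Opens) (hxW : x ∈ W) (hW : ∀ y ∈ W, fibreRank M y = fibreRank M x) :
    ∃ (U : X.Opens), IsAffineOpen U ∧ x ∈ U ∧
      Nonempty (Γ(M, U) ≃ₗ[Γ(X, U)] (Fin (fibreRank M x) → Γ(X, U))) := by
  obtain ⟨U, t, hU, hxU, hUW, ht⟩ := exists_affine_generators M hft x W hxW
  refine ⟨U, hU, hxU, ?_⟩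
  have hsurj : Function.Surjective (Fintype.linearCombination Γ(X, U) t) := by
    rw [← LinearMap.range_eq_top, Fintype.range_linearCombination, ht]
  have hinj' : Function.Injective (Fintype.linearCombination Γ(X, U) t) := by
    rw [← LinearMap.ker_eq_bot, LinearMap.ker_eq_bot']
    intro k hk
    funext i
    rw [Pi.zero_apply, ← basicOpen_eq_bot_iff, eq_bot_iff]
    intro y hyk
    have hy : y ∈ U := X.basicOpen_le (k i) hyk
    rw [Scheme.mem_basicOpen _ _ _ hy] at hyk
    haveI := finite_stalk_of_isFiniteType M hft y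
    have h1 := germ_linearCombination M t k y hy
    rw [hk, map_zero] at h1
    have := residue_eq_zero_of_linearCombination_eq_zero (X.presheaf.stalk y)
      (M.presheaf.stalk y) (fun i => (M.presheaf.germ U y hy).hom (t i))
      (span_germ_eq_top M hU t ht y hy) (hW y (hUW hy))
      (fun i => (X.presheaf.germ U y hy).hom (k i)) h1.symm i
    exact ((IsLocalRing.mem_maximalIdeal _).1 this) hyk
  exact ⟨(LinearEquiv.ofBijective _ ⟨hinj', hsurj⟩).symm⟩

/-- the fibre rank of a finite locally free module is locally constant -/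
theorem isLocallyConstant_fibreRank_of_isFinLocFree (hM : FlatMod.IsFinLocFree M) :
    IsLocallyConstant (fibreRank M) := by
  haveI := isQuasicoherent_of_isFinLocFree M hM
  rw [IsLocallyConstant.iff_exists_open]
  intro x
  obtain ⟨U, n, hU, hxU, -, ⟨e⟩⟩ := exists_affine_free_sections_of_isFinLocFree M hM x
  refine ⟨U, U.2, hxU, fun y hy => ?_⟩
  haveI := (free_stalk_of_isFinLocFree M hM y).1
  haveI := (free_stalk_of_isFinLocFree M hM x).1
  rw [fibreRank_eq_finrank_of_free, fibreRank_eq_finrank_of_free,
    finrank_stalk_of_sections M hU y hy e, finrank_stalk_of_sections M hU x hxU e]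

/-- finite type of a finite locally free module -/
theorem isFiniteType_of_isFinLocFree (hM : FlatMod.IsFinLocFree M) : CohB1.IsFT M := by
  haveI : M.IsFinitePresentation := isFinitePresentation_of_isFinLocFree M hM
  exact inferInstanceAs (SheafOfModules.IsFiniteType (R := X.ringCatSheaf) M)

/-- **finite type + free stalks + locally constant fibre rank ⇒ finite locally free** -/
theorem isFinLocFree_of_free_stalks_of_isLocallyConstant [M.IsQuasicoherent] (hft : CohB1.IsFT M)
    (hfree : ∀ y : X, Module.Free (X.presheaf.stalk y) (M.presheaf.stalk y))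
    (hlc : IsLocallyConstant (fibreRank M)) : FlatMod.IsFinLocFree M := by
  rw [isFinLocFree_iff_sections]
  intro x
  obtain ⟨W, hW, hxW, hWc⟩ := (IsLocallyConstant.iff_exists_open _).1 hlc x
  obtain ⟨U, hU, hxU, hUe⟩ :=
    exists_affine_free_sections_of_free_stalks M hft x hfree ⟨W, hW⟩ hxW hWc
  exact ⟨U, _, hU, hxU, hUe⟩

/-- **reduced + finite type + locally constant fibre rank ⇒ finite locally free** -/
theorem isFinLocFree_of_isReduced_of_isLocallyConstant [IsReduced X] [M.IsQuasicoherent]
    (hft : CohB1.IsFT M) (hlc : IsLocallyConstant (fibreRank M)) : FlatMod.IsFinLocFree M := by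
  rw [isFinLocFree_iff_sections]
  intro x
  obtain ⟨W, hW, hxW, hWc⟩ := (IsLocallyConstant.iff_exists_open _).1 hlc x
  obtain ⟨U, hU, hxU, hUe⟩ :=
    exists_affine_free_sections_of_isReduced M hft x ⟨W, hW⟩ hxW hWc
  exact ⟨U, _, hU, hxU, hUe⟩

end Groth.Agent.Lib.helper16.FLF
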