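import Groth.Agent.Lib.Helper16.FLF2
import Groth.Agent.Lib.Helper16.CohStalk

/-!
# Finite locally free modules: flatness, finite presentation, free stalks (helper16)

* `nonempty_equivFun_of_basis_localizedModule`: transfer of a basis of `LocalizedModule S M` over
  `Localization S` to any model of the localization.
* `exists_basicOpen_free_sections`: `Γ(M,U)` finitely presented with free stalk at `x` ⇒ free
  sections on a basic open neighbourhood of `x`.
* `isFinLocFree_of_fp_of_free_stalks`, `isFinitePresentation_of_isFinLocFree`,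
  `free_stalk_of_isFinLocFree`, `finite_stalk_of_isFinLocFree`, `isFlat_of_isFinLocFree`,
  `isFinLocFree_iff_flat_fp`, `isFinLocFree_iff_fp_free_stalks`.
-/

set_option autoImplicit false
universe u
open CategoryTheory CategoryTheory.Limits AlgebraicGeometry TopologicalSpace Opposite

namespace Groth.Agent.Lib.helper16.FLF

open Scheme.Modules Groth.Agent.Lib.helper16.QCohPullback Groth.Agent.Lib.helper16.CohFinite
  Groth.Agent.Lib.helper16.CohFP Groth.Agent.Lib.helper16.CohStalk

section Algebra

variable {R : Type*} [CommRing R] (S : Submonoid R) {M : Type*} [AddCommGroup M] [Module R M]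
  (A' : Type*) [CommRing A'] [Algebra R A'] [IsLocalization S A']
  {N' : Type*} [AddCommGroup N'] [Module R N'] [Module A' N'] [IsScalarTower R A' N']
  (g : M →ₗ[R] N') [IsLocalizedModule S g]

include g in
/-- a basis of `LocalizedModule S M` over `Localization S` transfers to any other model
`(A', N')` of the localization. -/
theorem nonempty_equivFun_of_basis_localizedModule {n : ℕ}
    (b : Module.Basis (Fin n) (Localization S) (LocalizedModule S M)) :
    Nonempty (N' ≃ₗ[A'] (Fin n → A')) := by
  let σ : Localization S ≃ₐ[R] A' := IsLocalization.algEquiv S (Localization S) A'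
  letI : Module (Localization S) N' := Module.compHom N' (σ : Localization S →+* A')
  haveI : IsScalarTower R (Localization S) N' := ⟨fun r l x => by
    change σ (r • l) • x = r • (σ l • x)
    rw [_root_.map_smul, smul_assoc]⟩
  let τ : LocalizedModule S M ≃ₗ[Localization S] N' :=
    (IsLocalizedModule.iso S g).extendScalarsOfIsLocalization S (Localization S)
  let b1 : Module.Basis (Fin n) (Localization S) N' := b.map τ
  let b2 : Module.Basis (Fin n) A' N' := b1.mapCoeffs σ.toRingEquiv (fun c x => rfl)
  exact ⟨b2.equivFun⟩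

end Algebra

variable {X : Scheme.{u}} (M : X.Modules)

/-- **Spreading out freeness**: if `Γ(M,U)` is finitely presented and the stalk at `x ∈ U` is
free, then the sections of `M` over some basic open neighbourhood of `x` are free of finite rank. -/
theorem exists_basicOpen_free_sections [M.IsQuasicoherent] {U : X.Opens} (hU : IsAffineOpen U)
    (x : X) (hx : x ∈ U) [Module.FinitePresentation Γ(X, U) Γ(M, U)]
    (hfree : Module.Free (X.presheaf.stalk x) (M.presheaf.stalk x)) :
    ∃ (f : Γ(X, U)) (n : ℕ), x ∈ X.basicOpen f ∧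
      Nonempty (Γ(M, X.basicOpen f) ≃ₗ[Γ(X, X.basicOpen f)] (Fin n → Γ(X, X.basicOpen f))) := by
  letI := TopCat.Presheaf.algebra_section_stalk X.presheaf (⟨x, hx⟩ : U)
  letI := modStalk M x hx
  haveI := isScalarTower_stalk M x hx
  haveI : IsLocalization.AtPrime (X.presheaf.stalk x) (hU.primeIdealOf ⟨x, hx⟩).asIdeal :=
    hU.isLocalization_stalk ⟨x, hx⟩
  haveI := isLocalizedModule_stalk M hU x hx
  obtain ⟨r, hr, hfr, -⟩ := Module.FinitePresentation.exists_free_localizedModule_powers
    (hU.primeIdealOf ⟨x, hx⟩).asIdeal.primeCompl (germLin M x hx) (X.presheaf.stalk x)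
  have hxr : x ∈ X.basicOpen r := (Groth.Agent.Lib.helper28.mem_basicOpen_iff hU x hx r).2 hr
  refine ⟨r, Module.finrank (Localization (Submonoid.powers r))
      (LocalizedModule (Submonoid.powers r) Γ(M, U)), hxr, ?_⟩
  have h : X.basicOpen r ≤ U := X.basicOpen_le r
  letI := algOfLE (X := X) h
  letI := modOfLE M h
  haveI := isScalarTower_ofLE M h
  haveI : IsLocalization.Away r Γ(X, X.basicOpen r) := hU.isLocalization_basicOpen r
  haveI := isLocalizedModule_of_eq_basicOpen M hU r h rfl
  haveI : Module.Finite (Localization (Submonoid.powers r))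
      (LocalizedModule (Submonoid.powers r) Γ(M, U)) := inferInstance
  haveI : Nontrivial (Localization (Submonoid.powers r)) := by
    rw [← not_subsingleton_iff_nontrivial,
      IsLocalization.subsingleton_iff (M := Submonoid.powers r)]
    rintro ⟨k, hk⟩
    have hk' : r ^ k = 0 := hk
    have hp : (hU.primeIdealOf ⟨x, hx⟩).asIdeal.IsPrime := inferInstance
    exact hr (hp.mem_of_pow_mem k (hk' ▸ Ideal.zero_mem _))
  exact nonempty_equivFun_of_basis_localizedModule (Submonoid.powers r) Γ(X, X.basicOpen r)
    (resLin M h) (Module.finBasis _ _)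

/-- **Finitely presented with free stalks ⇒ finite locally free.** -/
theorem isFinLocFree_of_fp_of_free_stalks [M.IsQuasicoherent] (hfp : CohB1.IsFP M)
    (hfree : ∀ x : X, Module.Free (X.presheaf.stalk x) (M.presheaf.stalk x)) :
    FlatMod.IsFinLocFree M := by
  rw [isFinLocFree_iff_sections]
  intro x
  obtain ⟨U, hU, hxU, -⟩ := Opens.isBasis_iff_nbhd.mp X.isBasis_affineOpens
    (show x ∈ (⊤ : X.Opens) from trivial)
  haveI := fp_sections_of_isFinitePresentation M hfp hU
  obtain ⟨f, n, hxf, he⟩ := exists_basicOpen_free_sections M hU x hxU (hfree x)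
  exact ⟨X.basicOpen f, n, hU.basicOpen f, hxf, he⟩

/-- **Finite locally free ⇒ finitely presented.** -/
theorem isFinitePresentation_of_isFinLocFree (hM : FlatMod.IsFinLocFree M) : CohB1.IsFP M := by
  haveI := isQuasicoherent_of_isFinLocFree M hM
  choose U n hU hxU hiso hsec using exists_affine_free_sections_of_isFinLocFree M hM
  refine isFinitePresentation_of_fp_sections M U hU ?_ (fun x => ?_)
  · rw [eq_top_iff]
    intro x _
    exact Opens.mem_iSup.mpr ⟨x, hxU x⟩
  · obtain ⟨e⟩ := hsec x
    exact Module.finitePresentation_of_surjective e.symm.toLinearMap e.symm.surjective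
      (by rw [LinearEquiv.ker]; exact Submodule.fg_bot)

/-- **Stalks of a finite locally free module are free of finite rank.** -/
theorem free_stalk_of_isFinLocFree (hM : FlatMod.IsFinLocFree M) (x : X) :
    Module.Free (X.presheaf.stalk x) (M.presheaf.stalk x) ∧
      Module.Finite (X.presheaf.stalk x) (M.presheaf.stalk x) := by
  haveI := isQuasicoherent_of_isFinLocFree M hM
  obtain ⟨U, n, hU, hx, -, ⟨e⟩⟩ := exists_affine_free_sections_of_isFinLocFree M hM x
  haveI : Module.Free Γ(X, U) Γ(M, U) := Module.Free.of_equiv e.symm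
  haveI : Module.Finite Γ(X, U) Γ(M, U) := Module.Finite.equiv e.symm
  letI := TopCat.Presheaf.algebra_section_stalk X.presheaf (⟨x, hx⟩ : U)
  letI := modStalk M x hx
  haveI := isScalarTower_stalk M x hx
  haveI : IsLocalization.AtPrime (X.presheaf.stalk x) (hU.primeIdealOf ⟨x, hx⟩).asIdeal :=
    hU.isLocalization_stalk ⟨x, hx⟩
  haveI := isLocalizedModule_stalk M hU x hx
  exact ⟨Module.free_of_isLocalizedModule (hU.primeIdealOf ⟨x, hx⟩).asIdeal.primeCompl
      (germLin M x hx),
    Module.Finite.of_isLocalizedModule (hU.primeIdealOf ⟨x, hx⟩).asIdeal.primeCompl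
      (germLin M x hx)⟩

theorem isFlat_of_isFinLocFree (hM : FlatMod.IsFinLocFree M) : FlatMod.IsFlat M := by
  intro x
  haveI := (free_stalk_of_isFinLocFree M hM x).1
  exact inferInstanceAs (Module.Flat (X.presheaf.stalk x) (M.presheaf.stalk x))

/-- stalks of a finitely presented module are finitely generated -/
theorem finite_stalk_of_isFinitePresentation (hfp : CohB1.IsFP M) (x : X) :
    Module.Finite (X.presheaf.stalk x) (M.presheaf.stalk x) := by
  haveI : M.IsQuasicoherent := inferInstance
  obtain ⟨U, hU, hx, -⟩ := Opens.isBasis_iff_nbhd.mp X.isBasis_affineOpens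
    (show x ∈ (⊤ : X.Opens) from trivial)
  haveI := fp_sections_of_isFinitePresentation M hfp hU
  haveI : Module.Finite Γ(X, U) Γ(M, U) := inferInstance
  letI := TopCat.Presheaf.algebra_section_stalk X.presheaf (⟨x, hx⟩ : U)
  letI := modStalk M x hx
  haveI := isScalarTower_stalk M x hx
  haveI : IsLocalization.AtPrime (X.presheaf.stalk x) (hU.primeIdealOf ⟨x, hx⟩).asIdeal :=
    hU.isLocalization_stalk ⟨x, hx⟩
  haveI := isLocalizedModule_stalk M hU x hx
  exact Module.Finite.of_isLocalizedModule (hU.primeIdealOf ⟨x, hx⟩).asIdeal.primeCompl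
      (germLin M x hx)

/-- **flat + finitely presented ⇔ finite locally free** (for quasi-coherent modules). -/
theorem isFinLocFree_iff_flat_fp [M.IsQuasicoherent] :
    (FlatMod.IsFlat M ∧ CohB1.IsFP M) ↔ FlatMod.IsFinLocFree M := by
  constructor
  · rintro ⟨hfl, hfp⟩
    refine isFinLocFree_of_fp_of_free_stalks M hfp (fun x => ?_)
    haveI := finite_stalk_of_isFinitePresentation M hfp x
    haveI : Module.Flat (X.presheaf.stalk x) (M.presheaf.stalk x) := hfl x
    exact Module.free_of_flat_of_isLocalRing
  · intro hM
    exact ⟨isFlat_of_isFinLocFree M hM, isFinitePresentation_of_isFinLocFree M hM⟩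

/-- **finitely presented with free stalks ⇔ finite locally free**. -/
theorem isFinLocFree_iff_fp_free_stalks [M.IsQuasicoherent] :
    (CohB1.IsFP M ∧ ∀ x : X, Module.Free (X.presheaf.stalk x) (M.presheaf.stalk x)) ↔
      FlatMod.IsFinLocFree M := by
  constructor
  · rintro ⟨hfp, hfree⟩
    exact isFinLocFree_of_fp_of_free_stalks M hfp hfree
  · intro hM
    exact ⟨isFinitePresentation_of_isFinLocFree M hM,
      fun x => (free_stalk_of_isFinLocFree M hM x).1⟩

end Groth.Agent.Lib.helper16.FLF
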