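import Groth.Agent.Lib.Helper16.FLF8

/-!
# Finite locally free modules of constant rank are free near finite sets of points (helper16, LT2)

* `finrank_quotient_tensor_eq_rankAtStalk`
* `finite_maximalSpectrum_localization`: localizing at the complement of a finite union of primes
  gives a semilocal ring
* `exists_free_away_of_rankAtStalk_eq`: finite projective of constant rank `r` is free of rank `r`
  after inverting one element avoiding finitely many primes
-/

set_option autoImplicit false
universe u
open CategoryTheory CategoryTheory.Limits AlgebraicGeometry TopologicalSpace Opposite TensorProduct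

namespace Groth.Agent.Lib.helper16.FLF

section Algebra

/-- the fibre dimension at a maximal ideal is the rank at the stalk -/
theorem finrank_quotient_tensor_eq_rankAtStalk (R : Type*) [CommRing R] (M : Type*)
    [AddCommGroup M] [Module R M] [Module.Finite R M] [Module.Flat R M] (P : Ideal R)
    [hP : P.IsMaximal] :
    Module.finrank (R ⧸ P) ((R ⧸ P) ⊗[R] M) = Module.rankAtStalk M ⟨P, inferInstance⟩ := by
  letI := Ideal.Quotient.field P
  rw [Module.rankAtStalk_eq]
  let e : P.ResidueField ⊗[R ⧸ P] ((R ⧸ P) ⊗[R] M) ≃ₗ[P.ResidueField] P.ResidueField ⊗[R] M :=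
    AlgebraTensorModule.cancelBaseChange R (R ⧸ P) P.ResidueField P.ResidueField M
  change _ = Module.finrank P.ResidueField (P.ResidueField ⊗[R] M)
  rw [← e.finrank_eq]
  exact (Module.finrank_baseChange (R := P.ResidueField) (S := R ⧸ P)
    (M' := (R ⧸ P) ⊗[R] M)).symm

variable {A : Type*} [CommRing A]

/-- the complement of a finite union of primes -/
def avoidSubmonoid (ps : Finset (PrimeSpectrum A)) : Submonoid A :=
  ⨅ p ∈ ps, p.asIdeal.primeCompl

theorem mem_avoidSubmonoid {ps : Finset (PrimeSpectrum A)} {a : A} :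
    a ∈ avoidSubmonoid ps ↔ ∀ p ∈ ps, a ∉ p.asIdeal := by
  simp only [avoidSubmonoid, Submonoid.mem_iInf]
  rfl

/-- localizing at the complement of a finite union of primes gives a semilocal ring -/
theorem finite_maximalSpectrum_localization (ps : Finset (PrimeSpectrum A)) :
    Finite (MaximalSpectrum (Localization (avoidSubmonoid ps))) := by
  set S := avoidSubmonoid ps
  let R' := Localization S
  let φ : MaximalSpectrum R' → PrimeSpectrum A :=
    fun m => PrimeSpectrum.comap (algebraMap A R') m.toPrimeSpectrum
  have hφ : Function.Injective φ := fun m m' h =>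
    MaximalSpectrum.toPrimeSpectrum_injective
      (PrimeSpectrum.localization_comap_injective R' S h)
  have himg : ∀ m, φ m ∈ ps := by
    intro m
    set q := φ m with hq
    have hdisj : Disjoint (S : Set A) (q.asIdeal : Set A) := by
      have : q ∈ Set.range (PrimeSpectrum.comap (algebraMap A R')) := ⟨_, rfl⟩
      rw [PrimeSpectrum.localization_comap_range R' S] at this
      exact this
    have hsub : (q.asIdeal : Set A) ⊆ ⋃ p ∈ (↑ps : Set (PrimeSpectrum A)), (p.asIdeal : Set A) := by
      intro a ha
      by_contra hne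
      simp only [Set.mem_iUnion, not_exists] at hne
      have haS : a ∈ S := mem_avoidSubmonoid.2 (fun p hp hap => hne p hp hap)
      exact Set.disjoint_left.mp hdisj haS ha
    obtain ⟨p, hp, hqp⟩ := (Ideal.subset_union_prime (f := fun p : PrimeSpectrum A => p.asIdeal)
      q q (fun p _ _ _ => p.2)).1 hsub
    have hpdisj : Disjoint (S : Set A) (p.asIdeal : Set A) := by
      rw [Set.disjoint_left]
      intro a haS hap
      exact mem_avoidSubmonoid.1 haS p hp hap
    have hP : (Ideal.map (algebraMap A R') p.asIdeal).IsPrime :=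
      IsLocalization.isPrime_of_isPrime_disjoint S R' _ p.2 hpdisj
    have hle : m.asIdeal ≤ Ideal.map (algebraMap A R') p.asIdeal := by
      have h1 : Ideal.map (algebraMap A R') q.asIdeal = m.asIdeal :=
        IsLocalization.map_comap S R' m.asIdeal
      rw [← h1]
      exact Ideal.map_mono hqp
    have heq : m.asIdeal = Ideal.map (algebraMap A R') p.asIdeal :=
      m.2.eq_of_le hP.ne_top hle
    have : q = p := by
      apply PrimeSpectrum.ext
      change Ideal.comap (algebraMap A R') m.asIdeal = p.asIdeal
      rw [heq]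
      exact IsLocalization.comap_map_of_isPrime_disjoint S R' p.2 hpdisj
    rw [this]
    exact hp
  exact Finite.of_injective (fun m => (⟨φ m, himg m⟩ : ps)) (fun m m' h => hφ (Subtype.ext_iff.mp h))

/-- **Finite projective of constant rank `r` is free of rank `r` near finitely many primes.** -/
theorem exists_free_away_of_rankAtStalk_eq (N : Type*) [AddCommGroup N] [Module A N]
    [Module.Finite A N] [Module.Projective A N] (r : ℕ)
    (hr : ∀ p : PrimeSpectrum A, Module.rankAtStalk N p = r) (ps : Finset (PrimeSpectrum A))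
    (hne : ps.Nonempty) :
    ∃ s : A, (∀ p ∈ ps, s ∉ p.asIdeal) ∧
      Nonempty (Module.Basis (Fin r) (Localization (Submonoid.powers s))
        (LocalizedModule (Submonoid.powers s) N)) := by
  set S := avoidSubmonoid ps with hS
  haveI := finite_maximalSpectrum_localization ps
  obtain ⟨p₀, hp₀⟩ := hne
  haveI : Nontrivial (Localization S) := by
    rw [← not_subsingleton_iff_nontrivial, IsLocalization.subsingleton_iff (M := S)]
    intro h0
    exact mem_avoidSubmonoid.1 h0 p₀ hp₀ (Ideal.zero_mem _)
  haveI : Module.Flat A N := inferInstance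
  haveI : Module.Finite (Localization S) (LocalizedModule S N) :=
    Module.Finite.of_isLocalizedModule S (LocalizedModule.mkLinearMap S N)
  haveI : Module.Flat (Localization S) (LocalizedModule S N) :=
    Module.Flat.of_isLocalizedModule (Localization S) S (LocalizedModule.mkLinearMap S N)
  have rk : ∀ P : MaximalSpectrum (Localization S),
      Module.finrank (Localization S ⧸ P.1) ((Localization S ⧸ P.1) ⊗[Localization S]
        LocalizedModule S N) = r := by
    intro P
    haveI := P.2
    rw [finrank_quotient_tensor_eq_rankAtStalk,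
      Module.rankAtStalk_isBaseChange (LocalizedModule.isBaseChange S N), hr]
  obtain ⟨b⟩ := Module.nonempty_basis_of_flat_of_finrank_eq (Localization S)
    (LocalizedModule S N) r rk
  haveI : Module.Free (Localization S) (LocalizedModule S N) := .of_basis b
  haveI : Module.FinitePresentation A N := Module.finitePresentation_of_projective A N
  obtain ⟨s, hs, hfree, hrank⟩ := Module.FinitePresentation.exists_free_localizedModule_powers
    S (LocalizedModule.mkLinearMap S N) (Localization S)
  have hsp : ∀ p ∈ ps, s ∉ p.asIdeal := mem_avoidSubmonoid.1 hs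
  haveI : Nontrivial (Localization (Submonoid.powers s)) := by
    rw [← not_subsingleton_iff_nontrivial,
      IsLocalization.subsingleton_iff (M := Submonoid.powers s)]
    rintro ⟨k, hk⟩
    have hk' : s ^ k = 0 := hk
    exact hsp p₀ hp₀ (p₀.2.mem_of_pow_mem k (hk' ▸ Ideal.zero_mem _))
  haveI := hfree
  haveI : Module.Finite (Localization (Submonoid.powers s))
      (LocalizedModule (Submonoid.powers s) N) :=
    Module.Finite.of_isLocalizedModule (Submonoid.powers s)
      (LocalizedModule.mkLinearMap (Submonoid.powers s) N)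
  have hfin : Module.finrank (Localization S) (LocalizedModule S N) = r := by
    rw [Module.finrank_eq_card_basis b, Fintype.card_fin]
  exact ⟨s, hsp, ⟨Module.finBasisOfFinrankEq _ _ (hrank.trans hfin)⟩⟩

end Algebra

open Scheme.Modules Groth.Agent.Lib.helper16.QCohPullback Groth.Agent.Lib.helper16.CohFinite
  Groth.Agent.Lib.helper16.CohFP Groth.Agent.Lib.helper16.CohStalk Groth.Agent.Lib.helper7
  Groth.Agent.Lib.helper16.QCohAss

variable {Y : Scheme.{u}} (E : Y.Modules)

/-- the rank at a point of `Γ(E,V)` for `E` finite locally free of rank `r` -/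
theorem rankAtStalk_sections_primeIdealOf {r : ℕ} (hE : FlatMod.IsFinLocFreeOfRank r E)
    {V : Y.Opens} (hV : IsAffineOpen V) (z : Y) (hz : z ∈ V) :
    Module.rankAtStalk Γ(E, V) (hV.primeIdealOf ⟨z, hz⟩) = r := by
  have hE' := isFinLocFree_of_isFinLocFreeOfRank hE
  haveI := isQuasicoherent_of_isFinLocFree E hE'
  obtain ⟨h1, h2⟩ := projective_sections_of_isFinLocFree E hE' hV
  set P := hV.primeIdealOf ⟨z, hz⟩ with hP
  haveI : Module.Flat Γ(Y, V) Γ(E, V) := inferInstance
  haveI : Module.Free (Localization.AtPrime P.asIdeal)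
      (LocalizedModule P.asIdeal.primeCompl Γ(E, V)) := Module.free_of_flat_of_isLocalRing
  let b := Module.finBasis (Localization.AtPrime P.asIdeal)
      (LocalizedModule P.asIdeal.primeCompl Γ(E, V))
  letI := TopCat.Presheaf.algebra_section_stalk Y.presheaf (⟨z, hz⟩ : V)
  letI := modStalk E z hz
  haveI := isScalarTower_stalk E z hz
  haveI : IsLocalization.AtPrime (Y.presheaf.stalk z) P.asIdeal := hV.isLocalization_stalk ⟨z, hz⟩
  haveI := isLocalizedModule_stalk E hV z hz
  obtain ⟨e⟩ := nonempty_equivFun_of_basis_localizedModule P.asIdeal.primeCompl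
    (Y.presheaf.stalk z) (germLin E z hz) b
  have h3 : Module.finrank (Y.presheaf.stalk z) (E.presheaf.stalk z) =
      Module.finrank (Localization.AtPrime P.asIdeal)
        (LocalizedModule P.asIdeal.primeCompl Γ(E, V)) := by
    rw [e.finrank_eq, Module.finrank_fin_fun]
  rw [finrank_stalk_of_isFinLocFreeOfRank E hE z] at h3
  exact h3.symm

theorem rankAtStalk_sections {r : ℕ} (hE : FlatMod.IsFinLocFreeOfRank r E)
    {V : Y.Opens} (hV : IsAffineOpen V) (p : PrimeSpectrum Γ(Y, V)) :
    Module.rankAtStalk Γ(E, V) p = r := by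
  rw [← primeIdealOf_fromSpec hV p]
  exact rankAtStalk_sections_primeIdealOf E hE hV _ _

/-- **A locally free module of rank `r` is free of rank `r` near any finite set of points contained
in an affine open.** -/
theorem exists_basicOpen_free_of_finite {r : ℕ} (hE : FlatMod.IsFinLocFreeOfRank r E)
    {V : Y.Opens} (hV : IsAffineOpen V) (Z : Set Y) (hZ : Z.Finite) (hZV : Z ⊆ V)
    (hne : Z.Nonempty) :
    ∃ s : Γ(Y, V), Z ⊆ Y.basicOpen s ∧
      Nonempty (E.restrict (Y.basicOpen s).ι ≅ FlatMod.freeMod (↑(Y.basicOpen s)) r) := by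
  classical
  have hE' := isFinLocFree_of_isFinLocFreeOfRank hE
  haveI := isQuasicoherent_of_isFinLocFree E hE'
  obtain ⟨h1, h2⟩ := projective_sections_of_isFinLocFree E hE' hV
  let ps : Finset (PrimeSpectrum Γ(Y, V)) :=
    (hZ.toFinset.attach).image (fun z => hV.primeIdealOf ⟨z.1, hZV (hZ.mem_toFinset.1 z.2)⟩)
  have hps : ps.Nonempty := by
    obtain ⟨z, hz⟩ := hne
    exact ⟨_, Finset.mem_image.2 ⟨⟨z, hZ.mem_toFinset.2 hz⟩, Finset.mem_attach _ _, rfl⟩⟩
  obtain ⟨s, hs, ⟨b⟩⟩ := exists_free_away_of_rankAtStalk_eq Γ(E, V) r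
    (fun p => rankAtStalk_sections E hE hV p) ps hps
  have hZs : Z ⊆ Y.basicOpen s := by
    intro z hz
    have hzV : z ∈ V := hZV hz
    rw [SetLike.mem_coe, Groth.Agent.Lib.helper28.mem_basicOpen_iff hV z hzV s]
    exact hs _ (Finset.mem_image.2 ⟨⟨z, hZ.mem_toFinset.2 hz⟩, Finset.mem_attach _ _, rfl⟩)
  refine ⟨s, hZs, ?_⟩
  have h : Y.basicOpen s ≤ V := Y.basicOpen_le s
  letI := algOfLE (X := Y) h
  letI := modOfLE E h
  haveI := isScalarTower_ofLE E h
  haveI : IsLocalization.Away s Γ(Y, Y.basicOpen s) := hV.isLocalization_basicOpen s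
  haveI := isLocalizedModule_of_eq_basicOpen E hV s h rfl
  obtain ⟨e⟩ := nonempty_equivFun_of_basis_localizedModule (Submonoid.powers s)
    Γ(Y, Y.basicOpen s) (resLin E h) b
  exact restrict_iso_freeMod_of_sections E (hV.basicOpen s) r e

end Groth.Agent.Lib.helper16.FLF
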