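import Groth.Agent.Lib.Helper16.Satur1
import Groth.Agent.Lib.Helper16.CohFinite

/-!
# `IsoOn` / `FTOn`: sectionwise calculus for "isomorphism over an open" and "finite type over an open"
(helper16)
-/

set_option autoImplicit false
universe u
open CategoryTheory CategoryTheory.Limits AlgebraicGeometry TopologicalSpace Opposite
open Scheme.Modules

namespace Groth.Agent.Lib.helper16.Satur

open Groth.Agent.Lib.helper16.CohFinite

variable {X Y : Scheme.{u}}

/-- `φ` is bijective on sections over every open contained in `W`. -/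
def IsoOn {A B : X.Modules} (φ : A ⟶ B) (W : X.Opens) : Prop :=
  ∀ W' : X.Opens, W' ≤ W → Function.Bijective (φ.app W')

theorem isIso_app_iff_bijective {A B : X.Modules} (φ : A ⟶ B) (W : X.Opens) :
    IsIso (φ.app W) ↔ Function.Bijective (φ.app W) :=
  ConcreteCategory.isIso_iff_bijective (φ.app W)

theorem isoOn_iff_isIso_restrict {A B : X.Modules} (φ : A ⟶ B) (W : X.Opens) :
    IsoOn φ W ↔ IsIso ((restrictFunctor W.ι).map φ) := by
  rw [Groth.Agent.Lib.helper11.IsoLocus.isIso_restrict_iff_app]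
  exact forall₂_congr fun W' _ => (isIso_app_iff_bijective φ W').symm

theorem IsoOn.mono {A B : X.Modules} {φ : A ⟶ B} {W W' : X.Opens} (h : IsoOn φ W) (hle : W' ≤ W) :
    IsoOn φ W' := fun W'' h'' => h W'' (h''.trans hle)

theorem IsoOn.comp {A B C : X.Modules} {φ : A ⟶ B} {ψ : B ⟶ C} {W : X.Opens} (h1 : IsoOn φ W)
    (h2 : IsoOn ψ W) : IsoOn (φ ≫ ψ) W := fun W' h' => by
  have : ⇑(ConcreteCategory.hom ((φ ≫ ψ).app W')) =
      ⇑(ConcreteCategory.hom (ψ.app W')) ∘ ⇑(ConcreteCategory.hom (φ.app W')) := by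
    ext x; rfl
  rw [this]
  exact (h2 W' h').comp (h1 W' h')

theorem isoOn_of_isIso {A B : X.Modules} (φ : A ⟶ B) [IsIso φ] (W : X.Opens) : IsoOn φ W :=
  fun W' _ => (isIso_app_iff_bijective φ W').mp inferInstance

theorem isoOn_top_iff {A B : X.Modules} (φ : A ⟶ B) : IsoOn φ ⊤ ↔ IsIso φ := by
  rw [Hom.isIso_iff_isIso_app]
  exact ⟨fun h U => (isIso_app_iff_bijective φ U).mpr (h U le_top),
    fun h U _ => (isIso_app_iff_bijective φ U).mp (h U)⟩

/-- The linear map on sections induced by a morphism of modules. -/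
noncomputable def secLin {F G : X.Modules} (φ : F ⟶ G) (U : X.Opens) :
    Γ(F, U) →ₗ[Γ(X, U)] Γ(G, U) where
  toFun := φ.app U
  map_add' := fun x y => map_add _ x y
  map_smul' := fun r x => Scheme.Modules.Hom.app_smul φ r x

@[simp] theorem secLin_apply {F G : X.Modules} (φ : F ⟶ G) (U : X.Opens) (x : Γ(F, U)) :
    secLin φ U x = φ.app U x := rfl

/-- `H` has finitely generated sections over every affine open contained in `W`. -/
def FTOn (H : X.Modules) (W : X.Opens) : Prop :=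
  ∀ U : X.Opens, IsAffineOpen U → U ≤ W → Module.Finite Γ(X, U) Γ(H, U)

theorem FTOn.mono {H : X.Modules} {W W' : X.Opens} (h : FTOn H W) (hle : W' ≤ W) : FTOn H W' :=
  fun U hU hUW => h U hU (hUW.trans hle)

theorem ftOn_top_iff (H : X.Modules) [H.IsQuasicoherent] : FTOn H ⊤ ↔ CohB1.IsFT H := by
  rw [CohB1.IsFT, isFiniteType_iff_finite_sections]
  exact ⟨fun h U => h U.1 U.2 le_top, fun h U hU _ => h ⟨U, hU⟩⟩

theorem ftOn_of_isFT (H : X.Modules) [H.IsQuasicoherent] (h : CohB1.IsFT H) (W : X.Opens) :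
    FTOn H W := ((ftOn_top_iff H).mpr h).mono le_top

theorem FTOn.sup {H : X.Modules} [H.IsQuasicoherent] {A B : X.Opens} (h1 : FTOn H A)
    (h2 : FTOn H B) : FTOn H (A ⊔ B) := by
  intro U hU hUW
  let t : Set Γ(X, U) := {f | Module.Finite Γ(X, X.basicOpen f) Γ(H, X.basicOpen f)}
  refine finite_of_basicOpen_cover H hU t ?_ (fun g => g.2)
  rw [← hU.self_le_iSup_basicOpen_iff]
  intro x hxU
  have hx : x ∈ A ⊔ B := hUW hxU
  rcases (Opens.mem_sup.mp hx) with hxA | hxB
  · obtain ⟨f, hf, hxf⟩ := hU.exists_basicOpen_le (V := A) ⟨x, hxA⟩ hxU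
    exact Opens.mem_iSup.mpr ⟨⟨f, h1 _ (hU.basicOpen f) hf⟩, hxf⟩
  · obtain ⟨f, hf, hxf⟩ := hU.exists_basicOpen_le (V := B) ⟨x, hxB⟩ hxU
    exact Opens.mem_iSup.mpr ⟨⟨f, h2 _ (hU.basicOpen f) hf⟩, hxf⟩

theorem FTOn.of_isoOn {A B : X.Modules} {φ : A ⟶ B} {W : X.Opens} (h : IsoOn φ W)
    (hB : FTOn B W) : FTOn A W := by
  intro U hU hUW
  haveI := hB U hU hUW
  let e : Γ(A, U) ≃ₗ[Γ(X, U)] Γ(B, U) := LinearEquiv.ofBijective (secLin φ U) (h U hUW)
  exact Module.Finite.equiv e.symm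

theorem FTOn.of_isoOn' {A B : X.Modules} {φ : A ⟶ B} {W : X.Opens} (h : IsoOn φ W)
    (hA : FTOn A W) : FTOn B W := by
  intro U hU hUW
  haveI := hA U hU hUW
  let e : Γ(A, U) ≃ₗ[Γ(X, U)] Γ(B, U) := LinearEquiv.ofBijective (secLin φ U) (h U hUW)
  exact Module.Finite.equiv e

theorem FTOn.of_iso {A B : X.Modules} (e : A ≅ B) {W : X.Opens} (hA : FTOn A W) : FTOn B W :=
  FTOn.of_isoOn' (isoOn_of_isIso e.hom W) hA

/-- Finiteness of sections of a restriction. -/
theorem finite_of_finite_restrict (j : Y ⟶ X) [IsOpenImmersion j] (H : X.Modules) (U' : Y.Opens)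
    (h : Module.Finite Γ(Y, U') Γ(H.restrict j, U')) :
    Module.Finite Γ(X, j ''ᵁ U') Γ(H, j ''ᵁ U') := by
  let σ : Γ(Y, U') →+* Γ(X, j ''ᵁ U') := (j.appIso U').inv.hom
  haveI : RingHomSurjective σ :=
    ⟨(ConcreteCategory.bijective_of_isIso (j.appIso U').inv).2⟩
  let f : Γ(H.restrict j, U') →ₛₗ[σ] Γ(H, j ''ᵁ U') :=
    { toFun := fun x => x
      map_add' := fun _ _ => rfl
      map_smul' := fun _ _ => rfl }
  exact Module.Finite.of_surjective f Function.surjective_id

theorem finite_restrict_of_finite (j : Y ⟶ X) [IsOpenImmersion j] (H : X.Modules) (U' : Y.Opens)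
    (h : Module.Finite Γ(X, j ''ᵁ U') Γ(H, j ''ᵁ U')) :
    Module.Finite Γ(Y, U') Γ(H.restrict j, U') := by
  let σ : Γ(X, j ''ᵁ U') →+* Γ(Y, U') := (j.appIso U').hom.hom
  haveI : RingHomSurjective σ :=
    ⟨(ConcreteCategory.bijective_of_isIso (j.appIso U').hom).2⟩
  let f : Γ(H, j ''ᵁ U') →ₛₗ[σ] Γ(H.restrict j, U') :=
    { toFun := fun x => x
      map_add' := fun _ _ => rfl
      map_smul' := fun r x => by
        change r • x = ((j.appIso U').inv.hom ((j.appIso U').hom.hom r)) • x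
        simp }
  exact Module.Finite.of_surjective f Function.surjective_id

/-- If `H|_W` is of finite type (and `H` quasi-coherent), then `H` is of finite type on `W`. -/
theorem ftOn_of_isFT_restrict (H : X.Modules) [H.IsQuasicoherent] (W : X.Opens)
    (h : CohB1.IsFT (H.restrict W.ι)) : FTOn H W := by
  intro U hU hUW
  have e : W.ι ''ᵁ (W.ι ⁻¹ᵁ U) = U := by
    rw [Scheme.Hom.image_preimage_eq_opensRange_inf, Scheme.Opens.opensRange_ι]
    exact inf_eq_right.mpr hUW
  have hU' : IsAffineOpen (W.ι ⁻¹ᵁ U) := by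
    rw [← W.ι.isAffineOpen_iff_of_isOpenImmersion, e]; exact hU
  haveI : (H.restrict W.ι).IsQuasicoherent := inferInstance
  have h1 := finite_sections_of_isFiniteType (H.restrict W.ι) h hU'
  have h2 := finite_of_finite_restrict W.ι H _ h1
  exact e ▸ h2

/-- Conversely. -/
theorem isFT_restrict_of_ftOn (H : X.Modules) [H.IsQuasicoherent] (W : X.Opens)
    (h : FTOn H W) : CohB1.IsFT (H.restrict W.ι) := by
  haveI : (H.restrict W.ι).IsQuasicoherent := inferInstance
  rw [CohB1.IsFT, isFiniteType_iff_finite_sections]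
  intro U'
  apply finite_restrict_of_finite
  apply h _ (U'.2.image_of_isOpenImmersion W.ι)
  intro x hx
  obtain ⟨y, -, rfl⟩ := hx
  exact y.2

end Groth.Agent.Lib.helper16.Satur
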