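import Groth.Agent.Lib.Helper21.TensorMon
import Groth.Agent.Lib.Lead.ModTensor
import Groth.Agent.Lib.Helper12.TensorRestrict
import Groth.Agent.Lib.Helper16.FLF5

/-!
# Tensor products of finite locally free modules (helper16)

* `T W` : the functor `W ⊗ -` on `X.Modules` (helper21's `tensL`), `T_pres`: it preserves colimits
* `tensor_free` : `O^n ⊗ O^m ≅ O^(n*m)`
* `isFinLocFree_tensor`
-/

set_option autoImplicit false
universe u
open CategoryTheory CategoryTheory.Limits AlgebraicGeometry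

namespace Groth.Agent.Lib.helper16.FLFTensor

variable {X : Scheme.{u}}

/-- `W ⊗ -` as a functor -/
noncomputable abbrev T (W : X.Modules) : X.Modules ⥤ X.Modules :=
  Groth.Agent.Lib.Helper21.TensorMon.tensL X.sheaf W

lemma T_obj (W N : X.Modules) : (T W).obj N = CohB1.tensorMod W N := rfl

theorem T_pres (W : X.Modules) : PreservesColimitsOfSize.{u, u} (T W) :=
  Groth.Agent.Lib.Helper21.TensorMon.preservesColimits_tensL X.sheaf W

/-- tensor product of free modules is free -/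
theorem tensor_free (n m : ℕ) :
    Nonempty (CohB1.tensorMod (FlatMod.freeMod X n) (FlatMod.freeMod X m) ≅
      FlatMod.freeMod X (n * m)) := by
  haveI := T_pres (FlatMod.freeMod X n)
  let e1 : (T (FlatMod.freeMod X n)).obj (∐ fun _ : Fin m => Coh.structureModule X) ≅
      ∐ fun _ : Fin m => (T (FlatMod.freeMod X n)).obj (Coh.structureModule X) :=
    PreservesCoproduct.iso (T (FlatMod.freeMod X n)) (fun _ : Fin m => Coh.structureModule X)
  let e2 : (∐ fun _ : Fin m => (T (FlatMod.freeMod X n)).obj (Coh.structureModule X)) ≅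
      ∐ fun _ : Fin m => FlatMod.freeMod X n :=
    Sigma.mapIso (fun _ => Groth.Agent.Lib.Lead.ModTensor.rightUnitor _)
  let e3 : (∐ fun _ : Fin m => FlatMod.freeMod X n) ≅
      ∐ fun _ : (Σ _ : Fin m, Fin n) => Coh.structureModule X :=
    sigmaSigmaIso (fun _ : Fin m => Fin n) (fun _ _ => Coh.structureModule X)
  let eq : (Σ _ : Fin m, Fin n) ≃ Fin (n * m) :=
    (Equiv.sigmaEquivProd (Fin m) (Fin n)).trans
      ((Equiv.prodComm _ _).trans finProdFinEquiv)
  let e4 : (∐ fun _ : (Σ _ : Fin m, Fin n) => Coh.structureModule X) ≅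
      ∐ fun _ : Fin (n * m) => Coh.structureModule X :=
    Sigma.whiskerEquiv (f := fun _ : (Σ _ : Fin m, Fin n) => Coh.structureModule X)
      (g := fun _ : Fin (n * m) => Coh.structureModule X) eq (fun _ => Iso.refl _)
  exact ⟨e1 ≪≫ e2 ≪≫ e3 ≪≫ e4⟩

open Groth.Agent.Lib.helper16.FLF in
/-- tensor product of finite locally free modules is finite locally free -/
theorem isFinLocFree_tensor {W V : X.Modules} (hW : FlatMod.IsFinLocFree W)
    (hV : FlatMod.IsFinLocFree V) : FlatMod.IsFinLocFree (CohB1.tensorMod W V) := by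
  intro x
  obtain ⟨U1, n, hx1, ⟨i1⟩⟩ := hW x
  obtain ⟨U2, m, hx2, ⟨i2⟩⟩ := hV x
  obtain ⟨j1⟩ := restrict_iso_freeMod_of_le W (inf_le_left : U1 ⊓ U2 ≤ U1) n i1
  obtain ⟨j2⟩ := restrict_iso_freeMod_of_le V (inf_le_right : U1 ⊓ U2 ≤ U2) m i2
  obtain ⟨j3⟩ := tensor_free (X := (U1 ⊓ U2 : X.Opens)) n m
  refine ⟨U1 ⊓ U2, n * m, ⟨hx1, hx2⟩, ⟨?_⟩⟩
  exact Groth.Agent.Lib.helper12.TensorRestrict.restrictTensorIso (U1 ⊓ U2).ι W V ≪≫
    Groth.Agent.Lib.Lead.ModTensor.tensorIso j1 j2 ≪≫ j3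


end Groth.Agent.Lib.helper16.FLFTensor
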