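import Groth.Prelude.Def_CxOX
import Groth.Prelude.Def_CohB1
import Groth.Agent.Lib.Helper7.QCohProd
import Groth.Agent.Lib.Helper7.QCohPushQC
import Groth.Agent.Lib.Helper11.IsoLocus

/-!
# Saturation of a submodule of a restriction (helper16)

For an open immersion `j : Y ⟶ X`, an `O_X`-module `K` and a morphism `i : N ⟶ K|_Y`, the *saturation*
`satur j i := K ×_{j_* j^* K} j_* N` is the largest submodule of `K` whose restriction to `Y` is `N`
(EGA I 9.4.2). Sections over `W`: pairs `(s, n)` with `s ∈ K(W)`, `n ∈ N(j⁻¹W)`, `s|_{j j⁻¹ W} = i n`.
-/

set_option autoImplicit false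
universe u
open CategoryTheory CategoryTheory.Limits AlgebraicGeometry TopologicalSpace Opposite
open Scheme.Modules

namespace Groth.Agent.Lib.helper16.Satur

variable {X Y : Scheme.{u}} (j : Y ⟶ X) [IsOpenImmersion j] {K : X.Modules} {N : Y.Modules}
  (i : N ⟶ K.restrict j)

/-- The saturation `K ×_{j_* j^* K} j_* N`. -/
noncomputable def satur : X.Modules :=
  Limits.pullback ((restrictAdjunction j).unit.app K) ((pushforward j).map i)

/-- The canonical map `satur j i ⟶ K`. -/
noncomputable def saturι : satur j i ⟶ K := Limits.pullback.fst _ _

/-- The canonical map `satur j i ⟶ j_* N`. -/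
noncomputable def saturπ : satur j i ⟶ (pushforward j).obj N := Limits.pullback.snd _ _

theorem satur_condition :
    saturι j i ≫ (restrictAdjunction j).unit.app K = saturπ j i ≫ (pushforward j).map i :=
  Limits.pullback.condition

instance [Mono i] : Mono (saturι j i) := by
  haveI : Mono ((pushforward j).map i) := inferInstance
  exact Limits.pullback.fst_of_mono

/-- The sections functor over `W`. -/
noncomputable abbrev secF (W : X.Opens) : X.Modules ⥤ Ab.{u} :=
  toPresheaf X ⋙ (CategoryTheory.evaluation _ Ab.{u}).obj (op W)

theorem secF_map {A B : X.Modules} (φ : A ⟶ B) (W : X.Opens) : (secF W).map φ = φ.app W := rfl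

/-- Existence of sections of the saturation. -/
theorem exists_section_satur (W : X.Opens) (s : Γ(K, W)) (n : Γ(N, j ⁻¹ᵁ W))
    (h : ((restrictAdjunction j).unit.app K).app W s = i.app (j ⁻¹ᵁ W) n) :
    ∃ p : Γ(satur j i, W), (saturι j i).app W p = s ∧ (saturπ j i).app W p = n := by
  let f := (restrictAdjunction j).unit.app K
  let g := (pushforward j).map i
  let e := PreservesPullback.iso (secF W) f g
  have h' : (ConcreteCategory.hom ((secF W).map f)) s = (ConcreteCategory.hom ((secF W).map g)) n := h
  let p0 := Concrete.pullbackMk ((secF W).map f) ((secF W).map g) s n h'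
  refine ⟨(show Γ(satur j i, W) from (ConcreteCategory.hom e.inv) p0), ?_, ?_⟩
  · have := PreservesPullback.iso_inv_fst (secF W) f g
    have h2 := ConcreteCategory.congr_hom this p0
    rw [Concrete.pullbackMk_fst] at h2
    exact h2
  · have := PreservesPullback.iso_inv_snd (secF W) f g
    have h2 := ConcreteCategory.congr_hom this p0
    rw [Concrete.pullbackMk_snd] at h2
    exact h2

/-- Sections of a monomorphism of modules are injective. -/
theorem injective_app_of_mono {A B : X.Modules} (φ : A ⟶ B) [Mono φ] (W : X.Opens) :
    Function.Injective (φ.app W) := by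
  haveI : Mono ((secF W).map φ) := inferInstance
  exact (AddCommGrpCat.mono_iff_injective ((secF W).map φ)).mp inferInstance

theorem saturι_app_injective [Mono i] (W : X.Opens) : Function.Injective ((saturι j i).app W) :=
  injective_app_of_mono _ W

/-- A section `s` of `K` lies in the saturation iff its restriction to `j(Y)` comes from `N`. -/
theorem mem_range_saturι_iff (W : X.Opens) (s : Γ(K, W)) :
    s ∈ Set.range ((saturι j i).app W) ↔
      ((restrictAdjunction j).unit.app K).app W s ∈ Set.range (i.app (j ⁻¹ᵁ W)) := by
  constructor
  · rintro ⟨p, rfl⟩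
    refine ⟨(saturπ j i).app W p, ?_⟩
    have := congr_arg (fun φ => (Hom.app φ W) p) (satur_condition j i)
    exact this.symm
  · rintro ⟨n, hn⟩
    obtain ⟨p, hp, -⟩ := exists_section_satur j i W s n hn.symm
    exact ⟨p, hp⟩

/-- If `i` is surjective on sections over `j⁻¹ W`, then `saturι` is bijective on sections over `W`. -/
theorem saturι_app_bijective [Mono i] (W : X.Opens)
    (h : Function.Surjective (i.app (j ⁻¹ᵁ W))) : Function.Bijective ((saturι j i).app W) := by
  refine ⟨saturι_app_injective j i W, fun s => ?_⟩
  exact (mem_range_saturι_iff j i W s).mpr (h _)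

/-- The saturation of quasi-coherent data along a quasi-compact open immersion is quasi-coherent. -/
theorem isQuasicoherent_satur [QuasiCompact j] [K.IsQuasicoherent] [N.IsQuasicoherent] :
    (satur j i).IsQuasicoherent := by
  haveI : (K.restrict j).IsQuasicoherent := inferInstance
  exact Groth.Agent.Lib.helper7.QCohProd.isQuasicoherent_pullback (A := K) ‹_›
    (Groth.Agent.Lib.helper7.QCohPushQC.isQuasicoherent_pushforward j N)
    (Groth.Agent.Lib.helper7.QCohPushQC.isQuasicoherent_pushforward j (K.restrict j)) _ _

/-- The comparison map `(satur j i)|_Y ⟶ N`. -/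
noncomputable def saturRestrictHom : (satur j i).restrict j ⟶ N :=
  (restrictFunctor j).map (saturπ j i) ≫ (restrictAdjunction j).counit.app N

theorem saturRestrictHom_comp :
    saturRestrictHom j i ≫ i = (restrictFunctor j).map (saturι j i) := by
  have h1 := (restrictAdjunction j).counit.naturality i
  have h2 := (restrictAdjunction j).left_triangle_components K
  simp only [Functor.comp_obj, Functor.id_obj, Functor.comp_map, Functor.id_map] at h1 h2
  rw [saturRestrictHom, Category.assoc, ← h1, ← Functor.map_comp_assoc, ← satur_condition,
    Functor.map_comp_assoc, h2, Category.comp_id]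

instance : IsIso (saturRestrictHom j i) := by
  have hpb : IsPullback (saturι j i) (saturπ j i) ((restrictAdjunction j).unit.app K)
      ((pushforward j).map i) := IsPullback.of_hasPullback _ _
  have hpb' := hpb.map (restrictFunctor j)
  have h2 := (restrictAdjunction j).left_triangle_components K
  haveI : IsIso ((restrictFunctor j).map ((restrictAdjunction j).unit.app K)) := by
    have : (restrictFunctor j).map ((restrictAdjunction j).unit.app K) =
        inv ((restrictAdjunction j).counit.app ((restrictFunctor j).obj K)) := by
      rw [← cancel_mono ((restrictAdjunction j).counit.app ((restrictFunctor j).obj K))]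
      simp [h2]
    rw [this]; infer_instance
  haveI : IsIso ((restrictFunctor j).map (saturπ j i)) := hpb'.isIso_snd_of_isIso
  rw [saturRestrictHom]; infer_instance

/-- The restriction of the saturation to `Y` is `N`. -/
noncomputable def saturRestrictIso : (satur j i).restrict j ≅ N := asIso (saturRestrictHom j i)

@[simp] theorem saturRestrictIso_hom : (saturRestrictIso j i).hom = saturRestrictHom j i := rfl

theorem saturRestrictIso_hom_comp :
    (saturRestrictIso j i).hom ≫ i = (restrictFunctor j).map (saturι j i) :=
  saturRestrictHom_comp j i

end Groth.Agent.Lib.helper16.Satur
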