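import Groth.Agent.Lib.Helper16.PushColim2
import Groth.Agent.Lib.Helper21.ModAdj

/-!
# Pushforward of sheaves of modules along a closed immersion preserves colimits and is a
left adjoint (helper16)
-/

set_option autoImplicit false
universe u
open CategoryTheory CategoryTheory.Limits TopologicalSpace Opposite AlgebraicGeometry
namespace Groth.Agent.Lib.helper16.PushColim
variable {Z X : Scheme.{u}} (i : Z ⟶ X)

noncomputable def pushToSheafIso :
    Scheme.Modules.pushforward i ⋙ SheafOfModules.toSheaf X.ringCatSheaf ≅
      SheafOfModules.toSheaf Z.ringCatSheaf ⋙ TopCat.Sheaf.pushforward AddCommGrpCat.{u} i.base :=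
  NatIso.ofComponents (fun M => Iso.refl _) (fun {M N} φ => by
    simp only [Iso.refl_hom, Category.comp_id, Category.id_comp]
    rfl)

theorem reflectsColimits_toSheaf :
    ReflectsColimitsOfSize.{u, u} (SheafOfModules.toSheaf.{u} X.ringCatSheaf) := by
  haveI := Groth.Agent.Lib.Helper21.ModSh.toSheaf_preservesColimits X.ringCatSheaf
  exact ⟨fun {J} _ => reflectsColimitsOfShape_of_reflectsIsomorphisms⟩

theorem preservesColimits_pushforward [IsClosedImmersion i] :
    PreservesColimitsOfSize.{u, u} (Scheme.Modules.pushforward i) := by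
  have h1 := Groth.Agent.Lib.Helper21.ModSh.toSheaf_preservesColimits Z.ringCatSheaf
  have h2 := preservesColimits_pushforward_of_isClosedEmbedding i.base i.isClosedEmbedding
  have h3 : PreservesColimitsOfSize.{u, u}
    (SheafOfModules.toSheaf.{u} Z.ringCatSheaf ⋙ TopCat.Sheaf.pushforward AddCommGrpCat.{u} i.base) :=
    @comp_preservesColimits _ _ _ _ _ _ _ _ h1 h2
  have h4 : PreservesColimitsOfSize.{u, u}
      (Scheme.Modules.pushforward i ⋙ SheafOfModules.toSheaf X.ringCatSheaf) :=
    @preservesColimits_of_natIso _ _ _ _ _ _ (pushToSheafIso i).symm h3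
  have h5 := reflectsColimits_toSheaf (X := X)
  refine ⟨fun {J} _ => ⟨fun {K} => ?_⟩⟩
  exact @preservesColimit_of_reflects_of_preserves _ _ _ _ _ _ K _ _ (Scheme.Modules.pushforward i)
      (SheafOfModules.toSheaf X.ringCatSheaf) (h4.preservesColimitsOfShape.preservesColimit)
      (h5.reflectsColimitsOfShape.reflectsColimit)

theorem isLeftAdjoint_pushforward [IsClosedImmersion i] :
    (Scheme.Modules.pushforward i).IsLeftAdjoint := by
  have h := preservesColimits_pushforward i
  exact @Groth.Agent.Lib.Helper21.ModAdj.isLeftAdjoint_of_preservesColimits _ _ _ Z.ringCatSheaf _ _ _ h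

end Groth.Agent.Lib.helper16.PushColim
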