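import Groth.Agent.Lib.Helper16.FLF3
import Groth.Agent.Lib.Helper16.QCohFibre

/-!
# Finite locally free modules: retracts (helper16)

* `sectionsLin φ U`: the linear map on sections induced by a morphism of modules
* `isFinLocFree_freeMod`
* `isQuasicoherent_of_retract`
* `isFinLocFree_of_retract`: a retract of a finite locally free module is finite locally free
-/

set_option autoImplicit false
universe u
open CategoryTheory CategoryTheory.Limits AlgebraicGeometry TopologicalSpace Opposite

namespace Groth.Agent.Lib.helper16.FLF

open Scheme.Modules Groth.Agent.Lib.helper16.QCohPullback Groth.Agent.Lib.helper16.CohFinite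
  Groth.Agent.Lib.helper16.CohFP Groth.Agent.Lib.helper16.CohStalk Groth.Agent.Lib.helper7

variable {X : Scheme.{u}}

/-- the linear map on sections induced by a morphism of modules -/
noncomputable def sectionsLin {F G : X.Modules} (φ : F ⟶ G) (U : X.Opens) :
    Γ(F, U) →ₗ[Γ(X, U)] Γ(G, U) where
  toFun := φ.app U
  map_add' := fun x y => map_add _ x y
  map_smul' := fun r x => Scheme.Modules.Hom.app_smul φ r x

theorem sectionsLin_comp {F G H : X.Modules} (φ : F ⟶ G) (ψ : G ⟶ H) (U : X.Opens) :
    sectionsLin (φ ≫ ψ) U = (sectionsLin ψ U).comp (sectionsLin φ U) := by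
  ext x
  change (φ ≫ ψ).app U x = ψ.app U (φ.app U x)
  rw [Scheme.Modules.Hom.comp_app]
  rfl

theorem sectionsLin_id (F : X.Modules) (U : X.Opens) : sectionsLin (𝟙 F) U = LinearMap.id := by
  ext x
  rfl

theorem isFinLocFree_freeMod (X : Scheme.{u}) (n : ℕ) : FlatMod.IsFinLocFree (FlatMod.freeMod X n) :=
  fun _ => ⟨⊤, n, trivial, ⟨restrictFreeModIso (⊤ : X.Opens).ι n⟩⟩

/-- a retract of a quasi-coherent module is quasi-coherent -/
theorem isQuasicoherent_of_retract {M P : X.Modules} [P.IsQuasicoherent] (i : M ⟶ P) (r : P ⟶ M)
    (h : i ≫ r = 𝟙 M) : M.IsQuasicoherent := by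
  let q : P ⟶ P := 𝟙 P - r ≫ i
  haveI : (kernel q).IsQuasicoherent := CohKer.isQuasicoherent_kernel q
  have hiq : i ≫ q = 0 := by
    simp only [q, Preadditive.comp_sub, Category.comp_id]
    rw [← Category.assoc, h, Category.id_comp, sub_self]
  let iso : kernel q ≅ M :=
    { hom := kernel.ι q ≫ r
      inv := kernel.lift q i hiq
      hom_inv_id := by
        apply (cancel_mono (kernel.ι q)).1
        rw [Category.assoc, Category.assoc, kernel.lift_ι, Category.id_comp]
        have : kernel.ι q ≫ q = 0 := kernel.condition q
        simp only [q, Preadditive.comp_sub, Category.comp_id] at this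
        exact (sub_eq_zero.mp this).symm
      inv_hom_id := by
        rw [← Category.assoc, kernel.lift_ι, h] }
  exact QCohFibre.isQuasicoherent_of_iso iso

/-- **A retract of a finite locally free module is finite locally free.** -/
theorem isFinLocFree_of_retract {M P : X.Modules} (hP : FlatMod.IsFinLocFree P) (i : M ⟶ P)
    (r : P ⟶ M) (h : i ≫ r = 𝟙 M) : FlatMod.IsFinLocFree M := by
  haveI : P.IsQuasicoherent := isQuasicoherent_of_isFinLocFree P hP
  haveI : M.IsQuasicoherent := isQuasicoherent_of_retract i r h
  have hPfp := isFinitePresentation_of_isFinLocFree P hP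
  have hcomp : ∀ U : X.Opens, (sectionsLin r U).comp (sectionsLin i U) = LinearMap.id := by
    intro U
    rw [← sectionsLin_comp, h, sectionsLin_id]
  -- sections of `M` over affine opens are finitely presented
  have hfpsec : ∀ (U : X.Opens), IsAffineOpen U → Module.FinitePresentation Γ(X, U) Γ(M, U) := by
    intro U hU
    haveI := fp_sections_of_isFinitePresentation P hPfp hU
    haveI : Module.Finite Γ(X, U) Γ(P, U) := inferInstance
    have hsurj : Function.Surjective (sectionsLin r U) := fun m =>
      ⟨sectionsLin i U m, LinearMap.congr_fun (hcomp U) m⟩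
    refine Module.finitePresentation_of_surjective (sectionsLin r U) hsurj ?_
    have hker : LinearMap.ker (sectionsLin r U) =
        LinearMap.range (LinearMap.id - (sectionsLin i U).comp (sectionsLin r U)) := by
      ext p
      simp only [LinearMap.mem_ker, LinearMap.mem_range]
      constructor
      · intro hp
        refine ⟨p, ?_⟩
        simp [hp]
      · rintro ⟨p', rfl⟩
        have := LinearMap.congr_fun (hcomp U) (sectionsLin r U p')
        simp only [LinearMap.sub_apply, LinearMap.id_apply, LinearMap.comp_apply, map_sub] at this ⊢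
        rw [this, sub_self]
    rw [hker]
    rw [LinearMap.range_eq_map]
    exact Module.Finite.fg_top.map _
  have hfp : CohB1.IsFP M :=
    isFinitePresentation_of_fp_sections M (fun U : X.affineOpens => U.1) (fun U => U.2)
      (iSup_affineOpens_eq_top X) (fun U => hfpsec U.1 U.2)
  refine isFinLocFree_of_fp_of_free_stalks M hfp (fun x => ?_)
  obtain ⟨U, n, hU, hx, -, ⟨e⟩⟩ := exists_affine_free_sections_of_isFinLocFree P hP x
  haveI : Module.Free Γ(X, U) Γ(P, U) := Module.Free.of_equiv e.symm
  haveI : Module.Projective Γ(X, U) Γ(M, U) :=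
    Module.Projective.of_split (sectionsLin i U) (sectionsLin r U) (hcomp U)
  haveI := hfpsec U hU
  haveI : Module.Finite Γ(X, U) Γ(M, U) := inferInstance
  letI := TopCat.Presheaf.algebra_section_stalk X.presheaf (⟨x, hx⟩ : U)
  letI := modStalk M x hx
  haveI := isScalarTower_stalk M x hx
  haveI : IsLocalization.AtPrime (X.presheaf.stalk x) (hU.primeIdealOf ⟨x, hx⟩).asIdeal :=
    hU.isLocalization_stalk ⟨x, hx⟩
  haveI := isLocalizedModule_stalk M hU x hx
  haveI : Module.Projective (X.presheaf.stalk x) (M.presheaf.stalk x) :=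
    Module.projective_of_isLocalizedModule (hU.primeIdealOf ⟨x, hx⟩).asIdeal.primeCompl
      (germLin M x hx)
  haveI : Module.Finite (X.presheaf.stalk x) (M.presheaf.stalk x) :=
    Module.Finite.of_isLocalizedModule (hU.primeIdealOf ⟨x, hx⟩).asIdeal.primeCompl
      (germLin M x hx)
  exact Module.free_of_flat_of_isLocalRing

end Groth.Agent.Lib.helper16.FLF
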