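import Groth.Agent.Lib.Helper16.FLF1

/-!
# Finite locally free modules: the bridge to sections (helper16)

* `restrict_iso_freeMod_of_le`: shrink the open on which `M` is free
* `exists_affine_free_sections_of_isFinLocFree`
* `isQuasicoherent_of_isFinLocFree`
* `isFinLocFree_iff_sections`: for `M` quasi-coherent, `IsFinLocFree M` iff every point has an
  affine open neighbourhood `U` with `Γ(M,U) ≃ₗ Γ(X,U)^n`
* `isFinLocFree_of_iso`
-/

set_option autoImplicit false
universe u
open CategoryTheory CategoryTheory.Limits AlgebraicGeometry TopologicalSpace Opposite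

namespace Groth.Agent.Lib.helper16.FLF

open Scheme.Modules Groth.Agent.Lib.helper16.QCohPullback

variable {X : Scheme.{u}} (M : X.Modules)

/-- restriction to a smaller open, in two steps -/
noncomputable def restrictRestrictIso {U V : X.Opens} (h : V ≤ U) :
    (M.restrict U.ι).restrict (X.homOfLE h) ≅ M.restrict V.ι :=
  ((Scheme.Modules.restrictFunctorComp (X.homOfLE h) U.ι).app M).symm ≪≫
    (Scheme.Modules.restrictFunctorCongr (X.homOfLE_ι h)).app M

/-- a module free on `U` is free on every smaller open -/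
theorem restrict_iso_freeMod_of_le {U V : X.Opens} (h : V ≤ U) (n : ℕ)
    (iso : M.restrict U.ι ≅ FlatMod.freeMod (↑U) n) :
    Nonempty (M.restrict V.ι ≅ FlatMod.freeMod (↑V) n) :=
  ⟨(restrictRestrictIso M h).symm ≪≫ (Scheme.Modules.restrictFunctor (X.homOfLE h)).mapIso iso ≪≫
    restrictFreeModIso (X.homOfLE h) n⟩

theorem exists_affine_free_sections_of_isFinLocFree (hM : FlatMod.IsFinLocFree M) (x : X) :
    ∃ (U : X.Opens) (n : ℕ), IsAffineOpen U ∧ x ∈ U ∧
      Nonempty (M.restrict U.ι ≅ FlatMod.freeMod (↑U) n) ∧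
      Nonempty (Γ(M, U) ≃ₗ[Γ(X, U)] (Fin n → Γ(X, U))) := by
  obtain ⟨U, n, hxU, ⟨iso⟩⟩ := hM x
  obtain ⟨V, hV, hxV, hVU⟩ := Opens.isBasis_iff_nbhd.mp X.isBasis_affineOpens hxU
  obtain ⟨iso'⟩ := restrict_iso_freeMod_of_le M hVU n iso
  exact ⟨V, n, hV, hxV, ⟨iso'⟩, sections_of_restrict_iso_freeMod M hV n iso'⟩

/-- the restriction to `Spec Γ(X,U)` of a module free on the affine open `U` is a tilde -/
noncomputable def restrictSpecIsoTilde {U : X.Opens} (hU : IsAffineOpen U) (n : ℕ)
    (iso : M.restrict U.ι ≅ FlatMod.freeMod (↑U) n) :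
    M.restrict hU.fromSpec ≅ tilde (stdFree Γ(X, U) n) :=
  (restrictIsoSpecIso' M hU).symm ≪≫
    (Scheme.Modules.restrictFunctor hU.isoSpec.inv).mapIso iso ≪≫
    restrictFreeModIso hU.isoSpec.inv n ≪≫ (tildeFreeModIso Γ(X, U) n).symm

/-- **Finite locally free modules are quasi-coherent.** -/
theorem isQuasicoherent_of_isFinLocFree (hM : FlatMod.IsFinLocFree M) : M.IsQuasicoherent := by
  choose U n hU hxU hiso hsec using exists_affine_free_sections_of_isFinLocFree M hM
  refine isQuasicoherent_of_cover M U ?_ (fun x => ?_)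
  · rw [eq_top_iff]
    intro x _
    exact Opens.mem_iSup.mpr ⟨x, hxU x⟩
  · exact nonempty_presentation_restrict_of_iso_tilde M (hU x) _
      (restrictSpecIsoTilde M (hU x) (n x) (hiso x).some)

/-- **Bridge**: a quasi-coherent module is finite locally free iff locally on affine opens its
module of sections is free of finite rank. -/
theorem isFinLocFree_iff_sections [M.IsQuasicoherent] :
    FlatMod.IsFinLocFree M ↔ ∀ x : X, ∃ (U : X.Opens) (n : ℕ), IsAffineOpen U ∧ x ∈ U ∧
      Nonempty (Γ(M, U) ≃ₗ[Γ(X, U)] (Fin n → Γ(X, U))) := by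
  constructor
  · intro hM x
    obtain ⟨U, n, hU, hxU, -, hsec⟩ := exists_affine_free_sections_of_isFinLocFree M hM x
    exact ⟨U, n, hU, hxU, hsec⟩
  · intro h x
    obtain ⟨U, n, hU, hxU, ⟨e⟩⟩ := h x
    exact ⟨U, n, hxU, restrict_iso_freeMod_of_sections M hU n e⟩

variable {M}

/-- `IsFinLocFree` is invariant under isomorphism -/
theorem isFinLocFree_of_iso {N : X.Modules} (e : M ≅ N) (hM : FlatMod.IsFinLocFree M) :
    FlatMod.IsFinLocFree N := by
  intro x
  obtain ⟨U, n, hxU, ⟨iso⟩⟩ := hM x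
  exact ⟨U, n, hxU, ⟨(Scheme.Modules.restrictFunctor U.ι).mapIso e.symm ≪≫ iso⟩⟩

end Groth.Agent.Lib.helper16.FLF
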