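import Groth.Agent.Lib.Helper16.CohFinite

/-!
# Finitely presented modules and finitely presented sections on affine opens (helper16)

`fp_of_presentation` (Spec R), `exists_isOpenCover_presentations`, `fp_sections_of_presentation`,
`fp_of_eq_basicOpen`, `fp_of_basicOpen_cover`, `fp_sections_of_cover`,
`fp_sections_of_isFinitePresentation`, `isFinitePresentation_iff_fp_sections`.
-/

set_option autoImplicit false
universe u
open CategoryTheory CategoryTheory.Limits AlgebraicGeometry TopologicalSpace Opposite

namespace Groth.Agent.Lib.helper16.CohFP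

open Scheme.Modules Groth.Agent.Lib.helper7 Groth.Agent.Lib.helper16.CohFinite

section Spec

variable {R : CommRingCat.{u}}

theorem fp_cokernel {A B : ModuleCat.{u} R} (g : A ⟶ B) [Module.Finite R A]
    [Module.Free R B] [Module.Finite R B] : Module.FinitePresentation R (cokernel g : ModuleCat.{u} R) := by
  have h1 : Module.FinitePresentation R (B ⧸ LinearMap.range g.hom) := by
    refine Module.finitePresentation_of_free_of_surjective (LinearMap.range g.hom).mkQ
      (Submodule.mkQ_surjective _) ?_
    rw [Submodule.ker_mkQ]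
    exact Submodule.fg_range g.hom
  exact Module.FinitePresentation.of_equiv (ModuleCat.cokernelIsoRangeQuotient g).symm.toLinearEquiv

set_option backward.isDefEq.respectTransparency false in
/-- On `Spec R`: a module with a finite global presentation has finitely presented global
sections. -/
theorem fp_of_presentation (N : (Spec R).Modules) (P : SheafOfModules.Presentation N) [P.IsFinite] :
    Module.FinitePresentation R ((modulesSpecToSheaf.obj N).presheaf.obj (.op ⊤)) := by
  haveI : Finite P.generators.I := SheafOfModules.GeneratingSections.IsFiniteType.finite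
  haveI : Finite P.relations.I := SheafOfModules.GeneratingSections.IsFiniteType.finite
  let g := (tilde.functor R).preimage <| (tildeFinsupp _).hom ≫ P.relations.π ≫ kernel.ι _ ≫
    (tildeFinsupp _).inv
  let iso : cokernel ((tilde.functor R).map g) ≅ cokernel (P.relations.π ≫ kernel.ι _) := by
    refine cokernel.mapIso _ _ (tildeFinsupp _) (tildeFinsupp _) ?_
    simp only [g, (tilde.functor R).map_preimage]
    simp
  let isoN : (tilde.functor R).obj (cokernel g) ≅ N :=
    PreservesCokernel.iso (tilde.functor R) g ≪≫ iso ≪≫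
      IsColimit.coconePointUniqueUpToIso (colimit.isColimit _) P.isColimit
  let e : cokernel g ≅ moduleSpecΓFunctor.obj N :=
    tilde.toTildeΓNatIso.app (cokernel g) ≪≫ moduleSpecΓFunctor.mapIso isoN
  haveI : Module.FinitePresentation R (cokernel g : ModuleCat.{u} R) := fp_cokernel g
  exact Module.FinitePresentation.of_equiv e.toLinearEquiv

end Spec

set_option backward.isDefEq.respectTransparency false in
/-- a finitely presented module has, on an affine open cover, finite presentations of
its restrictions -/
lemma exists_isOpenCover_presentations {X : Scheme.{u}} (M : X.Modules)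
    (hM : SheafOfModules.IsFinitePresentation (R := X.ringCatSheaf) M) :
    ∃ (ι : Type u) (U : ι → X.Opens) (P : ∀ i, (M.restrict (U i).ι).Presentation),
      (∀ i, (P i).IsFinite) ∧ IsOpenCover U ∧ (∀ i, IsAffineOpen (U i)) := by
  obtain ⟨σ, hσ⟩ := SheafOfModules.IsFinitePresentation.exists_quasicoherentData M
  choose κ hsub heq using fun i ↦ Opens.isBasis_iff_cover.mp X.isBasis_affineOpens (σ.X i)
  have hcov := σ.coversTop
  refine ⟨Σ (i : σ.I), κ i, fun j ↦ j.2, fun i ↦ ?_, ?_, ?_, ?_⟩
  · let u := X.homOfLE (U := i.2) (V := σ.X i.1) (by simp [heq, le_sSup])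
    have : PreservesColimitsOfSize.{u, u} (restrictFunctor u) := inferInstance
    let F := (overEquiv (σ.X i.1)).functor ⋙ restrictFunctor u
    let iso : SheafOfModules.overFunctor X.ringCatSheaf _ ⋙ F ≅ restrictFunctor
      (Scheme.Opens.ι i.2.1) := (Functor.associator _ _ _).symm ≪≫
        Functor.isoWhiskerRight (Scheme.Modules.overFunctorEquiv _) _ ≪≫
        (restrictFunctorComp _ _).symm ≪≫ (restrictFunctorCongr (by simp [u]))
    exact SheafOfModules.Presentation.ofIsIso.{u, u, u} (iso.app M).hom <|
      (σ.presentation i.1).map F (Scheme.Modules.restrictUnitIso _).symm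
  · intro i
    haveI : (σ.presentation i.1).IsFinite := hσ.isFinite_presentation i.1
    dsimp only
    have : PreservesColimitsOfSize.{u, u} (restrictFunctor (X.homOfLE (U := i.2) (V := σ.X i.1)
      (by simp [heq, le_sSup]))) := inferInstance
    haveI := isFinite_map (σ.presentation i.1)
      ((overEquiv (σ.X i.1)).functor ⋙ restrictFunctor (X.homOfLE (U := i.2) (V := σ.X i.1)
        (by simp [heq, le_sSup]))) (Scheme.Modules.restrictUnitIso _).symm
    infer_instance
  · rw [Opens.coversTop_iff, IsOpenCover] at hcov
    rw [IsOpenCover, iSup_sigma, ← hcov]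
    refine iSup_congr fun i ↦ ?_
    rw [heq i, sSup_eq_iSup']
  · intro j
    exact hsub _ j.2.2

variable {X : Scheme.{u}} (F : X.Modules) {U V : X.Opens}

set_option backward.isDefEq.respectTransparency false in
/-- If `F` is quasi-coherent and `F|_U` (`U` affine) has a finite presentation, then
`Γ(F,U)` is a finitely presented `Γ(X,U)`-module. -/
theorem fp_sections_of_presentation (hU : IsAffineOpen U)
    (P : SheafOfModules.Presentation (F.restrict U.ι)) [P.IsFinite] :
    Module.FinitePresentation Γ(X, U) Γ(F, U) := by
  have : PreservesColimitsOfSize.{u, u} (Scheme.Modules.restrictFunctor hU.isoSpec.inv) :=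
    inferInstance
  let P1 := P.map (Scheme.Modules.restrictFunctor hU.isoSpec.inv)
    (Scheme.Modules.restrictUnitIso _).symm
  haveI : P1.IsFinite := isFinite_map P _ _
  let iso : (F.restrict U.ι).restrict hU.isoSpec.inv ≅ F.restrict hU.fromSpec :=
    ((restrictFunctorComp hU.isoSpec.inv U.ι).app F).symm
  let P2 := P1.ofIsIso iso.hom
  haveI : P2.IsFinite := inferInstance
  have h := fp_of_presentation (F.restrict hU.fromSpec) P2
  let e := LinearEquiv.ofBijective (toSpecSections F hU)
    ⟨toSpecSections_injective F hU, toSpecSections_surjective F hU⟩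
  exact Module.FinitePresentation.of_equiv e.symm

theorem fp_of_eq_basicOpen [F.IsQuasicoherent] (hU : IsAffineOpen U) (f : Γ(X, U))
    (h : V ≤ U) (e : V = X.basicOpen f) [Module.FinitePresentation Γ(X, U) Γ(F, U)] :
    Module.FinitePresentation Γ(X, V) Γ(F, V) := by
  letI := algOfLE (X := X) h
  letI := modOfLE F h
  haveI := isScalarTower_ofLE F h
  haveI : IsLocalization.Away f Γ(X, V) := hU.isLocalization_of_eq_basicOpen f (homOfLE h) e
  haveI := isLocalizedModule_of_eq_basicOpen F hU f h e
  exact FinitePresentation.of_isBaseChange (resLin F h)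
    (IsLocalizedModule.isBaseChange (Submonoid.powers f) Γ(X, V) (resLin F h))

theorem fp_of_basicOpen_cover [F.IsQuasicoherent] (hU : IsAffineOpen U) (t : Set Γ(X, U))
    (ht : Ideal.span t = ⊤)
    (H : ∀ g : t, Module.FinitePresentation Γ(X, X.basicOpen g.1) Γ(F, X.basicOpen g.1)) :
    Module.FinitePresentation Γ(X, U) Γ(F, U) := by
  letI i1 (g : t) : Algebra Γ(X, U) Γ(X, X.basicOpen g.1) := algOfLE (X := X) (X.basicOpen_le g.1)
  letI i2 (g : t) : Module Γ(X, U) Γ(F, X.basicOpen g.1) := modOfLE F (X.basicOpen_le g.1)
  haveI i3 (g : t) : IsScalarTower Γ(X, U) Γ(X, X.basicOpen g.1) Γ(F, X.basicOpen g.1) :=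
    isScalarTower_ofLE F (X.basicOpen_le g.1)
  haveI i4 (g : t) : IsLocalization.Away g.1 Γ(X, X.basicOpen g.1) :=
    hU.isLocalization_basicOpen g.1
  haveI i5 (g : t) : IsLocalizedModule (Submonoid.powers g.1) (resLin F (X.basicOpen_le g.1)) :=
    isLocalizedModule_of_eq_basicOpen F hU g.1 (X.basicOpen_le g.1) rfl
  exact Module.FinitePresentation.of_localizationSpan' t ht
    (fun g => resLin F (X.basicOpen_le g.1)) H

/-- If `Γ(F, W i)` is finitely presented over `Γ(X, W i)` for an affine open cover, then `Γ(F,V)`
is finitely presented over `Γ(X,V)` for every affine open `V`. -/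
theorem fp_sections_of_cover [F.IsQuasicoherent] {ι : Type*} (W : ι → X.Opens)
    (hW : ∀ i, IsAffineOpen (W i)) (hcov : ∀ x : X, ∃ i, x ∈ W i)
    (H : ∀ i, Module.FinitePresentation Γ(X, W i) Γ(F, W i)) (hV : IsAffineOpen V) :
    Module.FinitePresentation Γ(X, V) Γ(F, V) := by
  let t : Set Γ(X, V) :=
    {f | Module.FinitePresentation Γ(X, X.basicOpen f) Γ(F, X.basicOpen f)}
  refine fp_of_basicOpen_cover F hV t ?_ (fun g => g.2)
  rw [← hV.self_le_iSup_basicOpen_iff]
  intro x hxV
  obtain ⟨i, hxi⟩ := hcov x
  obtain ⟨f, g, hfg, hxf⟩ := exists_basicOpen_le_affine_inter hV (hW i) x ⟨hxV, hxi⟩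
  have hle : X.basicOpen f ≤ W i := hfg ▸ X.basicOpen_le g
  haveI := H i
  have hfin : Module.FinitePresentation Γ(X, X.basicOpen f) Γ(F, X.basicOpen f) :=
    fp_of_eq_basicOpen F (hW i) g hle hfg
  exact Opens.mem_iSup.mpr ⟨⟨f, hfin⟩, hxf⟩

/-- **Finitely presented ⇒ finitely presented sections on every affine open.** -/
theorem fp_sections_of_isFinitePresentation
    (hF : SheafOfModules.IsFinitePresentation (R := X.ringCatSheaf) F) (hV : IsAffineOpen V) :
    Module.FinitePresentation Γ(X, V) Γ(F, V) := by
  haveI : F.IsQuasicoherent := inferInstance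
  obtain ⟨ι, W, P, hfin, hcov, haff⟩ := exists_isOpenCover_presentations F hF
  refine fp_sections_of_cover F W haff (fun x => ?_) (fun i => ?_) hV
  · have : x ∈ (⨆ i, W i : X.Opens) := by rw [hcov.iSup_eq_top]; trivial
    exact Opens.mem_iSup.mp this
  · haveI := hfin i
    exact fp_sections_of_presentation F (haff i) (P i)

/-- For quasi-coherent `F`: finitely presented iff `Γ(F,U)` is a finitely presented
`Γ(X,U)`-module for all affine opens `U`. -/
theorem isFinitePresentation_iff_fp_sections [F.IsQuasicoherent] :
    SheafOfModules.IsFinitePresentation (R := X.ringCatSheaf) F ↔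
      ∀ U : X.affineOpens, Module.FinitePresentation Γ(X, U.1) Γ(F, U.1) := by
  refine ⟨fun h U => fp_sections_of_isFinitePresentation F h U.2, fun H => ?_⟩
  refine isFinitePresentation_of_fp_sections F (fun U : X.affineOpens => U.1) (fun U => U.2) ?_ H
  exact iSup_affineOpens_eq_top X

end Groth.Agent.Lib.helper16.CohFP
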