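import Groth.Agent.Lib.Helper16.FLF5

/-!
# Finite locally free modules: locality (helper16, LT2)

* `restrict_opensRange_iso_freeMod`: a trivialisation of `F.restrict f` (f an open immersion) gives a
  trivialisation of `F` over `f.opensRange`
* `exists_iso_freeMod_of_isFinLocFree_restrict`
* `isFinLocFree_of_forall_restrict`, `isFinLocFreeOfRank_of_forall_restrict`: being finite locally free
  is local
* `isFinLocFree_pullback_ι_iff`
* `free_stalk_of_restrict_iso_freeMod`
-/

set_option autoImplicit false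
universe u
open CategoryTheory CategoryTheory.Limits AlgebraicGeometry TopologicalSpace Opposite

namespace Groth.Agent.Lib.helper16.FLF

open Scheme.Modules Groth.Agent.Lib.helper16.QCohPullback Groth.Agent.Lib.helper16.CohFinite
  Groth.Agent.Lib.helper16.CohFP Groth.Agent.Lib.helper16.CohStalk Groth.Agent.Lib.helper7
  Groth.Agent.Lib.helper11.InvMod

variable {X Y : Scheme.{u}}

/-- restriction along an isomorphism and back -/
noncomputable def restrictIsoInvIso (F : X.Modules) (e : Y ≅ X) :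
    (F.restrict e.hom).restrict e.inv ≅ F :=
  ((restrictFunctorComp e.inv e.hom).app F).symm ≪≫
    (restrictFunctorCongr (e.inv_hom_id)).app F ≪≫ restrictFunctorId.app F

/-- a trivialisation of `F.restrict f` gives a trivialisation of `F` over the range of `f` -/
theorem restrict_opensRange_iso_freeMod (F : X.Modules) (f : Y ⟶ X) [IsOpenImmersion f] (n : ℕ)
    (iso : F.restrict f ≅ FlatMod.freeMod Y n) :
    Nonempty (F.restrict f.opensRange.ι ≅ FlatMod.freeMod (↑f.opensRange) n) := by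
  let e := f.isoOpensRange
  let i1 : (F.restrict f.opensRange.ι).restrict e.hom ≅ F.restrict f :=
    ((restrictFunctorComp e.hom f.opensRange.ι).app F).symm ≪≫
      (restrictFunctorCongr (f.isoOpensRange_hom_ι)).app F
  exact ⟨(restrictIsoInvIso (F.restrict f.opensRange.ι) e).symm ≪≫
    (restrictFunctor e.inv).mapIso (i1 ≪≫ iso) ≪≫ restrictFreeModIso e.inv n⟩

/-- if `F.restrict f` is finite locally free then `F` is trivial near every point of the range -/
theorem exists_iso_freeMod_of_isFinLocFree_restrict (F : X.Modules) (f : Y ⟶ X) [IsOpenImmersion f]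
    (h : FlatMod.IsFinLocFree (F.restrict f)) (y : Y) :
    ∃ (V : X.Opens) (n : ℕ), f y ∈ V ∧ V ≤ f.opensRange ∧
      Nonempty (F.restrict V.ι ≅ FlatMod.freeMod (↑V) n) := by
  obtain ⟨V', n, hy, ⟨iso⟩⟩ := h y
  let g : (V' : Scheme.{u}) ⟶ X := V'.ι ≫ f
  have i1 : F.restrict g ≅ FlatMod.freeMod (↑V') n :=
    (restrictFunctorComp V'.ι f).app F ≪≫ iso
  obtain ⟨i2⟩ := restrict_opensRange_iso_freeMod F g n i1
  refine ⟨g.opensRange, n, ?_, ?_, ⟨i2⟩⟩
  · exact ⟨⟨y, hy⟩, rfl⟩
  · rintro _ ⟨z, rfl⟩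
    exact ⟨z.1, rfl⟩

theorem exists_iso_freeMod_of_isFinLocFreeOfRank_restrict (F : X.Modules) (f : Y ⟶ X)
    [IsOpenImmersion f] {n : ℕ}
    (h : FlatMod.IsFinLocFreeOfRank n (F.restrict f)) (y : Y) :
    ∃ (V : X.Opens), f y ∈ V ∧ V ≤ f.opensRange ∧
      Nonempty (F.restrict V.ι ≅ FlatMod.freeMod (↑V) n) := by
  obtain ⟨V', hy, ⟨iso⟩⟩ := h y
  let g : (V' : Scheme.{u}) ⟶ X := V'.ι ≫ f
  have i1 : F.restrict g ≅ FlatMod.freeMod (↑V') n :=
    (restrictFunctorComp V'.ι f).app F ≪≫ iso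
  obtain ⟨i2⟩ := restrict_opensRange_iso_freeMod F g n i1
  refine ⟨g.opensRange, ?_, ?_, ⟨i2⟩⟩
  · exact ⟨⟨y, hy⟩, rfl⟩
  · rintro _ ⟨z, rfl⟩
    exact ⟨z.1, rfl⟩

/-- **Being finite locally free is local.** -/
theorem isFinLocFree_of_forall_restrict (F : X.Modules)
    (h : ∀ x : X, ∃ U : X.Opens, x ∈ U ∧ FlatMod.IsFinLocFree (F.restrict U.ι)) :
    FlatMod.IsFinLocFree F := by
  intro x
  obtain ⟨U, hx, hU⟩ := h x
  obtain ⟨V, n, hxV, -, hV⟩ := exists_iso_freeMod_of_isFinLocFree_restrict F U.ι hU ⟨x, hx⟩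
  exact ⟨V, n, hxV, hV⟩

/-- **Being finite locally free of rank `n` is local.** -/
theorem isFinLocFreeOfRank_of_forall_restrict (F : X.Modules) {n : ℕ}
    (h : ∀ x : X, ∃ U : X.Opens, x ∈ U ∧ FlatMod.IsFinLocFreeOfRank n (F.restrict U.ι)) :
    FlatMod.IsFinLocFreeOfRank n F := by
  intro x
  obtain ⟨U, hx, hU⟩ := h x
  obtain ⟨V, hxV, -, hV⟩ := exists_iso_freeMod_of_isFinLocFreeOfRank_restrict F U.ι hU ⟨x, hx⟩
  exact ⟨V, hxV, hV⟩

/-- finite local freeness of the pullback along an open immersion, in terms of `restrict` -/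
theorem isFinLocFree_pullback_iff_restrict (F : X.Modules) (f : Y ⟶ X) [IsOpenImmersion f] :
    FlatMod.IsFinLocFree ((Scheme.Modules.pullback f).obj F) ↔
      FlatMod.IsFinLocFree (F.restrict f) :=
  ⟨isFinLocFree_of_iso ((restrictFunctorIsoPullback f).app F).symm,
    isFinLocFree_of_iso ((restrictFunctorIsoPullback f).app F)⟩

theorem isFinLocFreeOfRank_pullback_iff_restrict (F : X.Modules) (f : Y ⟶ X) [IsOpenImmersion f]
    (n : ℕ) :
    FlatMod.IsFinLocFreeOfRank n ((Scheme.Modules.pullback f).obj F) ↔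
      FlatMod.IsFinLocFreeOfRank n (F.restrict f) :=
  ⟨isFinLocFreeOfRank_of_iso ((restrictFunctorIsoPullback f).app F).symm,
    isFinLocFreeOfRank_of_iso ((restrictFunctorIsoPullback f).app F)⟩

/-- if `F` (quasi-coherent) is trivial on an open `V ∋ x` then the stalk at `x` is free of finite
rank -/
theorem free_stalk_of_restrict_iso_freeMod (F : X.Modules) [F.IsQuasicoherent] {V : X.Opens} (n : ℕ)
    (iso : F.restrict V.ι ≅ FlatMod.freeMod (↑V) n) (x : X) (hx : x ∈ V) :
    Module.Free (X.presheaf.stalk x) (F.presheaf.stalk x) ∧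
      Module.finrank (X.presheaf.stalk x) (F.presheaf.stalk x) = n := by
  obtain ⟨U, hU, hxU, hUV⟩ := Opens.isBasis_iff_nbhd.mp X.isBasis_affineOpens hx
  obtain ⟨iso'⟩ := restrict_iso_freeMod_of_le F hUV n iso
  obtain ⟨e⟩ := sections_of_restrict_iso_freeMod F hU n iso'
  refine ⟨?_, finrank_stalk_of_sections F hU x hxU e⟩
  haveI : Module.Free Γ(X, U) Γ(F, U) := Module.Free.of_equiv e.symm
  letI := TopCat.Presheaf.algebra_section_stalk X.presheaf (⟨x, hxU⟩ : U)
  letI := modStalk F x hxU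
  haveI := isScalarTower_stalk F x hxU
  haveI : IsLocalization.AtPrime (X.presheaf.stalk x) (hU.primeIdealOf ⟨x, hxU⟩).asIdeal :=
    hU.isLocalization_stalk ⟨x, hxU⟩
  haveI := isLocalizedModule_stalk F hU x hxU
  exact Module.free_of_isLocalizedModule (hU.primeIdealOf ⟨x, hxU⟩).asIdeal.primeCompl
      (germLin F x hxU)

end Groth.Agent.Lib.helper16.FLF
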