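import Groth.Agent.Lib.Helper16.FLF7
import Groth.Agent.Lib.Helper16.QCohPullback2
import Groth.Agent.S12451

/-!
# Finite locally free modules: projective sections, fpqc descent (helper16, LT2)

* `projective_sections_of_isFinLocFree`: sections over affine opens are finite projective
* `isFinLocFree_of_projective_sections`: the converse, for quasi-coherent modules and an affine cover
* `isFinLocFree_iff_projective_sections`
* `isFinLocFree_of_pullback_fpqc`: fpqc descent of finite local freeness
-/

set_option autoImplicit false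
universe u
open CategoryTheory CategoryTheory.Limits AlgebraicGeometry TopologicalSpace Opposite TensorProduct

namespace Groth.Agent.Lib.helper16.FLF

open Scheme.Modules Groth.Agent.Lib.helper16.QCohPullback Groth.Agent.Lib.helper16.CohFinite
  Groth.Agent.Lib.helper16.CohFP Groth.Agent.Lib.helper16.CohStalk Groth.Agent.Lib.helper7
  Groth.Agent.Lib.helper16.QCohAss Groth.Agent.Lib.helper16.QCohPullback2

variable {X : Scheme.{u}} (M : X.Modules)

/-- **Sections of a finite locally free module over an affine open are finite projective.** -/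
theorem projective_sections_of_isFinLocFree (hM : FlatMod.IsFinLocFree M) {U : X.Opens}
    (hU : IsAffineOpen U) :
    Module.Finite Γ(X, U) Γ(M, U) ∧ Module.Projective Γ(X, U) Γ(M, U) := by
  haveI := isQuasicoherent_of_isFinLocFree M hM
  have h1 : FlatMod.IsFinLocFree (M.restrict hU.fromSpec) := isFinLocFree_restrict hU.fromSpec hM
  have h2 : FlatMod.IsFinLocFree (tilde (secMod M hU)) :=
    isFinLocFree_of_iso (asIso (M.restrict hU.fromSpec).fromTildeΓ).symm h1
  obtain ⟨h3, h4⟩ := (Groth.Agent.S12451.result (secMod M hU)).1 h2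
  exact ⟨Module.Finite.equiv (secEquiv M hU).symm,
    Module.Projective.of_equiv (secEquiv M hU).symm⟩

/-- **A quasi-coherent module with finite projective sections over an affine cover is finite
locally free.** -/
theorem isFinLocFree_of_projective_sections [M.IsQuasicoherent] {ι : Type*} (W : ι → X.Opens)
    (hW : ∀ i, IsAffineOpen (W i)) (hcov : ⨆ i, W i = ⊤)
    (h : ∀ i, Module.Finite Γ(X, W i) Γ(M, W i) ∧ Module.Projective Γ(X, W i) Γ(M, W i)) :
    FlatMod.IsFinLocFree M := by
  intro x
  have hx : x ∈ (⨆ i, W i : X.Opens) := by rw [hcov]; trivial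
  obtain ⟨i, hxi⟩ := Opens.mem_iSup.mp hx
  have hWi := hW i
  haveI hiso : IsIso (M.restrict hWi.fromSpec).fromTildeΓ := inferInstance
  haveI : Module.Finite Γ(X, W i) (secMod M (hW i)) := by
    haveI := (h i).1
    exact Module.Finite.equiv (secEquiv M (hW i))
  haveI : Module.Projective Γ(X, W i) (secMod M (hW i)) := by
    haveI := (h i).2
    exact Module.Projective.of_equiv (secEquiv M (hW i))
  have h2 : FlatMod.IsFinLocFree (tilde (secMod M (hW i))) :=
    (Groth.Agent.S12451.result (secMod M (hW i))).2 ⟨inferInstance, inferInstance⟩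
  have h1 : FlatMod.IsFinLocFree (M.restrict hWi.fromSpec) :=
    isFinLocFree_of_iso (asIso (M.restrict hWi.fromSpec).fromTildeΓ) h2
  have hxr : x ∈ Set.range (hW i).fromSpec := by
    rw [(hW i).range_fromSpec]; exact hxi
  obtain ⟨y, rfl⟩ := hxr
  obtain ⟨V, n, hyV, -, hV⟩ := exists_iso_freeMod_of_isFinLocFree_restrict M (hW i).fromSpec h1 y
  exact ⟨V, n, hyV, hV⟩

theorem isFinLocFree_iff_projective_sections [M.IsQuasicoherent] :
    FlatMod.IsFinLocFree M ↔ ∀ U : X.affineOpens,
      Module.Finite Γ(X, U.1) Γ(M, U.1) ∧ Module.Projective Γ(X, U.1) Γ(M, U.1) :=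
  ⟨fun hM U => projective_sections_of_isFinLocFree M hM U.2,
    fun h => isFinLocFree_of_projective_sections M (fun U : X.affineOpens => U.1)
      (fun U => U.2) (iSup_affineOpens_eq_top X) h⟩

/-- **fpqc descent of finite local freeness** for quasi-coherent modules -/
theorem isFinLocFree_of_pullback_fpqc {Y : Scheme.{u}} (f : Y ⟶ X) [Flat f] [Surjective f]
    [QuasiCompact f] [M.IsQuasicoherent]
    (h : FlatMod.IsFinLocFree ((Scheme.Modules.pullback f).obj M)) : FlatMod.IsFinLocFree M := by
  rw [isFinLocFree_iff_projective_sections]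
  intro U
  haveI hfp : Module.FinitePresentation Γ(X, U.1) Γ(M, U.1) :=
    fp_sections_of_pullback_fpqc f M U.2 (isFinitePresentation_of_isFinLocFree _ h)
  obtain ⟨W, haff, p, hflat, e, hff⟩ := exists_affine_faithfullyFlat f U.2
  letI := ((p ≫ f).appLE U.1 ⊤ e).hom.toAlgebra
  haveI : Module.FaithfullyFlat Γ(X, U.1) Γ(W, ⊤) := hff
  let β : (Scheme.Modules.pullback (p ≫ f)).obj M ≅
      (Scheme.Modules.pullback p).obj ((Scheme.Modules.pullback f).obj M) :=
    ((Scheme.Modules.pullbackComp p f).app M).symm
  have h1 : FlatMod.IsFinLocFree ((Scheme.Modules.pullback p).obj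
      ((Scheme.Modules.pullback f).obj M)) := isFinLocFree_pullback p h
  have h2 : FlatMod.IsFinLocFree ((Scheme.Modules.pullback (p ≫ f)).obj M) :=
    isFinLocFree_of_iso β.symm h1
  obtain ⟨h3, h4⟩ := projective_sections_of_isFinLocFree _ h2 (isAffineOpen_top W)
  haveI : Module.Flat Γ(W, ⊤) (Γ(W, ⊤) ⊗[Γ(X, U.1)] Γ(M, U.1)) :=
    Module.Flat.of_linearEquiv
      (pullbackSectionsEquiv (p ≫ f) M U.2 (isAffineOpen_top W) e).symm
  haveI : Module.Flat Γ(X, U.1) Γ(M, U.1) := Module.Flat.of_flat_tensorProduct _ _ Γ(W, ⊤)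
  exact ⟨inferInstance, Module.Flat.projective_of_finitePresentation⟩

end Groth.Agent.Lib.helper16.FLF
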