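import Groth.Agent.Lib.Helper25.StalkPull

/-!
# The natural map `A_{f x} → (f^* A)_x` on stalks of a pullback module (helper16)

Built on helper25's `stalkPullbackIso`.  For `f : X ⟶ Y`, `A : Y.Modules`, `x : X`:

* `unitSec f A V a`: the unit `A(V) → (f^*A)(f⁻¹V)`;
* `pullStalk f x A : A_{f x} → (f^*A)_x` with `pullStalk_germ` (germs of `a` go to germs of
  `unitSec a`), `pullStalk_add`, `pullStalk_smul` (semilinear over the stalk map),
  `span_range_pullStalk` (the image generates), `span_pullStalk_of_span` (generators go to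
  generators), `stalkSpecializes_pullStalk` (compatibility with generization).
-/

set_option autoImplicit false
universe u
open CategoryTheory CategoryTheory.Limits AlgebraicGeometry Opposite TopologicalSpace

namespace Groth.Agent.Lib.helper16.PullStalk

open Groth.Agent.Lib.Helper25.StalkSky TensorProduct ChangeOfRings

variable {X Y : Scheme.{u}} (f : X ⟶ Y) (x : X) (A : Y.Modules)

/-- the unit `A(V) → (f^*A)(f⁻¹V)` on sections. -/
noncomputable def unitSec (V : Y.Opens) (a : Γ(A, V)) :
    Γ((Scheme.Modules.pullback f).obj A, f ⁻¹ᵁ V) :=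
  ((Scheme.Modules.pullbackPushforwardAdjunction f).unit.app A).app V a

/-- `(f^*A)_x ≅ O_{X,x} ⊗ A_{f x}`. -/
noncomputable def theta : (DerSch.stalkFunctor X x).obj ((Scheme.Modules.pullback f).obj A) ≅
    (ModuleCat.extendScalars.{u,u,u} (f.stalkMap x).hom).obj
      ((DerSch.stalkFunctor Y (f x)).obj A) :=
  (stalkPullbackIso f x).app A

theorem theta_germ (V : Y.Opens) (hx : f x ∈ V) (a : Γ(A, V)) :
    (theta f x A).hom.hom (((Scheme.Modules.pullback f).obj A).presheaf.germ (f ⁻¹ᵁ V) x hx
      (unitSec f A V a)) =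
    ((ModuleCat.extendRestrictScalarsAdj.{u,u,u} (f.stalkMap x).hom).unit.app
      ((DerSch.stalkFunctor Y (f x)).obj A)).hom (A.presheaf.germ V (f x) hx a) := by
  have h := Adjunction.unit_leftAdjointUniq_hom_app (pullStalkAdj f x) (stalkExtendAdj f x) A
  have h2 := congrArg (fun φ => (φ.app V a : PLift (f x ∈ V) → _) ⟨hx⟩) h
  exact h2

/-- the natural map `A_{f x} → (f^*A)_x`. -/
noncomputable def pullStalk (m : A.presheaf.stalk (f x)) :
    ((Scheme.Modules.pullback f).obj A).presheaf.stalk x :=
  (theta f x A).inv.hom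
    (((ModuleCat.extendRestrictScalarsAdj.{u,u,u} (f.stalkMap x).hom).unit.app
      ((DerSch.stalkFunctor Y (f x)).obj A)).hom m)

theorem pullStalk_germ (V : Y.Opens) (hx : f x ∈ V) (a : Γ(A, V)) :
    pullStalk f x A (A.presheaf.germ V (f x) hx a) =
      ((Scheme.Modules.pullback f).obj A).presheaf.germ (f ⁻¹ᵁ V) x hx (unitSec f A V a) := by
  unfold pullStalk
  rw [← theta_germ f x A V hx a]
  exact congrArg (fun φ : (DerSch.stalkFunctor X x).obj ((Scheme.Modules.pullback f).obj A) ⟶
      (DerSch.stalkFunctor X x).obj ((Scheme.Modules.pullback f).obj A) =>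
    φ.hom (((Scheme.Modules.pullback f).obj A).presheaf.germ (f ⁻¹ᵁ V) x hx (unitSec f A V a)))
    (theta f x A).hom_inv_id

theorem pullStalk_add (m m' : A.presheaf.stalk (f x)) :
    pullStalk f x A (m + m') = pullStalk f x A m + pullStalk f x A m' := by
  unfold pullStalk
  erw [map_add, map_add]
  rfl

theorem pullStalk_smul (r : Y.presheaf.stalk (f x)) (m : A.presheaf.stalk (f x)) :
    pullStalk f x A (r • m) = (f.stalkMap x).hom r • pullStalk f x A m := by
  unfold pullStalk
  have h1 : ((ModuleCat.extendRestrictScalarsAdj.{u,u,u} (f.stalkMap x).hom).unit.app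
      ((DerSch.stalkFunctor Y (f x)).obj A)).hom (r • m) =
      r • ((ModuleCat.extendRestrictScalarsAdj.{u,u,u} (f.stalkMap x).hom).unit.app
      ((DerSch.stalkFunctor Y (f x)).obj A)).hom m := map_smul _ r m
  rw [h1]
  exact map_smul (theta f x A).inv.hom ((f.stalkMap x).hom r) _

theorem mem_span_range_pullStalk (z : ((Scheme.Modules.pullback f).obj A).presheaf.stalk x) :
    z ∈ Submodule.span (X.presheaf.stalk x) (Set.range (pullStalk f x A)) := by
  have hz : (theta f x A).inv.hom ((theta f x A).hom.hom z) = z :=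
    congrArg (fun φ : (DerSch.stalkFunctor X x).obj ((Scheme.Modules.pullback f).obj A) ⟶
      (DerSch.stalkFunctor X x).obj ((Scheme.Modules.pullback f).obj A) => φ.hom z)
      (theta f x A).hom_inv_id
  rw [← hz]
  generalize (theta f x A).hom.hom z = w
  have key : ∀ w : ((ModuleCat.extendScalars.{u,u,u} (f.stalkMap x).hom).obj
      ((DerSch.stalkFunctor Y (f x)).obj A)),
      (theta f x A).inv.hom w ∈
        Submodule.span (X.presheaf.stalk x) (Set.range (pullStalk f x A)) := by
    intro w
    induction w using TensorProduct.induction_on with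
    | zero =>
      erw [map_zero]
      exact zero_mem _
    | tmul s m =>
      let s' : X.presheaf.stalk x := s
      let t1 : ((ModuleCat.extendScalars.{u,u,u} (f.stalkMap x).hom).obj
          ((DerSch.stalkFunctor Y (f x)).obj A)) :=
        (1 : X.presheaf.stalk x) ⊗ₜ[Y.presheaf.stalk (f x), (f.stalkMap x).hom] m
      let t2 : ((ModuleCat.extendScalars.{u,u,u} (f.stalkMap x).hom).obj
          ((DerSch.stalkFunctor Y (f x)).obj A)) :=
        s' ⊗ₜ[Y.presheaf.stalk (f x), (f.stalkMap x).hom] m
      have h1 : t2 = s' • t1 := by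
        have h := ModuleCat.ExtendScalars.smul_tmul (f.stalkMap x).hom
          (M := (DerSch.stalkFunctor Y (f x)).obj A) s' 1 m
        rw [mul_one] at h
        exact h.symm
      change (theta f x A).inv.hom t2 ∈ _
      rw [h1, map_smul]
      refine Submodule.smul_mem
        (Submodule.span (X.presheaf.stalk x) (Set.range (pullStalk f x A))) s' ?_
      exact Submodule.subset_span ⟨m, rfl⟩
    | add w w' hw hw' =>
      erw [map_add]
      exact add_mem hw hw'
  exact key w

theorem span_pullStalk_of_span (t : A.presheaf.stalk (f x))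
    (ht : Submodule.span (Y.presheaf.stalk (f x)) {t} = ⊤) :
    Submodule.span (X.presheaf.stalk x) {pullStalk f x A t} = ⊤ := by
  rw [eq_top_iff]
  intro z _
  have hz := mem_span_range_pullStalk f x A z
  refine Submodule.span_le.mpr ?_ hz
  rintro _ ⟨m, rfl⟩
  obtain ⟨r, rfl⟩ : ∃ r : Y.presheaf.stalk (f x), r • t = m :=
    Submodule.mem_span_singleton.1 (by rw [ht]; exact Submodule.mem_top)
  rw [pullStalk_smul]
  exact Submodule.smul_mem _ _ (Submodule.mem_span_singleton_self _)

theorem stalkSpecializes_pullStalk {x ξ : X} (h : ξ ⤳ x) (m : A.presheaf.stalk (f x)) :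
    ((Scheme.Modules.pullback f).obj A).presheaf.stalkSpecializes h (pullStalk f x A m) =
      pullStalk f ξ A (A.presheaf.stalkSpecializes (f.base.hom.map_specializes h) m) := by
  obtain ⟨V, hxV, a, rfl⟩ := TopCat.Presheaf.exists_germ_eq _ m
  have hξV : f ξ ∈ V := (f.base.hom.map_specializes h).mem_open V.isOpen hxV
  have e1 : A.presheaf.stalkSpecializes (f.base.hom.map_specializes h)
      (A.presheaf.germ V (f x) hxV a) = A.presheaf.germ V (f ξ) hξV a :=
    ConcreteCategory.congr_hom (TopCat.Presheaf.germ_stalkSpecializes A.presheaf hxV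
      (f.base.hom.map_specializes h)) a
  rw [e1, pullStalk_germ, pullStalk_germ]
  exact ConcreteCategory.congr_hom (TopCat.Presheaf.germ_stalkSpecializes
    ((Scheme.Modules.pullback f).obj A).presheaf (show x ∈ f ⁻¹ᵁ V from hxV) h) _

end Groth.Agent.Lib.helper16.PullStalk
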