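import Groth.Agent.Lib.Helper16.Satur5
import Groth.Agent.Lib.Helper7.QCohProd

/-!
# Sums of finite type quasi-coherent subobjects (helper16)

* `isFT_biprod`: biproduct of f.t. qcoh modules is f.t.
* `exists_ft_sum`: two f.t. qcoh modules mapping to a qcoh module `F` are contained in a
  f.t. qcoh subobject of `F`.
* `exists_ft_sub_sections_family`: finitely many finite sets of sections over affine opens are
  contained in a f.t. qcoh subobject (qcqs).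
-/

set_option autoImplicit false
universe u
open CategoryTheory CategoryTheory.Limits AlgebraicGeometry TopologicalSpace Opposite
open Scheme.Modules

namespace Groth.Agent.Lib.helper16.Satur

variable {X : Scheme.{u}}

theorem isFT_biprod (E₁ E₂ : X.Modules) [E₁.IsQuasicoherent] [E₂.IsQuasicoherent]
    (h₁ : CohB1.IsFT E₁) (h₂ : CohB1.IsFT E₂) :
    (E₁ ⊞ E₂).IsQuasicoherent ∧ CohB1.IsFT (E₁ ⊞ E₂) := by
  haveI : (E₁ ⊞ E₂).IsQuasicoherent :=
    Groth.Agent.Lib.helper7.QCohProd.isQuasicoherent_biprod E₁ E₂ inferInstance inferInstance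
  refine ⟨inferInstance, ?_⟩
  rw [← ftOn_top_iff]
  intro U hU _
  haveI := (ftOn_top_iff E₁).mpr h₁ U hU le_top
  haveI := (ftOn_top_iff E₂).mpr h₂ U hU le_top
  let φ : (Γ(E₁, U) × Γ(E₂, U)) →ₗ[Γ(X, U)] Γ(E₁ ⊞ E₂, U) :=
    (secLin (biprod.inl : E₁ ⟶ E₁ ⊞ E₂) U).coprod (secLin (biprod.inr : E₂ ⟶ E₁ ⊞ E₂) U)
  refine Module.Finite.of_surjective φ (fun s => ?_)
  refine ⟨((biprod.fst : E₁ ⊞ E₂ ⟶ E₁).app U s, (biprod.snd : E₁ ⊞ E₂ ⟶ E₂).app U s), ?_⟩
  change (biprod.inl : E₁ ⟶ E₁ ⊞ E₂).app U ((biprod.fst : E₁ ⊞ E₂ ⟶ E₁).app U s) +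
    (biprod.inr : E₂ ⟶ E₁ ⊞ E₂).app U ((biprod.snd : E₁ ⊞ E₂ ⟶ E₂).app U s) = s
  have h : (biprod.fst ≫ biprod.inl + biprod.snd ≫ biprod.inr : E₁ ⊞ E₂ ⟶ E₁ ⊞ E₂).app U s = s := by
    rw [biprod.total]; rfl
  exact h

theorem exists_ft_sum {F E₁ E₂ : X.Modules} [F.IsQuasicoherent] [E₁.IsQuasicoherent]
    [E₂.IsQuasicoherent] (i₁ : E₁ ⟶ F) (i₂ : E₂ ⟶ F) (h₁ : CohB1.IsFT E₁) (h₂ : CohB1.IsFT E₂) :
    ∃ (E : X.Modules) (i : E ⟶ F), Mono i ∧ E.IsQuasicoherent ∧ CohB1.IsFT E ∧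
      ∀ W : X.Opens, Set.range (i₁.app W) ⊆ Set.range (i.app W) ∧
        Set.range (i₂.app W) ⊆ Set.range (i.app W) := by
  obtain ⟨hq, hft⟩ := isFT_biprod E₁ E₂ h₁ h₂
  haveI := hq
  let p : E₁ ⊞ E₂ ⟶ F := biprod.desc i₁ i₂
  haveI : (cokernel p).IsQuasicoherent := Groth.Agent.Lib.helper7.CohKer.isQuasicoherent_cokernel p
  haveI : (Abelian.image p).IsQuasicoherent :=
    Groth.Agent.Lib.helper7.CohKer.isQuasicoherent_kernel (cokernel.π p)
  refine ⟨Abelian.image p, Abelian.image.ι p, inferInstance, inferInstance,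
    Groth.Agent.Lib.helper7.CohKer.isFiniteType_of_epi (Abelian.factorThruImage p) hft, ?_⟩
  intro W
  constructor
  · rintro _ ⟨x, rfl⟩
    refine ⟨(Abelian.factorThruImage p).app W ((biprod.inl : E₁ ⟶ E₁ ⊞ E₂).app W x), ?_⟩
    have : i₁ = biprod.inl ≫ Abelian.factorThruImage p ≫ Abelian.image.ι p := by
      rw [Abelian.image.fac]; simp [p]
    rw [this]
    rfl
  · rintro _ ⟨x, rfl⟩
    refine ⟨(Abelian.factorThruImage p).app W ((biprod.inr : E₂ ⟶ E₁ ⊞ E₂).app W x), ?_⟩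
    have : i₂ = biprod.inr ≫ Abelian.factorThruImage p ≫ Abelian.image.ι p := by
      rw [Abelian.image.fac]; simp [p]
    rw [this]
    rfl

/-- finitely many finite sets of sections over affine opens lie in a f.t. qcoh subobject. -/
theorem exists_ft_sub_sections_family [CompactSpace X] [QuasiSeparatedSpace X] (F : X.Modules)
    [F.IsQuasicoherent] (S : Finset X.affineOpens) (T : ∀ U : X.affineOpens, Finset Γ(F, U.1)) :
    ∃ (G : X.Modules) (i : G ⟶ F), Mono i ∧ G.IsQuasicoherent ∧ CohB1.IsFT G ∧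
      ∀ U ∈ S, ∀ t ∈ T U, t ∈ Set.range (i.app U.1) := by
  classical
  induction S using Finset.induction_on with
  | empty =>
    obtain ⟨G, i, hm, hq, hft, -⟩ := exists_ft_sub_sections F (isAffineOpen_bot X) ∅
    exact ⟨G, i, hm, hq, hft, by simp⟩
  | insert V S hV ih =>
    obtain ⟨G₁, i₁, hm₁, hq₁, hft₁, h1⟩ := ih
    obtain ⟨G₂, i₂, hm₂, hq₂, hft₂, h2⟩ := exists_ft_sub_sections F V.2 (T V)
    haveI := hq₁
    haveI := hq₂
    obtain ⟨E, i, hm, hq, hft, h⟩ := exists_ft_sum i₁ i₂ hft₁ hft₂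
    refine ⟨E, i, hm, hq, hft, ?_⟩
    intro U hU t ht
    rcases Finset.mem_insert.mp hU with rfl | hU
    · exact (h U.1).2 (h2 t ht)
    · exact (h U.1).1 (h1 U hU t ht)

end Groth.Agent.Lib.helper16.Satur
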