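import Mathlib
import Groth.Agent.Lib.Helper16.QCohAffinePush
import Groth.Agent.Lib.Helper16.CohFinite
import Groth.Agent.Lib.Helper8.SupportProper
import Groth.Prelude.Def_ChowK

/-!
# Pushforward of coherent modules along finite morphisms (helper16)

* `isCoh_push_of_isFinite`: `π_* F` is coherent for `π` finite and `F` coherent;
* `exists_nontrivial_stalk_of_push`: `Supp(π_* F) ⊆ π(Supp F)` for `π` closed and `F` of finite
  type.
-/

set_option autoImplicit false
universe u
open CategoryTheory CategoryTheory.Limits AlgebraicGeometry TopologicalSpace Opposite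

namespace Groth.Agent.Lib.helper16.FinPushCoh

open Scheme.Modules

theorem finite_of_compat_finite {A B N : Type*} [CommRing A] [CommRing B] [AddCommGroup N]
    [Module A N] [Module B N] (φ : A →+* B) (hφ : φ.Finite)
    (hcompat : ∀ (a : A) (n : N), a • n = φ a • n) [Module.Finite B N] : Module.Finite A N := by
  letI := φ.toAlgebra
  haveI : IsScalarTower A B N := ⟨fun a b n => by
    rw [hcompat]
    change (φ a * b) • n = φ a • b • n
    rw [mul_smul]⟩
  haveI : Module.Finite A B := hφ
  exact Module.Finite.trans B N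

variable {X Y : Scheme.{u}} (π : X ⟶ Y)

/-- the direct image of a coherent module under a finite morphism is coherent -/
theorem isCoh_push_of_isFinite [IsFinite π] (F : X.Modules) (hF : Coh.IsCoh F) :
    Coh.IsCoh ((pushforward π).obj F) := by
  haveI : F.IsQuasicoherent := hF.1
  haveI : ((pushforward π).obj F).IsQuasicoherent :=
    Groth.Agent.Lib.helper16.QCohAffinePush.isQuasicoherent_push π _
  refine Groth.Agent.Lib.helper16.CohFinite.isCoh_of_finite_sections _
    (fun U : Y.affineOpens => U.1) (fun U => U.2) (iSup_affineOpens_eq_top Y) (fun U => ?_)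
  let φ : Γ(Y, U.1) →+* Γ(X, π ⁻¹ᵁ U.1) := (π.app U.1).hom
  have hφ : φ.Finite := IsFinite.finite_app π U.1 U.2
  haveI hfinZ : Module.Finite Γ(X, π ⁻¹ᵁ U.1) Γ(F, π ⁻¹ᵁ U.1) :=
    Groth.Agent.Lib.helper16.CohFinite.finite_sections_of_isCoh F hF (U.2.preimage π)
  exact @finite_of_compat_finite Γ(Y, U.1) Γ(X, π ⁻¹ᵁ U.1) Γ(F, π ⁻¹ᵁ U.1) _ _ _
    (inferInstance : Module Γ(Y, U.1) Γ((pushforward π).obj F, U.1)) _ φ hφ (fun a n => rfl) hfinZ

/-- sections over an open on which all stalks vanish are zero. -/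
theorem subsingleton_sections_of_stalks (G : X.Modules) (W : X.Opens)
    (hW : ∀ x ∈ W, Subsingleton (ToType (G.presheaf.stalk x))) : Subsingleton Γ(G, W) := by
  refine ⟨fun a b => ?_⟩
  refine TopCat.Presheaf.IsSheaf.section_ext G.isSheaf (U := op W) ?_
  intro x hx
  haveI := hW x hx
  obtain ⟨V, hxV, iU, iV, e⟩ := G.presheaf.germ_eq x hx hx a b
    (Subsingleton.elim (α := ToType (G.presheaf.stalk x)) _ _)
  refine ⟨V, iU.le, hxV, ?_⟩
  rw [Subsingleton.elim iV iU] at e
  exact e

/-- `Supp(π_* F) ⊆ π(Supp F)` for a closed map `π` and `F` quasi-coherent of finite type. -/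
theorem exists_nontrivial_stalk_of_push (hπ : IsClosedMap π) (F : X.Modules) [F.IsQuasicoherent]
    (hft : SheafOfModules.IsFiniteType (R := X.ringCatSheaf) F) (y : Y)
    (hy : ¬ Subsingleton (ToType (((pushforward π).obj F).presheaf.stalk y))) :
    ∃ x : X, π x = y ∧ ¬ Subsingleton (ToType (F.presheaf.stalk x)) := by
  by_contra hcon
  have hcon : ∀ x : X, π x = y → Subsingleton (ToType (F.presheaf.stalk x)) := by
    intro x hx
    by_contra h
    exact hcon ⟨x, hx, h⟩
  apply hy
  have hT : IsClosed {x | ¬ Subsingleton (ToType (F.presheaf.stalk x))} :=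
    Groth.Agent.Lib.helper8.SchemeSupport.isClosed_support F hft
  have hπT := hπ _ hT
  let U : Y.Opens := ⟨(π '' {x | ¬ Subsingleton (ToType (F.presheaf.stalk x))})ᶜ, hπT.isOpen_compl⟩
  have hyU : y ∈ U := by
    rintro ⟨x, hx, hxy⟩
    exact hx (hcon x hxy)
  have key : ∀ t : ToType (((pushforward π).obj F).presheaf.stalk y), t = 0 := by
    intro t
    obtain ⟨V, hyV, s, rfl⟩ := TopCat.Presheaf.exists_germ_eq ((pushforward π).obj F).presheaf t
    haveI : Subsingleton Γ(F, π ⁻¹ᵁ (V ⊓ U)) := by
      apply subsingleton_sections_of_stalks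
      intro x hx
      by_contra hns
      exact hx.2 ⟨x, hns, rfl⟩
    have h1 : ((pushforward π).obj F).presheaf.map (homOfLE (inf_le_left : V ⊓ U ≤ V)).op s = 0 :=
      Subsingleton.elim (α := Γ(F, π ⁻¹ᵁ (V ⊓ U))) _ _
    have h2 := TopCat.Presheaf.germ_res_apply ((pushforward π).obj F).presheaf
      (homOfLE (inf_le_left : V ⊓ U ≤ V)) y ⟨hyV, hyU⟩ s
    rw [← h2, h1, map_zero]
  exact ⟨fun a b => (key a).trans (key b).symm⟩

end Groth.Agent.Lib.helper16.FinPushCoh
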