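import Mathlib
import Groth.Prelude.Def_BlowUp2
import Groth.Agent.Lib.Helper7.IdealComap

/-!
# Effective Cartier ideal sheaves (`BlowUp.IsEffCartierIdeal`) and pullback (helper16)

* `exists_principal_le` : an effective Cartier ideal is principal, generated by a nonzerodivisor, on arbitrarily
  small affine neighbourhoods of any point.
* `isEffCartier_comap_iff_local`, `isEffCartier_comap_of_le` : `J.comap f` is effective Cartier as soon as it
  contains an effective Cartier ideal.
-/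

set_option autoImplicit false
universe u
open CategoryTheory CategoryTheory.Limits AlgebraicGeometry TopologicalSpace Opposite

namespace Groth.Agent.Lib.helper16.EffCartier

open Scheme.IdealSheafData

/-- an effective Cartier ideal is principal on small affine neighbourhoods. -/
theorem exists_principal_le {X : Scheme.{u}} {I : X.IdealSheafData} (hI : BlowUp.IsEffCartierIdeal I)
    (x : X) (W : X.Opens) (hxW : x ∈ W) :
    ∃ V : X.affineOpens, x ∈ V.1 ∧ V.1 ≤ W ∧
      ∃ t : Γ(X, V.1), t ∈ nonZeroDivisors Γ(X, V.1) ∧ I.ideal V = Ideal.span {t} := by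
  obtain ⟨U, hxU, g, hg, hIU⟩ := hI x
  obtain ⟨h, hle, hxh⟩ := U.2.exists_basicOpen_le (V := W) ⟨x, hxW⟩ hxU
  refine ⟨X.affineBasicOpen h, hxh, hle, X.presheaf.map (homOfLE (X.basicOpen_le h)).op g, ?_, ?_⟩
  · have inst := U.2.isLocalization_basicOpen h
    exact IsLocalization.map_nonZeroDivisors_le (Submonoid.powers h) Γ(X, X.basicOpen h)
      (Submonoid.mem_map_of_mem _ hg)
  · rw [← I.map_ideal_basicOpen U h, hIU, Ideal.map_span, Set.image_singleton]
    rfl

/-- a factor of a nonzerodivisor is a nonzerodivisor. -/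
lemma mem_nonZeroDivisors_of_mul_mem {R : Type*} [CommRing R] {a b : R}
    (h : a * b ∈ nonZeroDivisors R) : b ∈ nonZeroDivisors R :=
  (mul_mem_nonZeroDivisors.mp h).2

/-- `J.comap f` is effective Cartier if it contains an effective Cartier ideal (`J` effective Cartier). -/
theorem isEffCartier_comap_of_le {X Y : Scheme.{u}} (I : X.IdealSheafData) (J : Y.IdealSheafData)
    (hI : BlowUp.IsEffCartierIdeal I) (hJ : BlowUp.IsEffCartierIdeal J) (f : X ⟶ Y)
    (hf : I ≤ J.comap f) : BlowUp.IsEffCartierIdeal (J.comap f) := by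
  intro x
  obtain ⟨U, hxU, g, hg, hJU⟩ := hJ (f x)
  obtain ⟨V, hxV, hVU, t, ht, hIV⟩ := exists_principal_le hI x (f ⁻¹ᵁ U.1) hxU
  refine ⟨V, hxV, (f.appLE U.1 V.1 hVU).hom g, ?_, ?_⟩
  · have h1 : t ∈ (J.comap f).ideal V := hf V (hIV ▸ Ideal.mem_span_singleton_self t)
    have h2 : (J.comap f).ideal V = Ideal.span {(f.appLE U.1 V.1 hVU).hom g} := by
      rw [Groth.Agent.Lib.helper7.IdealComap.ideal_comap f J U.2 V.2 hVU, hJU, Ideal.map_span,
        Set.image_singleton]
    rw [h2] at h1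
    obtain ⟨a, ha⟩ := Ideal.mem_span_singleton'.mp h1
    exact mem_nonZeroDivisors_of_mul_mem (ha ▸ ht)
  · rw [Groth.Agent.Lib.helper7.IdealComap.ideal_comap f J U.2 V.2 hVU, hJU, Ideal.map_span,
      Set.image_singleton]

/-- the type of affine opens on which `K` is generated by a nonzerodivisor. -/
def Charts {X : Scheme.{u}} (K : X.IdealSheafData) : Type u :=
  {V : X.affineOpens // ∃ t : Γ(X, V.1), t ∈ nonZeroDivisors Γ(X, V.1) ∧ K.ideal V = Ideal.span {t}}

lemma iSup_charts {X : Scheme.{u}} {K : X.IdealSheafData} (hK : BlowUp.IsEffCartierIdeal K) :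
    ⨆ V : Charts K, (V.1).1 = (⊤ : X.Opens) := by
  rw [eq_top_iff]
  intro x _
  obtain ⟨V, hxV, t, ht, hV⟩ := hK x
  exact TopologicalSpace.Opens.mem_iSup.mpr ⟨⟨V, t, ht, hV⟩, hxV⟩

/-- An open containing the complement of an effective Cartier divisor is scheme-theoretically dense. -/
theorem ker_ι_eq_bot_of_isEffCartier {X : Scheme.{u}} (K : X.IdealSheafData)
    (hK : BlowUp.IsEffCartierIdeal K) (U : X.Opens) (hU : ∀ x : X, x ∉ K.support → x ∈ U) :
    U.ι.ker = ⊥ := by
  refine ext_of_iSup_eq_top (fun V : Charts K => V.1) (iSup_charts hK) (fun V => ?_)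
  obtain ⟨V, t, ht, hV⟩ := V
  show U.ι.ker.ideal V = (⊥ : X.IdealSheafData).ideal V
  rw [Scheme.IdealSheafData.ideal_bot, Pi.bot_apply, eq_bot_iff]
  intro a ha
  have ha' : (U.ι.app V.1).hom a = 0 := RingHom.mem_ker.mp (Scheme.Hom.ideal_ker_le U.ι V ha)
  rw [Ideal.mem_bot]
  -- `D(t) ≤ U ⊓ V`
  have hle : X.basicOpen t ≤ U.ι ''ᵁ U.ι ⁻¹ᵁ V.1 := by
    intro y hy
    have hyV : y ∈ V.1 := X.basicOpen_le t hy
    have hyK : y ∉ K.support := by
      rw [mem_support_iff_of_mem (U := V) hyV, Scheme.mem_zeroLocus_iff]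
      intro h
      exact h t (hV ▸ Ideal.mem_span_singleton_self t) hy
    exact ⟨⟨y, hU y hyK⟩, hyV, rfl⟩
  have hres : (X.presheaf.map (homOfLE (X.basicOpen_le t)).op).hom a = 0 := by
    have h1 : X.presheaf.map (homOfLE (X.basicOpen_le t)).op =
        U.ι.app V.1 ≫ X.presheaf.map (homOfLE hle).op := by
      rw [Scheme.Opens.ι_app]
      exact (X.presheaf.map_comp _ _).symm ▸ rfl
    rw [h1, CommRingCat.hom_comp, RingHom.comp_apply, ha', map_zero]
  have inst := V.2.isLocalization_basicOpen t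
  obtain ⟨⟨_, n, rfl⟩, hm⟩ :=
    (IsLocalization.map_eq_zero_iff (Submonoid.powers t) Γ(X, X.basicOpen t) a).mp hres
  have htn : t ^ n ∈ nonZeroDivisors Γ(X, V.1) := pow_mem ht n
  exact (mem_nonZeroDivisors_iff_left.mp htn) a hm

lemma map_mem_nonZeroDivisors_of_flat {R S : Type*} [CommRing R] [CommRing S] (φ : R →+* S)
    (hφ : φ.Flat) {r : R} (hr : r ∈ nonZeroDivisors R) : φ r ∈ nonZeroDivisors S := by
  algebraize [φ]
  have h1 : IsSMulRegular R r :=
    isSMulRegular_iff_right_eq_zero_of_smul.mpr fun m hm => mem_nonZeroDivisors_iff_left.mp hr m hm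
  have h2 : IsSMulRegular S (algebraMap R S r) := IsSMulRegular.of_flat h1
  rw [mem_nonZeroDivisors_iff_left]
  intro x hx
  exact isSMulRegular_iff_right_eq_zero_of_smul.mp h2 x hx

/-- restriction to a smaller affine open preserves nonzerodivisors. -/
lemma res_mem_nonZeroDivisors {X : Scheme.{u}} {V V' : X.affineOpens} (e : V'.1 ≤ V.1)
    {t : Γ(X, V.1)} (ht : t ∈ nonZeroDivisors Γ(X, V.1)) :
    (X.presheaf.map (homOfLE e).op).hom t ∈ nonZeroDivisors Γ(X, V'.1) := by
  have hfl := HasRingHomProperty.appLE (P := @Flat) (𝟙 X) inferInstance V V' e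
  have h1 : (𝟙 X : X ⟶ X).appLE V.1 V'.1 e = X.presheaf.map (homOfLE e).op := by
    simp only [Scheme.Hom.appLE, Scheme.Hom.id_app]
    exact Category.id_comp _
  rw [h1] at hfl
  exact map_mem_nonZeroDivisors_of_flat _ hfl ht

/-- an effective Cartier ideal stays principal (generated by a nonzerodivisor) on smaller affine opens. -/
lemma principal_of_le {X : Scheme.{u}} (I : X.IdealSheafData) {V V' : X.affineOpens} (e : V'.1 ≤ V.1)
    {t : Γ(X, V.1)} (ht : t ∈ nonZeroDivisors Γ(X, V.1)) (hV : I.ideal V = Ideal.span {t}) :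
    (X.presheaf.map (homOfLE e).op).hom t ∈ nonZeroDivisors Γ(X, V'.1) ∧
      I.ideal V' = Ideal.span {(X.presheaf.map (homOfLE e).op).hom t} := by
  refine ⟨res_mem_nonZeroDivisors e ht, ?_⟩
  rw [← I.map_ideal (U := V') (V := V) e, hV, Ideal.map_span, Set.image_singleton]
  rfl

/-- the product of two effective Cartier ideals is effective Cartier. -/
theorem isEffCartier_mul {X : Scheme.{u}} {A B : X.IdealSheafData} (hA : BlowUp.IsEffCartierIdeal A)
    (hB : BlowUp.IsEffCartierIdeal B) : BlowUp.IsEffCartierIdeal (A * B) := by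
  intro x
  obtain ⟨VA, hxA, s, hs, hAV⟩ := hA x
  obtain ⟨V, hxV, hle, t, ht, hBV⟩ := exists_principal_le hB x VA.1 hxA
  obtain ⟨hs', hAV'⟩ := principal_of_le A hle hs hAV
  refine ⟨V, hxV, (X.presheaf.map (homOfLE hle).op).hom s * t, mul_mem hs' ht, ?_⟩
  show A.ideal V * B.ideal V = _
  rw [hAV', hBV, Ideal.span_singleton_mul_span_singleton]

/-- effective Cartier ideals pull back along flat morphisms. -/
theorem isEffCartier_comap_of_flat {X Y : Scheme.{u}} (J : Y.IdealSheafData)
    (hJ : BlowUp.IsEffCartierIdeal J) (f : X ⟶ Y) [Flat f] : BlowUp.IsEffCartierIdeal (J.comap f) := by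
  intro x
  obtain ⟨U, hxU, g, hg, hJU⟩ := hJ (f x)
  obtain ⟨_, ⟨V, hV, rfl⟩, hxV, hVU⟩ :=
    (X.isBasis_affineOpens).exists_subset_of_mem_open (show x ∈ ((f ⁻¹ᵁ U.1 : X.Opens) : Set X) from hxU)
      (f ⁻¹ᵁ U.1).2
  refine ⟨⟨V, hV⟩, hxV, (f.appLE U.1 V hVU).hom g, ?_, ?_⟩
  · exact map_mem_nonZeroDivisors_of_flat _
      (HasRingHomProperty.appLE (P := @Flat) f inferInstance U ⟨V, hV⟩ hVU) hg
  · rw [Groth.Agent.Lib.helper7.IdealComap.ideal_comap f J U.2 hV hVU, hJU, Ideal.map_span,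
      Set.image_singleton]

/-- the interior (complement of the support) as a set. -/
lemma mem_compl_support_comap {X Y : Scheme.{u}} (J : Y.IdealSheafData) (f : X ⟶ Y) (x : X) :
    x ∈ (J.comap f).support ↔ f x ∈ J.support := by
  rw [Scheme.IdealSheafData.support_comap]
  rfl

/-- `I ≤ J` implies `support J ⊆ support I`. -/
lemma support_subset_of_le {X : Scheme.{u}} {I J : X.IdealSheafData} (h : I ≤ J) :
    (J.support : Set X) ⊆ I.support := by
  intro x hx
  rw [SetLike.mem_coe, mem_support_iff] at hx ⊢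
  intro U
  exact X.zeroLocus_mono (h U) (hx U)

end Groth.Agent.Lib.helper16.EffCartier
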