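import Mathlib
import Groth.Prelude.Def_Rees

/-!
# Algebra of the Rees algebra for the blow-up construction (helper16)

For an ideal `I` of `A` with Rees algebra `R = ⊕ Iⁿ Xⁿ` graded by `Rees.deg`:
* `mon I n x hx` : the element `x Xⁿ` (for `x ∈ Iⁿ`), `F I f hf = f X` for `f ∈ I`;
* `toAway I f hf : A →+* Away (F f)` and the relations in the chart ring `R_(fX)`;
* `toAway_f_mem_nonZeroDivisors`, `map_toAway_eq_span` : `I · R_(fX) = (f)` with `f` a nonzerodivisor;
* `irrelevant_le_span` : the irrelevant ideal is generated by the `i X`, `i ∈ I`;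
* `psi` : for `φ : A →+* C` with `I C = (t)`, `t` a nonzerodivisor, the ring hom `R → C`, `x Xⁿ ↦ φ x / tⁿ`;
* `away_hom_ext` : ring homs out of `R_(fX)` agreeing on `A` with `f ↦` nonzerodivisor are equal.
-/

set_option autoImplicit false
universe u
open Polynomial

namespace Groth.Agent.Lib.helper16.ReesBlowup

variable {A : Type u} [CommRing A] (I : Ideal A)

/-- the element `x Xⁿ` of the Rees algebra. -/
noncomputable def mon (n : ℕ) (x : A) (hx : x ∈ I ^ n) : reesAlgebra I :=
  ⟨monomial n x, reesAlgebra.monomial_mem.mpr hx⟩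

@[simp] lemma coe_mon (n : ℕ) (x : A) (hx : x ∈ I ^ n) : ((mon I n x hx : reesAlgebra I) : A[X]) = monomial n x := rfl

lemma mon_mem (n : ℕ) (x : A) (hx : x ∈ I ^ n) : mon I n x hx ∈ Rees.deg (reesAlgebra I) n := by
  intro m hm
  rw [coe_mon, coeff_monomial]
  exact if_neg (fun h => hm h.symm)

lemma exists_mon_of_mem {n : ℕ} {p : reesAlgebra I} (hp : p ∈ Rees.deg (reesAlgebra I) n) :
    ∃ (x : A) (hx : x ∈ I ^ n), p = mon I n x hx := by
  refine ⟨(p : A[X]).coeff n, p.2 n, Subtype.ext (Polynomial.ext fun m => ?_)⟩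
  rw [coe_mon, coeff_monomial]
  split_ifs with h
  · rw [h]
  · exact hp m (Ne.symm h)

lemma mon_mul (n m : ℕ) (x y : A) (hx : x ∈ I ^ n) (hy : y ∈ I ^ m) :
    mon I n x hx * mon I m y hy = mon I (n + m) (x * y) (by rw [pow_add]; exact Ideal.mul_mem_mul hx hy) :=
  Subtype.ext (by simp [monomial_mul_monomial])

lemma mon_pow (n k : ℕ) (x : A) (hx : x ∈ I ^ n) :
    mon I n x hx ^ k = mon I (n * k) (x ^ k) (by rw [pow_mul]; exact Ideal.pow_mem_pow hx k) :=
  Subtype.ext (by simp [monomial_pow])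

lemma algebraMap_eq_mon (a : A) : algebraMap A (reesAlgebra I) a = mon I 0 a (by simp) :=
  Subtype.ext (by simp)

lemma mon_add (n : ℕ) (x y : A) (hx : x ∈ I ^ n) (hy : y ∈ I ^ n) :
    mon I n (x + y) (add_mem hx hy) = mon I n x hx + mon I n y hy :=
  Subtype.ext (by simp)

lemma mon_eq_zero_iff (n : ℕ) (x : A) (hx : x ∈ I ^ n) : mon I n x hx = 0 ↔ x = 0 := by
  constructor
  · intro h
    have := congrArg (fun p : reesAlgebra I => (p : A[X])) h
    simpa using this
  · rintro rfl
    exact Subtype.ext (by simp)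

/-- the degree one element `f X`. -/
noncomputable def F (f : A) (hf : f ∈ I) : reesAlgebra I := mon I 1 f (by simpa using hf)

lemma F_mem (f : A) (hf : f ∈ I) : F I f hf ∈ Rees.deg (reesAlgebra I) 1 := mon_mem I 1 f _

section chart
open HomogeneousLocalization

variable (f : A) (hf : f ∈ I)

/-- the structure map `A → R_(fX)` of the chart ring. -/
noncomputable def toAway : A →+* Away (Rees.deg (reesAlgebra I)) (F I f hf) :=
  (fromZeroRingHom (Rees.deg (reesAlgebra I)) _).comp (algebraMap A (Rees.deg (reesAlgebra I) 0))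

lemma val_toAway (a : A) :
    (toAway I f hf a).val = Localization.mk (algebraMap A (reesAlgebra I) a) 1 := rfl

/-- the fraction `x Xⁿ / (f X)ⁿ` in the chart ring. -/
noncomputable def frac (n : ℕ) (x : A) (hx : x ∈ I ^ n) : Away (Rees.deg (reesAlgebra I)) (F I f hf) :=
  Away.mk (Rees.deg (reesAlgebra I)) (F_mem I f hf) n (mon I n x hx)
    (by rw [smul_eq_mul, mul_one]; exact mon_mem I n x hx)

lemma val_frac (n : ℕ) (x : A) (hx : x ∈ I ^ n) :
    (frac I f hf n x hx).val = Localization.mk (mon I n x hx) ⟨F I f hf ^ n, by use n⟩ := rfl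

lemma frac_surjective (z : Away (Rees.deg (reesAlgebra I)) (F I f hf)) :
    ∃ (n : ℕ) (x : A) (hx : x ∈ I ^ n), z = frac I f hf n x hx := by
  obtain ⟨n, p, hp, rfl⟩ := Away.mk_surjective (Rees.deg (reesAlgebra I)) (F_mem I f hf) z
  rw [smul_eq_mul, mul_one] at hp
  obtain ⟨x, hx, rfl⟩ := exists_mon_of_mem I hp
  exact ⟨n, x, hx, rfl⟩

lemma mon_mul_algebraMap_pow (n : ℕ) (x : A) (hx : x ∈ I ^ n) :
    mon I n x hx * algebraMap A (reesAlgebra I) (f ^ n) = F I f hf ^ n * algebraMap A (reesAlgebra I) x := by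
  apply Subtype.ext
  simp only [Subalgebra.coe_mul, coe_mon, Subalgebra.coe_pow, Subalgebra.coe_algebraMap, F,
    Polynomial.algebraMap_eq, monomial_pow]
  rw [monomial_mul_C, monomial_mul_C, one_mul, mul_comm]

lemma frac_mul_pow (n : ℕ) (x : A) (hx : x ∈ I ^ n) :
    frac I f hf n x hx * toAway I f hf (f ^ n) = toAway I f hf x := by
  apply HomogeneousLocalization.val_injective
  rw [val_mul, val_frac, val_toAway, val_toAway, Localization.mk_mul,
    Localization.mk_eq_mk_iff, Localization.r_iff_exists]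
  refine ⟨1, ?_⟩
  simp only [OneMemClass.coe_one, one_mul, mul_one]
  exact mon_mul_algebraMap_pow I f hf n x hx

lemma toAway_eq_frac_mul (i : A) (hi : i ∈ I) :
    toAway I f hf i = frac I f hf 1 i (by simpa using hi) * toAway I f hf f := by
  have := frac_mul_pow I f hf 1 i (by simpa using hi)
  rw [← this]
  exact congrArg (fun z => frac I f hf 1 i _ * toAway I f hf z) (pow_one f)

lemma map_toAway_eq_span : I.map (toAway I f hf) = Ideal.span {toAway I f hf f} := by
  apply le_antisymm
  · rw [Ideal.map_le_iff_le_comap]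
    intro i hi
    rw [Ideal.mem_comap, toAway_eq_frac_mul I f hf i hi]
    exact Ideal.mul_mem_left _ _ (Ideal.mem_span_singleton_self _)
  · rw [Ideal.span_le, Set.singleton_subset_iff]
    exact Ideal.mem_map_of_mem _ hf

lemma toAway_f_mem_nonZeroDivisors :
    toAway I f hf f ∈ nonZeroDivisors (Away (Rees.deg (reesAlgebra I)) (F I f hf)) := by
  refine (mem_nonZeroDivisors_iff_right
    (M₀ := Away (Rees.deg (reesAlgebra I)) (F I f hf))).mpr ?_
  intro z hz
  obtain ⟨n, x, hx, rfl⟩ := frac_surjective I f hf z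
  have h1 := congrArg HomogeneousLocalization.val hz
  rw [val_mul, val_frac, val_toAway, val_zero, Localization.mk_mul, Localization.mk_eq_mk',
    IsLocalization.mk'_eq_zero_iff] at h1
  obtain ⟨⟨_, k, rfl⟩, hk⟩ := h1
  have h2 : f ^ (k + 1) * x = 0 := by
    have := congrArg (fun p : reesAlgebra I => (p : A[X]).coeff (k + n)) hk
    simp only [F, Subalgebra.coe_mul, Subalgebra.coe_pow, coe_mon, Subalgebra.coe_algebraMap,
      Polynomial.algebraMap_eq, monomial_pow, monomial_mul_C, monomial_mul_monomial, one_mul,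
      coeff_monomial, if_true, Subalgebra.coe_zero, coeff_zero] at this
    rw [← this]; ring
  apply HomogeneousLocalization.val_injective
  rw [val_frac, val_zero, Localization.mk_eq_mk', IsLocalization.mk'_eq_zero_iff]
  refine ⟨⟨F I f hf ^ (k + 1), ⟨k + 1, rfl⟩⟩, ?_⟩
  apply Subtype.ext
  simp only [F, Subalgebra.coe_mul, Subalgebra.coe_pow, coe_mon, monomial_pow, monomial_mul_monomial,
    one_mul, h2, Subalgebra.coe_zero, map_zero]

/-- ring homs out of the chart ring agreeing on `A` and sending `f` to a nonzerodivisor are equal. -/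
theorem away_hom_ext {D : Type*} [CommRing D]
    (θ θ' : Away (Rees.deg (reesAlgebra I)) (F I f hf) →+* D)
    (h : θ.comp (toAway I f hf) = θ'.comp (toAway I f hf))
    (hnzd : θ (toAway I f hf f) ∈ nonZeroDivisors D) : θ = θ' := by
  ext z
  obtain ⟨n, x, hx, rfl⟩ := frac_surjective I f hf z
  have h1 := congrArg θ (frac_mul_pow I f hf n x hx)
  have h2 := congrArg θ' (frac_mul_pow I f hf n x hx)
  have h3 : θ (toAway I f hf x) = θ' (toAway I f hf x) := RingHom.congr_fun h x
  have h4 : θ (toAway I f hf (f ^ n)) = θ' (toAway I f hf (f ^ n)) := RingHom.congr_fun h (f ^ n)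
  have h5 : θ (toAway I f hf (f ^ n)) ∈ nonZeroDivisors D := by
    rw [map_pow, map_pow]; exact pow_mem hnzd n
  rw [map_mul] at h1 h2
  rw [← h4] at h2
  exact (mul_cancel_right_mem_nonZeroDivisors h5).mp (h1.trans (h3.trans h2.symm))

end chart

section irrelevant

lemma mon_one_mem_irrelevant (i : A) (hi : i ∈ I) :
    F I i hi ∈ (HomogeneousIdeal.irrelevant (Rees.deg (reesAlgebra I))).toIdeal := by
  refine (HomogeneousIdeal.mem_irrelevant_iff _ _).mpr ?_
  rw [GradedRing.proj_apply, DirectSum.decompose_of_mem_ne _ (F_mem I i hi) one_ne_zero]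

lemma mon_succ_mem_span (n : ℕ) (y : A) (hy : y ∈ I ^ (n + 1)) :
    mon I (n + 1) y hy ∈ Ideal.span (Set.range fun i : I => F I i.1 i.2) := by
  have key : ∀ y ∈ I * I ^ n, ∃ h : y ∈ I ^ (n + 1),
      mon I (n + 1) y h ∈ Ideal.span (Set.range fun i : I => F I i.1 i.2) := by
    intro y hy
    refine Submodule.mul_induction_on (C := fun y => ∃ h : y ∈ I ^ (n + 1),
      mon I (n + 1) y h ∈ Ideal.span (Set.range fun i : I => F I i.1 i.2)) hy ?_ ?_
    · intro a ha b hb
      have hab : a * b ∈ I ^ (n + 1) := by rw [pow_succ']; exact Ideal.mul_mem_mul ha hb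
      refine ⟨hab, ?_⟩
      have : mon I (n + 1) (a * b) hab = F I a ha * mon I n b hb := by
        apply Subtype.ext
        simp [F, monomial_mul_monomial, add_comm]
      rw [this]
      exact Ideal.mul_mem_right _ _ (Ideal.subset_span ⟨⟨a, ha⟩, rfl⟩)
    · rintro x y ⟨h1, h1'⟩ ⟨h2, h2'⟩
      refine ⟨add_mem h1 h2, ?_⟩
      rw [mon_add I (n + 1) x y h1 h2]
      exact add_mem h1' h2'
  obtain ⟨_, h⟩ := key y (by rwa [← pow_succ'])
  exact h

/-- the irrelevant ideal of the Rees algebra is generated by the degree one elements `i X`, `i ∈ I`. -/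
theorem irrelevant_le_span :
    (HomogeneousIdeal.irrelevant (Rees.deg (reesAlgebra I))).toIdeal ≤
      Ideal.span (Set.range fun i : I => F I i.1 i.2) := by
  classical
  intro x hx
  rw [← DirectSum.sum_support_decompose (Rees.deg (reesAlgebra I)) x]
  refine Ideal.sum_mem _ fun c _ => ?_
  rcases Nat.eq_zero_or_pos c with rfl | hc
  · have : (DirectSum.decompose (Rees.deg (reesAlgebra I)) x 0 : reesAlgebra I) = 0 := by
      have := (HomogeneousIdeal.mem_irrelevant_iff _ _).mp hx
      rwa [GradedRing.proj_apply] at this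
    rw [this]
    exact zero_mem _
  · obtain ⟨n, rfl⟩ : ∃ n, c = n + 1 := ⟨c - 1, by omega⟩
    obtain ⟨y, hy, h⟩ := exists_mon_of_mem I (DirectSum.decompose (Rees.deg (reesAlgebra I)) x (n + 1)).2
    rw [h]
    exact mon_succ_mem_span I n y hy

end irrelevant

section psi

variable {I}
variable {C : Type u} [CommRing C] (φ : A →+* C) (t : C)

/-- `A[X] → C_t`, `X ↦ 1/t`. -/
noncomputable def Phi : A[X] →+* Localization.Away t :=
  Polynomial.eval₂RingHom ((algebraMap C (Localization.Away t)).comp φ) (IsLocalization.Away.invSelf t)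

lemma Phi_monomial (n : ℕ) (x : A) :
    Phi φ t (monomial n x) = algebraMap C (Localization.Away t) (φ x) * IsLocalization.Away.invSelf t ^ n := by
  simp [Phi, eval₂_monomial]

variable {t}

lemma algebraMap_away_injective (ht : t ∈ nonZeroDivisors C) :
    Function.Injective (algebraMap C (Localization.Away t)) :=
  IsLocalization.injective _ (Submonoid.powers_le.mpr ht)

variable {φ}

lemma exists_eq_mul_pow (hIt : I.map φ = Ideal.span {t}) (n : ℕ) (x : A) (hx : x ∈ I ^ n) :
    ∃ c : C, φ x = c * t ^ n := by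
  have h1 : φ x ∈ (I ^ n).map φ := Ideal.mem_map_of_mem _ hx
  rw [Ideal.map_pow, hIt, Ideal.span_singleton_pow] at h1
  obtain ⟨c, hc⟩ := Ideal.mem_span_singleton'.mp h1
  exact ⟨c, hc.symm⟩

lemma Phi_mem_range (hIt : I.map φ = Ideal.span {t}) (p : A[X]) (hp : p ∈ reesAlgebra I) :
    Phi φ t p ∈ (algebraMap C (Localization.Away t)).range := by
  rw [p.as_sum_support, map_sum]
  refine Subring.sum_mem _ fun n _ => ?_
  obtain ⟨c, hc⟩ := exists_eq_mul_pow hIt n (p.coeff n) (hp n)
  refine ⟨c, ?_⟩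
  rw [Phi_monomial, hc, map_mul, map_pow, mul_assoc, ← mul_pow, IsLocalization.Away.mul_invSelf,
    one_pow, mul_one]

variable (I φ)

/-- for `I C = (t)` with `t` a nonzerodivisor: the ring hom `R(I) → C`, `x Xⁿ ↦ φ x / tⁿ`. -/
noncomputable def psi (ht : t ∈ nonZeroDivisors C) (hIt : I.map φ = Ideal.span {t}) :
    reesAlgebra I →+* C :=
  ((RingEquiv.ofBijective (algebraMap C (Localization.Away t)).rangeRestrict
      ⟨fun _ _ h => algebraMap_away_injective ht (congrArg Subtype.val h),
        (algebraMap C (Localization.Away t)).rangeRestrict_surjective⟩).symm : _ →+* C).comp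
    (((Phi φ t).comp (reesAlgebra I).val.toRingHom).codRestrict
      (algebraMap C (Localization.Away t)).range (fun p => Phi_mem_range hIt p.1 p.2))

variable {I φ}

lemma algebraMap_psi (ht : t ∈ nonZeroDivisors C) (hIt : I.map φ = Ideal.span {t}) (p : reesAlgebra I) :
    algebraMap C (Localization.Away t) (psi I φ ht hIt p) = Phi φ t p.1 := by
  set e := (RingEquiv.ofBijective (algebraMap C (Localization.Away t)).rangeRestrict
      ⟨fun _ _ h => algebraMap_away_injective ht (congrArg Subtype.val h),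
        (algebraMap C (Localization.Away t)).rangeRestrict_surjective⟩) with he
  set y : (algebraMap C (Localization.Away t)).range :=
    (((Phi φ t).comp (reesAlgebra I).val.toRingHom).codRestrict
      (algebraMap C (Localization.Away t)).range (fun p => Phi_mem_range hIt p.1 p.2)) p with hy
  have h1 : psi I φ ht hIt p = e.symm y := rfl
  have h2 : e (e.symm y) = y := e.apply_symm_apply y
  have h3 : (e (e.symm y)).1 = algebraMap C (Localization.Away t) (e.symm y) := rfl
  rw [h1, ← h3, h2]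
  rfl

lemma psi_mon_mul (ht : t ∈ nonZeroDivisors C) (hIt : I.map φ = Ideal.span {t})
    (n : ℕ) (x : A) (hx : x ∈ I ^ n) :
    psi I φ ht hIt (mon I n x hx) * t ^ n = φ x := by
  apply algebraMap_away_injective ht
  rw [map_mul, algebraMap_psi, coe_mon, Phi_monomial, map_pow, mul_assoc, ← mul_pow, mul_comm _
    (algebraMap C _ t), IsLocalization.Away.mul_invSelf, one_pow, mul_one]

lemma psi_algebraMap (ht : t ∈ nonZeroDivisors C) (hIt : I.map φ = Ideal.span {t}) (a : A) :
    psi I φ ht hIt (algebraMap A (reesAlgebra I) a) = φ a := by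
  have := psi_mon_mul ht hIt 0 a (by simp)
  simp only [pow_zero, mul_one] at this
  rwa [← algebraMap_eq_mon] at this

lemma psi_comp_algebraMap (ht : t ∈ nonZeroDivisors C) (hIt : I.map φ = Ideal.span {t}) :
    (psi I φ ht hIt).comp (algebraMap A (reesAlgebra I)) = φ :=
  RingHom.ext (psi_algebraMap ht hIt)

/-- the image of the irrelevant ideal generates the unit ideal. -/
theorem map_psi_irrelevant (ht : t ∈ nonZeroDivisors C) (hIt : I.map φ = Ideal.span {t}) :
    (HomogeneousIdeal.irrelevant (Rees.deg (reesAlgebra I))).toIdeal.map (psi I φ ht hIt) = ⊤ := by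
  set J := (HomogeneousIdeal.irrelevant (Rees.deg (reesAlgebra I))).toIdeal.map (psi I φ ht hIt)
  have key : ∀ y ∈ I.map φ, ∃ w ∈ J, y = w * t := by
    intro y hy
    refine Submodule.span_induction (p := fun y _ => ∃ w ∈ J, y = w * t) ?_ ?_ ?_ ?_ hy
    · rintro _ ⟨i, hi, rfl⟩
      refine ⟨psi I φ ht hIt (F I i hi), Ideal.mem_map_of_mem _ (mon_one_mem_irrelevant I i hi), ?_⟩
      have := psi_mon_mul ht hIt 1 i (by simpa using hi)
      simp only [pow_one] at this
      exact this.symm
    · exact ⟨0, zero_mem _, by simp⟩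
    · rintro x y _ _ ⟨w1, h1, rfl⟩ ⟨w2, h2, rfl⟩
      exact ⟨w1 + w2, add_mem h1 h2, by ring⟩
    · rintro c x _ ⟨w, h, rfl⟩
      exact ⟨c * w, Ideal.mul_mem_left _ _ h, by rw [smul_eq_mul]; ring⟩
  obtain ⟨w, hw, hwt⟩ := key t (hIt ▸ Ideal.mem_span_singleton_self t)
  have h1 : (1 - w) * t = 0 := by rw [sub_mul, one_mul, ← hwt, sub_self]
  have h2 : 1 - w = 0 := (mul_right_mem_nonZeroDivisors_eq_zero_iff ht).mp h1
  rw [Ideal.eq_top_iff_one]
  convert hw using 1
  exact sub_eq_zero.mp h2

/-- if all `ρ (ψ (i X))` are multiples of `ρ (ψ (f X))`, the latter is a unit (`ψ` maps the irrelevant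
ideal to the unit ideal). -/
theorem isUnit_of_forall_dvd {C D : Type*} [CommRing C] [CommRing D] (ψ : reesAlgebra I →+* C)
    (hψ : (HomogeneousIdeal.irrelevant (Rees.deg (reesAlgebra I))).toIdeal.map ψ = ⊤) (ρ : C →+* D)
    (f : A) (hf : f ∈ I) (H : ∀ (i : A) (hi : i ∈ I), ∃ c : D, ρ (ψ (F I i hi)) = c * ρ (ψ (F I f hf))) :
    IsUnit (ρ (ψ (F I f hf))) := by
  rw [← Ideal.span_singleton_eq_top, eq_top_iff]
  have h1 : (⊤ : Ideal D) = ((HomogeneousIdeal.irrelevant (Rees.deg (reesAlgebra I))).toIdeal.map ψ).map ρ := by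
    rw [hψ, Ideal.map_top]
  rw [h1, Ideal.map_le_iff_le_comap, Ideal.map_le_iff_le_comap]
  refine (irrelevant_le_span I).trans ?_
  rw [Ideal.span_le]
  rintro _ ⟨i, rfl⟩
  obtain ⟨c, hc⟩ := H i.1 i.2
  change ρ (ψ (F I i.1 i.2)) ∈ Ideal.span {ρ (ψ (F I f hf))}
  rw [hc]
  exact Ideal.mul_mem_left _ _ (Ideal.mem_span_singleton_self _)

end psi

end Groth.Agent.Lib.helper16.ReesBlowup
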