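import Mathlib
import Groth.Prelude.Def_Rees
import Groth.Prelude.Def_BlowUp2
import Groth.Prelude.Def_ega3
import Groth.Agent.Lib.Helper16.ReesBlowup
import Groth.Agent.Lib.Helper16.EffCartier
import Groth.Agent.Lib.Helper7.IdealComap

/-!
# `Proj` of the Rees algebra is the blow-up (helper16)
-/

set_option autoImplicit false
universe u
open CategoryTheory CategoryTheory.Limits AlgebraicGeometry TopologicalSpace Opposite

namespace Groth.Agent.Lib.helper16.ReesBlowup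

variable {A : Type u} [CommRing A] (I : Ideal A)

/-- the blow-up scheme `Proj R(I)`. -/
noncomputable abbrev Bl : Scheme.{u} := Proj (Rees.deg (reesAlgebra I))

/-- the structure morphism `Proj R(I) ⟶ Spec A`. -/
noncomputable abbrev bl : Bl I ⟶ Spec (CommRingCat.of A) := Bl I ↘ Spec (CommRingCat.of A)

/-- the ideal sheaf of `I` on `Spec A`. -/
noncomputable abbrev idl : (Spec (CommRingCat.of A)).IdealSheafData :=
  Scheme.IdealSheafData.ofIdealTop (I.map (Scheme.ΓSpecIso (CommRingCat.of A)).inv.hom)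

lemma map_equiv_mem_nonZeroDivisors {R S : Type*} [CommRing R] [CommRing S] (e : R ≃+* S) {x : R}
    (hx : x ∈ nonZeroDivisors R) : e x ∈ nonZeroDivisors S := by
  refine mem_nonZeroDivisors_iff_right.mpr fun z hz => ?_
  have h1 : e.symm z * x = 0 := by
    apply e.injective
    rw [map_mul, e.apply_symm_apply, hz, map_zero]
  have h2 := (mul_right_mem_nonZeroDivisors_eq_zero_iff hx).mp h1
  rw [← e.apply_symm_apply z, h2, map_zero]

/-- the ring map `A → Γ(Y, V)` induced by `q : Y ⟶ Spec A`. -/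
noncomputable def ringOf {Y : Scheme.{u}} (q : Y ⟶ Spec (CommRingCat.of A)) (V : Y.Opens) :
    A →+* Γ(Y, V) :=
  ((Scheme.ΓSpecIso (CommRingCat.of A)).inv ≫ q.appLE ⊤ V le_top).hom

/-- the pulled back ideal on an affine open. -/
theorem ideal_comap_idl {Y : Scheme.{u}} (q : Y ⟶ Spec (CommRingCat.of A)) (V : Y.affineOpens) :
    ((idl I).comap q).ideal V = I.map (ringOf q V.1) := by
  rw [Groth.Agent.Lib.helper7.IdealComap.ideal_comap q (idl I) (isAffineOpen_top _) V.2 le_top]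
  simp only [idl, ringOf, CommRingCat.hom_comp]
  rw [← Ideal.map_map]
  congr 1
  simp

/-- characterization of `ringOf` on affine opens. -/
theorem ringOf_eq {Y : Scheme.{u}} (q : Y ⟶ Spec (CommRingCat.of A)) (V : Y.Opens) (hV : IsAffineOpen V)
    (β : CommRingCat.of A ⟶ Γ(Y, V)) (h : V.ι ≫ q = V.toSpecΓ ≫ Spec.map β) : ringOf q V = β.hom := by
  have h1 : V.toSpecΓ ≫ Spec.map ((Scheme.ΓSpecIso (CommRingCat.of A)).inv ≫ q.appLE ⊤ V le_top) =
      V.ι ≫ q := by
    rw [Spec.map_comp, Scheme.Opens.toSpecΓ_SpecMap_appLE_assoc, Scheme.Opens.toSpecΓ_top,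
      Category.assoc, toSpecΓ_SpecMap_ΓSpecIso_inv, Category.comp_id, Scheme.Hom.resLE_comp_ι]
  rw [h] at h1
  have : IsIso V.toSpecΓ := by rw [← hV.isoSpec_hom]; infer_instance
  have h2 := Spec.map_injective ((cancel_epi V.toSpecΓ).mp h1)
  rw [ringOf, h2]

section chart

variable (f : A) (hf : f ∈ I)

/-- the chart `D₊(fX)` of the blow-up. -/
noncomputable abbrev chart : (Bl I).Opens := Proj.basicOpen (Rees.deg (reesAlgebra I)) (F I f hf)

lemma isAffineOpen_chart : IsAffineOpen (chart I f hf) :=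
  Proj.isAffineOpen_basicOpen _ _ (F_mem I f hf) Nat.one_pos

lemma bl_eq : bl I = Proj.toSpecZero (Rees.deg (reesAlgebra I)) ≫
    Spec.map (CommRingCat.ofHom (algebraMap A (Rees.deg (reesAlgebra I) 0))) := rfl

lemma chart_ι_bl : (chart I f hf).ι ≫ bl I = (chart I f hf).toSpecΓ ≫
    Spec.map (CommRingCat.ofHom (toAway I f hf) ≫ Proj.awayToSection (Rees.deg (reesAlgebra I)) (F I f hf)) := by
  have h1 := Proj.awayι_toSpecZero (Rees.deg (reesAlgebra I)) (F I f hf) (F_mem I f hf) Nat.one_pos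
  rw [Proj.awayι, Category.assoc, Iso.inv_comp_eq, Proj.basicOpenIsoSpec_hom, Proj.basicOpenToSpec,
    Category.assoc] at h1
  rw [bl_eq, ← Category.assoc, h1, Category.assoc, Category.assoc, ← Spec.map_comp, ← Spec.map_comp]
  rfl

lemma ringOf_bl_chart : ringOf (bl I) (chart I f hf) =
    (Proj.awayToSection (Rees.deg (reesAlgebra I)) (F I f hf)).hom.comp (toAway I f hf) := by
  rw [ringOf_eq (bl I) (chart I f hf) (isAffineOpen_chart I f hf) _ (chart_ι_bl I f hf)]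
  rfl

lemma isIso_awayToSection : IsIso (Proj.awayToSection (Rees.deg (reesAlgebra I)) (F I f hf)) := by
  rw [← Proj.basicOpenIsoAway_hom _ _ (F_mem I f hf) Nat.one_pos]
  infer_instance

/-- on the chart `D₊(fX)`, the pulled back ideal is generated by the nonzerodivisor `f`. -/
theorem ideal_chart : ((idl I).comap (bl I)).ideal ⟨chart I f hf, isAffineOpen_chart I f hf⟩ =
    Ideal.span {ringOf (bl I) (chart I f hf) f} := by
  rw [ideal_comap_idl, ringOf_bl_chart, ← Ideal.map_map, map_toAway_eq_span, Ideal.map_span,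
    Set.image_singleton]
  rfl

theorem ringOf_bl_chart_mem_nonZeroDivisors :
    ringOf (bl I) (chart I f hf) f ∈ nonZeroDivisors Γ(Bl I, chart I f hf) := by
  rw [ringOf_bl_chart]
  have := isIso_awayToSection I f hf
  let e := (asIso (Proj.awayToSection (Rees.deg (reesAlgebra I)) (F I f hf))).commRingCatIsoToRingEquiv
  exact map_equiv_mem_nonZeroDivisors e (toAway_f_mem_nonZeroDivisors I f hf)

end chart

lemma iSup_chart : ⨆ i : I, chart I i.1 i.2 = ⊤ :=
  Proj.iSup_basicOpen_eq_top _ _ (irrelevant_le_span I)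

/-- the pulled back ideal on the blow-up is effective Cartier. -/
theorem isEffCartier_comap_bl : BlowUp.IsEffCartierIdeal ((idl I).comap (bl I)) := by
  intro x
  have hx : x ∈ ⨆ i : I, chart I i.1 i.2 := by rw [iSup_chart]; trivial
  obtain ⟨i, hi⟩ := Opens.mem_iSup.mp hx
  exact ⟨⟨chart I i.1 i.2, isAffineOpen_chart I i.1 i.2⟩, hi, _,
    ringOf_bl_chart_mem_nonZeroDivisors I i.1 i.2, ideal_chart I i.1 i.2⟩

section ringOf

variable {A' : Type u} [CommRing A']

theorem ringOf_comp_SpecMap {Y : Scheme.{u}} (m : Y ⟶ Spec (CommRingCat.of A)) (φ : A' →+* A)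
    (V : Y.Opens) :
    ringOf (m ≫ Spec.map (CommRingCat.ofHom φ)) V = (ringOf m V).comp φ := by
  have : (Scheme.ΓSpecIso (CommRingCat.of A')).inv ≫
      (m ≫ Spec.map (CommRingCat.ofHom φ)).appLE ⊤ V le_top =
      CommRingCat.ofHom φ ≫ (Scheme.ΓSpecIso (CommRingCat.of A)).inv ≫ m.appLE ⊤ V le_top := by
    rw [Scheme.Hom.comp_appLE, ← Category.assoc, ← Category.assoc]
    have h := Scheme.ΓSpecIso_inv_naturality (CommRingCat.ofHom φ)
    rw [Scheme.Hom.appTop] at h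
    rw [h]
    rfl
  rw [ringOf, this]
  rfl

theorem ringOf_ι_comp {Y : Scheme.{u}} (q : Y ⟶ Spec (CommRingCat.of A)) (W : Y.Opens) :
    ringOf (W.ι ≫ q) ⊤ = W.topIso.inv.hom.comp (ringOf q W) := by
  have : (Scheme.ΓSpecIso (CommRingCat.of A)).inv ≫ (W.ι ≫ q).appLE ⊤ ⊤ le_top =
      ((Scheme.ΓSpecIso (CommRingCat.of A)).inv ≫ q.appLE ⊤ W le_top) ≫ W.topIso.inv := by
    simp [Scheme.Hom.appLE, Scheme.Opens.topIso]
    congr 1
    erw [Category.comp_id, ← Functor.map_comp]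
    rfl
  rw [ringOf, this]
  rfl

theorem ringOf_res {Y : Scheme.{u}} (q : Y ⟶ Spec (CommRingCat.of A)) (W : Y.Opens) :
    ringOf q W = (Y.presheaf.map (homOfLE (le_top : W ≤ ⊤)).op).hom.comp (ringOf q ⊤) := by
  have : (Scheme.ΓSpecIso (CommRingCat.of A)).inv ≫ q.appLE ⊤ W le_top =
      ((Scheme.ΓSpecIso (CommRingCat.of A)).inv ≫ q.appLE ⊤ ⊤ le_top) ≫
        Y.presheaf.map (homOfLE (le_top : W ≤ ⊤)).op := by
    simp [Scheme.Hom.appLE]
  rw [ringOf, this]
  rfl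

theorem ringOf_comp {Y B : Scheme.{u}} (h : Y ⟶ B) (q : B ⟶ Spec (CommRingCat.of A)) (V : B.Opens)
    (W : Y.Opens) (hW : W ≤ h ⁻¹ᵁ V) :
    ringOf (h ≫ q) W = (h.appLE V W hW).hom.comp (ringOf q V) := by
  have : (Scheme.ΓSpecIso (CommRingCat.of A)).inv ≫ (h ≫ q).appLE ⊤ W le_top =
      ((Scheme.ΓSpecIso (CommRingCat.of A)).inv ≫ q.appLE ⊤ V le_top) ≫ h.appLE V W hW := by
    rw [Category.assoc, Scheme.Hom.appLE_comp_appLE]
  rw [ringOf, this]
  rfl

end ringOf

section exist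

theorem toSpecΓ_ringOf_top {Y : Scheme.{u}} (g : Y ⟶ Spec (CommRingCat.of A)) :
    Y.toSpecΓ ≫ Spec.map (CommRingCat.ofHom (ringOf g ⊤)) = g := by
  have : CommRingCat.ofHom (ringOf g ⊤) = (Scheme.ΓSpecIso (CommRingCat.of A)).inv ≫ g.appTop := by
    rw [ringOf]
    simp [Scheme.Hom.appLE]
  rw [this, Spec.map_comp, ← Scheme.toSpecΓ_naturality_assoc, toSpecΓ_SpecMap_ΓSpecIso_inv,
    Category.comp_id]

variable {I}
variable {Y : Scheme.{u}} (g : Y ⟶ Spec (CommRingCat.of A)) {t : Γ(Y, ⊤)}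
  (ht : t ∈ nonZeroDivisors Γ(Y, ⊤)) (hIt : I.map (ringOf g ⊤) = Ideal.span {t})

/-- the ring map `R(I) → Γ(Y, ⊤)` for `I·O_Y = (t)`. -/
noncomputable def psiY : reesAlgebra I →+* Γ(Y, ⊤) := psi I (ringOf g ⊤) ht hIt

/-- the lift `Y ⟶ Proj R(I)` when `I·O_Y` is globally generated by a nonzerodivisor. -/
noncomputable def lift0 : Y ⟶ Bl I :=
  Proj.fromOfGlobalSections (Rees.deg (reesAlgebra I)) (psiY g ht hIt) (map_psi_irrelevant ht hIt)

theorem lift0_bl : lift0 g ht hIt ≫ bl I = g := by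
  rw [bl_eq, lift0, Proj.fromOfGlobalSections_toSpecZero_assoc, ← Spec.map_comp,
    ← CommRingCat.ofHom_comp]
  have : ((psiY g ht hIt).comp (algebraMap (Rees.deg (reesAlgebra I) 0) (reesAlgebra I))).comp
      (algebraMap A (Rees.deg (reesAlgebra I) 0)) = ringOf g ⊤ := by
    rw [← psi_comp_algebraMap ht hIt]
    rfl
  rw [this, toSpecΓ_ringOf_top]

theorem lift0_preimage_chart (f : A) (hf : f ∈ I) :
    lift0 g ht hIt ⁻¹ᵁ chart I f hf = Y.basicOpen (psiY g ht hIt (F I f hf)) :=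
  Proj.fromOfGlobalSections_preimage_basicOpen _ _ _ Nat.one_pos (F_mem I f hf)

theorem psiY_F_mul (f : A) (hf : f ∈ I) : psiY g ht hIt (F I f hf) * t = ringOf g ⊤ f := by
  have := psi_mon_mul ht hIt 1 f (by simpa using hf)
  simp only [pow_one] at this
  exact this

end exist

section uniq

variable {I}

lemma basicOpenIsoSpec_hom_SpecMap_toAway (f : A) (hf : f ∈ I) :
    (Proj.basicOpenIsoSpec (Rees.deg (reesAlgebra I)) (F I f hf) (F_mem I f hf) Nat.one_pos).hom ≫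
      Spec.map (CommRingCat.ofHom (toAway I f hf)) = (chart I f hf).ι ≫ bl I := by
  rw [chart_ι_bl, Spec.map_comp, Proj.basicOpenIsoSpec_hom, Proj.basicOpenToSpec, Category.assoc]

/-- two lifts mapping the open `W` into the same chart `D₊(fX)`, where `f` is a nonzerodivisor on `W`,
agree on `W`. -/
theorem ι_comp_eq_of_le_chart {Y : Scheme.{u}} (h h' : Y ⟶ Bl I) (hh : h ≫ bl I = h' ≫ bl I)
    (W : Y.Opens) (f : A) (hf : f ∈ I)
    (hW : W ≤ h ⁻¹ᵁ chart I f hf) (hW' : W ≤ h' ⁻¹ᵁ chart I f hf)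
    (hnzd : ringOf (h ≫ bl I) W f ∈ nonZeroDivisors Γ(Y, W)) :
    W.ι ≫ h = W.ι ≫ h' := by
  set e := Proj.basicOpenIsoSpec (Rees.deg (reesAlgebra I)) (F I f hf) (F_mem I f hf) Nat.one_pos
    with he
  set k := h.resLE (chart I f hf) W hW with hk
  set k' := h'.resLE (chart I f hf) W hW' with hk'
  suffices hkk : k ≫ e.hom = k' ≫ e.hom by
    have : k = k' := (cancel_mono e.hom).mp hkk
    rw [← Scheme.Hom.resLE_comp_ι h hW, ← Scheme.Hom.resLE_comp_ι h' hW', ← hk, ← hk', this]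
  have hθ : ringOf (k ≫ e.hom) ⊤ = ringOf (k' ≫ e.hom) ⊤ := by
    apply away_hom_ext I f hf
    · rw [← ringOf_comp_SpecMap, ← ringOf_comp_SpecMap, Category.assoc, Category.assoc,
        basicOpenIsoSpec_hom_SpecMap_toAway, Scheme.Hom.resLE_comp_ι_assoc,
        Scheme.Hom.resLE_comp_ι_assoc, hh]
    · have : ringOf (k ≫ e.hom) ⊤ (toAway I f hf f) = W.topIso.inv.hom (ringOf (h ≫ bl I) W f) := by
        rw [← RingHom.comp_apply, ← ringOf_comp_SpecMap, Category.assoc,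
          basicOpenIsoSpec_hom_SpecMap_toAway, Scheme.Hom.resLE_comp_ι_assoc, ringOf_ι_comp]
        rfl
      rw [this]
      exact map_equiv_mem_nonZeroDivisors (W.topIso.symm.commRingCatIsoToRingEquiv) hnzd
  rw [← toSpecΓ_ringOf_top (k ≫ e.hom), ← toSpecΓ_ringOf_top (k' ≫ e.hom), hθ]

/-- on an affine scheme where `I·O_Y` is globally generated by a nonzerodivisor, every lift is `lift0`. -/
theorem eq_lift0 {Y : Scheme.{u}} [IsAffine Y] (g : Y ⟶ Spec (CommRingCat.of A)) {t : Γ(Y, ⊤)}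
    (ht : t ∈ nonZeroDivisors Γ(Y, ⊤)) (hIt : I.map (ringOf g ⊤) = Ideal.span {t})
    (h : Y ⟶ Bl I) (hh : h ≫ bl I = g) : h = lift0 g ht hIt := by
  apply Scheme.hom_ext_of_forall
  intro y
  have hy : h y ∈ ⨆ i : I, chart I i.1 i.2 := by rw [iSup_chart]; trivial
  obtain ⟨⟨f, hf⟩, hyf⟩ := Opens.mem_iSup.mp hy
  obtain ⟨a, haW, hya⟩ := (isAffineOpen_top Y).exists_basicOpen_le
    (V := h ⁻¹ᵁ chart I f hf) ⟨y, hyf⟩ (Opens.mem_top y)
  set W := Y.basicOpen a with hWdef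
  have hWaff : IsAffineOpen W := (isAffineOpen_top Y).basicOpen a
  let ρ := (Y.presheaf.map (homOfLE (le_top : W ≤ ⊤)).op).hom
  have hρt : ρ t ∈ nonZeroDivisors Γ(Y, W) :=
    Groth.Agent.Lib.helper16.EffCartier.res_mem_nonZeroDivisors
      (V := ⟨⊤, isAffineOpen_top Y⟩) (V' := ⟨W, hWaff⟩) le_top ht
  set ψ := psiY g ht hIt with hψ
  have hβ : ∀ (i : A) (hi : i ∈ I), ringOf g W i = ρ (ψ (F I i hi)) * ρ t := by
    intro i hi
    rw [ringOf_res, RingHom.comp_apply, ← psiY_F_mul g ht hIt i hi, map_mul]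
  let θ : HomogeneousLocalization.Away (Rees.deg (reesAlgebra I)) (F I f hf) →+* Γ(Y, W) :=
    (h.appLE (chart I f hf) W haW).hom.comp
      (Proj.awayToSection (Rees.deg (reesAlgebra I)) (F I f hf)).hom
  have hθ : ∀ (i : A) (hi : i ∈ I), ringOf g W i =
      θ (frac I f hf 1 i (by simpa using hi)) * ringOf g W f := by
    intro i hi
    have : ringOf g W = θ.comp (toAway I f hf) := by
      rw [← hh, ringOf_comp h (bl I) (chart I f hf) W haW, ringOf_bl_chart]
      rfl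
    rw [this, RingHom.comp_apply, RingHom.comp_apply]
    conv_lhs => rw [toAway_eq_frac_mul I f hf i hi]
    exact map_mul θ _ _
  have hunit : IsUnit (ρ (ψ (F I f hf))) := by
    apply isUnit_of_forall_dvd ψ (map_psi_irrelevant ht hIt) ρ f hf
    intro i hi
    refine ⟨θ (frac I f hf 1 i (by simpa using hi)), ?_⟩
    have := hθ i hi
    rw [hβ i hi, hβ f hf, ← mul_assoc] at this
    exact (mul_cancel_right_mem_nonZeroDivisors hρt).mp this
  have hW' : W ≤ lift0 g ht hIt ⁻¹ᵁ chart I f hf := by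
    rw [lift0_preimage_chart]
    have h1 : Y.basicOpen (ρ (ψ (F I f hf))) = W := Scheme.basicOpen_of_isUnit _ hunit
    rw [Scheme.basicOpen_res] at h1
    rw [← h1]
    exact inf_le_right
  refine ⟨W, hya, ι_comp_eq_of_le_chart h (lift0 g ht hIt)
    (hh.trans (lift0_bl g ht hIt).symm) W f hf haW hW' ?_⟩
  rw [hh, hβ f hf]
  exact mul_mem hunit.mem_nonZeroDivisors hρt

section chartLift

variable {Y : Scheme.{u}} (g : Y ⟶ Spec (CommRingCat.of A)) (V : Y.affineOpens) {t : Γ(Y, V.1)}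
  (ht : t ∈ nonZeroDivisors Γ(Y, V.1)) (hV : ((idl I).comap g).ideal V = Ideal.span {t})

include hV in
lemma map_ringOf_ι_comp : I.map (ringOf (V.1.ι ≫ g) ⊤) = Ideal.span {V.1.topIso.inv.hom t} := by
  rw [ringOf_ι_comp, ← Ideal.map_map, ← ideal_comap_idl, hV, Ideal.map_span, Set.image_singleton]

include ht in
lemma topIso_inv_mem_nonZeroDivisors :
    V.1.topIso.inv.hom t ∈ nonZeroDivisors Γ(V.1.toScheme, ⊤) :=
  map_equiv_mem_nonZeroDivisors (V.1.topIso.symm.commRingCatIsoToRingEquiv) ht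

/-- the lift on a chart of the effective Cartier ideal `I·O_Y`. -/
noncomputable def chartLift : V.1.toScheme ⟶ Bl I :=
  lift0 (V.1.ι ≫ g) (topIso_inv_mem_nonZeroDivisors V ht) (map_ringOf_ι_comp g V hV)

lemma chartLift_bl : chartLift g V ht hV ≫ bl I = V.1.ι ≫ g := lift0_bl _ _ _

lemma eq_chartLift (h : V.1.toScheme ⟶ Bl I) (hh : h ≫ bl I = V.1.ι ≫ g) :
    h = chartLift g V ht hV :=
  have : IsAffine V.1.toScheme := V.2
  eq_lift0 _ _ _ h hh

end chartLift

/-- uniqueness of lifts to the blow-up. -/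
theorem lift_unique {Y : Scheme.{u}} (h h' : Y ⟶ Bl I) (hh : h ≫ bl I = h' ≫ bl I)
    (hK : BlowUp.IsEffCartierIdeal ((idl I).comap (h ≫ bl I))) : h = h' := by
  apply Scheme.hom_ext_of_forall
  intro y
  obtain ⟨V, hyV, t, ht, hV⟩ := hK y
  refine ⟨V.1, hyV, ?_⟩
  rw [eq_chartLift (h ≫ bl I) V ht hV (V.1.ι ≫ h) (Category.assoc _ _ _),
    eq_chartLift (h ≫ bl I) V ht hV (V.1.ι ≫ h') (by rw [Category.assoc, hh])]

open Groth.Agent.Lib.helper16.EffCartier in
/-- existence of lifts to the blow-up. -/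
theorem exists_lift {Y : Scheme.{u}} (g : Y ⟶ Spec (CommRingCat.of A))
    (hK : BlowUp.IsEffCartierIdeal ((idl I).comap g)) : ∃ h : Y ⟶ Bl I, h ≫ bl I = g := by
  let 𝒰 : Y.OpenCover := Y.openCoverOfIsOpenCover (fun c : Charts ((idl I).comap g) => c.1.1)
    (iSup_charts hK)
  let l : ∀ c : 𝒰.I₀, 𝒰.X c ⟶ Bl I := fun c =>
    chartLift g c.1 c.2.choose_spec.1 c.2.choose_spec.2
  have hl : ∀ c : 𝒰.I₀, l c ≫ bl I = 𝒰.f c ≫ g := fun c => chartLift_bl g c.1 _ _
  have hglue : ∀ x y : 𝒰.I₀, pullback.fst (𝒰.f x) (𝒰.f y) ≫ l x = pullback.snd (𝒰.f x) (𝒰.f y) ≫ l y := by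
    intro x y
    have h1 : (pullback.fst (𝒰.f x) (𝒰.f y) ≫ l x) ≫ bl I = (pullback.snd (𝒰.f x) (𝒰.f y) ≫ l y) ≫ bl I := by
      rw [Category.assoc, Category.assoc, hl, hl]
      exact pullback.condition_assoc _
    refine lift_unique _ _ h1 ?_
    rw [Category.assoc, hl, ← Category.assoc, Scheme.IdealSheafData.comap_comp]
    exact isEffCartier_comap_of_flat _ hK _
  refine ⟨𝒰.glueMorphisms l hglue, ?_⟩
  refine 𝒰.hom_ext _ _ fun c => ?_
  rw [Scheme.Cover.ι_glueMorphisms_assoc, hl]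

/-- **`Proj` of the Rees algebra is the blow-up.** -/
theorem isBlowUp_bl : BlowUp.IsBlowUp (bl I) (idl I) := by
  refine ⟨isEffCartier_comap_bl I, fun Y g hg => ?_⟩
  obtain ⟨h, hh⟩ := exists_lift g hg
  refine ⟨h, hh, fun h' hh' => ?_⟩
  exact lift_unique h' h (hh'.trans hh.symm) (hh' ▸ hg)

end uniq

end Groth.Agent.Lib.helper16.ReesBlowup
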