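import Mathlib
import Groth.Prelude.Def_BlowUp2
import Groth.Agent.Lib.Helper16.ReesBlowup2
import Groth.Agent.S1680
import Groth.Agent.S17083

/-!
# Existence of blow-ups by gluing the affine blow-ups (helper16)
-/

set_option autoImplicit false
universe u
open CategoryTheory CategoryTheory.Limits AlgebraicGeometry TopologicalSpace Opposite

namespace Groth.Agent.Lib.helper16.BlowUpGlue

open Groth.Agent.Lib.helper16.ReesBlowup

/-- blow-ups of affine schemes exist. -/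
theorem exists_isBlowUp_of_isAffine (X : Scheme.{u}) [IsAffine X] (𝓘 : X.IdealSheafData) :
    ∃ (B : Scheme.{u}) (b : B ⟶ X), BlowUp.IsBlowUp b 𝓘 := by
  set Iid : Ideal Γ(X, ⊤) := 𝓘.ideal ⟨⊤, isAffineOpen_top X⟩ with hI
  have h1 := Groth.Agent.S1680.main X.isoSpec.hom (idl Iid) (bl Iid) isBlowUp_bl
  have h2 : (idl Iid).comap X.isoSpec.hom = 𝓘 := by
    apply Scheme.IdealSheafData.ext_of_isAffine
    rw [ideal_comap_idl]
    have : ringOf (A := Γ(X, ⊤)) X.isoSpec.hom ⊤ = RingHom.id _ := by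
      have h3 := toSpecΓ_ringOf_top (A := Γ(X, ⊤)) X.isoSpec.hom
      have h4 : X.toSpecΓ ≫ Spec.map (CommRingCat.ofHom (ringOf (A := Γ(X, ⊤)) X.isoSpec.hom ⊤)) =
          X.toSpecΓ ≫ Spec.map (𝟙 _) := by
        rw [Spec.map_id, Category.comp_id]; exact h3
      have h5 := Spec.map_injective ((cancel_epi X.toSpecΓ).mp h4)
      exact congrArg CommRingCat.Hom.hom h5
    rw [this, Ideal.map_id]
  rw [h2] at h1
  exact ⟨_, _, h1⟩

section glue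

variable (X : Scheme.{u}) (𝓘 : X.IdealSheafData)

/-- the chosen blow-up of the affine open `U`. -/
noncomputable def BU (U : X.affineOpens) : Scheme.{u} :=
  haveI : IsAffine (U.1 : Scheme.{u}) := U.2
  (exists_isBlowUp_of_isAffine (U.1 : Scheme.{u}) (𝓘.comap U.1.ι)).choose

/-- its structure map. -/
noncomputable def bU (U : X.affineOpens) : BU X 𝓘 U ⟶ (U.1 : Scheme.{u}) :=
  haveI : IsAffine (U.1 : Scheme.{u}) := U.2
  (exists_isBlowUp_of_isAffine (U.1 : Scheme.{u}) (𝓘.comap U.1.ι)).choose_spec.choose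

lemma isBlowUp_bU (U : X.affineOpens) : BlowUp.IsBlowUp (bU X 𝓘 U) (𝓘.comap U.1.ι) :=
  haveI : IsAffine (U.1 : Scheme.{u}) := U.2
  (exists_isBlowUp_of_isAffine (U.1 : Scheme.{u}) (𝓘.comap U.1.ι)).choose_spec.choose_spec

lemma comap_homOfLE {U V : X.Opens} (h : U ≤ V) :
    (𝓘.comap V.ι).comap (X.homOfLE h) = 𝓘.comap U.ι := by
  rw [← Scheme.IdealSheafData.comap_comp, Scheme.homOfLE_ι]

lemma isEff_trans {U V : X.affineOpens} (h : U ≤ V) :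
    BlowUp.IsEffCartierIdeal ((𝓘.comap V.1.ι).comap (bU X 𝓘 U ≫ X.homOfLE h)) := by
  rw [Scheme.IdealSheafData.comap_comp, comap_homOfLE]
  exact (isBlowUp_bU X 𝓘 U).1

/-- the transition maps between the chosen blow-ups. -/
noncomputable def trans {U V : X.affineOpens} (h : U ≤ V) : BU X 𝓘 U ⟶ BU X 𝓘 V :=
  ((isBlowUp_bU X 𝓘 V).2 _ _ (isEff_trans X 𝓘 h)).exists.choose

lemma trans_bU {U V : X.affineOpens} (h : U ≤ V) :
    trans X 𝓘 h ≫ bU X 𝓘 V = bU X 𝓘 U ≫ X.homOfLE h :=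
  ((isBlowUp_bU X 𝓘 V).2 _ _ (isEff_trans X 𝓘 h)).exists.choose_spec

lemma trans_unique {U V : X.affineOpens} (h : U ≤ V) (m : BU X 𝓘 U ⟶ BU X 𝓘 V)
    (hm : m ≫ bU X 𝓘 V = bU X 𝓘 U ≫ X.homOfLE h) : m = trans X 𝓘 h :=
  ((isBlowUp_bU X 𝓘 V).2 _ _ (isEff_trans X 𝓘 h)).unique hm (trans_bU X 𝓘 h)

/-- the diagram of the chosen blow-ups. -/
noncomputable def F : X.directedAffineCover.I₀ ⥤ Scheme.{u} where
  obj U := BU X 𝓘 U
  map {U V} f := trans X 𝓘 (leOfHom f)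
  map_id U := (trans_unique X 𝓘 _ _ (by simp)).symm
  map_comp {U V W} f g := (trans_unique X 𝓘 _ _ (by
    rw [Category.assoc, trans_bU, ← Category.assoc, trans_bU, Category.assoc,
      Scheme.homOfLE_homOfLE])).symm

/-- the structure maps as a natural transformation. -/
noncomputable def α : F X 𝓘 ⟶ X.directedAffineCover.functorOfLocallyDirected where
  app U := bU X 𝓘 U
  naturality {U V} f := trans_bU X 𝓘 (leOfHom f)

lemma isPullback_trans {U V : X.affineOpens} (h : U ≤ V) :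
    IsPullback (trans X 𝓘 h) (bU X 𝓘 U) (bU X 𝓘 V) (X.homOfLE h) := by
  have h1 := Groth.Agent.S1680.main (X.homOfLE h) (𝓘.comap V.1.ι) (bU X 𝓘 V) (isBlowUp_bU X 𝓘 V)
  rw [comap_homOfLE] at h1
  let φ : BU X 𝓘 U ⟶ pullback (X.homOfLE h) (bU X 𝓘 V) :=
    pullback.lift (bU X 𝓘 U) (trans X 𝓘 h) (trans_bU X 𝓘 h).symm
  have hφ : φ ≫ pullback.fst _ _ = bU X 𝓘 U := pullback.lift_fst _ _ _
  have : IsIso φ := Groth.Agent.S17083.isIso_of_isBlowUp _ _ _ (isBlowUp_bU X 𝓘 U) h1 φ hφ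
  exact (IsPullback.of_iso_pullback ⟨(trans_bU X 𝓘 h).symm⟩ (asIso φ) hφ
    (pullback.lift_snd _ _ _)).flip

lemma equifibered_α : (α X 𝓘).Equifibered := by
  intro U V f
  exact isPullback_trans X 𝓘 (leOfHom f)

/-- the relative gluing datum of the affine blow-ups. -/
noncomputable def glueData : X.directedAffineCover.RelativeGluingData where
  functor := F X 𝓘
  natTrans := α X 𝓘
  equifibered := equifibered_α X 𝓘

/-- the glued blow-up. -/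
noncomputable def Bglue : Scheme.{u} := (glueData X 𝓘).glued

/-- its structure morphism. -/
noncomputable def bglue : Bglue X 𝓘 ⟶ X := (glueData X 𝓘).toBase

/-- the open immersions of the affine blow-ups. -/
noncomputable def ιU (U : X.affineOpens) : BU X 𝓘 U ⟶ Bglue X 𝓘 := colimit.ι (glueData X 𝓘).functor U

instance (U : X.affineOpens) : IsOpenImmersion (ιU X 𝓘 U) :=
  (glueData X 𝓘).cover.map_prop U

lemma ιU_bglue (U : X.affineOpens) : ιU X 𝓘 U ≫ bglue X 𝓘 = bU X 𝓘 U ≫ U.1.ι :=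
  (glueData X 𝓘).ι_toBase U

lemma isPullback_ιU (U : X.affineOpens) :
    IsPullback (bU X 𝓘 U) (ιU X 𝓘 U) U.1.ι (bglue X 𝓘) :=
  (glueData X 𝓘).isPullback_natTrans_ι_toBase U

open Groth.Agent.Lib.helper16.EffCartier in
lemma isEff_restrict {Y : Scheme.{u}} (g : Y ⟶ X) (hK : BlowUp.IsEffCartierIdeal (𝓘.comap g))
    (U : X.Opens) : BlowUp.IsEffCartierIdeal ((𝓘.comap U.ι).comap (g ∣_ U)) := by
  rw [← Scheme.IdealSheafData.comap_comp, morphismRestrict_ι, Scheme.IdealSheafData.comap_comp]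
  exact isEffCartier_comap_of_flat _ hK _

open Groth.Agent.Lib.helper16.EffCartier in
theorem isEffCartier_comap_bglue : BlowUp.IsEffCartierIdeal (𝓘.comap (bglue X 𝓘)) := by
  refine Groth.Agent.S17083.isEffCartierIdeal_of_cover _ (fun U : X.affineOpens => (ιU X 𝓘 U).opensRange)
    (fun x => ?_) (fun U => ?_)
  · obtain ⟨U, z, hz⟩ := Scheme.IsLocallyDirected.ι_jointly_surjective (glueData X 𝓘).functor x
    exact ⟨U, z, hz⟩
  · have h1 : (ιU X 𝓘 U).opensRange.ι = (ιU X 𝓘 U).isoOpensRange.inv ≫ ιU X 𝓘 U := by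
      rw [Iso.eq_inv_comp]; exact Scheme.Hom.isoOpensRange_hom_ι _
    rw [h1, Scheme.IdealSheafData.comap_comp,
      ← Scheme.IdealSheafData.comap_comp 𝓘 (ιU X 𝓘 U) (bglue X 𝓘),
      ιU_bglue, Scheme.IdealSheafData.comap_comp]
    exact isEffCartier_comap_of_flat _ (isBlowUp_bU X 𝓘 U).1 _

open Groth.Agent.Lib.helper16.EffCartier in
theorem bglue_unique {Y : Scheme.{u}} (h h' : Y ⟶ Bglue X 𝓘)
    (hh : h ≫ bglue X 𝓘 = h' ≫ bglue X 𝓘)
    (hK : BlowUp.IsEffCartierIdeal (𝓘.comap (h ≫ bglue X 𝓘))) : h = h' := by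
  apply Scheme.hom_ext_of_forall
  intro y
  set g := h ≫ bglue X 𝓘 with hg
  obtain ⟨U, hyU⟩ : ∃ U : X.affineOpens, g y ∈ U.1 := by
    have : g y ∈ ⨆ i : X.affineOpens, (i : X.Opens) := by rw [iSup_affineOpens_eq_top]; trivial
    exact Opens.mem_iSup.mp this
  refine ⟨g ⁻¹ᵁ U.1, hyU, ?_⟩
  have sq := isPullback_ιU X 𝓘 U
  have c1 : (g ∣_ U.1) ≫ U.1.ι = ((g ⁻¹ᵁ U.1).ι ≫ h) ≫ bglue X 𝓘 := by
    rw [morphismRestrict_ι, Category.assoc]
  have c2 : (g ∣_ U.1) ≫ U.1.ι = ((g ⁻¹ᵁ U.1).ι ≫ h') ≫ bglue X 𝓘 := by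
    rw [morphismRestrict_ι, Category.assoc, ← hh]
  have hk : sq.lift _ _ c1 = sq.lift _ _ c2 :=
    ((isBlowUp_bU X 𝓘 U).2 _ (g ∣_ U.1) (isEff_restrict X 𝓘 g hK U.1)).unique
      (sq.lift_fst _ _ c1) (sq.lift_fst _ _ c2)
  rw [← sq.lift_snd _ _ c1, ← sq.lift_snd _ _ c2, hk]

open Groth.Agent.Lib.helper16.EffCartier in
theorem bglue_exists {Y : Scheme.{u}} (g : Y ⟶ X) (hK : BlowUp.IsEffCartierIdeal (𝓘.comap g)) :
    ∃ h : Y ⟶ Bglue X 𝓘, h ≫ bglue X 𝓘 = g := by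
  let 𝒱 : Y.OpenCover := Y.openCoverOfIsOpenCover (fun U : X.affineOpens => g ⁻¹ᵁ U.1) (by
    show ⨆ U : X.affineOpens, g ⁻¹ᵁ U.1 = ⊤
    rw [← Scheme.Hom.preimage_iSup, iSup_affineOpens_eq_top]; rfl)
  let k : ∀ U : X.affineOpens, ((g ⁻¹ᵁ U.1 : Y.Opens) : Scheme.{u}) ⟶ BU X 𝓘 U := fun U =>
    ((isBlowUp_bU X 𝓘 U).2 _ (g ∣_ U.1) (isEff_restrict X 𝓘 g hK U.1)).exists.choose
  have hk : ∀ U : X.affineOpens, k U ≫ bU X 𝓘 U = g ∣_ U.1 := fun U =>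
    ((isBlowUp_bU X 𝓘 U).2 _ (g ∣_ U.1) (isEff_restrict X 𝓘 g hK U.1)).exists.choose_spec
  have hl' : ∀ U : X.affineOpens, (k U ≫ ιU X 𝓘 U) ≫ bglue X 𝓘 = (g ⁻¹ᵁ U.1).ι ≫ g := by
    intro U
    rw [Category.assoc, ιU_bglue, ← Category.assoc, hk, morphismRestrict_ι]
  obtain ⟨l, hl⟩ : ∃ l : ∀ U : 𝒱.I₀, 𝒱.X U ⟶ Bglue X 𝓘, ∀ U, l U ≫ bglue X 𝓘 = 𝒱.f U ≫ g :=
    ⟨fun U => k U ≫ ιU X 𝓘 U, hl'⟩
  have hglue : ∀ x y : 𝒱.I₀,
      pullback.fst (𝒱.f x) (𝒱.f y) ≫ l x = pullback.snd (𝒱.f x) (𝒱.f y) ≫ l y := by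
    intro x y
    have h1 : (pullback.fst (𝒱.f x) (𝒱.f y) ≫ l x) ≫ bglue X 𝓘 =
        (pullback.snd (𝒱.f x) (𝒱.f y) ≫ l y) ≫ bglue X 𝓘 := by
      rw [Category.assoc, Category.assoc, hl, hl]
      exact pullback.condition_assoc _
    refine bglue_unique X 𝓘 _ _ h1 ?_
    rw [Category.assoc, hl, ← Category.assoc, Scheme.IdealSheafData.comap_comp]
    exact isEffCartier_comap_of_flat _ hK _
  refine ⟨𝒱.glueMorphisms l hglue, ?_⟩
  refine 𝒱.hom_ext _ _ fun c => ?_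
  rw [Scheme.Cover.ι_glueMorphisms_assoc, hl]

/-- **the glued scheme is a blow-up of `X` in `𝓘`.** -/
theorem isBlowUp_bglue : BlowUp.IsBlowUp (bglue X 𝓘) 𝓘 := by
  refine ⟨isEffCartier_comap_bglue X 𝓘, fun Y g hg => ?_⟩
  obtain ⟨h, hh⟩ := bglue_exists X 𝓘 g hg
  refine ⟨h, hh, fun h' hh' => ?_⟩
  exact bglue_unique X 𝓘 h' h (hh'.trans hh.symm) (hh' ▸ hg)

end glue

/-- **Blow-ups exist.** -/
theorem exists_isBlowUp (X : Scheme.{u}) (𝓘 : X.IdealSheafData) :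
    ∃ (X' : Scheme.{u}) (b : X' ⟶ X), BlowUp.IsBlowUp b 𝓘 :=
  ⟨_, _, isBlowUp_bglue X 𝓘⟩

end Groth.Agent.Lib.helper16.BlowUpGlue
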