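import Mathlib
import Groth.Prelude.Def_BlowUp2
import Groth.Agent.Lib.Helper16.ReesBlowup2
import Groth.Agent.Lib.Helper16.BlowUpGlue
import Groth.Agent.S1680
import Groth.Agent.S17083

/-!
# Blow-ups in ideals of finite type are proper (helper16)
-/

set_option autoImplicit false
universe u
open CategoryTheory CategoryTheory.Limits AlgebraicGeometry TopologicalSpace Opposite

namespace Groth.Agent.Lib.helper16.BlowUpProper

open Groth.Agent.Lib.helper16.ReesBlowup Groth.Agent.Lib.helper16.BlowUpGlue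

section affine

variable {A : Type u} [CommRing A] (I : Ideal A)

lemma algebraMap_zero_bijective :
    Function.Bijective (algebraMap A (Rees.deg (reesAlgebra I) 0)) := by
  constructor
  · intro x y h
    have h1 := congrArg (fun p : Rees.deg (reesAlgebra I) 0 => ((p : reesAlgebra I) : Polynomial A)) h
    simpa using h1
  · rintro ⟨p, hp⟩
    obtain ⟨x, hx, rfl⟩ := exists_mon_of_mem I hp
    exact ⟨x, Subtype.ext (algebraMap_eq_mon I x)⟩

/-- the ring map `A → R(I)₀` in `CommRingCat`. -/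
noncomputable def zeroHom : CommRingCat.of A ⟶ CommRingCat.of (Rees.deg (reesAlgebra I) 0) :=
  CommRingCat.ofHom (algebraMap A (Rees.deg (reesAlgebra I) 0))

instance isIso_zeroHom : IsIso (zeroHom I) :=
  (ConcreteCategory.isIso_iff_bijective _).mpr (algebraMap_zero_bijective I)

instance : IsScalarTower A (Rees.deg (reesAlgebra I) 0) (reesAlgebra I) :=
  IsScalarTower.of_algebraMap_eq (R := A) (S := Rees.deg (reesAlgebra I) 0) (A := reesAlgebra I)
    fun _ => rfl

theorem finiteType_rees (hI : I.FG) :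
    Algebra.FiniteType (Rees.deg (reesAlgebra I) 0) (reesAlgebra I) := by
  have h1 : Algebra.FiniteType A (reesAlgebra I) :=
    (Subalgebra.fg_iff_finiteType _).mp (reesAlgebra.fg hI)
  exact Algebra.FiniteType.of_restrictScalars_finiteType A _ _

theorem isProper_bl (hI : I.FG) : IsProper (bl I) := by
  have := finiteType_rees I hI
  have h : bl I = Proj.toSpecZero (Rees.deg (reesAlgebra I)) ≫ Spec.map (zeroHom I) := rfl
  rw [h]
  infer_instance

end affine

section general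

open Groth.Agent.Lib.helper16.EffCartier

/-- blow-ups are invariant under isomorphisms of the source. -/
theorem isBlowUp_of_iso {X B B' : Scheme.{u}} (𝓘 : X.IdealSheafData) (b : B ⟶ X) (b' : B' ⟶ X)
    (φ : B ≅ B') (hφ : φ.hom ≫ b' = b) (hb' : BlowUp.IsBlowUp b' 𝓘) : BlowUp.IsBlowUp b 𝓘 := by
  refine ⟨?_, fun Y g hg => ?_⟩
  · rw [← hφ, Scheme.IdealSheafData.comap_comp]
    exact isEffCartier_comap_of_flat _ hb'.1 _
  · obtain ⟨h', hh', huniq⟩ := hb'.2 Y g hg
    refine ⟨h' ≫ φ.inv, ?_, fun k hk => ?_⟩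
    · show (h' ≫ φ.inv) ≫ b = g
      rw [← hφ, Category.assoc, Iso.inv_hom_id_assoc, hh']
    · have : k ≫ φ.hom = h' := huniq _ (by
        show (k ≫ φ.hom) ≫ b' = g
        rw [Category.assoc, hφ, hk])
      rw [← this, Category.assoc, Iso.hom_inv_id, Category.comp_id]

/-- the restriction of a blow-up over an open is a blow-up. -/
theorem isBlowUp_morphismRestrict {X B : Scheme.{u}} (𝓘 : X.IdealSheafData) (b : B ⟶ X)
    (hb : BlowUp.IsBlowUp b 𝓘) (U : X.Opens) : BlowUp.IsBlowUp (b ∣_ U) (𝓘.comap U.ι) :=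
  isBlowUp_of_iso _ _ _ (isPullback_morphismRestrict b U).isoPullback
    (IsPullback.isoPullback_hom_fst _) (Groth.Agent.S1680.main U.ι 𝓘 b hb)

/-- the standard blow-up of an affine scheme. -/
theorem isBlowUp_pullback_fst_isoSpec (X : Scheme.{u}) [IsAffine X] (𝓘 : X.IdealSheafData) :
    BlowUp.IsBlowUp (pullback.fst X.isoSpec.hom (bl (𝓘.ideal ⟨⊤, isAffineOpen_top X⟩))) 𝓘 := by
  set Iid : Ideal Γ(X, ⊤) := 𝓘.ideal ⟨⊤, isAffineOpen_top X⟩ with hI
  have h1 := Groth.Agent.S1680.main X.isoSpec.hom (idl Iid) (bl Iid) isBlowUp_bl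
  have h2 : (idl Iid).comap X.isoSpec.hom = 𝓘 := by
    apply Scheme.IdealSheafData.ext_of_isAffine
    rw [ideal_comap_idl]
    have : ringOf (A := Γ(X, ⊤)) X.isoSpec.hom ⊤ = RingHom.id _ := by
      have h3 := toSpecΓ_ringOf_top (A := Γ(X, ⊤)) X.isoSpec.hom
      have h4 : X.toSpecΓ ≫ Spec.map (CommRingCat.ofHom (ringOf (A := Γ(X, ⊤)) X.isoSpec.hom ⊤)) =
          X.toSpecΓ ≫ Spec.map (𝟙 _) := by
        rw [Spec.map_id, Category.comp_id]; exact h3
      have h5 := Spec.map_injective ((cancel_epi X.toSpecΓ).mp h4)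
      exact congrArg CommRingCat.Hom.hom h5
    rw [this, Ideal.map_id]
  rw [h2] at h1
  exact h1

/-- a blow-up of an affine scheme in a finitely generated ideal is proper. -/
theorem isProper_of_isBlowUp_of_isAffine {X B : Scheme.{u}} [IsAffine X] (𝓘 : X.IdealSheafData)
    (h𝓘 : (𝓘.ideal ⟨⊤, isAffineOpen_top X⟩).FG) (b : B ⟶ X) (hb : BlowUp.IsBlowUp b 𝓘) :
    IsProper b := by
  have hb' := isBlowUp_pullback_fst_isoSpec X 𝓘
  have := isProper_bl _ h𝓘
  obtain ⟨φ, hφ, -⟩ := hb'.2 B b hb.1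
  have : IsIso φ := Groth.Agent.S17083.isIso_of_isBlowUp _ _ _ hb hb' φ hφ
  rw [← hφ]
  infer_instance

/-- **a blow-up in an ideal sheaf which is locally of finite type is proper.** -/
theorem isProper_of_isBlowUp {X B : Scheme.{u}} (𝓘 : X.IdealSheafData) (b : B ⟶ X)
    (hb : BlowUp.IsBlowUp b 𝓘)
    (hft : ∀ x : X, ∃ U : X.affineOpens, x ∈ U.1 ∧ (𝓘.ideal U).FG) : IsProper b := by
  refine IsZariskiLocalAtTarget.of_iSup_eq_top (P := @IsProper)
    (fun U : {U : X.affineOpens // (𝓘.ideal U).FG} => U.1.1) ?_ (fun U => ?_)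
  · rw [eq_top_iff]
    intro x _
    obtain ⟨U, hxU, hU⟩ := hft x
    exact Opens.mem_iSup.mpr ⟨⟨U, hU⟩, hxU⟩
  · obtain ⟨U, hU⟩ := U
    have : IsAffine (U.1 : Scheme.{u}) := U.2
    refine isProper_of_isBlowUp_of_isAffine (𝓘.comap U.1.ι) ?_ _ (isBlowUp_morphismRestrict 𝓘 b hb U.1)
    rw [Groth.Agent.Lib.helper7.IdealComap.ideal_comap U.1.ι 𝓘 U.2 (isAffineOpen_top _)
      (by simp : (⊤ : (U.1 : Scheme.{u}).Opens) ≤ U.1.ι ⁻¹ᵁ U.1)]
    exact hU.map _

end general

end Groth.Agent.Lib.helper16.BlowUpProper
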