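import Groth.Agent.Lib.Helper16.FTIdeal
import Groth.Agent.Lib.Helper16.BlowUpProper

/-!
# Extending admissible ideals from a quasi-compact open (helper16)

* `comap_map_of_isOpenImmersion`: `(𝓘.map j).comap j = 𝓘` for a quasi-compact open immersion `j`.
* `exists_admissible_extension`: a finite type ideal on a quasi-compact open `V` of a qcqs scheme `X`, with support
  disjoint from `U ∩ V` (`U` quasi-compact open), extends to a finite type ideal on `X` with support disjoint from `U`.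
-/

set_option autoImplicit false
universe u
open CategoryTheory CategoryTheory.Limits AlgebraicGeometry TopologicalSpace Opposite

namespace Groth.Agent.Lib.helper16.FTIdeal

open Scheme.Modules Groth.Agent.Lib.helper16.Satur Groth.Agent.Lib.helper7
  Groth.Agent.Lib.helper11.IdealOfMono Groth.Agent.Lib.helper16.BlowSep

theorem ideal_comap_eqToHom {X : Scheme.{u}} (𝓘 : X.IdealSheafData) {T₂ T : X.Opens} (e : T₂ = T)
    (H₂ : IsAffineOpen T₂) (H : IsAffineOpen T) :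
    (𝓘.ideal ⟨T₂, H₂⟩).comap (X.presheaf.map (eqToHom e).op).hom = 𝓘.ideal ⟨T, H⟩ := by
  subst e
  rw [eqToHom_refl, op_id, CategoryTheory.Functor.map_id]
  exact Ideal.comap_id _

/-- pushing forward along a quasi-compact open immersion and restricting back gives the ideal -/
theorem comap_map_of_isOpenImmersion {V X : Scheme.{u}} (j : V ⟶ X) [IsOpenImmersion j]
    [QuasiCompact j] (𝓘 : V.IdealSheafData) : (𝓘.map j).comap j = 𝓘 := by
  refine Scheme.IdealSheafData.ext (funext fun T => ?_)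
  have H : IsAffineOpen (j ⁻¹ᵁ (j ''ᵁ T.1)) := by
    rw [Scheme.Hom.preimage_image_eq]
    exact T.2
  rw [Scheme.IdealSheafData.ideal_comap_of_isOpenImmersion,
    Scheme.IdealSheafData.ideal_map 𝓘 j ⟨j ''ᵁ T.1, T.2.image_of_isOpenImmersion j⟩ H,
    Ideal.comap_comap, ← CommRingCat.hom_comp, Scheme.Hom.appIso_inv_app]
  exact ideal_comap_eqToHom 𝓘 _ H T.2

theorem ftOn_idealMod_iff {X : Scheme.{u}} (𝓥 : X.IdealSheafData) (W : X.Opens) :
    FTOn (ClSub.idealMod 𝓥) W ↔ ∀ T : X.affineOpens, T.1 ≤ W → (𝓥.ideal T).FG := by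
  constructor
  · intro h T hTW
    have h1 : Module.Finite Γ(X, T.1) Γ(ClSub.idealMod 𝓥, T.1) := h T.1 T.2 hTW
    have h2 : Module.Finite Γ(X, T.1) (𝓥.ideal T) := Module.Finite.equiv (IdealMod.sectionsEquiv 𝓥 T)
    exact Module.Finite.iff_fg.mp h2
  · intro hft T hT hTW
    have h1 : Module.Finite Γ(X, T) (𝓥.ideal ⟨T, hT⟩) :=
      Module.Finite.iff_fg.mpr (hft ⟨T, hT⟩ hTW)
    exact Module.Finite.equiv (IdealMod.sectionsEquiv 𝓥 ⟨T, hT⟩).symm

theorem fg_of_eq {X : Scheme.{u}} (𝓥 : X.IdealSheafData) {T₂ T : X.Opens} (e : T₂ = T)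
    (H₂ : IsAffineOpen T₂) (H : IsAffineOpen T) (h : (𝓥.ideal ⟨T₂, H₂⟩).FG) :
    (𝓥.ideal ⟨T, H⟩).FG := by
  subst e
  exact h

theorem ideal_eq_of_eq {X : Scheme.{u}} (𝓥 𝓙 : X.IdealSheafData) {T₂ T : X.Opens} (e : T₂ = T)
    (H₂ : IsAffineOpen T₂) (H : IsAffineOpen T) (h : 𝓙.ideal ⟨T₂, H₂⟩ = 𝓥.ideal ⟨T₂, H₂⟩) :
    𝓙.ideal ⟨T, H⟩ = 𝓥.ideal ⟨T, H⟩ := by
  subst e
  exact h

/-- extension of an admissible ideal from a quasi-compact open. -/
theorem exists_admissible_extension (X : Scheme.{u}) [CompactSpace X] [QuasiSeparatedSpace X]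
    (U V : X.Opens) (hU : IsCompact (U : Set X)) (hV : IsCompact (V : Set X))
    (𝓘 : (V : Scheme.{u}).IdealSheafData) (h𝓘 : BlowUp.IsAdmissibleFor (V.ι ⁻¹ᵁ U) 𝓘) :
    ∃ 𝓙 : X.IdealSheafData, BlowUp.IsAdmissibleFor U 𝓙 ∧ 𝓙.comap V.ι = 𝓘 := by
  haveI : CompactSpace (V : Scheme.{u}) := isCompact_iff_compactSpace.mp hV
  haveI : QuasiCompact V.ι := inferInstance
  set 𝓘' := 𝓘.map V.ι with h𝓘'
  have hcm : 𝓘'.comap V.ι = 𝓘 := comap_map_of_isOpenImmersion V.ι 𝓘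
  have hsU : Disjoint (𝓘'.support : Set X) (U : Set X) := by
    rw [h𝓘', Scheme.IdealSheafData.support_map, TopologicalSpace.Closeds.coe_closure]
    refine Disjoint.closure_left ?_ U.2
    rw [Set.disjoint_left]
    rintro _ ⟨y, hy, rfl⟩ hU'
    exact Set.disjoint_left.mp h𝓘.2 hy hU'
  have htopU : ∀ T : X.affineOpens, T.1 ≤ U → 𝓘'.ideal T = ⊤ := fun T hT =>
    ideal_eq_top_of_disjoint_support 𝓘' T (hsU.mono_right hT)
  have hfgV : ∀ T'' : (V : Scheme.{u}).affineOpens,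
      (𝓘'.ideal ⟨V.ι ''ᵁ T''.1, T''.2.image_of_isOpenImmersion V.ι⟩).FG := by
    intro T''
    have h1 := Scheme.IdealSheafData.ideal_comap_of_isOpenImmersion 𝓘' V.ι T''
    rw [hcm] at h1
    have h2 : 𝓘'.ideal ⟨V.ι ''ᵁ T''.1, T''.2.image_of_isOpenImmersion V.ι⟩ =
        (𝓘.ideal T'').map (V.ι.appIso T''.1).inv.hom := by
      apply le_antisymm
      · intro b hb
        have hb' : (V.ι.appIso T''.1).inv.hom ((V.ι.appIso T''.1).hom.hom b) = b := by
          rw [← CommRingCat.comp_apply, Iso.hom_inv_id]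
          rfl
        rw [← hb']
        apply Ideal.mem_map_of_mem
        rw [h1, Ideal.mem_comap, hb']
        exact hb
      · rw [Ideal.map_le_iff_le_comap, ← h1]
    rw [h2]
    exact (h𝓘.1 T'').map _
  haveI : (ClSub.idealMod 𝓘').IsQuasicoherent := IdealMod.idealMod_qcoh 𝓘'
  have hKU : FTOn (ClSub.idealMod 𝓘') U := (ftOn_idealMod_iff 𝓘' U).mpr (fun T hT => by
    rw [htopU T hT]
    exact ⟨{1}, by simp⟩)
  have hKV : FTOn (ClSub.idealMod 𝓘') V := (ftOn_idealMod_iff 𝓘' V).mpr (fun T hT => by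
    have e : V.ι ''ᵁ (V.ι ⁻¹ᵁ T.1) = T.1 := by
      rw [Scheme.Hom.image_preimage_eq_opensRange_inf, Scheme.Opens.opensRange_ι]
      exact inf_eq_right.mpr hT
    have hT'' : IsAffineOpen (V.ι ⁻¹ᵁ T.1) := by
      rw [← V.ι.isAffineOpen_iff_of_isOpenImmersion, e]
      exact T.2
    exact fg_of_eq 𝓘' e _ T.2 (hfgV ⟨V.ι ⁻¹ᵁ T.1, hT''⟩))
  have hUV : IsCompact ((U ⊔ V : X.Opens) : Set X) := by
    rw [TopologicalSpace.Opens.coe_sup]
    exact hU.union hV
  obtain ⟨𝓙, hft, hle, heq⟩ := exists_ft_ideal (U ⊔ V) hUV 𝓘'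
    ((ftOn_idealMod_iff 𝓘' (U ⊔ V)).mp (hKU.sup hKV))
  refine ⟨𝓙, ⟨hft, ?_⟩, ?_⟩
  · rw [Set.disjoint_left]
    intro x hx hxU
    obtain ⟨_, ⟨T, hT, rfl⟩, hxT, hTU⟩ :=
      X.isBasis_affineOpens.exists_subset_of_mem_open hxU U.2
    have := (ideal_le_ptIdeal_iff 𝓙 ⟨T, hT⟩ x hxT).mpr hx
    rw [heq ⟨T, hT⟩ (le_trans hTU le_sup_left), htopU ⟨T, hT⟩ hTU] at this
    exact (Ideal.IsPrime.ne_top inferInstance) (top_le_iff.mp this)
  · rw [← hcm]
    refine Scheme.IdealSheafData.ext (funext fun T'' => ?_)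
    rw [Scheme.IdealSheafData.ideal_comap_of_isOpenImmersion,
      Scheme.IdealSheafData.ideal_comap_of_isOpenImmersion]
    congr 1
    apply heq
    refine le_trans ?_ le_sup_right
    intro x hx
    obtain ⟨y, _, rfl⟩ := hx
    exact y.2

end Groth.Agent.Lib.helper16.FTIdeal
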