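import Groth.Agent.Lib.Helper16.Satur6

/-!
# Saturation property of `satur`, affine step with saturation, locally Noetherian spaces (helper16)
-/

set_option autoImplicit false
universe u
open CategoryTheory CategoryTheory.Limits AlgebraicGeometry TopologicalSpace Opposite
open Scheme.Modules

namespace Groth.Agent.Lib.helper16.Satur

open Groth.Agent.Lib.helper16.CohFinite Groth.Agent.Lib.helper7

section SaturSat

variable {X Y : Scheme.{u}} (j : Y ⟶ X) [IsOpenImmersion j] {K : X.Modules} {N : Y.Modules}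
  (i : N ⟶ K.restrict j)

/-- The saturation is saturated: membership can be tested after restricting to any smaller open with
the same preimage in `Y`. -/
theorem mem_range_saturι_of_restrict (W' W'' : X.Opens) (hle : W'' ≤ W')
    (hge : j ⁻¹ᵁ W' ≤ j ⁻¹ᵁ W'') (s : Γ(K, W'))
    (hs : K.presheaf.map (homOfLE hle).op s ∈ Set.range ((saturι j i).app W'')) :
    s ∈ Set.range ((saturι j i).app W') := by
  rw [mem_range_saturι_iff] at hs ⊢
  obtain ⟨n'', hn''⟩ := hs
  refine ⟨N.presheaf.map (homOfLE hge).op n'', ?_⟩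
  have hnat := i.mapPresheaf.naturality (homOfLE hge).op
  have h1 := congrArg (fun ψ => (ConcreteCategory.hom ψ) n'') hnat
  refine h1.trans ?_
  change (K.restrict j).presheaf.map (homOfLE hge).op ((i.app (j ⁻¹ᵁ W'')) n'') = _
  rw [hn'', restrictAdjunction_unit_app_app, restrictAdjunction_unit_app_app, restrict_map]
  have e1 := map_map K hle (j.image_preimage_le W'') s
  have e2 := map_map K ((j.image_preimage_le W'').trans hle) (j.image_mono hge) s
  exact (congrArg _ e1).trans e2

end SaturSat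

variable {X : Scheme.{u}}

/-- **Affine step**, with weaker hypotheses and the saturation property of the output. -/
theorem affine_step' (V : X.Opens) (hV : IsAffineOpen V) [QuasiCompact hV.fromSpec] (K : X.Modules)
    [K.IsQuasicoherent] (W : X.Opens) (hVW : IsCompact ((V ⊓ W : X.Opens) : Set X))
    (hK : FTOn K W) :
    ∃ (H : X.Modules) (h : H ⟶ K), Mono h ∧ H.IsQuasicoherent ∧ FTOn H V ∧ IsoOn h W ∧
      ∀ (W' W'' : X.Opens) (hle : W'' ≤ W') (_ : W' ⊓ V ≤ W'') (s : Γ(K, W')),
        K.presheaf.map (homOfLE hle).op s ∈ Set.range (h.app W'') → s ∈ Set.range (h.app W') := by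
  classical
  let j := hV.fromSpec
  haveI : (K.restrict j).IsQuasicoherent := inferInstance
  have hf : ∀ x : (V ⊓ W : X.Opens), ∃ f : Γ(X, V), X.basicOpen f ≤ V ⊓ W ∧ x.1 ∈ X.basicOpen f :=
    fun x => hV.exists_basicOpen_le (V := V ⊓ W) x x.2.1
  choose f hfle hxf using hf
  obtain ⟨t, ht⟩ := hVW.elim_finite_subcover (fun x : (V ⊓ W : X.Opens) => (X.basicOpen (f x) : Set X))
    (fun x => (X.basicOpen (f x)).isOpen) (fun x hx => Set.mem_iUnion.mpr ⟨⟨x, hx⟩, hxf ⟨x, hx⟩⟩)
  let φ : Γ(X, V) → Γ(Spec Γ(X, V), ⊤) := fun g => (Scheme.ΓSpecIso Γ(X, V)).inv g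
  have hD : ∀ g : Γ(X, V), (Spec Γ(X, V)).basicOpen (φ g) = j ⁻¹ᵁ X.basicOpen g :=
    fun g => (hV.fromSpec_preimage_basicOpen' g).symm
  let s : Finset Γ(Spec Γ(X, V), ⊤) := t.image (fun x => φ (f x))
  have hs : ∀ g ∈ s, Module.Finite Γ(Spec Γ(X, V), (Spec Γ(X, V)).basicOpen g)
      Γ(K.restrict j, (Spec Γ(X, V)).basicOpen g) := by
    intro g hg
    obtain ⟨x, -, rfl⟩ := Finset.mem_image.mp hg
    apply finite_restrict_of_finite
    apply hK _ (((isAffineOpen_top _).basicOpen _).image_of_isOpenImmersion j)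
    rw [hD]
    exact (j.image_preimage_le _).trans ((hfle x).trans inf_le_right)
  obtain ⟨N, i, hi, hN, hNft, hiso⟩ := exists_sub_spec (K.restrict j) s hs
  haveI := hi
  haveI := hN
  refine ⟨satur j i, saturι j i, inferInstance, isQuasicoherent_satur j i, ?_, ?_, ?_⟩
  · have h1 : CohB1.IsFT ((satur j i).restrict j) := by
      haveI : (satur j i).IsQuasicoherent := isQuasicoherent_satur j i
      haveI : ((satur j i).restrict j).IsQuasicoherent := inferInstance
      rw [← ftOn_top_iff]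
      exact FTOn.of_iso (saturRestrictIso j i).symm ((ftOn_top_iff N).mpr hNft)
    haveI : (satur j i).IsQuasicoherent := isQuasicoherent_satur j i
    have h2 := ftOn_opensRange_of_isFT_restrict j (satur j i) h1
    rwa [hV.opensRange_fromSpec] at h2
  · intro W' hW'
    refine saturι_app_bijective j i W' ?_
    have hall : IsoOn i (⨆ x : t, (Spec Γ(X, V)).basicOpen (φ (f x.1))) :=
      IsoOn.iSup (fun x => hiso _ (Finset.mem_image.mpr ⟨x.1, x.2, rfl⟩))
    refine (hall _ ?_).2
    intro y hy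
    have hy1 : j y ∈ V := by
      have : j y ∈ j.opensRange := ⟨y, rfl⟩
      rwa [hV.opensRange_fromSpec] at this
    have hy2 : j y ∈ W := hW' hy
    obtain ⟨x, hx⟩ := Set.mem_iUnion.mp (ht ⟨hy1, hy2⟩)
    obtain ⟨hxt, hx⟩ := Set.mem_iUnion.mp hx
    refine Opens.mem_iSup.mpr ⟨⟨x, hxt⟩, ?_⟩
    rw [hD]
    exact hx
  · intro W' W'' hle hge s hs
    refine mem_range_saturι_of_restrict j i W' W'' hle ?_ s hs
    intro y hy
    have hy1 : j y ∈ V := by
      have : j y ∈ j.opensRange := ⟨y, rfl⟩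
      rwa [hV.opensRange_fromSpec] at this
    exact hge ⟨hy, hy1⟩

/-! ### Locally Noetherian spaces -/

/-- The underlying space is locally Noetherian. -/
def LocNoeth (X : Scheme.{u}) : Prop :=
  ∀ x : X, ∃ U : X.Opens, x ∈ U ∧ NoetherianSpace (U : Set X)

theorem LocNoeth.isCompact_of_subset (hX : LocNoeth X) {A : Set X} (hA : IsCompact A) {t : Set X}
    (ht : t ⊆ A) : IsCompact t := by
  choose U hxU hU using hX
  obtain ⟨F, hF⟩ := hA.elim_finite_subcover (fun x : X => (U x : Set X)) (fun x => (U x).isOpen)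
    (fun x _ => Set.mem_iUnion.mpr ⟨x, hxU x⟩)
  have : t = ⋃ x ∈ F, (t ∩ (U x : Set X)) := by
    ext y
    simp only [Set.mem_iUnion, Set.mem_inter_iff, exists_and_left, exists_prop]
    constructor
    · intro hy
      obtain ⟨x, hx⟩ := Set.mem_iUnion.mp (hF (ht hy))
      obtain ⟨hxF, hyx⟩ := Set.mem_iUnion.mp hx
      exact ⟨hy, x, hxF, hyx⟩
    · exact fun h => h.1
  rw [this]
  exact F.finite_toSet.isCompact_biUnion
    (fun x _ => (noetherianSpace_set_iff _).mp (hU x) _ Set.inter_subset_right)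

theorem LocNoeth.quasiCompact_fromSpec (hX : LocNoeth X) {V : X.Opens} (hV : IsAffineOpen V) :
    QuasiCompact hV.fromSpec := by
  rw [quasiCompact_iff_forall_isAffineOpen]
  intro A _
  rw [hV.fromSpec.isOpenEmbedding.isEmbedding.isInducing.isCompact_iff]
  refine hX.isCompact_of_subset hV.isCompact ?_
  rintro _ ⟨y, -, rfl⟩
  have : hV.fromSpec y ∈ hV.fromSpec.opensRange := ⟨y, rfl⟩
  rwa [hV.opensRange_fromSpec] at this

theorem LocNoeth.quasiCompact_ι (hX : LocNoeth X) (U : X.Opens) : QuasiCompact U.ι := by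
  rw [quasiCompact_iff_forall_isAffineOpen]
  intro A hA
  rw [U.ι.isOpenEmbedding.isEmbedding.isInducing.isCompact_iff]
  refine hX.isCompact_of_subset hA.isCompact ?_
  rintro _ ⟨y, hy, rfl⟩
  exact hy

end Groth.Agent.Lib.helper16.Satur
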