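import Groth.Agent.Lib.Helper16.FLF8
import Groth.Agent.Lib.Helper16.QCohAffinePush
import Groth.Prelude.Def_Mor2

/-!
# Direct image of a finite locally free module along a finite locally free morphism (helper16)

* `finite_projective_app`: for `f` finite locally free (`Mor2.IsFinLocFree`: finite, flat, lfp) and `V` affine,
  `Γ(X, f⁻¹V)` is a finite, finitely presented, flat `Γ(Y, V)`-module.
* `isFinLocFree_pushforward`: `f_*E` is finite locally free for `E` finite locally free.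
-/

set_option autoImplicit false
set_option linter.style.haveILetI false
universe u

open CategoryTheory AlgebraicGeometry Opposite TopologicalSpace TensorProduct

namespace Groth.Agent.Lib.helper16.PushFLF

open Scheme.Modules Groth.Agent.Lib.helper16.FLF

variable {X Y : Scheme.{u}} (f : X ⟶ Y)

/-- sections of a finite locally free morphism over an affine open: finite projective -/
theorem finite_projective_app (hf : Mor2.IsFinLocFree f) {V : Y.Opens} (hV : IsAffineOpen V) :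
    letI : Algebra Γ(Y, V) Γ(X, f ⁻¹ᵁ V) := (f.app V).hom.toAlgebra
    Module.Finite Γ(Y, V) Γ(X, f ⁻¹ᵁ V) ∧ Module.FinitePresentation Γ(Y, V) Γ(X, f ⁻¹ᵁ V) ∧
      Module.Flat Γ(Y, V) Γ(X, f ⁻¹ᵁ V) := by
  obtain ⟨h1, h2, h3⟩ := hf
  letI : Algebra Γ(Y, V) Γ(X, f ⁻¹ᵁ V) := (f.app V).hom.toAlgebra
  have hW : IsAffineOpen (f ⁻¹ᵁ V) := hV.preimage f
  have e1 : (f.app V).hom.Finite := f.finite_app V hV
  have e2 : (f.appLE V (f ⁻¹ᵁ V) le_rfl).hom.Flat := f.flat_appLE hV hW le_rfl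
  have e3 : (f.appLE V (f ⁻¹ᵁ V) le_rfl).hom.FinitePresentation :=
    f.finitePresentation_appLE hV hW le_rfl
  rw [← Scheme.Hom.app_eq_appLE] at e2 e3
  haveI : Module.Finite Γ(Y, V) Γ(X, f ⁻¹ᵁ V) := e1
  haveI : Algebra.FinitePresentation Γ(Y, V) Γ(X, f ⁻¹ᵁ V) := e3
  exact ⟨inferInstance, Module.FinitePresentation.of_finite_of_finitePresentation _ _, e2⟩

theorem isFinLocFree_pushforward (hf : Mor2.IsFinLocFree f) (E : X.Modules)
    (hE : FlatMod.IsFinLocFree E) : FlatMod.IsFinLocFree ((pushforward f).obj E) := by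
  haveI : IsFinite f := hf.1
  haveI := isQuasicoherent_of_isFinLocFree E hE
  haveI : ((pushforward f).obj E).IsQuasicoherent :=
    Groth.Agent.Lib.helper16.QCohAffinePush.isQuasicoherent_push f E
  rw [isFinLocFree_iff_projective_sections]
  intro V
  have hW : IsAffineOpen (f ⁻¹ᵁ V.1) := V.2.preimage f
  obtain ⟨p1, p2⟩ := projective_sections_of_isFinLocFree E hE hW
  letI : Algebra Γ(Y, V.1) Γ(X, f ⁻¹ᵁ V.1) := (f.app V.1).hom.toAlgebra
  obtain ⟨q1, q2, q3⟩ := finite_projective_app f hf V.2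
  letI : Module Γ(X, f ⁻¹ᵁ V.1) Γ((pushforward f).obj E, V.1) :=
    inferInstanceAs (Module Γ(X, f ⁻¹ᵁ V.1) Γ(E, f ⁻¹ᵁ V.1))
  have h3 : IsScalarTower Γ(Y, V.1) Γ(X, f ⁻¹ᵁ V.1) Γ((pushforward f).obj E, V.1) :=
    IsScalarTower.of_algebraMap_smul (fun r x => rfl)
  haveI p1' : Module.Finite Γ(X, f ⁻¹ᵁ V.1) Γ((pushforward f).obj E, V.1) := p1
  haveI p2' : Module.Projective Γ(X, f ⁻¹ᵁ V.1) Γ((pushforward f).obj E, V.1) := p2
  have r1 : Module.Finite Γ(Y, V.1) Γ((pushforward f).obj E, V.1) :=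
    Module.Finite.trans Γ(X, f ⁻¹ᵁ V.1) _
  have r2 : Module.FinitePresentation Γ(Y, V.1) Γ((pushforward f).obj E, V.1) :=
    haveI : Module.FinitePresentation Γ(X, f ⁻¹ᵁ V.1) Γ((pushforward f).obj E, V.1) :=
      Module.finitePresentation_of_projective _ _
    Module.FinitePresentation.trans Γ(Y, V.1) Γ((pushforward f).obj E, V.1) Γ(X, f ⁻¹ᵁ V.1)
  have r3 : Module.Flat Γ(Y, V.1) Γ((pushforward f).obj E, V.1) :=
    Module.Flat.trans Γ(Y, V.1) Γ(X, f ⁻¹ᵁ V.1) _
  exact ⟨r1, Module.Flat.projective_of_finitePresentation⟩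

end Groth.Agent.Lib.helper16.PushFLF
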