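import Groth.Agent.Lib.Helper27.MVTop
import Groth.Agent.Lib.Helper27.SerreVan3
import Groth.Agent.Lib.Helper27.CohPsh

/-!
# `H¹` of a quasi-coherent module on a union of two affine opens (helper16)

* `subsingleton_HU_one_of_pair` (topological): `H¹(U ⊔ V, F) = 0` if `H¹(U, F) = H¹(V, F) = 0` and
  every section over `U ⊓ V` is a difference of sections over `U` and `V`.
* `subsingleton_HH_one_of_affine_pair`: for a quasi-coherent module `M` on a scheme `X = U ∪ V`
  with `U`, `V` affine: `H¹(X, M) = 0` if `M(U) ⊕ M(V) → M(U ∩ V)` is surjective.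
-/

set_option autoImplicit false
universe u
open CategoryTheory CategoryTheory.Limits AlgebraicGeometry TopologicalSpace Opposite

namespace Groth.Agent.Lib.helper16.H1Pair

open Groth.Agent.Lib.helper27

section top

variable {X : TopCat.{u}} (F : CohTop.Ab X)

/-- `H^0(W, F) ≃+ F(W)` -/
noncomputable def e₀ (W : Opens X) : CohTop.HU F 0 W ≃+ F.obj.obj (op W) :=
  CohPsh.e₀ (Opens.grothendieckTopology X) F W

lemma e₀_res {W W' : Opens X} (h : W' ≤ W) (x : CohTop.HU F 0 W) :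
    e₀ F W' (CohTop.res F 0 h x) = F.obj.map (homOfLE h).op (e₀ F W x) := by
  obtain ⟨b, rfl⟩ := (Abelian.Ext.mk₀_bijective _ _).2 x
  show CohPsh.e₀ _ F W' ((Abelian.Ext.mk₀ ((Groth.Agent.Lib.helper7.FreeYoneda.freeSheaf _).map (homOfLE h))).comp
    (Abelian.Ext.mk₀ b) (zero_add 0)) = F.obj.map (homOfLE h).op (CohPsh.e₀ _ F W (Abelian.Ext.mk₀ b))
  rw [Abelian.Ext.mk₀_comp_mk₀, CohPsh.e₀_mk₀, CohPsh.e₀_mk₀]
  exact Groth.Agent.Lib.helper7.FreeYoneda.homEquiv_naturality_left _ (homOfLE h) F b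

theorem subsingleton_HU_one_of_pair (U V : Opens X)
    (hU : Subsingleton (CohTop.HU F 1 U)) (hV : Subsingleton (CohTop.HU F 1 V))
    (hsurj : ∀ z : F.obj.obj (op (U ⊓ V)), ∃ (a : F.obj.obj (op U)) (b : F.obj.obj (op V)),
      z = F.obj.map (homOfLE (inf_le_left : U ⊓ V ≤ U)).op a -
        F.obj.map (homOfLE (inf_le_right : U ⊓ V ≤ V)).op b) :
    Subsingleton (CohTop.HU F 1 (U ⊔ V)) := by
  refine ⟨fun c c' => ?_⟩
  have key : ∀ c : CohTop.HU F 1 (U ⊔ V), c = 0 := by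
    intro c
    refine MVTop.eq_zero_of_res_eq_zero F U V 0 c (Subsingleton.elim _ _) (Subsingleton.elim _ _) ?_
    intro z
    obtain ⟨a, b, hab⟩ := hsurj (e₀ F _ z)
    refine ⟨(e₀ F U).symm a, (e₀ F V).symm b, ?_⟩
    apply (e₀ F (U ⊓ V)).injective
    rw [map_sub, e₀_res, e₀_res, AddEquiv.apply_symm_apply, AddEquiv.apply_symm_apply]
    exact hab
  rw [key c, key c']

end top

section scheme

variable {X : Scheme.{u}} (M : X.Modules) [M.IsQuasicoherent]

theorem subsingleton_HH_one_of_affine_pair (U V : X.Opens) (hU : IsAffineOpen U)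
    (hV : IsAffineOpen V) (hUV : U ⊔ V = ⊤)
    (hsurj : ∀ z : (Coh.toAb M).obj.obj (op (U ⊓ V)),
      ∃ (a : (Coh.toAb M).obj.obj (op U)) (b : (Coh.toAb M).obj.obj (op V)),
      z = (Coh.toAb M).obj.map (homOfLE (inf_le_left : U ⊓ V ≤ U)).op a -
        (Coh.toAb M).obj.map (homOfLE (inf_le_right : U ⊓ V ≤ V)).op b) :
    Subsingleton (Coh.HH X M 1) := by
  have h1 := subsingleton_HU_one_of_pair (Coh.toAb M) U V
    (SerreVan.subsingleton_HU_of_isAffineOpen M U hU 0)
    (SerreVan.subsingleton_HU_of_isAffineOpen M V hV 0) hsurj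
  rw [hUV] at h1
  exact (SerreVan.HEquivHU (Coh.toAb M) 1).symm.toEquiv.subsingleton

end scheme

end Groth.Agent.Lib.helper16.H1Pair
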