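import Groth.Prelude.Def_RelSpec
import Groth.Agent.Lib.Helper7.QCohLoc

/-!
# Quasi-coherent algebras are quasi-coherent modules (helper16)

* `isQuasicoherent_toModule B : B.toModule.IsQuasicoherent` for `B : RelSpec.QCAlg X`.
-/

set_option autoImplicit false
universe u
open CategoryTheory CategoryTheory.Limits AlgebraicGeometry TopologicalSpace Opposite

namespace Groth.Agent.Lib.helper16.QCAlg

variable {X : Scheme.{u}} (B : RelSpec.QCAlg X)

/-- a section of `B.toModule` as a section of `B` -/
abbrev toB {U : X.Opens} (m : Γ(B.toModule, U)) : B.presheaf.obj (op U) := m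

/-- a section of `B` as a section of `B.toModule` -/
abbrev ofB {U : X.Opens} (m : B.presheaf.obj (op U)) : Γ(B.toModule, U) := m

theorem smul_toModule (U : X.Opens) (r : Γ(X, U)) (m : Γ(B.toModule, U)) :
    r • m = ofB B ((B.str.app (op U)).hom r * toB B m) :=
  rfl

theorem map_toModule {U V : X.Opens} (h : V ≤ U) (m : Γ(B.toModule, U)) :
    B.toModule.presheaf.map (homOfLE h).op m =
      ofB B ((B.presheaf.map (homOfLE h).op).hom (toB B m)) :=
  rfl

theorem str_res {U V : X.Opens} (h : V ≤ U) (f : Γ(X, U)) :
    (B.str.app (op V)).hom ((X.presheaf.map (homOfLE h).op).hom f) =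
      (B.presheaf.map (homOfLE h).op).hom ((B.str.app (op U)).hom f) := by
  have := B.str.naturality (homOfLE h).op
  exact congr_arg (fun ψ => ψ.hom f) this

theorem isQuasicoherent_toModule : B.toModule.IsQuasicoherent := by
  apply Groth.Agent.Lib.helper7.QCohLoc.isQuasicoherent_of_loc
  · intro U hU f s hs
    letI := (B.presheaf.map (homOfLE (X.basicOpen_le f)).op).hom.toAlgebra
    haveI : IsLocalization.Away ((B.str.app (op U)).hom f) (B.presheaf.obj (op (X.basicOpen f))) :=
      B.isQC U hU f
    have h0 : algebraMap (B.presheaf.obj (op U)) (B.presheaf.obj (op (X.basicOpen f)))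
        (toB B s) = 0 := hs
    rw [← map_zero (algebraMap (B.presheaf.obj (op U)) (B.presheaf.obj (op (X.basicOpen f)))),
      IsLocalization.eq_iff_exists (Submonoid.powers ((B.str.app (op U)).hom f))] at h0
    obtain ⟨⟨_, n, rfl⟩, hn⟩ := h0
    refine ⟨n, ?_⟩
    rw [smul_toModule, map_pow]
    have : (B.str.app (op U)).hom f ^ n * toB B s = 0 := by simpa using hn
    exact this
  · intro U hU f t
    letI := (B.presheaf.map (homOfLE (X.basicOpen_le f)).op).hom.toAlgebra
    haveI : IsLocalization.Away ((B.str.app (op U)).hom f) (B.presheaf.obj (op (X.basicOpen f))) :=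
      B.isQC U hU f
    obtain ⟨⟨s, ⟨_, n, rfl⟩⟩, hs⟩ := IsLocalization.surj
      (Submonoid.powers ((B.str.app (op U)).hom f)) (toB B t)
    refine ⟨n, ofB B s, ?_⟩
    rw [smul_toModule, map_toModule]
    have h1 := str_res B (X.basicOpen_le f) f
    have h2 : (B.presheaf.map (homOfLE (X.basicOpen_le f)).op).hom s =
        (B.str.app (op (X.basicOpen f))).hom
          (((X.presheaf.map (homOfLE (X.basicOpen_le f)).op).hom f) ^ n) * toB B t := by
      rw [map_pow, h1, ← map_pow, mul_comm]
      exact hs.symm
    exact h2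

end Groth.Agent.Lib.helper16.QCAlg
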