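import Mathlib

/-!
# Idempotents in base changes of finite algebras over a field (helper16)

* `algHom_eq_of_idem`: if `L ⊗[k] R` has only trivial idempotents (`R` integral over `k`), any two
  `k`-algebra maps `R → L` agree.
* `isSeparable_of_isReduced`: an algebraic field extension `κ/k` with `L ⊗[k] κ` reduced for a perfect
  field `L` is separable.
* `isLocalRing_of_idem`: an Artinian ring with only trivial idempotents is local.
* `idem_trivial_of_pow`: if every `a : R` has `a ^ q ^ n - c` nilpotent for some `c : k`, then `K ⊗[k] R`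
  has only trivial idempotents for every field `K` over `k`.
* `forward`: a finite `k`-algebra `R` with `K ⊗[k] R` nontrivial with only trivial idempotents for all
  fields `K/k` is local of dimension zero with purely inseparable residue field (elementwise form).
-/

namespace Groth.Agent.Lib.helper16.IdemAlg

open TensorProduct Polynomial

theorem algHom_eq_of_idem {k R L : Type*} [Field k] [CommRing R] [Algebra k R]
    [Algebra.IsIntegral k R] [Field L] [Algebra k L]
    (h : ∀ e : L ⊗[k] R, IsIdempotentElem e → e = 0 ∨ e = 1) (f g : R →ₐ[k] L) : f = g := by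
  by_contra hne
  obtain ⟨a, ha⟩ : ∃ a, f a ≠ g a := by
    by_contra hall
    exact hne (AlgHom.ext (fun a => by_contra (fun h => hall ⟨a, h⟩)))
  obtain ⟨p, hpm, hpa⟩ := Algebra.IsIntegral.isIntegral (R := k) a
  have hpa' : aeval a p = 0 := hpa
  set P : L[X] := p.map (algebraMap k L) with hP
  have hP0 : P ≠ 0 := (hpm.map _).ne_zero
  obtain ⟨q, hq, hndvd⟩ := Polynomial.exists_eq_pow_rootMultiplicity_mul_and_not_dvd P hP0 (f a)
  set p₁ : L[X] := (X - C (f a)) ^ (P.rootMultiplicity (f a)) with hp₁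
  have hcop : IsCoprime p₁ q :=
    IsCoprime.pow_left ((Polynomial.irreducible_X_sub_C (f a)).coprime_iff_not_dvd.mpr hndvd)
  obtain ⟨u, v, huv⟩ := hcop
  let F : L ⊗[k] R →ₐ[L] L :=
    Algebra.TensorProduct.lift (Algebra.ofId L L) f (fun _ _ => Commute.all _ _)
  let G : L ⊗[k] R →ₐ[L] L :=
    Algebra.TensorProduct.lift (Algebra.ofId L L) g (fun _ _ => Commute.all _ _)
  let t : L ⊗[k] R := 1 ⊗ₜ a
  have hFt : F t = f a := by simp [F, t]
  have hGt : G t = g a := by simp [G, t]
  have hPt : aeval t P = 0 := by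
    rw [hP, Polynomial.aeval_map_algebraMap]
    have : t = (Algebra.TensorProduct.includeRight : R →ₐ[k] L ⊗[k] R) a := rfl
    rw [this, Polynomial.aeval_algHom_apply, hpa', map_zero]
  have hPf : P.eval (f a) = 0 := by
    rw [hP, Polynomial.eval_map_algebraMap, Polynomial.aeval_algHom_apply, hpa', map_zero]
  have hPg : P.eval (g a) = 0 := by
    rw [hP, Polynomial.eval_map_algebraMap, Polynomial.aeval_algHom_apply, hpa', map_zero]
  have hqf : q.eval (f a) ≠ 0 := by
    intro h0
    exact hndvd ((Polynomial.dvd_iff_isRoot).mpr h0)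
  have hp₁f : p₁.eval (f a) = 0 := by
    have := hPf
    rw [hq, Polynomial.eval_mul] at this
    rcases mul_eq_zero.mp this with h1 | h1
    · exact h1
    · exact absurd h1 hqf
  have hp₁g : p₁.eval (g a) ≠ 0 := by
    rw [hp₁, Polynomial.eval_pow, Polynomial.eval_sub, Polynomial.eval_X, Polynomial.eval_C]
    exact pow_ne_zero _ (sub_ne_zero.mpr (Ne.symm ha))
  have hqg : q.eval (g a) = 0 := by
    have := hPg
    rw [hq, Polynomial.eval_mul] at this
    rcases mul_eq_zero.mp this with h1 | h1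
    · exact absurd h1 hp₁g
    · exact h1
  set e : L ⊗[k] R := aeval t (u * p₁) with he
  have he1 : 1 - e = aeval t (v * q) := by
    have h1 : aeval t (u * p₁) + aeval t (v * q) = 1 := by rw [← map_add, huv, map_one]
    rw [he, ← h1]; ring
  have hidem : IsIdempotentElem e := by
    have : e * (1 - e) = 0 := by
      rw [he1, he, ← map_mul]
      have : u * p₁ * (v * q) = (u * v) * P := by rw [hq]; ring
      rw [this, map_mul, hPt, mul_zero]
    show e * e = e
    have h2 : e * e = e - e * (1 - e) := by ring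
    rw [h2, this, sub_zero]
  have hFe : F e = 0 := by
    rw [he, ← Polynomial.aeval_algHom_apply, hFt, Polynomial.coe_aeval_eq_eval,
      Polynomial.eval_mul, hp₁f, mul_zero]
  have hGe : G e = 1 := by
    have : G (1 - e) = 0 := by
      rw [he1, ← Polynomial.aeval_algHom_apply, hGt, Polynomial.coe_aeval_eq_eval,
        Polynomial.eval_mul, hqg, mul_zero]
    rw [map_sub, map_one, sub_eq_zero] at this
    exact this.symm
  rcases h e hidem with h0 | h1
  · rw [h0, map_zero] at hGe
    exact zero_ne_one hGe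
  · rw [h1, map_one] at hFe
    exact one_ne_zero hFe

theorem isSeparable_of_isReduced {k κ L : Type*} [Field k] [Field κ] [Algebra k κ]
    [Algebra.IsAlgebraic k κ] [Field L] [Algebra k L] [PerfectField L]
    [IsReduced (L ⊗[k] κ)] : Algebra.IsSeparable k κ := by
  refine ⟨fun a => ?_⟩
  have hint : IsIntegral k a := (Algebra.IsAlgebraic.isAlgebraic a).isIntegral
  show (minpoly k a).Separable
  set p := minpoly k a with hp
  set P : L[X] := p.map (algebraMap k L) with hP
  have hPne : P ≠ 0 := ((minpoly.monic hint).map _).ne_zero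
  suffices hsq : Squarefree P by
    have h1 : P.Separable := PerfectField.separable_iff_squarefree.mpr hsq
    exact (Polynomial.separable_map (algebraMap k L)).mp h1
  intro r hr
  obtain ⟨s, hs⟩ := hr
  by_contra hru
  have hr0 : r ≠ 0 := by
    rintro rfl
    simp at hs
    exact hPne hs
  have hs0 : s ≠ 0 := by
    rintro rfl
    simp at hs
    exact hPne hs
  set h := r * s with hh
  have hh0 : h ≠ 0 := mul_ne_zero hr0 hs0
  let t : L ⊗[k] κ := 1 ⊗ₜ a
  have hPt : aeval t P = 0 := by
    rw [hP, Polynomial.aeval_map_algebraMap]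
    have : t = (Algebra.TensorProduct.includeRight : κ →ₐ[k] L ⊗[k] κ) a := rfl
    rw [this, Polynomial.aeval_algHom_apply, hp, minpoly.aeval, map_zero]
  have hht : aeval t h = 0 := by
    apply IsReduced.eq_zero
    refine ⟨2, ?_⟩
    rw [← map_pow]
    have : h ^ 2 = P * s := by rw [hs, hh]; ring
    rw [this, map_mul, hPt, zero_mul]
  have hdeg : h.natDegree < p.natDegree := by
    have h1 : P.natDegree = p.natDegree := Polynomial.natDegree_map _
    have h2 : P.natDegree = r.natDegree + h.natDegree := by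
      rw [hs, mul_assoc, ← hh, Polynomial.natDegree_mul hr0 hh0]
    have h3 : 0 < r.natDegree := by
      rw [Polynomial.natDegree_pos_iff_degree_pos]
      exact Polynomial.degree_pos_of_ne_zero_of_nonunit hr0 hru
    omega
  have hli : LinearIndependent L (fun i : Fin p.natDegree => (1 : L) ⊗ₜ[k] (a ^ (i : ℕ))) :=
    Module.Flat.linearIndependent_one_tmul (linearIndependent_pow a)
  have hsum : ∑ i : Fin p.natDegree, h.coeff i • ((1 : L) ⊗ₜ[k] (a ^ (i : ℕ))) = 0 := by
    rw [Polynomial.aeval_eq_sum_range' hdeg] at hht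
    rw [← hht, Finset.sum_range]
    refine Finset.sum_congr rfl (fun i _ => ?_)
    simp [t, Algebra.TensorProduct.tmul_pow]
  have hcoeff := Fintype.linearIndependent_iff.mp hli (fun i => h.coeff i) hsum
  apply hh0
  ext n
  by_cases hn : n < p.natDegree
  · simpa using hcoeff ⟨n, hn⟩
  · rw [Polynomial.coeff_zero]
    exact Polynomial.coeff_eq_zero_of_natDegree_lt (by omega)

theorem isLocalRing_of_idem (R : Type*) [CommRing R] [IsArtinianRing R] [Nontrivial R]
    (h : ∀ e : R, IsIdempotentElem e → e = 0 ∨ e = 1) : IsLocalRing R := by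
  classical
  have hsub : Subsingleton (PrimeSpectrum R) := by
    refine ⟨fun x y => ?_⟩
    by_contra hxy
    have hcl : IsClopen ({x} : Set (PrimeSpectrum R)) := isClopen_discrete _
    let s : TopologicalSpace.Clopens (PrimeSpectrum R) := ⟨{x}, hcl⟩
    let e := PrimeSpectrum.isIdempotentElemEquivClopens.symm s
    have he : (PrimeSpectrum.isIdempotentElemEquivClopens e : Set (PrimeSpectrum R)) = {x} := by
      rw [OrderIso.apply_symm_apply]
      rfl
    rw [PrimeSpectrum.coe_isIdempotentElemEquivClopens_apply] at he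
    rcases h e.1 e.2 with h0 | h1
    · rw [h0] at he
      have : x ∈ (PrimeSpectrum.basicOpen (0 : R) : Set (PrimeSpectrum R)) := by rw [he]; rfl
      simp at this
    · rw [h1] at he
      have : y ∈ (PrimeSpectrum.basicOpen (1 : R) : Set (PrimeSpectrum R)) := by simp
      rw [he] at this
      exact hxy (Set.mem_singleton_iff.mp this).symm
  obtain ⟨m, hm⟩ := Ideal.exists_maximal R
  exact IsLocalRing.of_unique_max_ideal
    ⟨m, hm, fun m' hm' => congrArg PrimeSpectrum.asIdeal
      (hsub.elim (⟨m', hm'.isPrime⟩ : PrimeSpectrum R) ⟨m, hm.isPrime⟩)⟩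

theorem eq_zero_of_idem_nilp {A : Type*} [CommRing A] {e : A} (he : IsIdempotentElem e)
    (hn : IsNilpotent e) : e = 0 := by
  obtain ⟨m, hm⟩ := hn
  have : e ^ (m + 1) = e := he.pow_succ_eq m
  rw [← this, pow_succ, hm, zero_mul]

section
variable {k R K : Type*} [Field k] [CommRing R] [Algebra k R] [Nontrivial R] [Field K] [Algebra k K]

theorem nontrivial_tensor : Nontrivial (K ⊗[k] R) :=
  (Algebra.TensorProduct.includeRight_injective (R := k) (A := K) (B := R)
    (algebraMap k K).injective).nontrivial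

variable (q : ℕ) [ExpChar k q]

theorem expChar_tensor : ExpChar (K ⊗[k] R) q :=
  haveI := nontrivial_tensor (k := k) (R := R) (K := K)
  expChar_of_injective_algebraMap (algebraMap k (K ⊗[k] R)).injective q

theorem pow_step (t : K ⊗[k] R) (n m : ℕ) (μ : K)
    (h : IsNilpotent (t ^ (q ^ n) - μ ⊗ₜ[k] (1 : R))) :
    IsNilpotent (t ^ (q ^ (n + m)) - (μ ^ (q ^ m)) ⊗ₜ[k] (1 : R)) := by
  haveI := expChar_tensor (k := k) (R := R) (K := K) q
  have h1 : t ^ (q ^ (n + m)) - (μ ^ (q ^ m)) ⊗ₜ[k] (1 : R) =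
      (t ^ (q ^ n) - μ ⊗ₜ[k] (1 : R)) ^ (q ^ m) := by
    rw [sub_pow_expChar_pow, ← pow_mul, ← pow_add, Algebra.TensorProduct.tmul_pow, one_pow]
  rw [h1]
  exact h.pow_of_pos (pow_ne_zero _ (expChar_pos k q).ne')

theorem exists_pow_sub_nilp
    (hR : ∀ a : R, ∃ (n : ℕ) (c : k), IsNilpotent (a ^ (q ^ n) - algebraMap k R c))
    (t : K ⊗[k] R) : ∃ (n : ℕ) (μ : K), IsNilpotent (t ^ (q ^ n) - μ ⊗ₜ[k] (1 : R)) := by
  haveI := expChar_tensor (k := k) (R := R) (K := K) q
  induction t using TensorProduct.induction_on with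
  | zero => exact ⟨0, 0, by simp⟩
  | tmul l a =>
    obtain ⟨n, c, hc⟩ := hR a
    refine ⟨n, l ^ (q ^ n) * algebraMap k K c, ?_⟩
    have h1 : (l ⊗ₜ[k] a) ^ (q ^ n) - (l ^ (q ^ n) * algebraMap k K c) ⊗ₜ[k] (1 : R) =
        (l ^ (q ^ n)) ⊗ₜ[k] (a ^ (q ^ n) - algebraMap k R c) := by
      rw [Algebra.TensorProduct.tmul_pow, TensorProduct.tmul_sub]
      congr 1
      rw [Algebra.algebraMap_eq_smul_one, Algebra.algebraMap_eq_smul_one, mul_smul_comm, mul_one,
        TensorProduct.smul_tmul]
    rw [h1]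
    obtain ⟨m, hm⟩ := hc
    exact ⟨m, by rw [Algebra.TensorProduct.tmul_pow, hm, TensorProduct.tmul_zero]⟩
  | add t₁ t₂ h₁ h₂ =>
    obtain ⟨n₁, μ₁, h₁⟩ := h₁
    obtain ⟨n₂, μ₂, h₂⟩ := h₂
    have h₁' := pow_step q t₁ n₁ n₂ μ₁ h₁
    have h₂' := pow_step q t₂ n₂ n₁ μ₂ h₂
    rw [add_comm n₂ n₁] at h₂'
    refine ⟨n₁ + n₂, μ₁ ^ (q ^ n₂) + μ₂ ^ (q ^ n₁), ?_⟩
    have : (t₁ + t₂) ^ (q ^ (n₁ + n₂)) - (μ₁ ^ (q ^ n₂) + μ₂ ^ (q ^ n₁)) ⊗ₜ[k] (1 : R) =
        (t₁ ^ (q ^ (n₁ + n₂)) - (μ₁ ^ (q ^ n₂)) ⊗ₜ[k] (1 : R)) +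
        (t₂ ^ (q ^ (n₁ + n₂)) - (μ₂ ^ (q ^ n₁)) ⊗ₜ[k] (1 : R)) := by
      rw [add_pow_expChar_pow, TensorProduct.add_tmul]; ring
    rw [this]
    exact Commute.isNilpotent_add (Commute.all _ _) h₁' h₂'

theorem idem_trivial_of_pow
    (hR : ∀ a : R, ∃ (n : ℕ) (c : k), IsNilpotent (a ^ (q ^ n) - algebraMap k R c))
    (e : K ⊗[k] R) (he : IsIdempotentElem e) : e = 0 ∨ e = 1 := by
  haveI := nontrivial_tensor (k := k) (R := R) (K := K)
  obtain ⟨n, μ, hμ⟩ := exists_pow_sub_nilp q hR e
  have hpow : e ^ (q ^ n) = e := by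
    obtain ⟨j, hj⟩ := Nat.exists_eq_succ_of_ne_zero (pow_ne_zero n (expChar_pos k q).ne')
    rw [hj]; exact he.pow_succ_eq j
  rw [hpow] at hμ
  set ν := e - μ ⊗ₜ[k] (1 : R) with hν
  have hinj : Function.Injective (Algebra.TensorProduct.includeLeft : K →ₐ[k] K ⊗[k] R) :=
    Algebra.TensorProduct.includeLeft_injective (algebraMap k R).injective
  have hμ2 : IsNilpotent ((μ * μ - μ) ⊗ₜ[k] (1 : R)) := by
    have : (μ * μ - μ) ⊗ₜ[k] (1 : R) = ν * (ν - 2 * e + 1) := by
      have h1 : (μ * μ - μ) ⊗ₜ[k] (1 : R) = (μ ⊗ₜ[k] (1 : R)) * (μ ⊗ₜ[k] (1 : R)) - μ ⊗ₜ[k] (1 : R) := by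
        rw [TensorProduct.sub_tmul, Algebra.TensorProduct.tmul_mul_tmul, mul_one]
      have h2 : μ ⊗ₜ[k] (1 : R) = e - ν := by rw [hν]; ring
      rw [h1, h2]
      have := he.eq
      linear_combination this
    rw [this]
    exact Commute.isNilpotent_mul_right (Commute.all _ _) hμ
  have hμ3 : μ * μ - μ = 0 := by
    obtain ⟨m, hm⟩ := hμ2
    rw [Algebra.TensorProduct.tmul_pow, one_pow] at hm
    have : (μ * μ - μ) ^ m = 0 := hinj (by simpa using hm)
    exact pow_eq_zero_iff (n := m) (by
      rintro rfl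
      simp at this) |>.mp this
  have hμ4 : μ = 0 ∨ μ = 1 := by
    have : μ * (μ - 1) = 0 := by rw [mul_sub, mul_one]; exact hμ3
    rcases mul_eq_zero.mp this with h | h
    · exact Or.inl h
    · exact Or.inr (sub_eq_zero.mp h)
  rcases hμ4 with h | h
  · left
    apply eq_zero_of_idem_nilp he
    have : e = ν := by rw [hν, h, TensorProduct.zero_tmul, sub_zero]
    rw [this]; exact hμ
  · right
    have h1 : IsNilpotent (1 - e) := by
      have : 1 - e = -ν := by
        rw [hν, h, ← Algebra.TensorProduct.one_def]; ring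
      rw [this]; exact hμ.neg
    have := eq_zero_of_idem_nilp he.one_sub h1
    exact (sub_eq_zero.mp this).symm

end

universe u

theorem ringHom_eq_of_idem {k R : Type u} [Field k] [CommRing R] [Algebra k R]
    [Algebra.IsIntegral k R]
    (hK : ∀ (K : Type u) [Field K] [Algebra k K], ∀ e : K ⊗[k] R, IsIdempotentElem e → e = 0 ∨ e = 1)
    (L : Type u) [Field L] (f g : R →+* L)
    (hfg : f.comp (algebraMap k R) = g.comp (algebraMap k R)) : f = g := by
  letI : Algebra k L := (f.comp (algebraMap k R)).toAlgebra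
  let f' : R →ₐ[k] L := { f with commutes' := fun c => rfl }
  let g' : R →ₐ[k] L := { g with commutes' := fun c => (congrArg (fun φ => φ c) hfg).symm }
  have := algHom_eq_of_idem (hK L) f' g'
  ext a
  exact congrArg (fun φ : R →ₐ[k] L => φ a) this

theorem isPurelyInseparable_residueField {k R : Type u} [Field k] [CommRing R] [Algebra k R]
    [Module.Finite k R] [IsLocalRing R]
    (hK : ∀ (K : Type u) [Field K] [Algebra k K], ∀ e : K ⊗[k] R, IsIdempotentElem e → e = 0 ∨ e = 1) :
    IsPurelyInseparable k (IsLocalRing.ResidueField R) := by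
  haveI : Algebra.IsIntegral k R := Algebra.IsIntegral.of_finite k R
  haveI : Module.Finite k (IsLocalRing.ResidueField R) :=
    Module.Finite.of_surjective (IsScalarTower.toAlgHom k R (IsLocalRing.ResidueField R)).toLinearMap
      IsLocalRing.residue_surjective
  haveI : Algebra.IsAlgebraic k (IsLocalRing.ResidueField R) := Algebra.IsAlgebraic.of_finite k _
  haveI : Nonempty (IsLocalRing.ResidueField R →+* AlgebraicClosure k) :=
    ⟨(IsAlgClosed.lift : IsLocalRing.ResidueField R →ₐ[k] AlgebraicClosure k).toRingHom⟩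
  apply IsPurelyInseparable.of_injective_comp_algebraMap k _ (AlgebraicClosure k)
  intro f g hfg
  have hfg' : f.comp (algebraMap k (IsLocalRing.ResidueField R)) =
      g.comp (algebraMap k (IsLocalRing.ResidueField R)) := hfg
  have h1 : (f.comp (IsLocalRing.residue R)).comp (algebraMap k R) =
      (g.comp (IsLocalRing.residue R)).comp (algebraMap k R) := by
    have : algebraMap k (IsLocalRing.ResidueField R) = (IsLocalRing.residue R).comp (algebraMap k R) :=
      IsScalarTower.algebraMap_eq k R _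
    rw [RingHom.comp_assoc, RingHom.comp_assoc, ← this, hfg']
  have h2 := ringHom_eq_of_idem hK (AlgebraicClosure k) _ _ h1
  exact (RingHom.cancel_right IsLocalRing.residue_surjective).mp h2

theorem forward {k R : Type u} [Field k] [CommRing R] [Algebra k R] [Module.Finite k R]
    (hK : ∀ (K : Type u) [Field K] [Algebra k K], Nontrivial (K ⊗[k] R) ∧
      ∀ e : K ⊗[k] R, IsIdempotentElem e → e = 0 ∨ e = 1) :
    IsLocalRing R ∧ ringKrullDim R = 0 ∧
      ∀ a : R, ∃ (n : ℕ) (c : k), IsNilpotent (a ^ (ringExpChar k ^ n) - algebraMap k R c) := by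
  haveI : Nontrivial (k ⊗[k] R) := (hK k).1
  haveI : Nontrivial R := (Algebra.TensorProduct.lid k R).injective.nontrivial
  haveI : IsArtinianRing R := IsArtinianRing.of_finite k R
  have hidem : ∀ e : R, IsIdempotentElem e → e = 0 ∨ e = 1 := by
    intro e he
    have he' : IsIdempotentElem ((Algebra.TensorProduct.lid k R).symm e) := by
      show _ * _ = _
      rw [← map_mul, he.eq]
    rcases (hK k).2 _ he' with h | h
    · left
      have := congrArg (Algebra.TensorProduct.lid k R) h
      rwa [AlgEquiv.apply_symm_apply, map_zero] at this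
    · right
      have := congrArg (Algebra.TensorProduct.lid k R) h
      rwa [AlgEquiv.apply_symm_apply, map_one] at this
  haveI hloc : IsLocalRing R := isLocalRing_of_idem R hidem
  refine ⟨hloc, ringKrullDimZero_iff_ringKrullDim_eq_zero.mp inferInstance, fun a => ?_⟩
  haveI := isPurelyInseparable_residueField (fun K _ _ => (hK K).2)
  obtain ⟨n, c, hc⟩ := IsPurelyInseparable.pow_mem k (ringExpChar k) (IsLocalRing.residue R a)
  refine ⟨n, c, ?_⟩
  have hmem : a ^ (ringExpChar k ^ n) - algebraMap k R c ∈ IsLocalRing.maximalIdeal R := by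
    rw [← IsLocalRing.residue_eq_zero_iff, map_sub, map_pow, ← hc]
    have : algebraMap k (IsLocalRing.ResidueField R) = (IsLocalRing.residue R).comp (algebraMap k R) :=
      IsScalarTower.algebraMap_eq k R _
    rw [this, RingHom.comp_apply, sub_self]
  obtain ⟨N, hN⟩ := IsArtinianRing.isNilpotent_jacobson_bot (R := R)
  rw [IsLocalRing.jacobson_eq_maximalIdeal ⊥ bot_ne_top] at hN
  refine ⟨N, ?_⟩
  have := Ideal.pow_mem_pow hmem N
  rw [hN] at this
  exact this

end Groth.Agent.Lib.helper16.IdemAlg
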