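import Mathlib.RingTheory.Length
import Mathlib.RingTheory.FiniteLength
import Mathlib.RingTheory.Flat.Basic
import Mathlib.RingTheory.LocalRing.MaximalIdeal.Basic
import Mathlib.RingTheory.TensorProduct.Quotient
import Mathlib.RingTheory.SimpleModule.Basic
import Mathlib.LinearAlgebra.TensorProduct.RightExactness

/-!
# Length under a flat base change from a local ring (helper16)

`length_B (B ⊗_A N) = length_A N · length_B (B/𝔪_A B)` for `A` local, `B` a flat `A`-algebra and `N` of
finite length (generalising helper19's `FlatLen.length_baseChange`).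
-/

set_option autoImplicit false
universe u

namespace Groth.Agent.Lib.helper16.CycFlat

open IsLocalRing TensorProduct

variable {A : Type u} [CommRing A] [IsLocalRing A] {B : Type u} [CommRing B]
  [Algebra A B] [Module.Flat A B]

theorem length_baseChange_simple (S : Type u) [AddCommGroup S] [Module A S] [IsSimpleModule A S] :
    Module.length B (B ⊗[A] S) =
      Module.length B (B ⧸ (maximalIdeal A).map (algebraMap A B)) := by
  obtain ⟨I, hI, ⟨e⟩⟩ := isSimpleModule_iff_quot_maximal.mp (inferInstance : IsSimpleModule A S)
  have hI' : I = maximalIdeal A := IsLocalRing.eq_maximalIdeal hI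
  subst hI'
  let e₁ : B ⊗[A] S ≃ₗ[B] B ⊗[A] (A ⧸ maximalIdeal A) := LinearEquiv.baseChange A B _ _ e
  let e₂ : (B ⧸ (maximalIdeal A).map (algebraMap A B)) ≃ₗ[B] B ⊗[A] (A ⧸ maximalIdeal A) :=
    (Algebra.TensorProduct.quotIdealMapEquivTensorQuot B (maximalIdeal A)).toLinearEquiv
  rw [(e₁.trans e₂.symm).length_eq]

theorem length_baseChange_mul (N : Type u) [AddCommGroup N] [Module A N]
    (hN : IsFiniteLength A N) :
    Module.length B (B ⊗[A] N) =
      Module.length A N * Module.length B (B ⧸ (maximalIdeal A).map (algebraMap A B)) := by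
  induction hN with
  | of_subsingleton =>
    rw [Module.length_eq_zero, Module.length_eq_zero, zero_mul]
  | @of_simple_quotient N _ _ N' _ hN' ih =>
    have h1 := Module.length_eq_add_of_exact N'.subtype N'.mkQ N'.injective_subtype
      (Submodule.mkQ_surjective N') (LinearMap.exact_subtype_mkQ N')
    have h2 := Module.length_eq_add_of_exact (N'.subtype.baseChange B) (N'.mkQ.baseChange B)
      (Module.Flat.lTensor_preserves_injective_linearMap (M := B) N'.subtype N'.injective_subtype)
      (LinearMap.lTensor_surjective B (Submodule.mkQ_surjective N'))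
      (lTensor_exact B (LinearMap.exact_subtype_mkQ N') (Submodule.mkQ_surjective N'))
    rw [h1, h2, ih, length_baseChange_simple (N ⧸ N'), Module.length_eq_one A (N ⧸ N'), add_mul,
      one_mul]

theorem length_quot_span_map (a : A) (ha : IsFiniteLength A (A ⧸ Ideal.span {a})) :
    Module.length B (B ⧸ Ideal.span {algebraMap A B a}) =
      Module.length A (A ⧸ Ideal.span {a}) *
        Module.length B (B ⧸ (maximalIdeal A).map (algebraMap A B)) := by
  have h1 : Ideal.span {algebraMap A B a} = (Ideal.span {a}).map (algebraMap A B) := by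
    rw [Ideal.map_span, Set.image_singleton]
  rw [← length_baseChange_mul _ ha,
    ← (Algebra.TensorProduct.quotIdealMapEquivTensorQuot B (Ideal.span {a})).toLinearEquiv.length_eq]
  exact (Submodule.quotEquivOfEq _ _ h1).length_eq

end Groth.Agent.Lib.helper16.CycFlat
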