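import Mathlib

/-!
# A coverage on the poset of affine opens generated by binary principal covers (S9513)
-/

namespace Groth.Agent.Lib.helper16.AffBasis

open CategoryTheory AlgebraicGeometry TopologicalSpace Opposite

universe u

variable (X : Scheme.{u})

/-- Restriction of sections between affine opens. -/
noncomputable abbrev res {U W : X.affineOpens} (h : W ≤ U) : Γ(X, U) →+* Γ(X, W) :=
  (X.presheaf.map (homOfLE (show (W : X.Opens) ≤ U from h)).op).hom

/-- The binary principal cover `{D(f), D(g)}` of `U`. -/
inductive binCov {U : X.affineOpens} (f g : Γ(X, U)) : Presieve U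
  | left : binCov f g (homOfLE (X.affineBasicOpen_le f))
  | right : binCov f g (homOfLE (X.affineBasicOpen_le g))

lemma basicOpen_res_le {U W : X.affineOpens} (h : W ≤ U) (f : Γ(X, U)) :
    X.affineBasicOpen (res X h f) ≤ X.affineBasicOpen f := by
  show X.basicOpen (res X h f) ≤ X.basicOpen f
  rw [show res X h f = X.presheaf.map (homOfLE (show (W : X.Opens) ≤ U from h)).op f from rfl,
    Scheme.basicOpen_res]
  exact inf_le_right

lemma span_pair_res {U W : X.affineOpens} (h : W ≤ U) {f g : Γ(X, U)}
    (hfg : Ideal.span {f, g} = ⊤) : Ideal.span {res X h f, res X h g} = ⊤ := by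
  rw [Ideal.eq_top_iff_one, Ideal.mem_span_pair] at hfg ⊢
  obtain ⟨a, b, hab⟩ := hfg
  refine ⟨res X h a, res X h b, ?_⟩
  rw [← map_mul, ← map_mul, ← map_add, hab, map_one]

/-- The coverage generated by binary principal covers and the empty cover of the empty open. -/
def cov : Coverage X.affineOpens where
  coverings U := {R | (∃ f g : Γ(X, U), Ideal.span {f, g} = ⊤ ∧ R = binCov X f g) ∨
    ((U : X.Opens) = ⊥ ∧ R = ⊥)}
  pullback := by
    rintro U W h S (⟨f, g, hfg, rfl⟩ | ⟨hU, rfl⟩)
    · refine ⟨binCov X (res X (leOfHom h) f) (res X (leOfHom h) g),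
        Or.inl ⟨_, _, span_pair_res X _ hfg, rfl⟩, ?_⟩
      intro Z k hk
      cases hk with
      | left =>
        exact ⟨_, homOfLE (basicOpen_res_le X (leOfHom h) f), _, binCov.left,
          Subsingleton.elim _ _⟩
      | right =>
        exact ⟨_, homOfLE (basicOpen_res_le X (leOfHom h) g), _, binCov.right,
          Subsingleton.elim _ _⟩
    · refine ⟨⊥, Or.inr ⟨?_, rfl⟩, ?_⟩
      · have : (W : X.Opens) ≤ U := leOfHom h
        rw [hU] at this
        exact le_bot_iff.mp this
      · intro Z k hk
        exact hk.elim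

end Groth.Agent.Lib.helper16.AffBasis
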