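import Groth.Agent.Lib.Helper16.AffBasis1

/-!
# Topological covers of affine opens are covers for the coverage `cov` (S9513)
-/

namespace Groth.Agent.Lib.helper16.AffBasis

open CategoryTheory AlgebraicGeometry TopologicalSpace Opposite

universe u

variable (X : Scheme.{u})

lemma eq_bot_of_subsingleton (U : X.affineOpens) (h : Subsingleton Γ(X, U)) :
    (U : X.Opens) = ⊥ := by
  have h1 : IsUnit (0 : Γ(X, U)) := isUnit_of_subsingleton _
  rw [← X.basicOpen_of_isUnit h1, Scheme.basicOpen_zero]

lemma saturate_of_eq_bot (U : X.affineOpens) (hU : (U : X.Opens) = ⊥) (S : Sieve U) :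
    (cov X).Saturate U S := by
  have h1 : (cov X).Saturate U (Sieve.generate (⊥ : Presieve U)) :=
    Coverage.Saturate.of U ⊥ (Or.inr ⟨hU, rfl⟩)
  refine Coverage.saturate_of_superset _ ?_ h1
  rw [Sieve.generate_le_iff]
  exact bot_le

lemma isUnit_res_of_le_basicOpen {U Y : X.affineOpens} (hYU : Y ≤ U) (g : Γ(X, U))
    (hY : Y ≤ X.affineBasicOpen g) : IsUnit (res X hYU g) := by
  have h1 : IsUnit (res X (X.affineBasicOpen_le g) g) :=
    RingedSpace.isUnit_res_basicOpen X.toRingedSpace g
  have h2 : res X hYU g = res X hY (res X (X.affineBasicOpen_le g) g) := by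
    simp only [res]
    rw [← RingHom.comp_apply, ← CommRingCat.hom_comp, ← Functor.map_comp]
    rfl
  rw [h2]
  exact h1.map _

lemma saturate_of_finset (n : ℕ) : ∀ (U : X.affineOpens) (S : Sieve U) (t : Finset Γ(X, U)),
    t.card ≤ n → Ideal.span (t : Set Γ(X, U)) = ⊤ →
    (∀ f ∈ t, S (homOfLE (X.affineBasicOpen_le f))) → (cov X).Saturate U S := by
  induction n with
  | zero =>
    intro U S t ht hspan _
    have : t = ∅ := Finset.card_eq_zero.mp (Nat.le_zero.mp ht)
    subst this
    apply saturate_of_eq_bot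
    apply eq_bot_of_subsingleton
    rw [Finset.coe_empty, Ideal.span_empty] at hspan
    exact (Submodule.subsingleton_iff _).mp (subsingleton_of_bot_eq_top hspan)
  | succ n ih =>
    intro U S t ht hspan hS
    classical
    by_cases hne : t = ∅
    · subst hne
      apply saturate_of_eq_bot
      apply eq_bot_of_subsingleton
      rw [Finset.coe_empty, Ideal.span_empty] at hspan
      exact (Submodule.subsingleton_iff _).mp (subsingleton_of_bot_eq_top hspan)
    obtain ⟨f, hf⟩ := Finset.nonempty_iff_ne_empty.mpr hne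
    have h1 : (1 : Γ(X, U)) ∈ Ideal.span (t : Set Γ(X, U)) := by rw [hspan]; trivial
    obtain ⟨c, -, hc⟩ := Submodule.mem_span_finset.mp h1
    set g : Γ(X, U) := ∑ h ∈ t.erase f, c h * h with hg
    have hfg : c f * f + g = 1 := by
      rw [← hc, hg, ← Finset.add_sum_erase t _ hf]
      rfl
    have hpair : Ideal.span {f, g} = ⊤ := by
      rw [Ideal.eq_top_iff_one, Ideal.mem_span_pair]
      exact ⟨c f, 1, by rw [one_mul]; exact hfg⟩
    refine Coverage.Saturate.transitive U (Sieve.generate (binCov X f g)) S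
      (Coverage.Saturate.of U _ (Or.inl ⟨f, g, hpair, rfl⟩)) ?_
    rintro Y k ⟨Z, i, e, he, rfl⟩
    cases he with
    | left =>
      have : S (i ≫ homOfLE (X.affineBasicOpen_le f)) := S.downward_closed (hS f hf) i
      rw [Sieve.pullback_eq_top_of_mem S this]
      exact Coverage.Saturate.top Y
    | right =>
      have hYg : Y ≤ X.affineBasicOpen g := leOfHom i
      have hYU : Y ≤ U := hYg.trans (X.affineBasicOpen_le g)
      refine ih Y _ ((t.erase f).image (res X hYU)) ?_ ?_ ?_
      · refine (Finset.card_image_le).trans ?_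
        rw [Finset.card_erase_of_mem hf]
        omega
      · apply Ideal.eq_top_of_isUnit_mem _ _ (isUnit_res_of_le_basicOpen X hYU g hYg)
        rw [hg, map_sum]
        refine Ideal.sum_mem _ fun h hh => ?_
        rw [map_mul]
        refine Ideal.mul_mem_left _ _ (Ideal.subset_span ?_)
        exact Finset.mem_coe.mpr (Finset.mem_image_of_mem _ hh)
      · intro h' hh'
        obtain ⟨h, hh, rfl⟩ := Finset.mem_image.mp hh'
        rw [Sieve.pullback_apply]
        have h2 := S.downward_closed (hS h (Finset.mem_of_mem_erase hh))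
          (homOfLE (basicOpen_res_le X hYU h))
        convert h2 using 1
        exact Subsingleton.elim _ _

lemma saturate_of_cover (U : X.affineOpens) (S : Sieve U)
    (hS : ∀ x ∈ (U : X.Opens), ∃ (W : X.affineOpens) (k : W ⟶ U), S k ∧ x ∈ (W : X.Opens)) :
    (cov X).Saturate U S := by
  set T : Set Γ(X, U) := {f | S (homOfLE (X.affineBasicOpen_le f))} with hT
  have hspan : Ideal.span T = ⊤ := by
    rw [← U.2.self_le_iSup_basicOpen_iff]
    intro x hx
    obtain ⟨W, k, hk, hxW⟩ := hS x hx
    obtain ⟨f, hf1, hf2⟩ := U.2.exists_basicOpen_le ⟨x, hxW⟩ hx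
    have hfT : f ∈ T := by
      have : X.affineBasicOpen f ≤ W := hf1
      have h2 := S.downward_closed hk (homOfLE this)
      show S.arrows (homOfLE (X.affineBasicOpen_le f))
      rw [Subsingleton.elim (homOfLE (X.affineBasicOpen_le f)) (homOfLE this ≫ k)]
      exact h2
    exact Opens.mem_iSup.mpr ⟨⟨f, hfT⟩, hf2⟩
  obtain ⟨t, ht1, ht2⟩ := (Ideal.span_eq_top_iff_finite T).mp hspan
  exact saturate_of_finset X t.card U S t le_rfl ht2 (fun f hf => ht1 hf)

end Groth.Agent.Lib.helper16.AffBasis
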