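import Groth.Agent.Lib.Helper16.AffBasis2

/-!
# The sheaf condition for the coverage `cov` from binary principal gluing (S9513)
-/

namespace Groth.Agent.Lib.helper16.AffBasis

open CategoryTheory AlgebraicGeometry TopologicalSpace Opposite

universe u

variable (X : Scheme.{u})

/-- Condition (b) of S9513. -/
def CondB (F : (X.affineOpens)ᵒᵖ ⥤ Type u) : Prop :=
  ∀ (U V W VW : X.affineOpens) (f g : Γ(X, (U : X.Opens))),
    (V : X.Opens) = X.basicOpen f → (W : X.Opens) = X.basicOpen g →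
    (VW : X.Opens) = X.basicOpen (f * g) → (U : X.Opens) = (V : X.Opens) ⊔ (W : X.Opens) →
    ∀ (hV : V ≤ U) (hW : W ≤ U) (h1 : VW ≤ V) (h2 : VW ≤ W),
    Function.Injective (fun s : F.obj (op U) => (F.map (homOfLE hV).op s, F.map (homOfLE hW).op s)) ∧
    Set.range (fun s : F.obj (op U) => (F.map (homOfLE hV).op s, F.map (homOfLE hW).op s)) =
      {p | F.map (homOfLE h1).op p.1 = F.map (homOfLE h2).op p.2}

lemma sup_basicOpen_eq {U : X.affineOpens} {f g : Γ(X, U)} (hfg : Ideal.span {f, g} = ⊤) :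
    (U : X.Opens) = X.basicOpen f ⊔ X.basicOpen g := by
  have h := (U.2.iSup_basicOpen_eq_self_iff (s := {f, g})).mpr hfg
  refine h.symm.trans ?_
  rw [iSup_subtype'' {f, g} (fun h => X.basicOpen h), iSup_pair]

lemma isSheafFor_binCov (F : (X.affineOpens)ᵒᵖ ⥤ Type u) (hB : CondB X F)
    {U : X.affineOpens} (f g : Γ(X, U)) (hfg : Ideal.span {f, g} = ⊤) :
    Presieve.IsSheafFor F (binCov X f g) := by
  have hVW1 : X.affineBasicOpen (f * g) ≤ X.affineBasicOpen f := by
    show X.basicOpen (f * g) ≤ X.basicOpen f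
    rw [Scheme.basicOpen_mul]; exact inf_le_left
  have hVW2 : X.affineBasicOpen (f * g) ≤ X.affineBasicOpen g := by
    show X.basicOpen (f * g) ≤ X.basicOpen g
    rw [Scheme.basicOpen_mul]; exact inf_le_right
  obtain ⟨hinj, hrange⟩ := hB U (X.affineBasicOpen f) (X.affineBasicOpen g)
    (X.affineBasicOpen (f * g)) f g rfl rfl rfl (sup_basicOpen_eq X hfg)
    (X.affineBasicOpen_le f) (X.affineBasicOpen_le g) hVW1 hVW2
  intro x hx
  have hcomp : F.map (homOfLE hVW1).op (x _ binCov.left) =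
      F.map (homOfLE hVW2).op (x _ binCov.right) :=
    hx (homOfLE hVW1) (homOfLE hVW2) binCov.left binCov.right (Subsingleton.elim _ _)
  have hmem : (x _ binCov.left, x _ binCov.right) ∈
      {p : F.obj (op (X.affineBasicOpen f)) × F.obj (op (X.affineBasicOpen g)) |
        F.map (homOfLE hVW1).op p.1 = F.map (homOfLE hVW2).op p.2} := hcomp
  rw [← hrange] at hmem
  obtain ⟨s, hs⟩ := hmem
  have hs1 : F.map (homOfLE (X.affineBasicOpen_le f)).op s = x _ binCov.left :=
    congrArg Prod.fst hs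
  have hs2 : F.map (homOfLE (X.affineBasicOpen_le g)).op s = x _ binCov.right :=
    congrArg Prod.snd hs
  refine ⟨s, ?_, ?_⟩
  · intro Y k hk
    cases hk with
    | left => exact hs1
    | right => exact hs2
  · intro s' hs'
    apply hinj
    show (_, _) = (_, _)
    rw [hs' _ binCov.left, hs' _ binCov.right, hs1, hs2]

lemma isSheafFor_bot (F : (X.affineOpens)ᵒᵖ ⥤ Type u) (U : X.affineOpens)
    (h1 : Nonempty (F.obj (op U))) (h2 : Subsingleton (F.obj (op U))) :
    Presieve.IsSheafFor F (⊥ : Presieve U) := by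
  intro x _
  obtain ⟨t⟩ := h1
  exact ⟨t, fun Y k hk => hk.elim, fun t' _ => Subsingleton.elim _ _⟩

theorem isSheaf_cov (F : (X.affineOpens)ᵒᵖ ⥤ Type u) (E : X.affineOpens)
    (hE : (E : X.Opens) = ⊥)
    (hA : Nonempty (F.obj (op E)) ∧ Subsingleton (F.obj (op E))) (hB : CondB X F) :
    Presieve.IsSheaf (cov X).toGrothendieck F := by
  rw [Presieve.isSheaf_coverage]
  rintro U R (⟨f, g, hfg, rfl⟩ | ⟨hU, rfl⟩)
  · exact isSheafFor_binCov X F hB f g hfg
  · have : U = E := Subtype.ext (hU.trans hE.symm)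
    subst this
    exact isSheafFor_bot X F U hA.1 hA.2

end Groth.Agent.Lib.helper16.AffBasis
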