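import Groth.Agent.Lib.Helper16.AffBasis3

/-!
# Sheaves on the basis of affine opens (S9513)
-/

namespace Groth.Agent.Lib.helper16.AffBasis

open CategoryTheory AlgebraicGeometry TopologicalSpace Opposite

universe u

variable (X : Scheme.{u})

/-- The inclusion of affine opens into opens. -/
abbrev Gf : X.affineOpens ⥤ X.Opens :=
  Monotone.functor (f := fun U : X.affineOpens => (U : X.Opens)) (fun _ _ h => h)

instance : (Gf X).Faithful := ⟨fun _ => Subsingleton.elim _ _⟩

instance : (Gf X).Full := ⟨fun h => ⟨homOfLE (leOfHom h), Subsingleton.elim _ _⟩⟩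

instance : (Gf X).IsCoverDense (Opens.grothendieckTopology X.carrier) := by
  rw [TopCat.Opens.coverDense_iff_isBasis]
  have : Set.range (Gf X).obj = X.affineOpens := Subtype.range_coe
  rw [this]
  exact X.isBasis_affineOpens

/-- The induced topology on affine opens. -/
abbrev Jaff : GrothendieckTopology X.affineOpens :=
  (Gf X).inducedTopology (Opens.grothendieckTopology X.carrier)

lemma Jaff_le : Jaff X ≤ (cov X).toGrothendieck := by
  intro U S hS
  rw [Functor.mem_inducedTopology_iff_of_isCoverDense] at hS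
  rw [Coverage.mem_toGrothendieck]
  apply saturate_of_cover
  intro x hx
  obtain ⟨V, f, ⟨W, k, h, hk, -⟩, hxV⟩ := hS x hx
  exact ⟨W, k, hk, leOfHom h hxV⟩

theorem isSheaf_Jaff (F : (X.affineOpens)ᵒᵖ ⥤ Type u) (E : X.affineOpens)
    (hE : (E : X.Opens) = ⊥)
    (hA : Nonempty (F.obj (op E)) ∧ Subsingleton (F.obj (op E))) (hB : CondB X F) :
    Presheaf.IsSheaf (Jaff X) F := by
  rw [isSheaf_iff_isSheaf_of_type]
  exact Presieve.isSheaf_of_le F (Jaff_le X) (isSheaf_cov X F E hE hA hB)

theorem exists_sheaf (F : (X.affineOpens)ᵒᵖ ⥤ Type u) (E : X.affineOpens)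
    (hE : (E : X.Opens) = ⊥)
    (hA : Nonempty (F.obj (op E)) ∧ Subsingleton (F.obj (op E))) (hB : CondB X F) :
    ∃ G : TopCat.Sheaf (Type u) X.carrier, Nonempty ((Gf X).op ⋙ G.1 ≅ F) := by
  let Fs : Sheaf (Jaff X) (Type u) := ⟨F, isSheaf_Jaff X F E hE hA hB⟩
  let Φe := (Gf X).sheafPushforwardContinuous (Type u) (Jaff X)
    (Opens.grothendieckTopology X.carrier)
  haveI : Φe.IsEquivalence := inferInstance
  refine ⟨Φe.objPreimage Fs, ⟨?_⟩⟩
  exact (sheafToPresheaf _ _).mapIso (Φe.objObjPreimageIso Fs)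

end Groth.Agent.Lib.helper16.AffBasis
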