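import Groth.Agent.Lib.Helper16.AffBasis4

/-!
# Restriction of a sheaf to affine opens satisfies binary principal gluing (S9513)
-/

namespace Groth.Agent.Lib.helper16.AffBasis

open CategoryTheory AlgebraicGeometry TopologicalSpace Opposite

universe u

section Top

variable {Y : TopCat.{u}} (G : TopCat.Sheaf (Type u) Y)

lemma glue₂ {U V W T : Opens Y} (hV : V ≤ U) (hW : W ≤ U) (hU : U ≤ V ⊔ W) (hTV : T ≤ V)
    (hTW : T ≤ W) (hT : V ⊓ W ≤ T) (sV : G.1.obj (op V)) (sW : G.1.obj (op W))
    (h : G.1.map (homOfLE hTV).op sV = G.1.map (homOfLE hTW).op sW) :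
    ∃ s : G.1.obj (op U), G.1.map (homOfLE hV).op s = sV ∧ G.1.map (homOfLE hW).op s = sW := by
  let Uf : Bool → Opens Y := fun b => match b with | true => V | false => W
  let sf : ∀ b : Bool, G.1.obj (op (Uf b)) := fun b => match b with | true => sV | false => sW
  have hle : ∀ b, Uf b ≤ U := fun b => match b with | true => hV | false => hW
  have hcov : U ≤ iSup Uf := by
    refine hU.trans (sup_le ?_ ?_)
    · exact le_iSup Uf true
    · exact le_iSup Uf false
  have h' : ∀ (Z : Opens Y) (hZV : Z ≤ V) (hZW : Z ≤ W),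
      G.1.map (homOfLE hZV).op sV = G.1.map (homOfLE hZW).op sW := by
    intro Z hZV hZW
    have hZT : Z ≤ T := (le_inf hZV hZW).trans hT
    have e1 : (homOfLE hZV) = homOfLE hZT ≫ homOfLE hTV := rfl
    have e2 : (homOfLE hZW) = homOfLE hZT ≫ homOfLE hTW := rfl
    rw [e1, e2, op_comp, op_comp, G.1.map_comp, G.1.map_comp, types_comp_apply, types_comp_apply, h]
  have hcomp : TopCat.Presheaf.IsCompatible G.1 Uf sf := by
    rintro (_ | _) (_ | _)
    · rfl
    · exact (h' _ inf_le_right inf_le_left).symm
    · exact h' _ inf_le_left inf_le_right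
    · rfl
  obtain ⟨s, hs, -⟩ := G.existsUnique_gluing' Uf U (fun b => homOfLE (hle b)) hcov sf hcomp
  exact ⟨s, hs true, hs false⟩

end Top

variable (X : Scheme.{u})

lemma CondB_of_iso {F' F : (X.affineOpens)ᵒᵖ ⥤ Type u} (e : F' ≅ F) (h : CondB X F') :
    CondB X F := by
  intro U V W VW f g hVf hWg hVWfg hUVW hV hW h1 h2
  obtain ⟨hinj, hrange⟩ := h U V W VW f g hVf hWg hVWfg hUVW hV hW h1 h2
  constructor
  · intro s s' hss'
    have h3 : e.inv.app (op U) s = e.inv.app (op U) s' := by
      apply hinj
      have hf := congrArg Prod.fst hss'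
      have hs := congrArg Prod.snd hss'
      simp only at hf hs
      show (_, _) = (_, _)
      rw [← NatTrans.naturality_apply, ← NatTrans.naturality_apply, ← NatTrans.naturality_apply,
        ← NatTrans.naturality_apply, hf, hs]
    have := congrArg (e.hom.app (op U)) h3
    simpa using this
  · ext ⟨p₁, p₂⟩
    constructor
    · rintro ⟨s, hs⟩
      have hf := congrArg Prod.fst hs
      have hs2 := congrArg Prod.snd hs
      simp only at hf hs2
      show F.map (homOfLE h1).op p₁ = F.map (homOfLE h2).op p₂
      rw [← hf, ← hs2, ← FunctorToTypes.map_comp_apply, ← FunctorToTypes.map_comp_apply]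
      rfl
    · intro hp
      have hp' : F.map (homOfLE h1).op p₁ = F.map (homOfLE h2).op p₂ := hp
      have hmem : (e.inv.app (op V) p₁, e.inv.app (op W) p₂) ∈
          {p : F'.obj (op V) × F'.obj (op W) |
            F'.map (homOfLE h1).op p.1 = F'.map (homOfLE h2).op p.2} := by
        show F'.map (homOfLE h1).op (e.inv.app (op V) p₁) =
          F'.map (homOfLE h2).op (e.inv.app (op W) p₂)
        rw [← NatTrans.naturality_apply, ← NatTrans.naturality_apply, hp']
      rw [← hrange] at hmem
      obtain ⟨σ, hσ⟩ := hmem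
      have hf := congrArg Prod.fst hσ
      have hs2 := congrArg Prod.snd hσ
      simp only at hf hs2
      refine ⟨e.hom.app (op U) σ, ?_⟩
      show (_, _) = (_, _)
      rw [← NatTrans.naturality_apply, ← NatTrans.naturality_apply, hf, hs2]
      simp

end Groth.Agent.Lib.helper16.AffBasis
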