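import Groth.Agent.Lib.Helper16.AffBasis5

/-!
# Main theorem: sheaves on the basis of affine opens (S9513)
-/

namespace Groth.Agent.Lib.helper16.AffBasis

open CategoryTheory AlgebraicGeometry TopologicalSpace Opposite

universe u

variable (X : Scheme.{u})

lemma CondB_restrict (G : TopCat.Sheaf (Type u) X.carrier) : CondB X ((Gf X).op ⋙ G.1) := by
  intro U V W VW f g hVf hWg hVWfg hUVW hV hW h1 h2
  have hV' : (V : X.Opens) ≤ U := hV
  have hW' : (W : X.Opens) ≤ U := hW
  have h1' : (VW : X.Opens) ≤ V := h1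
  have h2' : (VW : X.Opens) ≤ W := h2
  constructor
  · intro s s' hss'
    have hf := congrArg Prod.fst hss'
    have hs := congrArg Prod.snd hss'
    exact G.eq_of_locally_eq₂ (homOfLE hV') (homOfLE hW') hUVW.le s s' hf hs
  · ext ⟨p₁, p₂⟩
    constructor
    · rintro ⟨s, hs⟩
      have hf := congrArg Prod.fst hs
      have hs2 := congrArg Prod.snd hs
      simp only at hf hs2
      show ((Gf X).op ⋙ G.1).map (homOfLE h1).op p₁ = ((Gf X).op ⋙ G.1).map (homOfLE h2).op p₂
      rw [← hf, ← hs2, ← FunctorToTypes.map_comp_apply, ← FunctorToTypes.map_comp_apply]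
      rfl
    · intro hp
      have hT : (V : X.Opens) ⊓ W ≤ VW := by
        rw [hVf, hWg, hVWfg, Scheme.basicOpen_mul]
      obtain ⟨s, hs1, hs2⟩ := glue₂ G hV' hW' hUVW.le h1' h2' hT p₁ p₂ hp
      exact ⟨s, Prod.ext hs1 hs2⟩

theorem main (F : (X.affineOpens)ᵒᵖ ⥤ Type u) (E : X.affineOpens) (hE : (E : X.Opens) = ⊥) :
    (∃ G : TopCat.Sheaf (Type u) X.carrier,
        Nonempty ((Monotone.functor (f := fun U : X.affineOpens => (U : X.Opens)) (fun _ _ h => h)).op ⋙ G.1 ≅ F)) ↔
    ((Nonempty (F.obj (op E)) ∧ Subsingleton (F.obj (op E))) ∧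
      ∀ (U V W VW : X.affineOpens) (f g : Γ(X, (U : X.Opens))),
        (V : X.Opens) = X.basicOpen f → (W : X.Opens) = X.basicOpen g →
        (VW : X.Opens) = X.basicOpen (f * g) → (U : X.Opens) = (V : X.Opens) ⊔ (W : X.Opens) →
        ∀ (hV : V ≤ U) (hW : W ≤ U) (h1 : VW ≤ V) (h2 : VW ≤ W),
        Function.Injective (fun s : F.obj (op U) => (F.map (homOfLE hV).op s, F.map (homOfLE hW).op s)) ∧
        Set.range (fun s : F.obj (op U) => (F.map (homOfLE hV).op s, F.map (homOfLE hW).op s)) =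
          {p | F.map (homOfLE h1).op p.1 = F.map (homOfLE h2).op p.2}) := by
  constructor
  · rintro ⟨G, ⟨e⟩⟩
    refine ⟨?_, CondB_of_iso X e (CondB_restrict X G)⟩
    have hterm : Limits.IsTerminal (G.1.obj (op (E : X.Opens))) := G.isTerminalOfEqEmpty hE
    have huniq : Unique (G.1.obj (op (E : X.Opens))) := (Limits.Types.isTerminalEquivUnique _) hterm
    have eqv : G.1.obj (op (E : X.Opens)) ≃ F.obj (op E) := (e.app (op E)).toEquiv
    exact ⟨⟨eqv default⟩, eqv.symm.subsingleton⟩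
  · rintro ⟨hA, hB⟩
    exact exists_sheaf X F E hE hA hB

end Groth.Agent.Lib.helper16.AffBasis
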