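import Groth.Agent.Lib.Helper16.PrimDec3
import Groth.Agent.Lib.Helper8.DevK0
import Groth.Agent.Lib.Helper2.DevSch2

/-!
# Associated points via monomorphisms from `O_Z` (helper16), part 1: `⇐`

If `O_{closure x}|_U ⟶ F|_U` is a monomorphism (with `x ∈ U`), then `x ∈ Ass F`.
-/

set_option autoImplicit false
universe u
open CategoryTheory CategoryTheory.Limits AlgebraicGeometry TopologicalSpace Opposite
open Scheme.Modules

namespace Groth.Agent.Lib.helper16.AssMono

open Groth.Agent.Lib.helper16.PrimDec Groth.Agent.Lib.helper8.Dev Groth.Agent.Lib.helper16.QCohAss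

variable {X : Scheme.{u}}

/-- the closed set `closure {x}`. -/
def clPt (x : X) : Closeds X := ⟨closure {x}, isClosed_closure⟩

theorem vanishingIdeal_clPt_ideal (x : X) (V : X.affineOpens) (hx : x ∈ V.1) :
    (Scheme.IdealSheafData.vanishingIdeal (clPt x)).ideal V =
      (V.2.primeIdealOf ⟨x, hx⟩).asIdeal :=
  Groth.Agent.Lib.helper2.DevSch.ptIdeal_ideal x V hx

/-- scalar multiplication on sections of a restriction, in terms of the ambient module. -/
theorem restrict_smul_eq {Y : Scheme.{u}} (j : Y ⟶ X) [IsOpenImmersion j] (H : X.Modules)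
    (W : Y.Opens) (a : Γ(X, j ''ᵁ W)) (n : Γ(H.restrict j, W)) :
    ((j.appIso W).hom.hom a) • n = (show Γ(H.restrict j, W) from a • (show Γ(H, j ''ᵁ W) from n)) := by
  change ((j.appIso W).inv.hom ((j.appIso W).hom.hom a)) • (show Γ(H, j ''ᵁ W) from n) = _
  simp

theorem mem_ass_of_mono_restrict [IsLocallyNoetherian X] (F : X.Modules) [F.IsQuasicoherent]
    (x : X) (U : X.Opens) (hxU : x ∈ U)
    (φ' : (OC (clPt x)).restrict U.ι ⟶ F.restrict U.ι) [Mono φ'] : x ∈ AssSch.Ass F := by
  obtain ⟨W, hW, hxW⟩ := exists_affine_mem (X := (↑U : Scheme.{u})) ⟨x, hxU⟩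
  set V' : X.Opens := U.ι ''ᵁ W with hV'def
  have hV' : IsAffineOpen V' := hW.image_of_isOpenImmersion U.ι
  have hxV' : x ∈ V' := ⟨⟨x, hxU⟩, hxW, rfl⟩
  haveI : IsNoetherianRing Γ(X, V') := IsLocallyNoetherian.component_noetherian ⟨V', hV'⟩
  let e : Γ(OC (clPt x), V') := oneC (clPt x) V'
  let m : Γ(F, V') := φ'.app W (show Γ((OC (clPt x)).restrict U.ι, W) from e)
  have key : ∀ a : Γ(X, V'), a • m =
      φ'.app W (show Γ((OC (clPt x)).restrict U.ι, W) from a • e) := by
    intro a
    have h1 := Scheme.Modules.Hom.app_smul φ' ((U.ι.appIso W).hom.hom a)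
      (show Γ((OC (clPt x)).restrict U.ι, W) from e)
    rw [restrict_smul_eq U.ι (OC (clPt x)) W a, restrict_smul_eq U.ι F W a] at h1
    exact h1.symm
  rw [mem_ass_iff F hV' x hxV']
  change IsAssociatedPrime _ _
  rw [isAssociatedPrime_iff]
  refine ⟨inferInstance, m, ?_⟩
  ext a
  rw [Submodule.mem_colon_singleton, Submodule.mem_bot, key a,
    ← vanishingIdeal_clPt_ideal x ⟨V', hV'⟩ hxV', ← OC_one_smul_eq_zero_iff (clPt x) ⟨V', hV'⟩ a]
  constructor
  · intro h
    exact (show φ'.app W (show Γ((OC (clPt x)).restrict U.ι, W) from a • e) = 0 by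
      rw [show (a • e : Γ(OC (clPt x), V')) = 0 from h]; exact map_zero _)
  · intro h
    have h0 : φ'.app W (show Γ((OC (clPt x)).restrict U.ι, W) from a • e) = φ'.app W 0 :=
      h.trans (map_zero _).symm
    exact Groth.Agent.Lib.helper16.Satur.injective_app_of_mono φ' W h0

end Groth.Agent.Lib.helper16.AssMono
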