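import Groth.Agent.Lib.Helper16.AssMono1
import Groth.Agent.Lib.Helper8.DevCond
import Groth.Agent.Lib.Helper7.KerSections

/-!
# Associated points via monomorphisms from `O_Z` (helper16), part 2: `⇒` and the equivalence
-/

set_option autoImplicit false
universe u
open CategoryTheory CategoryTheory.Limits AlgebraicGeometry TopologicalSpace Opposite
open Scheme.Modules

namespace Groth.Agent.Lib.helper16.AssMono

open Groth.Agent.Lib.helper16.PrimDec Groth.Agent.Lib.helper8.Dev Groth.Agent.Lib.helper16.QCohAss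
open Groth.Agent.Lib.helper7

variable {X : Scheme.{u}}

/-- on an affine scheme, a morphism of quasi-coherent modules vanishing on global sections is zero -/
theorem eq_zero_of_app_top {Y : Scheme.{u}} [IsAffine Y] {A B : Y.Modules} [A.IsQuasicoherent]
    [B.IsQuasicoherent] (θ : A ⟶ B) (h : ∀ a : Γ(A, ⊤), (θ.app ⊤).hom a = 0) : θ = 0 := by
  haveI : (kernel θ).IsQuasicoherent := CohKer.isQuasicoherent_kernel θ
  haveI : Epi (kernel.ι θ) :=
    KerSections.epi_of_surjective_cover (kernel.ι θ) (fun _ : Unit => (⊤ : Y.Opens))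
      (fun _ => isAffineOpen_top Y) (fun _ => ⟨(), trivial⟩)
      (fun _ a => KerSections.exists_kernel_section θ ⊤ a (h a))
  exact (cancel_epi (kernel.ι θ)).mp (by rw [kernel.condition, comp_zero])

theorem smulSec_app_top {Z : Scheme.{u}} (Q : Z.Modules) (q : Γ(Q, ⊤)) (r : Γ(Z, ⊤)) :
    (Hom.app (smulSec Q q) ⊤).hom r = r • q := by
  rw [smulSec_app]
  congr 1
  have : (homOfLE (le_top : (⊤ : Z.Opens) ≤ ⊤)).op = 𝟙 _ := rfl
  rw [this, Q.presheaf.map_id]
  rfl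

theorem exists_mono_restrict [IsLocallyNoetherian X] (F : X.Modules) [F.IsQuasicoherent]
    (x : X) (hx : x ∈ AssSch.Ass F) :
    ∃ U : X.Opens, x ∈ U ∧ ∃ φ' : (OC (clPt x)).restrict U.ι ⟶ F.restrict U.ι, Mono φ' := by
  obtain ⟨U, hU, hxU⟩ := exists_affine_mem x
  refine ⟨U, hxU, ?_⟩
  haveI : IsAffine (↑U : Scheme.{u}) := hU
  set V' : X.Opens := U.ι ''ᵁ ⊤ with hV'def
  have hV' : IsAffineOpen V' := (isAffineOpen_top _).image_of_isOpenImmersion U.ι
  have hxV' : x ∈ V' := ⟨⟨x, hxU⟩, trivial, rfl⟩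
  haveI : IsNoetherianRing Γ(X, V') := IsLocallyNoetherian.component_noetherian ⟨V', hV'⟩
  rw [mem_ass_iff F hV' x hxV'] at hx
  obtain ⟨hprime, m, hm⟩ := (isAssociatedPrime_iff).mp hx
  haveI : (OC (clPt x)).IsQuasicoherent := (isCoh_OC (clPt x)).1
  let G : (↑U : Scheme.{u}).Modules := (OC (clPt x)).restrict U.ι
  let H : (↑U : Scheme.{u}).Modules := F.restrict U.ι
  haveI : G.IsQuasicoherent := inferInstanceAs ((OC (clPt x)).restrict U.ι).IsQuasicoherent
  haveI : H.IsQuasicoherent := inferInstanceAs (F.restrict U.ι).IsQuasicoherent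
  let e : Γ(OC (clPt x), V') := oneC (clPt x) V'
  let κ : Coh.structureModule (↑U : Scheme.{u}) ⟶ G := smulSec G (show Γ(G, ⊤) from e)
  let μ : Coh.structureModule (↑U : Scheme.{u}) ⟶ H := smulSec H (show Γ(H, ⊤) from m)
  -- formulas on global sections
  have hκ : ∀ a : Γ(X, V'), (κ.app ⊤).hom ((U.ι.appIso ⊤).hom.hom a) =
      (show Γ(G, ⊤) from a • e) := by
    intro a
    rw [smulSec_app_top]
    exact restrict_smul_eq U.ι (OC (clPt x)) ⊤ a _
  have hμ : ∀ a : Γ(X, V'), (μ.app ⊤).hom ((U.ι.appIso ⊤).hom.hom a) =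
      (show Γ(H, ⊤) from a • m) := by
    intro a
    rw [smulSec_app_top]
    exact restrict_smul_eq U.ι F ⊤ a _
  have hrep : ∀ r : Γ((↑U : Scheme.{u}), ⊤), ∃ a : Γ(X, V'), (U.ι.appIso ⊤).hom.hom a = r := by
    intro r
    refine ⟨(U.ι.appIso ⊤).inv.hom r, ?_⟩
    exact congr($((U.ι.appIso ⊤).inv_hom_id).hom r)
  have hiff : ∀ a : Γ(X, V'), a • e = 0 ↔ a • m = 0 := by
    intro a
    rw [OC_one_smul_eq_zero_iff (clPt x) ⟨V', hV'⟩ a, vanishingIdeal_clPt_ideal x ⟨V', hV'⟩ hxV',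
      hm, Submodule.mem_colon_singleton, Submodule.mem_bot]
  have hκsurj : Function.Surjective (κ.app ⊤).hom := by
    intro n
    obtain ⟨c, hc⟩ := OC_exists_smul_one (clPt x) ⟨V', hV'⟩ (show Γ(OC (clPt x), V') from n)
    exact ⟨(U.ι.appIso ⊤).hom.hom c, (hκ c).trans hc.symm⟩
  haveI : Epi κ :=
    KerSections.epi_of_surjective_cover κ (fun _ : Unit => (⊤ : (↑U : Scheme.{u}).Opens))
      (fun _ => isAffineOpen_top _) (fun _ => ⟨(), trivial⟩) (fun _ => hκsurj)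
  haveI : (kernel κ).IsQuasicoherent := CohKer.isQuasicoherent_kernel κ
  have hcomp : kernel.ι κ ≫ μ = 0 := by
    refine eq_zero_of_app_top _ (fun k => ?_)
    change (μ.app ⊤).hom (((kernel.ι κ).app ⊤).hom k) = 0
    have h0 := KerSections.kernel_ι_app_comp κ ⊤ k
    obtain ⟨a, ha⟩ := hrep (((kernel.ι κ).app ⊤).hom k)
    rw [← ha] at h0 ⊢
    rw [hκ a] at h0
    rw [hμ a]
    exact (hiff a).mp h0
  let φ' : G ⟶ H := Abelian.epiDesc κ μ hcomp
  have hφ' : κ ≫ φ' = μ := Abelian.comp_epiDesc κ μ hcomp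
  refine ⟨φ', ?_⟩
  refine KerSections.mono_of_injective_cover φ' (fun _ : Unit => (⊤ : (↑U : Scheme.{u}).Opens))
    (fun _ => isAffineOpen_top _) (fun _ => ⟨(), trivial⟩) (fun _ => ?_)
  rw [injective_iff_map_eq_zero]
  intro n hn
  obtain ⟨r, rfl⟩ := hκsurj n
  obtain ⟨a, rfl⟩ := hrep r
  have h1 : (φ'.app ⊤).hom ((κ.app ⊤).hom ((U.ι.appIso ⊤).hom.hom a)) =
      (μ.app ⊤).hom ((U.ι.appIso ⊤).hom.hom a) := by
    rw [← hφ']; rfl
  rw [h1, hμ a] at hn
  rw [hκ a]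
  exact (hiff a).mpr hn

end Groth.Agent.Lib.helper16.AssMono
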