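import Groth.Agent.Lib.Helper16.AssMono2

/-!
# Associated points via monomorphisms from `O_Z` (helper16), part 3: the equivalence with pullbacks
-/

set_option autoImplicit false
universe u
open CategoryTheory CategoryTheory.Limits AlgebraicGeometry TopologicalSpace Opposite
open Scheme.Modules

namespace Groth.Agent.Lib.helper16.AssMono

open Groth.Agent.Lib.helper16.PrimDec Groth.Agent.Lib.helper8.Dev Groth.Agent.Lib.helper16.QCohAss

variable {X : Scheme.{u}}

theorem main [IsLocallyNoetherian X] (F : X.Modules) (hF : Coh.IsQCoh F) (x : X) :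
    x ∈ AssSch.Ass F ↔ ∃ (U : X.Opens), x ∈ U ∧
      ∃ φ : (Scheme.Modules.pullback U.ι).obj
              ((Scheme.Modules.pushforward (Scheme.IdealSheafData.vanishingIdeal ⟨closure {x}, isClosed_closure⟩).subschemeι).obj
                (Coh.structureModule (Scheme.IdealSheafData.vanishingIdeal ⟨closure {x}, isClosed_closure⟩).subscheme)) ⟶
            (Scheme.Modules.pullback U.ι).obj F, Mono φ := by
  haveI : F.IsQuasicoherent := hF
  constructor
  · intro hx
    obtain ⟨U, hxU, φ', hφ'⟩ := exists_mono_restrict F x hx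
    refine ⟨U, hxU, ?_⟩
    let eG := (restrictFunctorIsoPullback U.ι).app (OC (clPt x))
    let eF := (restrictFunctorIsoPullback U.ι).app F
    refine ⟨eG.inv ≫ φ' ≫ eF.hom, ?_⟩
    infer_instance
  · rintro ⟨U, hxU, φ, hφ⟩
    let eG := (restrictFunctorIsoPullback U.ι).app (OC (clPt x))
    let eF := (restrictFunctorIsoPullback U.ι).app F
    have h1 : Mono (φ ≫ eF.inv) := @mono_comp _ _ _ _ _ φ hφ eF.inv inferInstance
    haveI : Mono (eG.hom ≫ φ ≫ eF.inv) := @mono_comp _ _ _ _ _ eG.hom inferInstance (φ ≫ eF.inv) h1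
    exact mem_ass_of_mono_restrict F x U hxU (eG.hom ≫ φ ≫ eF.inv)

end Groth.Agent.Lib.helper16.AssMono
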