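import Mathlib

/-!
# Lifting lemma for finite birational extensions (helper16)

`ι : B → A` injective, `ℓ ∈ B`, `n` with `ℓⁿ A ⊆ ι(B)`; `J = ι⁻¹(ℓⁿ A)` (an ideal of `B` with
`J² = ℓⁿ J`).  If `φ : B → C` is such that `J C = (c)` with `c` a nonzerodivisor, then `φ` extends
uniquely to `A → C`.
-/

set_option autoImplicit false

namespace Groth.Agent.Lib.helper16.BirBlow

variable {A B C : Type*} [CommRing A] [CommRing B] [CommRing C]

theorem exists_unique_lift (ι : B →+* A) (hι : Function.Injective ι) (ℓ : B) (n : ℕ)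
    (hn : ∀ a : A, ι ℓ ^ n * a ∈ ι.range) (φ : B →+* C) (c : C) (hc : c ∈ nonZeroDivisors C)
    (hI : Ideal.map φ (Ideal.comap ι (Ideal.span {ι ℓ ^ n})) = Ideal.span {c}) :
    ∃! ψ : A →+* C, ψ.comp ι = φ := by
  classical
  choose β hβ using hn
  set J : Ideal B := Ideal.comap ι (Ideal.span {ι ℓ ^ n}) with hJ
  have hβJ : ∀ a, β a ∈ J := fun a => by
    rw [hJ, Ideal.mem_comap, hβ a]
    exact Ideal.mul_mem_right _ _ (Ideal.mem_span_singleton_self _)
  have hJβ : ∀ b ∈ J, ∃ a, b = β a := by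
    intro b hb
    rw [hJ, Ideal.mem_comap, Ideal.mem_span_singleton'] at hb
    obtain ⟨a, ha⟩ := hb
    exact ⟨a, hι (by rw [hβ a, ← ha, mul_comm])⟩
  have hβadd : ∀ a a', β (a + a') = β a + β a' := fun a a' => hι (by
    rw [map_add, hβ, hβ, hβ, mul_add])
  have hβmul : ∀ a a', ℓ ^ n * β (a * a') = β a * β a' := fun a a' => hι (by
    rw [map_mul, map_mul, hβ, hβ, hβ, map_pow]; ring)
  have hβι : ∀ b, β (ι b) = ℓ ^ n * b := fun b => hι (by rw [hβ, map_mul, map_pow])
  have hβ1 : β 1 = ℓ ^ n := hι (by rw [hβ, map_pow, mul_one])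
  have hu : ∀ a, φ (β a) ∈ Ideal.span {c} := fun a => by
    rw [← hI]; exact Ideal.mem_map_of_mem φ (hβJ a)
  -- `J * J ≤ (ℓⁿ) * J`
  have hJJ : J * J ≤ Ideal.span {ℓ ^ n} * J := by
    rw [Ideal.mul_le]
    intro b hb b' hb'
    obtain ⟨a, rfl⟩ := hJβ b hb
    obtain ⟨a', rfl⟩ := hJβ b' hb'
    rw [← hβmul]
    exact Ideal.mul_mem_mul (Ideal.mem_span_singleton_self _) (hβJ _)
  set v : C := φ (ℓ ^ n) with hv
  -- `c ∈ (v)`
  have hcv : ∃ r, c = r * v := by
    have h1 : c * c ∈ Ideal.map φ (J * J) := by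
      rw [Ideal.map_mul, hI]
      exact Ideal.mul_mem_mul (Ideal.mem_span_singleton_self _) (Ideal.mem_span_singleton_self _)
    have h2 : c * c ∈ Ideal.span {v * c} := by
      have := Ideal.map_mono (f := φ) hJJ h1
      rwa [Ideal.map_mul, hI, Ideal.map_span, Set.image_singleton, Ideal.span_singleton_mul_span_singleton]
        at this
    rw [Ideal.mem_span_singleton'] at h2
    obtain ⟨r, hr⟩ := h2
    refine ⟨r, ?_⟩
    have h3 : (c - r * v) * c = 0 := by rw [sub_mul, ← hr]; ring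
    have h4 := (mem_nonZeroDivisors_iff_right.mp hc) _ h3
    exact sub_eq_zero.mp h4
  obtain ⟨r, hr⟩ := hcv
  have hvc : ∃ v', v = c * v' := by
    have := hu 1
    rw [hβ1, Ideal.mem_span_singleton'] at this
    obtain ⟨v', hv'⟩ := this
    exact ⟨v', by rw [hv, ← hv', mul_comm]⟩
  obtain ⟨v', hv'⟩ := hvc
  have hunit : r * v' = 1 := by
    have h3 : (r * v' - 1) * c = 0 := by
      have : c = r * (c * v') := by rw [← hv']; exact hr
      rw [sub_mul, one_mul]
      rw [sub_eq_zero]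
      calc r * v' * c = r * (c * v') := by ring
        _ = c := this.symm
    exact sub_eq_zero.mp ((mem_nonZeroDivisors_iff_right.mp hc) _ h3)
  have hvnzd : v ∈ nonZeroDivisors C := by
    rw [hv']
    refine mul_mem hc (IsUnit.mem_nonZeroDivisors ?_)
    exact IsUnit.of_mul_eq_one r (by rw [mul_comm]; exact hunit)
  have hvinj : ∀ x y : C, v * x = v * y → x = y := fun x y h => by
    have h3 : (x - y) * v = 0 := by rw [sub_mul, mul_comm x, mul_comm y, h, sub_self]
    exact sub_eq_zero.mp ((mem_nonZeroDivisors_iff_right.mp hvnzd) _ h3)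
  -- define ψ
  have hw : ∀ a, ∃ w, φ (β a) = v * w := by
    intro a
    have := hu a
    rw [Ideal.mem_span_singleton'] at this
    obtain ⟨x, hx⟩ := this
    refine ⟨r * x, ?_⟩
    rw [← hx, hr]; ring
  choose w hwv using hw
  have hψι : ∀ b, w (ι b) = φ b := fun b => hvinj _ _ (by
    rw [← hwv, hβι, map_mul])
  let ψ : A →+* C :=
    { toFun := w
      map_one' := hvinj _ _ (by rw [← hwv, hβ1, mul_one])
      map_mul' := fun a a' => hvinj _ _ (hvinj _ _ (by
        calc v * (v * w (a * a')) = v * φ (β (a * a')) := by rw [hwv]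
          _ = φ (ℓ ^ n * β (a * a')) := by rw [map_mul]
          _ = φ (β a) * φ (β a') := by rw [hβmul, map_mul]
          _ = v * (v * (w a * w a')) := by rw [hwv, hwv]; ring))
      map_zero' := hvinj _ _ (by
        have h0 : β 0 = 0 := hι (by rw [hβ, mul_zero, map_zero])
        rw [← hwv, h0, map_zero, mul_zero])
      map_add' := fun a a' => hvinj _ _ (by
        rw [← hwv, hβadd, map_add, hwv, hwv, mul_add]) }
  refine ⟨ψ, RingHom.ext hψι, ?_⟩
  intro ψ' hψ'
  ext a
  refine hvinj _ _ ?_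
  change v * ψ' a = v * w a
  rw [← hwv]
  have e1 : φ (β a) = ψ' (ι (β a)) := by rw [← hψ']; rfl
  have e2 : v = ψ' (ι (ℓ ^ n)) := by rw [hv, ← hψ']; rfl
  rw [e1, e2, hβ a, map_mul, map_pow]

end Groth.Agent.Lib.helper16.BirBlow
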