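import Mathlib
import Groth.Prelude.Def_BlowUp2
import Groth.Agent.Lib.Helper16.EffCartier
import Groth.Agent.S17083

/-!
# General criteria for the universal property of blowing up (helper16)

* `isBlowUp_of_chartLifts`: it suffices to lift uniquely on affine charts where the pulled back ideal is
  generated by one nonzerodivisor;
* `isBlowUp_of_openCover`: being a blow-up is local on the target;
* `isBlowUp_of_arrowIso`: invariance under isomorphisms of arrows.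
-/

set_option autoImplicit false
universe u
open CategoryTheory CategoryTheory.Limits AlgebraicGeometry TopologicalSpace Opposite

namespace Groth.Agent.Lib.helper16.BirBlow

open Groth.Agent.Lib.helper16.EffCartier

section charts

variable {X X' : Scheme.{u}} (b : X' ⟶ X) (𝓘 : X.IdealSheafData)
  (hlift : ∀ (Y : Scheme.{u}) (g : Y ⟶ X) (V : Y.affineOpens) (t : Γ(Y, V.1)),
    t ∈ nonZeroDivisors Γ(Y, V.1) → (𝓘.comap g).ideal V = Ideal.span {t} →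
      ∃! h : V.1.toScheme ⟶ X', h ≫ b = V.1.ι ≫ g)

include hlift in
theorem lift_unique_of_chartLifts {Y : Scheme.{u}} (h h' : Y ⟶ X') (hh : h ≫ b = h' ≫ b)
    (hK : BlowUp.IsEffCartierIdeal (𝓘.comap (h ≫ b))) : h = h' := by
  apply Scheme.hom_ext_of_forall
  intro y
  obtain ⟨V, hyV, t, ht, hV⟩ := hK y
  refine ⟨V.1, hyV, ?_⟩
  exact (hlift Y (h ≫ b) V t ht hV).unique (Category.assoc _ _ _) (by rw [Category.assoc, hh])

include hlift in
theorem exists_lift_of_chartLifts {Y : Scheme.{u}} (g : Y ⟶ X)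
    (hK : BlowUp.IsEffCartierIdeal (𝓘.comap g)) : ∃ h : Y ⟶ X', h ≫ b = g := by
  let 𝒰 : Y.OpenCover := Y.openCoverOfIsOpenCover (fun c : Charts (𝓘.comap g) => c.1.1)
    (iSup_charts hK)
  have hex : ∀ c : 𝒰.I₀, ∃ l : 𝒰.X c ⟶ X', l ≫ b = 𝒰.f c ≫ g := fun c =>
    (hlift Y g c.1 c.2.choose c.2.choose_spec.1 c.2.choose_spec.2).exists
  choose l hl using hex
  have hglue : ∀ x y : 𝒰.I₀, pullback.fst (𝒰.f x) (𝒰.f y) ≫ l x = pullback.snd (𝒰.f x) (𝒰.f y) ≫ l y := by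
    intro x y
    have h1 : (pullback.fst (𝒰.f x) (𝒰.f y) ≫ l x) ≫ b = (pullback.snd (𝒰.f x) (𝒰.f y) ≫ l y) ≫ b := by
      rw [Category.assoc, Category.assoc, hl, hl]
      exact pullback.condition_assoc _
    refine lift_unique_of_chartLifts b 𝓘 hlift _ _ h1 ?_
    rw [Category.assoc, hl, ← Category.assoc, Scheme.IdealSheafData.comap_comp]
    exact isEffCartier_comap_of_flat _ hK _
  refine ⟨𝒰.glueMorphisms l hglue, ?_⟩
  refine 𝒰.hom_ext _ _ fun c => ?_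
  rw [Scheme.Cover.ι_glueMorphisms_assoc, hl]

include hlift in
theorem isBlowUp_of_chartLifts (hb : BlowUp.IsEffCartierIdeal (𝓘.comap b)) :
    BlowUp.IsBlowUp b 𝓘 := by
  refine ⟨hb, fun Y g hg => ?_⟩
  obtain ⟨h, hh⟩ := exists_lift_of_chartLifts b 𝓘 hlift g hg
  refine ⟨h, hh, fun h' hh' => ?_⟩
  exact lift_unique_of_chartLifts b 𝓘 hlift h' h (hh'.trans hh.symm) (hh' ▸ hg)

end charts

/-- blow-ups are invariant under isomorphisms of arrows. -/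
theorem isBlowUp_of_arrowIso {X X' Z Z' : Scheme.{u}} (b : X' ⟶ X) (b' : Z' ⟶ Z) (eX' : X' ≅ Z')
    (eX : X ≅ Z) (comm : b ≫ eX.hom = eX'.hom ≫ b') (𝓘' : Z.IdealSheafData)
    (hb' : BlowUp.IsBlowUp b' 𝓘') : BlowUp.IsBlowUp b (𝓘'.comap eX.hom) := by
  refine ⟨?_, fun Y g hg => ?_⟩
  · rw [← Scheme.IdealSheafData.comap_comp, comm, Scheme.IdealSheafData.comap_comp]
    exact isEffCartier_comap_of_flat _ hb'.1 _
  · rw [← Scheme.IdealSheafData.comap_comp] at hg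
    obtain ⟨h', hh', huniq⟩ := hb'.2 Y (g ≫ eX.hom) hg
    have hcomm' : eX'.inv ≫ b = b' ≫ eX.inv := by
      rw [Iso.inv_comp_eq, ← Category.assoc, ← comm, Category.assoc, Iso.hom_inv_id, Category.comp_id]
    refine ⟨h' ≫ eX'.inv, ?_, fun k hk => ?_⟩
    · show (h' ≫ eX'.inv) ≫ b = g
      rw [Category.assoc, hcomm', ← Category.assoc, hh', Category.assoc, Iso.hom_inv_id,
        Category.comp_id]
    · have : k ≫ eX'.hom = h' := huniq _ (by
        show (k ≫ eX'.hom) ≫ b' = g ≫ eX.hom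
        rw [Category.assoc, ← comm, ← Category.assoc, hk])
      rw [← this, Category.assoc, Iso.hom_inv_id, Category.comp_id]

section cover

variable {X Y : Scheme.{u}} (f : X ⟶ Y) (I : Y.IdealSheafData) {ι : Type u} (𝒰 : ι → Y.Opens)
  (hcov : ∀ y : Y, ∃ i, y ∈ 𝒰 i)
  (h : ∀ i, BlowUp.IsBlowUp (f ∣_ 𝒰 i) (I.comap (𝒰 i).ι))

include hcov h in
theorem isEffCartier_comap_of_openCover : BlowUp.IsEffCartierIdeal (I.comap f) := by
  refine Groth.Agent.S17083.isEffCartierIdeal_of_cover _ (fun i => f ⁻¹ᵁ 𝒰 i)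
    (fun x => hcov (f x)) (fun i => ?_)
  rw [← Scheme.IdealSheafData.comap_comp, ← morphismRestrict_ι, Scheme.IdealSheafData.comap_comp]
  exact (h i).1

lemma isEff_restrict' {T : Scheme.{u}} (g : T ⟶ Y) (hK : BlowUp.IsEffCartierIdeal (I.comap g))
    (U : Y.Opens) : BlowUp.IsEffCartierIdeal ((I.comap U.ι).comap (g ∣_ U)) := by
  rw [← Scheme.IdealSheafData.comap_comp, morphismRestrict_ι, Scheme.IdealSheafData.comap_comp]
  exact isEffCartier_comap_of_flat _ hK _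

include hcov h in
theorem lift_unique_of_openCover {T : Scheme.{u}} (k k' : T ⟶ X) (hk : k ≫ f = k' ≫ f)
    (hK : BlowUp.IsEffCartierIdeal (I.comap (k ≫ f))) : k = k' := by
  apply Scheme.hom_ext_of_forall
  intro t
  set g := k ≫ f with hg
  obtain ⟨i, hti⟩ := hcov (g t)
  refine ⟨g ⁻¹ᵁ 𝒰 i, hti, ?_⟩
  have sq := isPullback_morphismRestrict f (𝒰 i)
  have c1 : (g ∣_ 𝒰 i) ≫ (𝒰 i).ι = ((g ⁻¹ᵁ 𝒰 i).ι ≫ k) ≫ f := by
    rw [morphismRestrict_ι, Category.assoc]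
  have c2 : (g ∣_ 𝒰 i) ≫ (𝒰 i).ι = ((g ⁻¹ᵁ 𝒰 i).ι ≫ k') ≫ f := by
    rw [morphismRestrict_ι, Category.assoc, ← hk]
  have hkk : sq.lift _ _ c1 = sq.lift _ _ c2 :=
    ((h i).2 _ (g ∣_ 𝒰 i) (isEff_restrict' I g hK (𝒰 i))).unique
      (sq.lift_fst _ _ c1) (sq.lift_fst _ _ c2)
  rw [← sq.lift_snd _ _ c1, ← sq.lift_snd _ _ c2, hkk]

include hcov h in
theorem exists_lift_of_openCover {T : Scheme.{u}} (g : T ⟶ Y)
    (hK : BlowUp.IsEffCartierIdeal (I.comap g)) : ∃ k : T ⟶ X, k ≫ f = g := by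
  let 𝒱 : T.OpenCover := T.openCoverOfIsOpenCover (fun i : ι => g ⁻¹ᵁ 𝒰 i) (by
    show ⨆ i : ι, g ⁻¹ᵁ 𝒰 i = ⊤
    rw [eq_top_iff]
    intro t _
    obtain ⟨i, hi⟩ := hcov (g t)
    exact Opens.mem_iSup.mpr ⟨i, hi⟩)
  have hex : ∀ i : ι, ∃ l : ((g ⁻¹ᵁ 𝒰 i : T.Opens) : Scheme.{u}) ⟶ X, l ≫ f = (g ⁻¹ᵁ 𝒰 i).ι ≫ g := by
    intro i
    obtain ⟨k, hk⟩ := ((h i).2 _ (g ∣_ 𝒰 i) (isEff_restrict' I g hK (𝒰 i))).exists
    refine ⟨k ≫ (f ⁻¹ᵁ 𝒰 i).ι, ?_⟩
    rw [Category.assoc, ← morphismRestrict_ι, ← Category.assoc, hk, morphismRestrict_ι]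
  choose l0 hl0 using hex
  obtain ⟨l, hl⟩ : ∃ l : ∀ U : 𝒱.I₀, 𝒱.X U ⟶ X, ∀ U, l U ≫ f = 𝒱.f U ≫ g := ⟨l0, hl0⟩
  have hglue : ∀ x y : 𝒱.I₀,
      pullback.fst (𝒱.f x) (𝒱.f y) ≫ l x = pullback.snd (𝒱.f x) (𝒱.f y) ≫ l y := by
    intro x y
    have h1 : (pullback.fst (𝒱.f x) (𝒱.f y) ≫ l x) ≫ f =
        (pullback.snd (𝒱.f x) (𝒱.f y) ≫ l y) ≫ f := by
      rw [Category.assoc, Category.assoc, hl, hl]
      exact pullback.condition_assoc _
    refine lift_unique_of_openCover f I 𝒰 hcov h _ _ h1 ?_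
    rw [Category.assoc, hl, ← Category.assoc, Scheme.IdealSheafData.comap_comp]
    exact isEffCartier_comap_of_flat _ hK _
  refine ⟨𝒱.glueMorphisms l hglue, ?_⟩
  refine 𝒱.hom_ext _ _ fun c => ?_
  rw [Scheme.Cover.ι_glueMorphisms_assoc, hl]

include hcov h in
/-- being a blow-up is local on the target. -/
theorem isBlowUp_of_openCover : BlowUp.IsBlowUp f I := by
  refine ⟨isEffCartier_comap_of_openCover f I 𝒰 hcov h, fun T g hg => ?_⟩
  obtain ⟨k, hk⟩ := exists_lift_of_openCover f I 𝒰 hcov h g hg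
  refine ⟨k, hk, fun k' hk' => ?_⟩
  exact lift_unique_of_openCover f I 𝒰 hcov h k' k (hk'.trans hk.symm) (hk' ▸ hg)

end cover

end Groth.Agent.Lib.helper16.BirBlow
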