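import Groth.Agent.Lib.Helper16.BirBlow1
import Groth.Agent.Lib.Helper16.BirBlow2
import Groth.Agent.Lib.Helper16.ReesBlowup2

/-!
# The affine case: `Spec A → Spec B` is the blow-up of `J = ι⁻¹(ℓⁿ A)` (helper16)
-/

set_option autoImplicit false
universe u
open CategoryTheory CategoryTheory.Limits AlgebraicGeometry TopologicalSpace Opposite

namespace Groth.Agent.Lib.helper16.BirBlow

open Groth.Agent.Lib.helper16.EffCartier Groth.Agent.Lib.helper16.ReesBlowup

variable {A B : Type u} [CommRing A] [CommRing B] (ι : B →+* A) (hι : Function.Injective ι)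
  (ℓ : B) (n : ℕ) (hn : ∀ a : A, ι ℓ ^ n * a ∈ ι.range)

include hn in
theorem map_comap_span : Ideal.map ι (Ideal.comap ι (Ideal.span {ι ℓ ^ n})) = Ideal.span {ι ℓ ^ n} := by
  refine le_antisymm Ideal.map_comap_le ?_
  rw [Ideal.span_singleton_le_iff_mem]
  obtain ⟨b, hb⟩ := hn 1
  rw [mul_one] at hb
  rw [← hb]
  refine Ideal.mem_map_of_mem ι ?_
  rw [Ideal.mem_comap, hb]
  exact Ideal.mem_span_singleton_self _

theorem ringOf_SpecMap_top :
    ringOf (Spec.map (CommRingCat.ofHom ι)) ⊤ =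
      ((Scheme.ΓSpecIso (CommRingCat.of A)).inv.hom).comp ι := by
  have h1 := ringOf_comp_SpecMap (𝟙 (Spec (CommRingCat.of A))) ι ⊤
  rw [Category.id_comp] at h1
  rw [h1]
  congr 1

include hn in
theorem isEffCartier_comap_specMap (hnzd : ι ℓ ∈ nonZeroDivisors A) :
    BlowUp.IsEffCartierIdeal
      ((idl (Ideal.comap ι (Ideal.span {ι ℓ ^ n}))).comap (Spec.map (CommRingCat.ofHom ι))) := by
  intro x
  refine ⟨⟨⊤, isAffineOpen_top _⟩, trivial,
    (Scheme.ΓSpecIso (CommRingCat.of A)).inv.hom (ι ℓ ^ n), ?_, ?_⟩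
  · exact map_equiv_mem_nonZeroDivisors
      (Scheme.ΓSpecIso (CommRingCat.of A)).symm.commRingCatIsoToRingEquiv (pow_mem hnzd n)
  · rw [ideal_comap_idl, ringOf_SpecMap_top, ← Ideal.map_map, map_comap_span ι ℓ n hn,
      Ideal.map_span, Set.image_singleton]

include hι hn in
theorem isBlowUp_specMap (hnzd : ι ℓ ∈ nonZeroDivisors A) :
    BlowUp.IsBlowUp (Spec.map (CommRingCat.ofHom ι))
      (idl (Ideal.comap ι (Ideal.span {ι ℓ ^ n}))) := by
  refine isBlowUp_of_chartLifts _ _ ?_ (isEffCartier_comap_specMap ι ℓ n hn hnzd)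
  intro Y g V t ht hV
  have hmap := map_ringOf_ι_comp g V hV
  have htnzd := topIso_inv_mem_nonZeroDivisors V ht
  obtain ⟨ψ, hψ, huniq⟩ := exists_unique_lift ι hι ℓ n hn (ringOf (V.1.ι ≫ g) ⊤) _ htnzd hmap
  refine ⟨V.1.toScheme.toSpecΓ ≫ Spec.map (CommRingCat.ofHom ψ), ?_, ?_⟩
  · show (V.1.toScheme.toSpecΓ ≫ Spec.map (CommRingCat.ofHom ψ)) ≫ Spec.map (CommRingCat.ofHom ι) =
      V.1.ι ≫ g
    rw [Category.assoc, ← Spec.map_comp]
    have e : CommRingCat.ofHom ι ≫ CommRingCat.ofHom ψ =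
        CommRingCat.ofHom (ringOf (V.1.ι ≫ g) ⊤) := by
      rw [← CommRingCat.ofHom_comp, hψ]
    exact (congrArg (fun m => V.1.toScheme.toSpecΓ ≫ Spec.map m) e).trans (toSpecΓ_ringOf_top _)
  · intro h' hh'
    have h1 : (ringOf h' ⊤).comp ι = ringOf (V.1.ι ≫ g) ⊤ := by
      rw [← ringOf_comp_SpecMap, hh']
    rw [← huniq _ h1]
    exact (toSpecΓ_ringOf_top h').symm

end Groth.Agent.Lib.helper16.BirBlow
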