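import Mathlib
import Groth.Prelude.Def_BlowUp2

/-!
# Finite birational morphisms: local algebra on a chart of the Cartier divisor (helper16)

`f : X ⟶ Y` with `f` an isomorphism over the complement `W` of `V(L)`, `U ⊆ Y` affine with
`L(U) = (ℓ)`: properties of `f.app U : Γ(Y, U) → Γ(X, f⁻¹U)`.
-/

set_option autoImplicit false
universe u
open CategoryTheory CategoryTheory.Limits AlgebraicGeometry TopologicalSpace Opposite

namespace Groth.Agent.Lib.helper16.BirBlow

variable {X Y : Scheme.{u}} (f : X ⟶ Y)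

/-- if `f` is an isomorphism over `W` then `f.app D` is bijective for every open `D ≤ W`. -/
theorem bijective_app_of_isIso_restrict (W : Y.Opens) [hiso : IsIso (f ∣_ W)] (D : Y.Opens)
    (hD : D ≤ W) : Function.Bijective (f.app D).hom := by
  obtain ⟨V, rfl⟩ : ∃ V : W.toScheme.Opens, W.ι ''ᵁ V = D :=
    ⟨W.ι ⁻¹ᵁ D, by
      apply le_antisymm
      · rintro _ ⟨x, hx, rfl⟩; exact hx
      · intro y hy
        exact ⟨⟨y, hD hy⟩, hy, rfl⟩⟩
  have hb1 : Function.Bijective ((f ∣_ W).app V).hom := ConcreteCategory.bijective_of_isIso _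
  have hr : Function.Bijective
      (X.presheaf.map (eqToHom (image_morphismRestrict_preimage f W V)).op).hom :=
    ConcreteCategory.bijective_of_isIso _
  rw [morphismRestrict_app f W V] at hb1
  exact (Function.Bijective.of_comp_iff' hr _).mp hb1

section chart

variable (L : Y.IdealSheafData) {U : Y.Opens} (hU : IsAffineOpen U) (ℓ : Γ(Y, U))
  (hLU : L.ideal ⟨U, hU⟩ = Ideal.span {ℓ})

include hLU in
theorem basicOpen_le_compl_support : Y.basicOpen ℓ ≤ L.support.compl := by
  intro y hy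
  have hyU : y ∈ U := Y.basicOpen_le ℓ hy
  change y ∉ L.support
  rw [Scheme.IdealSheafData.mem_support_iff_of_mem (U := ⟨U, hU⟩) hyU, hLU, Scheme.zeroLocus_span,
    Scheme.mem_zeroLocus_iff]
  intro h
  exact h ℓ rfl hy

include hLU in
theorem mem_basicOpen_of_notMem_support {y : Y} (hyU : y ∈ U) (hy : y ∉ L.support) :
    y ∈ Y.basicOpen ℓ := by
  rw [Scheme.IdealSheafData.mem_support_iff_of_mem (U := ⟨U, hU⟩) hyU, hLU, Scheme.zeroLocus_span,
    Scheme.mem_zeroLocus_iff] at hy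
  by_contra h
  exact hy (fun g hg => by rw [Set.mem_singleton_iff.mp hg]; exact h)

include hLU in
/-- `ℓ` stays a nonzerodivisor upstairs (reducedness and density). -/
theorem app_mem_nonZeroDivisors [IsReduced X]
    (hdense : Dense (f.base ⁻¹' ((L.support : Set Y)ᶜ))) :
    (f.app U).hom ℓ ∈ nonZeroDivisors Γ(X, f ⁻¹ᵁ U) := by
  refine mem_nonZeroDivisors_iff_right.mpr fun a ha => ?_
  rw [← AlgebraicGeometry.basicOpen_eq_bot_iff]
  by_contra hne
  have hne' : (X.basicOpen a : Set X).Nonempty := by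
    rw [Set.nonempty_iff_ne_empty]
    intro h
    exact hne (SetLike.coe_injective (by simpa using h))
  obtain ⟨x, hxa, hxL⟩ := hdense.inter_open_nonempty _ (X.basicOpen a).isOpen hne'
  have hxU : f x ∈ U := X.basicOpen_le a hxa
  have h1 : f x ∈ Y.basicOpen ℓ := mem_basicOpen_of_notMem_support L hU ℓ hLU hxU hxL
  have h2 : x ∈ X.basicOpen ((f.app U).hom ℓ) := by
    rw [← Scheme.preimage_basicOpen]; exact h1
  have h3 : x ∈ X.basicOpen (a * (f.app U).hom ℓ) := by
    rw [Scheme.basicOpen_mul]; exact ⟨hxa, h2⟩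
  rw [ha, Scheme.basicOpen_zero] at h3
  exact h3

include hLU in
/-- injectivity of `f.app U`. -/
theorem app_injective [hiso : IsIso (f ∣_ L.support.compl)]
    (hℓ : ℓ ∈ nonZeroDivisors Γ(Y, U)) : Function.Injective (f.app U).hom := by
  rw [injective_iff_map_eq_zero]
  intro b hb
  have hbij := bijective_app_of_isIso_restrict f L.support.compl (Y.basicOpen ℓ)
    (basicOpen_le_compl_support L hU ℓ hLU)
  have h1 : (f.app (Y.basicOpen ℓ)).hom
      ((Y.presheaf.map (homOfLE (Y.basicOpen_le ℓ)).op).hom b) = 0 := by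
    have nat := f.naturality (homOfLE (Y.basicOpen_le ℓ)).op
    have := congrArg (fun φ => φ.hom b) nat
    simp only [CommRingCat.hom_comp, RingHom.comp_apply] at this
    rw [this, hb, map_zero]
  have h2 : (Y.presheaf.map (homOfLE (Y.basicOpen_le ℓ)).op).hom b = 0 :=
    hbij.1 (by rw [h1, map_zero])
  obtain ⟨m, hm⟩ := exists_pow_mul_eq_zero_of_res_basicOpen_eq_zero_of_isAffineOpen Y hU b ℓ h2
  exact (mem_nonZeroDivisors_iff.mp (pow_mem hℓ m)).1 b hm

theorem res_eq_zero_of_opens_eq {X : Scheme.{u}} {V O₁ O₂ : X.Opens} (h : O₁ = O₂) (h₁ : O₁ ≤ V)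
    (h₂ : O₂ ≤ V) (x : Γ(X, V)) (hx : (X.presheaf.map (homOfLE h₁).op).hom x = 0) :
    (X.presheaf.map (homOfLE h₂).op).hom x = 0 := by
  subst h
  exact hx

include hLU in
/-- for each section `a` upstairs some `ℓᵏ a` comes from downstairs. -/
theorem exists_pow_mul_mem_range_elt [IsReduced X] [IsAffineHom f]
    [hiso : IsIso (f ∣_ L.support.compl)]
    (hdense : Dense (f.base ⁻¹' ((L.support : Set Y)ᶜ))) (a : Γ(X, f ⁻¹ᵁ U)) :
    ∃ k : ℕ, (f.app U).hom ℓ ^ k * a ∈ (f.app U).hom.range := by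
  have hbij := bijective_app_of_isIso_restrict f L.support.compl (Y.basicOpen ℓ)
    (basicOpen_le_compl_support L hU ℓ hLU)
  have hle : f ⁻¹ᵁ Y.basicOpen ℓ ≤ f ⁻¹ᵁ U := f.preimage_mono (Y.basicOpen_le ℓ)
  obtain ⟨b', hb'⟩ := hbij.2 ((X.presheaf.map (homOfLE hle).op).hom a)
  haveI := hU.isLocalization_basicOpen ℓ
  obtain ⟨⟨b, ⟨_, k, rfl⟩⟩, hbk⟩ := IsLocalization.surj (Submonoid.powers ℓ) b'
  simp only [RingHom.algebraMap_toAlgebra] at hbk
  refine ⟨k, b, ?_⟩
  have hnzd := app_mem_nonZeroDivisors f L hU ℓ hLU hdense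
  -- the difference vanishes on `f⁻¹ D(ℓ)`
  have nat := f.naturality (homOfLE (Y.basicOpen_le ℓ)).op
  have natb : ∀ c : Γ(Y, U), (f.app (Y.basicOpen ℓ)).hom
      ((Y.presheaf.map (homOfLE (Y.basicOpen_le ℓ)).op).hom c) =
      (X.presheaf.map (homOfLE hle).op).hom ((f.app U).hom c) := fun c => by
    have := congrArg (fun φ => φ.hom c) nat
    simp only [CommRingCat.hom_comp, RingHom.comp_apply] at this
    exact this
  have hzero : (X.presheaf.map (homOfLE hle).op).hom
      ((f.app U).hom ℓ ^ k * a - (f.app U).hom b) = 0 := by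
    rw [map_sub, map_mul, map_pow, ← natb, ← natb, ← hb', ← map_pow, ← map_mul, ← map_sub,
      ← hbk]
    rw [map_pow, mul_comm, sub_self, map_zero]
  have hzero' := res_eq_zero_of_opens_eq (Scheme.preimage_basicOpen f ℓ) hle
    (X.basicOpen_le _) _ hzero
  obtain ⟨m, hm⟩ := exists_pow_mul_eq_zero_of_res_basicOpen_eq_zero_of_isAffineOpen X
    (hU.preimage f) _ _ hzero'
  have := (mem_nonZeroDivisors_iff.mp (pow_mem hnzd m)).1 _ hm
  exact (sub_eq_zero.mp this).symm

include hLU in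
/-- a uniform exponent on the chart. -/
theorem exists_pow_mul_mem_range [IsReduced X] [IsFinite f]
    [hiso : IsIso (f ∣_ L.support.compl)]
    (hdense : Dense (f.base ⁻¹' ((L.support : Set Y)ᶜ))) :
    ∃ n : ℕ, ∀ m, n ≤ m → ∀ a : Γ(X, f ⁻¹ᵁ U),
      (f.app U).hom ℓ ^ m * a ∈ (f.app U).hom.range := by
  classical
  have hfin : (f.app U).hom.Finite := IsFinite.finite_app f U hU
  letI := (f.app U).hom.toAlgebra
  haveI : Module.Finite Γ(Y, U) Γ(X, f ⁻¹ᵁ U) := hfin
  obtain ⟨s, hs⟩ := Module.Finite.fg_top (R := Γ(Y, U)) (M := Γ(X, f ⁻¹ᵁ U))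
  choose k hk using exists_pow_mul_mem_range_elt f L hU ℓ hLU hdense
  refine ⟨s.sup k, fun m hm a => ?_⟩
  let S : Submodule Γ(Y, U) Γ(X, f ⁻¹ᵁ U) :=
    { carrier := {a | (f.app U).hom ℓ ^ m * a ∈ (f.app U).hom.range}
      add_mem' := fun {a b} ha hb => by
        simp only [Set.mem_setOf_eq] at ha hb ⊢
        rw [mul_add]; exact add_mem ha hb
      zero_mem' := by
        simp only [Set.mem_setOf_eq, mul_zero]; exact zero_mem _
      smul_mem' := fun c a ha => by
        simp only [Set.mem_setOf_eq] at ha ⊢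
        rw [Algebra.smul_def, RingHom.algebraMap_toAlgebra, mul_left_comm]
        exact mul_mem (RingHom.mem_range_self _ c) ha }
  have hsS : (s : Set Γ(X, f ⁻¹ᵁ U)) ⊆ S := by
    intro a ha
    have h1 : k a ≤ m := (Finset.le_sup (f := k) ha).trans hm
    change (f.app U).hom ℓ ^ m * a ∈ (f.app U).hom.range
    obtain ⟨d, rfl⟩ := Nat.exists_eq_add_of_le h1
    rw [pow_add, mul_comm ((f.app U).hom ℓ ^ k a), mul_assoc, ← map_pow]
    exact mul_mem (RingHom.mem_range_self _ _) (hk a)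
  have : a ∈ S := by
    have h2 : (⊤ : Submodule Γ(Y, U) Γ(X, f ⁻¹ᵁ U)) ≤ S := by
      rw [← hs]; exact Submodule.span_le.mpr hsS
    exact h2 trivial
  exact this

end chart

end Groth.Agent.Lib.helper16.BirBlow
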