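import Groth.Agent.Lib.Helper16.BirBlow3
import Groth.Agent.Lib.Helper16.BirBlow4

/-!
# Finite birational morphisms are blow-ups: the chart theorem (helper16)
-/

set_option autoImplicit false
universe u
open CategoryTheory CategoryTheory.Limits AlgebraicGeometry TopologicalSpace Opposite

namespace Groth.Agent.Lib.helper16.BirBlow

open Groth.Agent.Lib.helper16.EffCartier Groth.Agent.Lib.helper16.ReesBlowup

variable {X Y : Scheme.{u}} (f : X ⟶ Y)

theorem restrict_isoSpec_comm [IsAffineHom f] {U : Y.Opens} (hU : IsAffineOpen U) :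
    (f ∣_ U) ≫ hU.isoSpec.hom = (hU.preimage f).isoSpec.hom ≫ Spec.map (f.app U) := by
  rw [IsAffineOpen.isoSpec_hom, IsAffineOpen.isoSpec_hom, Scheme.Hom.app_eq_appLE,
    Scheme.Opens.toSpecΓ_SpecMap_appLE, Scheme.Hom.resLE_eq_morphismRestrict]

/-- the ring map `Γ(Y, U) → Γ(U, ⊤)` induced by `U ≅ Spec Γ(Y, U)`. -/
theorem ringOf_isoSpec_hom {U : Y.Opens} (hU : IsAffineOpen U) :
    ringOf (A := Γ(Y, U)) hU.isoSpec.hom ⊤ =
      (U.ι.appLE U ⊤ (by rw [Scheme.Opens.ι_preimage_self])).hom := by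
  haveI : IsAffine U.toScheme := hU
  refine ringOf_eq _ ⊤ (isAffineOpen_top _) _ ?_
  rw [IsAffineOpen.isoSpec_hom, Scheme.Opens.toSpecΓ_SpecMap_appLE]
  congr 1
  rw [← cancel_mono U.ι, Scheme.Hom.resLE_comp_ι]

theorem comap_isoSpec_eq (I : Y.IdealSheafData) {U : Y.Opens} (hU : IsAffineOpen U) :
    (idl (I.ideal ⟨U, hU⟩)).comap hU.isoSpec.hom = I.comap U.ι := by
  haveI : IsAffine U.toScheme := hU
  apply Scheme.IdealSheafData.ext_of_isAffine
  rw [ideal_comap_idl, ringOf_isoSpec_hom,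
    Groth.Agent.Lib.helper7.IdealComap.ideal_comap U.ι I hU (isAffineOpen_top _)
      (by rw [Scheme.Opens.ι_preimage_self])]

theorem ideal_map_comap_pow [IsAffineHom f] (L : Y.IdealSheafData) {U : Y.Opens}
    (hU : IsAffineOpen U) (ℓ : Γ(Y, U)) (hLU : L.ideal ⟨U, hU⟩ = Ideal.span {ℓ}) (n : ℕ) :
    (((L ^ n).comap f).map f).ideal ⟨U, hU⟩ =
      Ideal.comap (f.app U).hom (Ideal.span {(f.app U).hom ℓ ^ n}) := by
  rw [Scheme.IdealSheafData.ideal_map_of_isAffineHom,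
    Groth.Agent.Lib.helper7.IdealComap.ideal_comap f (L ^ n) hU (hU.preimage f) le_rfl,
    Scheme.IdealSheafData.ideal_pow, Pi.pow_apply, hLU, Ideal.span_singleton_pow, Ideal.map_span,
    Set.image_singleton, map_pow, ← Scheme.Hom.app_eq_appLE]

/-- **the chart theorem.** -/
theorem isBlowUp_restrict_chart [IsReduced X] [IsFinite f] (L : Y.IdealSheafData) {U : Y.Opens}
    (hU : IsAffineOpen U) (ℓ : Γ(Y, U)) (hℓ : ℓ ∈ nonZeroDivisors Γ(Y, U))
    (hLU : L.ideal ⟨U, hU⟩ = Ideal.span {ℓ}) [hiso : IsIso (f ∣_ L.support.compl)]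
    (hdense : Dense (f.base ⁻¹' ((L.support : Set Y)ᶜ))) (n : ℕ)
    (hn : ∀ a : Γ(X, f ⁻¹ᵁ U), (f.app U).hom ℓ ^ n * a ∈ (f.app U).hom.range) :
    BlowUp.IsBlowUp (f ∣_ U) ((((L ^ n).comap f).map f).comap U.ι) := by
  have hι := app_injective f L hU ℓ hLU hℓ
  have hnzd := app_mem_nonZeroDivisors f L hU ℓ hLU hdense
  have hb := isBlowUp_specMap (f.app U).hom hι ℓ n hn hnzd
  have key := isBlowUp_of_arrowIso (f ∣_ U) (Spec.map (CommRingCat.ofHom (f.app U).hom))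
    (hU.preimage f).isoSpec hU.isoSpec (restrict_isoSpec_comm f hU) _ hb
  rw [← ideal_map_comap_pow f L hU ℓ hLU n, comap_isoSpec_eq] at key
  exact key

end Groth.Agent.Lib.helper16.BirBlow
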