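import Groth.Agent.Lib.Helper16.BirBlow5

/-!
# Finite birational morphisms which are isomorphisms off a Cartier divisor are blow-ups (helper16)
-/

set_option autoImplicit false
universe u
open CategoryTheory CategoryTheory.Limits AlgebraicGeometry TopologicalSpace Opposite

namespace Groth.Agent.Lib.helper16.BirBlow

open Groth.Agent.Lib.helper16.EffCartier Groth.Agent.Lib.helper16.ReesBlowup

variable {X Y : Scheme.{u}} (f : X ⟶ Y)

/-- the complement of an effective Cartier divisor is dense. -/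
theorem dense_compl_support [IsLocallyNoetherian Y] (L : Y.IdealSheafData)
    (hL : BlowUp.IsEffCartierIdeal L) : Dense ((L.support : Set Y)ᶜ) := by
  have h1 := ker_ι_eq_bot_of_isEffCartier L hL L.support.compl (fun x hx => hx)
  have h2 := Scheme.Hom.support_ker (Scheme.Opens.ι (X := Y) L.support.compl)
  rw [h1, Scheme.IdealSheafData.support_bot] at h2
  have h3 : closure (Set.range (Scheme.Opens.ι (X := Y) L.support.compl)) = Set.univ := by
    rw [← h2]; rfl
  rw [Scheme.Opens.range_ι] at h3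
  exact dense_iff_closure_eq.mpr h3

theorem surjective_of_isIso_restrict [IsLocallyNoetherian Y] [IsFinite f] (L : Y.IdealSheafData)
    (hL : BlowUp.IsEffCartierIdeal L) [hiso : IsIso (f ∣_ L.support.compl)] :
    Function.Surjective f := by
  have hcl : IsClosed (Set.range f) := f.isClosedMap.isClosed_range
  have hsub : (L.support : Set Y)ᶜ ⊆ Set.range f := by
    intro y hy
    obtain ⟨x', hx'⟩ := (ConcreteCategory.bijective_of_isIso (f ∣_ L.support.compl).base).2
      ⟨y, hy⟩
    refine ⟨(f ⁻¹ᵁ L.support.compl).ι x', ?_⟩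
    have := congrArg (fun φ => φ.base x') (morphismRestrict_ι f L.support.compl)
    simp only [Scheme.Hom.comp_base, TopCat.hom_comp, ContinuousMap.comp_apply] at this
    rw [← this]
    exact congrArg (Scheme.Opens.ι (X := Y) L.support.compl) hx'
  have h1 : closure ((L.support : Set Y)ᶜ) ⊆ Set.range f := hcl.closure_subset_iff.mpr hsub
  rw [(dense_compl_support L hL).closure_eq] at h1
  intro y
  exact h1 trivial

/-- Uniform exponent for a chart (choice wrapper). -/
theorem chart_exponent [IsReduced X] [IsFinite f] (L : Y.IdealSheafData)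
    [hiso : IsIso (f ∣_ L.support.compl)]
    (hdense : Dense (f.base ⁻¹' ((L.support : Set Y)ᶜ))) (c : Charts L) :
    ∃ n : ℕ, ∀ m, n ≤ m → ∃ ℓ : Γ(Y, c.1.1), ℓ ∈ nonZeroDivisors Γ(Y, c.1.1) ∧
      L.ideal c.1 = Ideal.span {ℓ} ∧
      ∀ a : Γ(X, f ⁻¹ᵁ c.1.1), (f.app c.1.1).hom ℓ ^ m * a ∈ (f.app c.1.1).hom.range := by
  obtain ⟨⟨U, hU⟩, ℓ, hℓ, hLU⟩ := c
  obtain ⟨n, hn⟩ := exists_pow_mul_mem_range f L hU ℓ hLU hdense
  exact ⟨n, fun m hm => ⟨ℓ, hℓ, hLU, hn m hm⟩⟩

theorem support_map_comap_pow [IsLocallyNoetherian Y] [IsFinite f] (L : Y.IdealSheafData)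
    (hL : BlowUp.IsEffCartierIdeal L) [hiso : IsIso (f ∣_ L.support.compl)] (n : ℕ) (hn : n ≠ 0) :
    (((L ^ n).comap f).map f).support = L.support := by
  have hsurj := surjective_of_isIso_restrict f L hL
  rw [Scheme.IdealSheafData.support_map, Scheme.IdealSheafData.support_comap,
    Scheme.IdealSheafData.support_pow L n hn]
  ext1
  rw [TopologicalSpace.Closeds.coe_closure, TopologicalSpace.Closeds.coe_preimage,
    Set.image_preimage_eq _ hsurj, L.support.isClosed.closure_eq]

/-- **Main theorem**: a finite birational morphism of reduced Noetherian schemes which is an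
isomorphism off an effective Cartier divisor `V(L)` is a blow-up in an ideal with support `V(L)`. -/
theorem main [IsLocallyNoetherian Y] [CompactSpace Y] [IsReduced X] [IsFinite f]
    (L : Y.IdealSheafData) (hL : BlowUp.IsEffCartierIdeal L)
    (hiso : IsIso (f ∣_ L.support.compl))
    (hdense : Dense (f.base ⁻¹' ((L.support : Set Y)ᶜ))) :
    ∃ I : Y.IdealSheafData, I.support = L.support ∧ BlowUp.IsBlowUp f I := by
  classical
  haveI := hiso
  -- finitely many charts cover `Y`
  have hcovall : (Set.univ : Set Y) ⊆ ⋃ c : Charts L, ((c.1.1 : Y.Opens) : Set Y) := by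
    intro y _
    have : y ∈ (⨆ V : Charts L, (V.1).1 : Y.Opens) := by rw [iSup_charts hL]; trivial
    obtain ⟨c, hc⟩ := TopologicalSpace.Opens.mem_iSup.mp this
    exact Set.mem_iUnion.mpr ⟨c, hc⟩
  obtain ⟨t, ht⟩ := isCompact_univ.elim_finite_subcover
    (fun c : Charts L => ((c.1.1 : Y.Opens) : Set Y)) (fun c => c.1.1.isOpen) hcovall
  choose N hN using chart_exponent f L hdense
  let n : ℕ := t.sup N + 1
  have hn0 : n ≠ 0 := Nat.succ_ne_zero _
  refine ⟨((L ^ n).comap f).map f, support_map_comap_pow f L hL n hn0, ?_⟩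
  refine isBlowUp_of_openCover f _ (fun c : {c : Charts L // c ∈ t} => c.1.1.1) ?_ ?_
  · intro y
    obtain ⟨c, hc⟩ := Set.mem_iUnion.mp (ht (Set.mem_univ y))
    obtain ⟨hct, hy⟩ := Set.mem_iUnion.mp hc
    exact ⟨⟨c, hct⟩, hy⟩
  · rintro ⟨c, hct⟩
    have hle : N c ≤ n := (Finset.le_sup (f := N) hct).trans (Nat.le_succ _)
    obtain ⟨ℓ, hℓ, hLU, hrange⟩ := hN c n hle
    exact isBlowUp_restrict_chart f L c.1.2 ℓ hℓ hLU hdense n hrange

end Groth.Agent.Lib.helper16.BirBlow
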