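import Groth.Agent.Lib.Helper16.ReesBlowup2
import Groth.Agent.Lib.Helper16.BlowUpProper
import Groth.Agent.S17083

/-!
# Blow-up of an ideal generated by two elements: two charts cover (helper16)

* `chart_sup_eq_top`: if `I = (x, y)` then `Bl I = D₊(xX) ∪ D₊(yX)`.
* `exists_two_affine_cover`: any blow-up `b : X ⟶ Spec A` of `(x, y)` is separated and covered by
  two affine opens.
-/

set_option autoImplicit false
universe u
open CategoryTheory CategoryTheory.Limits AlgebraicGeometry TopologicalSpace Opposite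

namespace Groth.Agent.Lib.helper16.ReesBlowup

variable {A : Type u} [CommRing A] (I : Ideal A)

lemma F_lincomb (a b x y : A) (hx : x ∈ I) (hy : y ∈ I) (h : a * x + b * y ∈ I) :
    F I (a * x + b * y) h =
      algebraMap A (reesAlgebra I) a * F I x hx + algebraMap A (reesAlgebra I) b * F I y hy := by
  apply Subtype.ext
  simp only [F, coe_mon, Subalgebra.coe_add, Subalgebra.coe_mul, Subalgebra.coe_algebraMap,
    Polynomial.algebraMap_eq, Polynomial.C_mul_monomial, map_add]

theorem chart_le_sup (a b x y : A) (hx : x ∈ I) (hy : y ∈ I) (h : a * x + b * y ∈ I) :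
    chart I (a * x + b * y) h ≤ chart I x hx ⊔ chart I y hy := by
  intro p hp
  rw [Proj.mem_basicOpen, F_lincomb I a b x y hx hy h] at hp
  by_contra hcon
  apply hp
  have h1 : F I x hx ∈ p.asHomogeneousIdeal := by
    by_contra h1
    exact hcon (Opens.mem_sup.mpr (Or.inl ((Proj.mem_basicOpen _ _ _).mpr h1)))
  have h2 : F I y hy ∈ p.asHomogeneousIdeal := by
    by_contra h2
    exact hcon (Opens.mem_sup.mpr (Or.inr ((Proj.mem_basicOpen _ _ _).mpr h2)))
  exact add_mem (Ideal.mul_mem_left _ _ h1) (Ideal.mul_mem_left _ _ h2)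

theorem chart_sup_eq_top (x y : A) (hx : x ∈ I) (hy : y ∈ I) (h : I = Ideal.span {x, y}) :
    chart I x hx ⊔ chart I y hy = ⊤ := by
  rw [eq_top_iff, ← iSup_chart I]
  refine iSup_le fun i => ?_
  obtain ⟨a, b, hab⟩ := Ideal.mem_span_pair.mp (h ▸ i.2 : i.1 ∈ Ideal.span {x, y})
  have h' : a * x + b * y ∈ I := hab ▸ i.2
  have key : ∀ (j : A) (hj : j ∈ I), j = a * x + b * y → chart I j hj ≤ chart I x hx ⊔ chart I y hy := by
    rintro j hj rfl
    exact chart_le_sup I a b x y hx hy hj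
  exact key i.1 i.2 hab.symm

/-- any blow-up of `Spec A` in `I` is isomorphic to `Proj` of the Rees algebra. -/
theorem exists_iso_bl {X : Scheme.{u}} (b : X ⟶ Spec (CommRingCat.of A))
    (hb : BlowUp.IsBlowUp b (idl I)) : ∃ φ : X ⟶ Bl I, IsIso φ ∧ φ ≫ bl I = b := by
  have hb' : BlowUp.IsBlowUp (bl I) (idl I) := isBlowUp_bl
  obtain ⟨φ, hφ, -⟩ := hb'.2 X b hb.1
  exact ⟨φ, Groth.Agent.S17083.isIso_of_isBlowUp _ _ _ hb hb' φ hφ, hφ⟩

/-- a blow-up of an affine scheme in a finitely generated ideal is a separated scheme. -/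
theorem isSeparated_of_isBlowUp (hI : I.FG) {X : Scheme.{u}} (b : X ⟶ Spec (CommRingCat.of A))
    (hb : BlowUp.IsBlowUp b (idl I)) : X.IsSeparated := by
  obtain ⟨φ, hφiso, hφ⟩ := exists_iso_bl I b hb
  haveI := Groth.Agent.Lib.helper16.BlowUpProper.isProper_bl I hI
  haveI : IsSeparated b := by rw [← hφ]; infer_instance
  constructor
  rw [← terminal.comp_from b]
  infer_instance

/-- a blow-up of `Spec A` in `(x, y)` is covered by two affine opens. -/
theorem exists_two_affine_cover (x y : A) (h : I = Ideal.span {x, y}) {X : Scheme.{u}}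
    (b : X ⟶ Spec (CommRingCat.of A)) (hb : BlowUp.IsBlowUp b (idl I)) :
    ∃ U : Fin 2 → X.Opens, (∀ i, IsAffineOpen (U i)) ∧ ⨆ i, U i = ⊤ := by
  obtain ⟨φ, hφiso, hφ⟩ := exists_iso_bl I b hb
  have hx : x ∈ I := h ▸ Ideal.subset_span (by simp)
  have hy : y ∈ I := h ▸ Ideal.subset_span (by simp)
  refine ⟨![φ ⁻¹ᵁ chart I x hx, φ ⁻¹ᵁ chart I y hy], ?_, ?_⟩
  · intro i
    fin_cases i
    · exact (isAffineOpen_chart I x hx).preimage_of_isIso φ
    · exact (isAffineOpen_chart I y hy).preimage_of_isIso φ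
  · rw [eq_top_iff]
    intro p _
    have hp : φ.base p ∈ chart I x hx ⊔ chart I y hy := by
      rw [chart_sup_eq_top I x y hx hy h]; trivial
    rcases Opens.mem_sup.mp hp with hp | hp
    · exact Opens.mem_iSup.mpr ⟨0, hp⟩
    · exact Opens.mem_iSup.mpr ⟨1, hp⟩

end Groth.Agent.Lib.helper16.ReesBlowup
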