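import Groth.Agent.Lib.Helper16.Blow2Chart

/-!
# Blow-up of an ideal generated by two elements: `H¹(O) = 0`, algebra part (helper16)
-/

set_option autoImplicit false
universe u
open CategoryTheory CategoryTheory.Limits AlgebraicGeometry TopologicalSpace Opposite

namespace Groth.Agent.Lib.helper16.ReesBlowup

section ideal

variable {A : Type*} [CommRing A]

lemma sup_pow_two_mul_le (I J : Ideal A) (n : ℕ) :
    (I ⊔ J) ^ (2 * n) ≤ I ^ n * (I ⊔ J) ^ n ⊔ J ^ n * (I ⊔ J) ^ n := by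
  have hmul : ∀ a b : ℕ, a + b = n → I ^ a * J ^ b ≤ (I ⊔ J) ^ n := by
    rintro a b rfl
    rw [pow_add]
    exact Ideal.mul_mono (Ideal.pow_right_mono le_sup_left a) (Ideal.pow_right_mono le_sup_right b)
  conv_lhs => rw [← Ideal.add_eq_sup, add_pow, Ideal.sum_eq_sup]
  apply Finset.sup_le
  intro k hk
  have hk' : k ≤ 2 * n := Nat.lt_succ_iff.mp (Finset.mem_range.mp hk)
  refine Ideal.mul_le_left.trans ?_
  by_cases hn : n ≤ k
  · refine le_trans ?_ le_sup_left
    obtain ⟨d, rfl⟩ := Nat.exists_eq_add_of_le hn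
    rw [pow_add, mul_assoc]
    exact Ideal.mul_mono le_rfl (hmul _ _ (by omega))
  · refine le_trans ?_ le_sup_right
    have : 2 * n - k = n + (n - k) := by omega
    rw [this, pow_add, ← mul_assoc, mul_comm (I ^ k), mul_assoc]
    exact Ideal.mul_mono le_rfl (hmul _ _ (by omega))

/-- if `I = (x, y)` then every element of `I^(2n)` is `xⁿ a + yⁿ b` with `a, b ∈ Iⁿ`. -/
lemma exists_decomp_of_mem_pow_two_mul (x y : A) (n : ℕ) (p : A)
    (hp : p ∈ (Ideal.span {x, y} : Ideal A) ^ (2 * n)) :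
    ∃ a ∈ (Ideal.span {x, y} : Ideal A) ^ n, ∃ b ∈ (Ideal.span {x, y} : Ideal A) ^ n,
      p = x ^ n * a + y ^ n * b := by
  have h1 : (Ideal.span {x, y} : Ideal A) = Ideal.span {x} ⊔ Ideal.span {y} := by
    rw [← Ideal.span_union]; rfl
  have h2 := sup_pow_two_mul_le (Ideal.span {x}) (Ideal.span {y}) n
  rw [← h1, Ideal.span_singleton_pow, Ideal.span_singleton_pow] at h2
  obtain ⟨u, hu, v, hv, rfl⟩ := Submodule.mem_sup.mp (h2 hp)
  obtain ⟨a, ha, rfl⟩ := Ideal.mem_span_singleton_mul.mp hu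
  obtain ⟨b, hb, rfl⟩ := Ideal.mem_span_singleton_mul.mp hv
  exact ⟨a, ha, b, hb, rfl⟩

end ideal

section away

open HomogeneousLocalization Polynomial

variable {A : Type u} [CommRing A] (I : Ideal A) (x y : A) (hx : x ∈ I) (hy : y ∈ I)

lemma mon_decomp (n : ℕ) (a b : A) (ha : a ∈ I ^ n) (hb : b ∈ I ^ n)
    (hp : x ^ n * a + y ^ n * b ∈ I ^ (n • (1 + 1))) :
    mon I (n • (1 + 1)) (x ^ n * a + y ^ n * b) hp =
      mon I n b hb * F I y hy ^ n + mon I n a ha * F I x hx ^ n := by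
  apply Subtype.ext
  simp only [F, coe_mon, Subalgebra.coe_add, Subalgebra.coe_mul, Subalgebra.coe_pow,
    monomial_pow, monomial_mul_monomial, one_mul, smul_eq_mul]
  rw [show n * (1 + 1) = n + n by ring, map_add, add_comm, mul_comm (y ^ n), mul_comm (x ^ n)]

/-- if `I = (x, y)`, every element of `R_(xX·yX)` is a sum of an element coming from `R_(xX)` and
one coming from `R_(yX)`. -/
theorem exists_away_decomp (h : I = Ideal.span {x, y})
    (z : Away (Rees.deg (reesAlgebra I)) (F I x hx * F I y hy)) :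
    ∃ (a : Away (Rees.deg (reesAlgebra I)) (F I x hx)) (b : Away (Rees.deg (reesAlgebra I)) (F I y hy)),
      z = awayMap (Rees.deg (reesAlgebra I)) (F_mem I y hy) rfl a +
        awayMap (Rees.deg (reesAlgebra I)) (F_mem I x hx) (mul_comm _ _) b := by
  obtain ⟨n, s, hs, rfl⟩ := Away.mk_surjective (Rees.deg (reesAlgebra I))
    (SetLike.mul_mem_graded (F_mem I x hx) (F_mem I y hy)) z
  obtain ⟨p, hp, rfl⟩ := exists_mon_of_mem I hs
  have hp' : p ∈ (Ideal.span {x, y} : Ideal A) ^ (2 * n) := by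
    rw [← h, show 2 * n = n • (1 + 1) by simp [mul_comm]]; exact hp
  obtain ⟨a, ha, b, hb, rfl⟩ := exists_decomp_of_mem_pow_two_mul x y n p hp'
  rw [← h] at ha hb
  refine ⟨Away.mk _ (F_mem I x hx) n (mon I n b hb) (by rw [smul_eq_mul, mul_one]; exact mon_mem I n b hb),
    Away.mk _ (F_mem I y hy) n (mon I n a ha) (by rw [smul_eq_mul, mul_one]; exact mon_mem I n a ha), ?_⟩
  rw [awayMap_mk, awayMap_mk]
  apply HomogeneousLocalization.val_injective
  rw [val_add, Away.val_mk, Away.val_mk, Away.val_mk]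
  simp only [mon_decomp I x y hx hy n a b ha hb hp]
  rw [← Localization.add_mk_self]

end away

end Groth.Agent.Lib.helper16.ReesBlowup
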