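import Groth.Agent.Lib.Helper16.Blow2H1a

/-!
# Blow-up of an ideal generated by two elements: sections over the two charts (helper16)

`exists_section_decomp`: if `I = (x, y)`, every function on `D₊(xX) ∩ D₊(yX)` is the sum of a
function on `D₊(xX)` and a function on `D₊(yX)`.
-/

set_option autoImplicit false
universe u
open CategoryTheory CategoryTheory.Limits AlgebraicGeometry TopologicalSpace Opposite

namespace Groth.Agent.Lib.helper16.ReesBlowup

open HomogeneousLocalization

variable {A : Type u} [CommRing A] (I : Ideal A) (x y : A) (hx : x ∈ I) (hy : y ∈ I)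

theorem exists_section_decomp (h : I = Ideal.span {x, y}) (W : (Bl I).Opens)
    (hW : W = chart I x hx ⊓ chart I y hy) (h1 : W ≤ chart I x hx) (h2 : W ≤ chart I y hy)
    (z : Γ(Bl I, W)) :
    ∃ (a : Γ(Bl I, chart I x hx)) (b : Γ(Bl I, chart I y hy)),
      z = (Bl I).presheaf.map (homOfLE h1).op a + (Bl I).presheaf.map (homOfLE h2).op b := by
  have hW' : W = Proj.basicOpen (Rees.deg (reesAlgebra I)) (F I x hx * F I y hy) := by
    rw [hW, Proj.basicOpen_mul]
  subst hW'
  have hdeg : F I x hx * F I y hy ∈ Rees.deg (reesAlgebra I) (1 + 1) :=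
    SetLike.mul_mem_graded (F_mem I x hx) (F_mem I y hy)
  have hiso : IsIso (Proj.awayToSection (Rees.deg (reesAlgebra I)) (F I x hx * F I y hy)) := by
    rw [← Proj.basicOpenIsoAway_hom _ _ hdeg (by norm_num)]
    infer_instance
  obtain ⟨z', rfl⟩ : ∃ z', (Proj.awayToSection (Rees.deg (reesAlgebra I)) (F I x hx * F I y hy)).hom z' = z :=
    ((ConcreteCategory.isIso_iff_bijective _).mp hiso).2 z
  obtain ⟨a, b, rfl⟩ := exists_away_decomp I x y hx hy h z'
  refine ⟨(Proj.awayToSection _ (F I x hx)).hom a, (Proj.awayToSection _ (F I y hy)).hom b, ?_⟩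
  rw [map_add]
  have e1 := Proj.awayMap_awayToSection (Rees.deg (reesAlgebra I)) (f := F I x hx) (F_mem I y hy)
    (x := F I x hx * F I y hy) rfl
  have e2 := Proj.awayMap_awayToSection (Rees.deg (reesAlgebra I)) (f := F I y hy) (F_mem I x hx)
    (x := F I x hx * F I y hy) (mul_comm _ _)
  have e1' := congrArg (fun φ => φ.hom a) e1
  have e2' := congrArg (fun φ => φ.hom b) e2
  simp only [CommRingCat.hom_comp, RingHom.coe_comp, Function.comp_apply, CommRingCat.hom_ofHom] at e1' e2'
  rw [e1', e2']

end Groth.Agent.Lib.helper16.ReesBlowup
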