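import Groth.Agent.Lib.Helper16.Blow2H1b
import Groth.Agent.Lib.Helper16.H1Pair
import Groth.Agent.Lib.Helper12.AmpleBasis

/-!
# Blow-up of an ideal generated by two elements: `H¹(X, O_X) = 0` (helper16)
-/

set_option autoImplicit false
universe u
open CategoryTheory CategoryTheory.Limits AlgebraicGeometry TopologicalSpace Opposite

namespace Groth.Agent.Lib.helper16.ReesBlowup

variable {A : Type u} [CommRing A] (I : Ideal A) (x y : A)

/-- sections of the structure sheaf of a blow-up of `(x, y)` over the intersection of the two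
charts are sums of sections over the charts. -/
theorem exists_section_decomp_of_isBlowUp (h : I = Ideal.span {x, y}) {X : Scheme.{u}}
    (b : X ⟶ Spec (CommRingCat.of A)) (hb : BlowUp.IsBlowUp b (idl I)) :
    ∃ (U V : X.Opens), IsAffineOpen U ∧ IsAffineOpen V ∧ U ⊔ V = ⊤ ∧
      ∀ z : Γ(X, U ⊓ V), ∃ (a : Γ(X, U)) (c : Γ(X, V)),
        z = X.presheaf.map (homOfLE (inf_le_left : U ⊓ V ≤ U)).op a +
          X.presheaf.map (homOfLE (inf_le_right : U ⊓ V ≤ V)).op c := by
  obtain ⟨φ, hφiso, hφ⟩ := exists_iso_bl I b hb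
  have hx : x ∈ I := h ▸ Ideal.subset_span (by simp)
  have hy : y ∈ I := h ▸ Ideal.subset_span (by simp)
  refine ⟨φ ⁻¹ᵁ chart I x hx, φ ⁻¹ᵁ chart I y hy, (isAffineOpen_chart I x hx).preimage_of_isIso φ,
    (isAffineOpen_chart I y hy).preimage_of_isIso φ, ?_, ?_⟩
  · rw [← Scheme.Hom.preimage_sup, chart_sup_eq_top I x y hx hy h]
    rfl
  · intro z
    have hbij : Function.Bijective (φ.app (chart I x hx ⊓ chart I y hy)).hom :=
      (ConcreteCategory.isIso_iff_bijective _).mp inferInstance
    obtain ⟨z₀, rfl⟩ := hbij.2 z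
    obtain ⟨a₀, c₀, rfl⟩ := exists_section_decomp I x y hx hy h _ rfl inf_le_left inf_le_right z₀
    refine ⟨(φ.app (chart I x hx)).hom a₀, (φ.app (chart I y hy)).hom c₀, ?_⟩
    rw [map_add]
    have n1 := φ.naturality (homOfLE (inf_le_left : chart I x hx ⊓ chart I y hy ≤ chart I x hx)).op
    have n2 := φ.naturality (homOfLE (inf_le_right : chart I x hx ⊓ chart I y hy ≤ chart I y hy)).op
    have n1' := congrArg (fun ψ => ψ.hom a₀) n1
    have n2' := congrArg (fun ψ => ψ.hom c₀) n2
    simp only [CommRingCat.hom_comp, RingHom.coe_comp, Function.comp_apply] at n1' n2'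
    rw [n1', n2']
    rfl

/-- `H¹(X, O_X) = 0` for a blow-up `X` of `Spec A` in an ideal generated by two elements. -/
theorem subsingleton_H1_structureModule (h : I = Ideal.span {x, y}) {X : Scheme.{u}}
    (b : X ⟶ Spec (CommRingCat.of A)) (hb : BlowUp.IsBlowUp b (idl I)) :
    Subsingleton (Coh.HH X (Coh.structureModule X) 1) := by
  obtain ⟨U, V, hU, hV, hUV, hsurj⟩ := exists_section_decomp_of_isBlowUp I x y h b hb
  haveI : (Coh.structureModule X).IsQuasicoherent :=
    Groth.Agent.Lib.helper12.AmpleBasis.structureModule_qcoh X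
  refine H1Pair.subsingleton_HH_one_of_affine_pair (Coh.structureModule X) U V hU hV hUV ?_
  intro z
  obtain ⟨a, c, hac⟩ := hsurj z
  refine ⟨a, -c, ?_⟩
  show z = (X.presheaf.map (homOfLE (inf_le_left : U ⊓ V ≤ U)).op).hom a -
    (X.presheaf.map (homOfLE (inf_le_right : U ⊓ V ≤ V)).op).hom (-c)
  rw [map_neg, sub_neg_eq_add]
  exact hac

end Groth.Agent.Lib.helper16.ReesBlowup
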