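import Groth.Agent.Lib.Helper16.Blow2Reg4

/-!
# Multiplicity on the chart ring of the blow-up of `(x, y)` (helper16)

* `sup_pow_succ_le`, `mem_pow_of_mul_mem_pow_succ`, `mem_pow_of_pow_mul_mem`: `(𝔪^(k+1) : x) = 𝔪^k`
  for `𝔪 = (x, y)`, `(x)` prime, `y ∉ (x)`.
* `mem_pow_of_toAway_mem_span`: if `f ∈ xⁿ · A[y/x]` then `f ∈ 𝔪ⁿ`.
* `isPrime_span_toAway`: `x · A[y/x]` is a prime ideal.
-/

set_option autoImplicit false
universe u
open Polynomial HomogeneousLocalization

namespace Groth.Agent.Lib.helper16.ReesBlowup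

section ideal

variable {A : Type*} [CommRing A]

lemma sup_pow_succ_le (I J : Ideal A) (k : ℕ) :
    (I ⊔ J) ^ (k + 1) ≤ I * (I ⊔ J) ^ k ⊔ J ^ (k + 1) := by
  induction k with
  | zero => simp
  | succ k ih =>
    rw [pow_succ' (I ⊔ J) (k + 1), Ideal.sup_mul]
    apply sup_le le_sup_left
    calc J * (I ⊔ J) ^ (k + 1) ≤ J * (I * (I ⊔ J) ^ k ⊔ J ^ (k + 1)) := Ideal.mul_mono_right ih
      _ = J * (I * (I ⊔ J) ^ k) ⊔ J * J ^ (k + 1) := Ideal.mul_sup _ _ _
      _ ≤ I * ((I ⊔ J) * (I ⊔ J) ^ k) ⊔ J ^ (k + 1 + 1) := by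
        apply sup_le_sup
        · rw [← mul_assoc, mul_comm J I, mul_assoc]
          exact Ideal.mul_mono_right (Ideal.mul_mono_left le_sup_right)
        · rw [← pow_succ']
      _ = I * (I ⊔ J) ^ (k + 1) ⊔ J ^ (k + 1 + 1) := by rw [← pow_succ']

theorem mem_pow_of_mul_mem_pow_succ [IsDomain A] (x y : A) (hx0 : x ≠ 0)
    (hxp : (Ideal.span {x}).IsPrime) (hy : y ∉ Ideal.span {x}) (k : ℕ) (g : A)
    (h : x * g ∈ (Ideal.span {x, y} : Ideal A) ^ (k + 1)) :
    g ∈ (Ideal.span {x, y} : Ideal A) ^ k := by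
  have h1 : (Ideal.span {x, y} : Ideal A) = Ideal.span {x} ⊔ Ideal.span {y} := by
    rw [← Ideal.span_union]; rfl
  have h2 := sup_pow_succ_le (Ideal.span {x}) (Ideal.span {y}) k (by rw [← h1]; exact h)
  rw [← h1, Ideal.span_singleton_pow] at h2
  obtain ⟨u', hu', v, hv, huv⟩ := Submodule.mem_sup.mp h2
  obtain ⟨u, hu, rfl⟩ := Ideal.mem_span_singleton_mul.mp hu'
  obtain ⟨c, rfl⟩ := Ideal.mem_span_singleton'.mp hv
  -- x * u + c * y^(k+1) = x * g
  have h3 : c * y ^ (k + 1) ∈ Ideal.span {x} := by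
    have : c * y ^ (k + 1) = x * (g - u) := by rw [mul_sub, ← huv]; ring
    rw [this]
    exact Ideal.mul_mem_right _ _ (Ideal.mem_span_singleton_self x)
  have h4 : c ∈ Ideal.span {x} := by
    rcases hxp.mem_or_mem h3 with h | h
    · exact h
    · exact absurd (hxp.mem_of_pow_mem _ h) hy
  obtain ⟨c', rfl⟩ := Ideal.mem_span_singleton'.mp h4
  have h5 : x * (g - u - c' * y ^ (k + 1)) = 0 := by
    have : x * (g - u - c' * y ^ (k + 1)) = x * g - (x * u + c' * x * y ^ (k + 1)) := by ring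
    rw [this, huv, sub_self]
  have h6 : g = u + c' * y ^ (k + 1) := by
    rcases mul_eq_zero.mp h5 with h | h
    · exact absurd h hx0
    · linear_combination h
  rw [h6]
  refine Ideal.add_mem _ hu (Ideal.mul_mem_left _ _ ?_)
  have hyI : y ∈ (Ideal.span {x, y} : Ideal A) := Ideal.subset_span (by simp)
  exact Ideal.pow_le_pow_right (Nat.le_succ k) (Ideal.pow_mem_pow hyI (k + 1))

theorem mem_pow_of_pow_mul_mem [IsDomain A] (x y : A) (hx0 : x ≠ 0)
    (hxp : (Ideal.span {x}).IsPrime) (hy : y ∉ Ideal.span {x}) (N k : ℕ) (g : A)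
    (h : x ^ N * g ∈ (Ideal.span {x, y} : Ideal A) ^ (k + N)) :
    g ∈ (Ideal.span {x, y} : Ideal A) ^ k := by
  induction N generalizing g with
  | zero => simpa using h
  | succ N ih =>
    apply ih
    apply mem_pow_of_mul_mem_pow_succ x y hx0 hxp hy (k + N)
    rw [← mul_assoc, ← pow_succ']
    exact h

end ideal

section chart

variable {A : Type u} [CommRing A]

/-- shortcut instance (instance search through `reesAlgebra` is fragile). -/
noncomputable local instance awayCommRing'' (I : Ideal A) (f : A) (hf : f ∈ I) :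
    CommRing (Away (Rees.deg (reesAlgebra I)) (F I f hf)) := inferInstance

/-- if `g ∈ xⁿ · A[y/x]` then `g ∈ (x, y)ⁿ`. -/
theorem mem_pow_of_toAway_mem_span [IsDomain A] (x y : A) (I : Ideal A) (hI : I = Ideal.span {x, y})
    (hx : x ∈ I) (hx0 : x ≠ 0) (hxp : (Ideal.span {x}).IsPrime) (hy : y ∉ Ideal.span {x})
    (n : ℕ) (g : A) (h : toAway I x hx g ∈ Ideal.span {toAway I x hx x ^ n}) : g ∈ I ^ n := by
  obtain ⟨e, he⟩ := Ideal.mem_span_singleton'.mp h
  obtain ⟨N, w, hw, rfl⟩ := frac_surjective I x hx e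
  have h1 := frac_mul_pow I x hx N w hw
  have h2 : toAway I x hx (x ^ N * g) = toAway I x hx (w * x ^ n) := by
    rw [map_mul, map_mul, ← he, ← h1, map_pow, map_pow]
    ring
  have h3 := toAway_injective I x hx hx0 h2
  have h4 : x ^ N * g ∈ I ^ (n + N) := by
    rw [h3, add_comm, pow_add]
    exact Ideal.mul_mem_mul hw (Ideal.pow_mem_pow hx n)
  subst hI
  exact mem_pow_of_pow_mul_mem x y hx0 hxp hy N n g h4

/-- `x · A[y/x]` is a prime ideal when `(x, y)` is prime, `(x)` is prime and `y ∉ (x)`. -/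
theorem isPrime_span_toAway [IsDomain A] (x y : A) (I : Ideal A) (hI : I = Ideal.span {x, y})
    (hIp : I.IsPrime) (hx : x ∈ I) (hx0 : x ≠ 0) (hxp : (Ideal.span {x}).IsPrime)
    (hy : y ∉ Ideal.span {x}) : (Ideal.span {toAway I x hx x}).IsPrime := by
  have hyI : y ∈ I := hI ▸ Ideal.subset_span (by simp)
  have hyf : ∀ (c : A) (n : ℕ), c * y ^ n ∈ Ideal.span {x} → c ∈ Ideal.span {x} := by
    intro c n hc
    rcases hxp.mem_or_mem hc with h | h
    · exact h
    · exact absurd (hxp.mem_of_pow_mem n h) hy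
  have hker := ker_piA I x hx y hyI hx0 hyf
  have hsurj := piA_surjective I x hx y hyI hI
  haveI : (Ideal.map (C : A →+* A[X]) I).IsPrime := Ideal.isPrime_map_C_of_isPrime
  have hle : RingHom.ker (piA I x hx y hyI) ≤ Ideal.map (C : A →+* A[X]) I := by
    rw [hker, Ideal.span_le, Set.singleton_subset_iff]
    exact Ideal.sub_mem _ (Ideal.mul_mem_right _ _ (Ideal.mem_map_of_mem _ hx))
      (Ideal.mem_map_of_mem _ hyI)
  have h1 := Ideal.map_isPrime_of_surjective hsurj hle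
  have h2 : Ideal.map (piA I x hx y hyI) (Ideal.map (C : A →+* A[X]) I) =
      Ideal.span {toAway I x hx x} := by
    rw [Ideal.map_map, ← map_toAway_eq_span]
    congr 1
    ext a
    simp
  rwa [h2] at h1

end chart

end Groth.Agent.Lib.helper16.ReesBlowup
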