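import Mathlib
import Groth.Agent.Lib.Helper16.EffCartier
import Groth.Agent.Lib.Helper7.IdealComap
import Groth.Prelude.Def_BlowUp2

/-!
# Separating closures after blowing up (helper16)

* `ptIdeal S W y hy`: the prime ideal of `Γ(S, W)` of sections vanishing at `y ∈ W`
  (non-units in the stalk), with `mem_ptIdeal`, `comap_ptIdeal`, `ideal_le_ptIdeal_iff`.
* `exists_chart`: if `𝔞.comap π` is effective Cartier then near every point of `X'` it is generated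
  by the pullback of a section of `𝔞`.
* `sep`: the separation lemma: `𝓐 ≤ 𝔞` on `X`, `𝓚` on `Z`, `𝔞 O_Z ≤ 𝓐 O_Z + 𝓚`, `𝔞 O_{X'}` effective
  Cartier; `A ⊆ X'` over `supp 𝓐 ∖ supp 𝔞`, `B ⊆ Z'` over `supp 𝓚` and off `supp 𝔞`; then
  `p'⁻¹(closure A) ∩ closure B = ∅`.
-/

set_option autoImplicit false
universe u
open CategoryTheory CategoryTheory.Limits AlgebraicGeometry TopologicalSpace Opposite

namespace Groth.Agent.Lib.helper16.BlowSep

open Scheme.IdealSheafData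

/-- sections over `W` vanishing at the point `y ∈ W` -/
noncomputable def ptIdeal (S : Scheme.{u}) (W : S.Opens) (y : S) (hy : y ∈ W) : Ideal Γ(S, W) :=
  Ideal.comap (S.presheaf.germ W y hy).hom (IsLocalRing.maximalIdeal (S.presheaf.stalk y))

instance (S : Scheme.{u}) (W : S.Opens) (y : S) (hy : y ∈ W) : (ptIdeal S W y hy).IsPrime :=
  Ideal.comap_isPrime _ _

theorem mem_ptIdeal {S : Scheme.{u}} {W : S.Opens} {y : S} (hy : y ∈ W) (v : Γ(S, W)) :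
    v ∈ ptIdeal S W y hy ↔ y ∉ S.basicOpen v := by
  rw [ptIdeal, Ideal.mem_comap, IsLocalRing.mem_maximalIdeal, mem_nonunits_iff,
    S.mem_basicOpen v y hy]

theorem comap_ptIdeal {S' S : Scheme.{u}} (f : S' ⟶ S) (W : S.Opens) (W' : S'.Opens)
    (e : W' ≤ f ⁻¹ᵁ W) (y' : S') (hy' : y' ∈ W') :
    Ideal.comap (f.appLE W W' e).hom (ptIdeal S' W' y' hy') = ptIdeal S W (f y') (e hy') := by
  ext v
  rw [Ideal.mem_comap, mem_ptIdeal, mem_ptIdeal, Scheme.basicOpen_appLE]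
  constructor
  · intro h h'
    exact h ⟨hy', h'⟩
  · intro h h'
    exact h h'.2

theorem map_le_ptIdeal {S' S : Scheme.{u}} (f : S' ⟶ S) (W : S.Opens) (W' : S'.Opens)
    (e : W' ≤ f ⁻¹ᵁ W) (y' : S') (hy' : y' ∈ W') (I : Ideal Γ(S, W))
    (h : I ≤ ptIdeal S W (f y') (e hy')) :
    I.map (f.appLE W W' e).hom ≤ ptIdeal S' W' y' hy' := by
  rw [Ideal.map_le_iff_le_comap, comap_ptIdeal]
  exact h

theorem ideal_le_ptIdeal_iff {X : Scheme.{u}} (𝓘 : X.IdealSheafData) (W : X.affineOpens) (y : X)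
    (hy : y ∈ W.1) : 𝓘.ideal W ≤ ptIdeal X W.1 y hy ↔ y ∈ 𝓘.support := by
  rw [Scheme.IdealSheafData.mem_support_iff_of_mem (U := W) hy, Scheme.mem_zeroLocus_iff]
  constructor
  · intro h a ha
    exact (mem_ptIdeal hy a).mp (h ha)
  · intro h a ha
    exact (mem_ptIdeal hy a).mpr (h a ha)

/-- a point off the support of `𝔞` lies in some `D(a)`, `a ∈ 𝔞(W)`; hence a generator of the
pulled back ideal does not vanish above it. -/
theorem gen_not_mem_ptIdeal {X X' : Scheme.{u}} (π : X' ⟶ X) (𝔞 : X.IdealSheafData)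
    (W : X.affineOpens) (W' : X'.Opens) (e : W' ≤ π ⁻¹ᵁ W.1) (t : Γ(X', W'))
    (ht : (𝔞.ideal W).map (π.appLE W.1 W' e).hom ≤ Ideal.span {t})
    (y : X') (hy : y ∈ W') (hys : π y ∉ 𝔞.support) : t ∉ ptIdeal X' W' y hy := by
  intro hmem
  apply hys
  rw [← ideal_le_ptIdeal_iff 𝔞 W (π y) (e hy), ← comap_ptIdeal π W.1 W' e y hy,
    ← Ideal.map_le_iff_le_comap]
  refine ht.trans ?_
  rw [Ideal.span_le, Set.singleton_subset_iff]
  exact hmem

/-- commutative algebra: if `I S = (t)` with `t` a nonzerodivisor and `P` is a prime of `S`, then some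
`α a`, `a ∈ I`, is `t * c` with `c ∉ P`. -/
theorem exists_gen_alg {R S : Type*} [CommRing R] [CommRing S] (α : R →+* S) (I : Ideal R) (t : S)
    (htnzd : t ∈ nonZeroDivisors S) (ht : I.map α = Ideal.span {t}) (P : Ideal S) [P.IsPrime] :
    ∃ a ∈ I, ∃ c, α a = t * c ∧ c ∉ P := by
  by_contra hcon
  push Not at hcon
  have hle' : I.map α ≤ Ideal.span {t} * P := by
    rw [Ideal.map_le_iff_le_comap]
    intro a ha
    have h1 : α a ∈ Ideal.span {t} := by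
      rw [← ht]
      exact Ideal.mem_map_of_mem _ ha
    obtain ⟨c, hc⟩ := Ideal.mem_span_singleton'.mp h1
    rw [Ideal.mem_comap, Ideal.mem_span_singleton_mul]
    exact ⟨c, hcon a ha c (by rw [← hc, mul_comm]), by rw [← hc, mul_comm]⟩
  have hle : Ideal.span {t} ≤ Ideal.span {t} * P := ht ▸ hle'
  obtain ⟨c, hcP, hc⟩ := Ideal.mem_span_singleton_mul.mp (hle (Ideal.mem_span_singleton_self t))
  have h2 : t * (c - 1) = 0 := by rw [mul_sub, hc, mul_one, sub_self]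
  have h3 : c - 1 = 0 := (mul_left_mem_nonZeroDivisors_eq_zero_iff htnzd).mp h2
  have h4 : (1 : S) ∈ P := by
    have : c = 1 := sub_eq_zero.mp h3
    rwa [this] at hcP
  exact (Ideal.IsPrime.ne_top inferInstance) ((Ideal.eq_top_iff_one P).mpr h4)

/-- **chart of an effective Cartier pullback**: if `𝔞.comap π` is effective Cartier, then near every
point `x'` over an affine open `W` of the base it is generated by the pullback of a section of
`𝔞` over `W`. -/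
theorem exists_chart {X X' : Scheme.{u}} (π : X' ⟶ X) (𝔞 : X.IdealSheafData)
    (hcart : BlowUp.IsEffCartierIdeal (𝔞.comap π)) (W : X.affineOpens) (x' : X')
    (hx' : π x' ∈ W.1) :
    ∃ (W' : X'.affineOpens) (e : W'.1 ≤ π ⁻¹ᵁ W.1) (a : Γ(X, W.1)), x' ∈ W'.1 ∧ a ∈ 𝔞.ideal W ∧
      (𝔞.ideal W).map (π.appLE W.1 W'.1 e).hom = Ideal.span {(π.appLE W.1 W'.1 e).hom a} := by
  obtain ⟨W₁, hxW₁, hW₁, t, htnzd, ht⟩ :=
    Groth.Agent.Lib.helper16.EffCartier.exists_principal_le hcart x' (π ⁻¹ᵁ W.1) hx'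
  rw [Groth.Agent.Lib.helper7.IdealComap.ideal_comap π 𝔞 W.2 W₁.2 hW₁] at ht
  set α := (π.appLE W.1 W₁.1 hW₁).hom with hα
  set P := ptIdeal X' W₁.1 x' hxW₁ with hP
  have hex : ∃ a ∈ 𝔞.ideal W, ∃ c, α a = t * c ∧ c ∉ P := exists_gen_alg α _ t htnzd ht P
  obtain ⟨a, ha, c, hac, hcP⟩ := hex
  have hxc : x' ∈ X'.basicOpen c := by
    by_contra h
    exact hcP ((mem_ptIdeal hxW₁ c).mpr h)
  have hle : X'.basicOpen c ≤ π ⁻¹ᵁ W.1 := (X'.basicOpen_le c).trans hW₁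
  refine ⟨X'.affineBasicOpen c, hle, a, hxc, ha, ?_⟩
  have hres : (π.appLE W.1 (X'.basicOpen c) hle).hom =
      (X'.presheaf.map (homOfLE (X'.basicOpen_le c)).op).hom.comp α := by
    rw [hα, ← CommRingCat.hom_comp, Scheme.Hom.appLE_map]
  show (𝔞.ideal W).map (π.appLE W.1 (X'.basicOpen c) hle).hom =
    Ideal.span {(π.appLE W.1 (X'.basicOpen c) hle).hom a}
  rw [hres, ← Ideal.map_map, ht, Ideal.map_span, Set.image_singleton, RingHom.comp_apply, hac,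
    map_mul]
  have hu : IsUnit ((X'.presheaf.map (homOfLE (X'.basicOpen_le c)).op).hom c) :=
    RingedSpace.isUnit_res_basicOpen _ c
  exact (Ideal.span_singleton_mul_right_unit hu _).symm

theorem appLE_congr {Y X : Scheme.{u}} {f g : Y ⟶ X} (h : f = g) (W : X.Opens) (T : Y.Opens)
    (e : T ≤ f ⁻¹ᵁ W) (e' : T ≤ g ⁻¹ᵁ W) : f.appLE W T e = g.appLE W T e' := by
  subst h
  rfl

/-- **separation lemma** (Raynaud–Gruson): see the module docstring. -/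
theorem sep {X X' Z Z' : Scheme.{u}} (π : X' ⟶ X) (p : Z ⟶ X) (π' : Z' ⟶ Z) (p' : Z' ⟶ X')
    (comm : π' ≫ p = p' ≫ π)
    (𝔞 𝓐 : X.IdealSheafData) (𝓚 : Z.IdealSheafData)
    (hcart : BlowUp.IsEffCartierIdeal (𝔞.comap π)) (h𝓐 : 𝓐 ≤ 𝔞)
    (hle : 𝔞.comap p ≤ 𝓐.comap p ⊔ 𝓚)
    (A : Set X') (hA₁ : ∀ y ∈ A, π y ∈ 𝓐.support) (hA₂ : ∀ y ∈ A, π y ∉ 𝔞.support)
    (B : Set Z') (hB₁ : ∀ w ∈ B, π' w ∈ 𝓚.support) (hB₂ : ∀ w ∈ B, p (π' w) ∉ 𝔞.support) :
    p' ⁻¹' closure A ∩ closure B = ∅ := by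
  rw [Set.eq_empty_iff_forall_notMem]
  rintro z' ⟨hz'A, hz'B⟩
  have hpt : ∀ w : Z', π (p' w) = p (π' w) := fun w => by
    have := congrArg (fun f : Z' ⟶ X => f w) comm
    simpa using this.symm
  obtain ⟨_, ⟨W, hW, rfl⟩, hxW, -⟩ := X.isBasis_affineOpens.exists_subset_of_mem_open
    (Set.mem_univ (π (p' z'))) isOpen_univ
  obtain ⟨W', e, a, hx'W', ha, hgen⟩ := exists_chart π 𝔞 hcart ⟨W, hW⟩ (p' z') hxW
  have hzW : π' z' ∈ p ⁻¹ᵁ W := by
    show p (π' z') ∈ W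
    rw [← hpt]
    exact hxW
  obtain ⟨_, ⟨T, hT, rfl⟩, hzT, hTW⟩ := Z.isBasis_affineOpens.exists_subset_of_mem_open
    hzW (p ⁻¹ᵁ W).2
  have hTW' : T ≤ p ⁻¹ᵁ W := hTW
  set T' : Z'.Opens := π' ⁻¹ᵁ T ⊓ p' ⁻¹ᵁ W'.1 with hT'
  have hz'T' : z' ∈ T' := ⟨hzT, hx'W'⟩
  have e₁ : T' ≤ π' ⁻¹ᵁ T := inf_le_left
  have e₂ : T' ≤ p' ⁻¹ᵁ W'.1 := inf_le_right
  have hcomm : ((p'.appLE W'.1 T' e₂).hom).comp (π.appLE W W'.1 e).hom =
      ((π'.appLE T T' e₁).hom).comp (p.appLE W T hTW').hom := by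
    rw [← CommRingCat.hom_comp, ← CommRingCat.hom_comp, Scheme.Hom.appLE_comp_appLE,
      Scheme.Hom.appLE_comp_appLE]
    exact congrArg CommRingCat.Hom.hom (appLE_congr comm.symm W T' _ _)
  generalize hα : (π.appLE W W'.1 e).hom = α at *
  generalize hβ : (p.appLE W T hTW').hom = β at *
  generalize hα' : (π'.appLE T T' e₁).hom = α' at *
  generalize hβ' : (p'.appLE W'.1 T' e₂).hom = β' at *
  set t := α a with ht
  set P := ptIdeal X' W'.1 (p' z') hx'W' with hP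
  set Q := ptIdeal Z' T' z' hz'T' with hQ
  have h1 : (𝓐.ideal ⟨W, hW⟩).map α ≤ Ideal.span {t} * P := by
    rw [Ideal.map_le_iff_le_comap]
    intro f hf
    have hf' : α f ∈ Ideal.span {t} := by
      rw [← hgen]
      exact Ideal.mem_map_of_mem _ (h𝓐 ⟨W, hW⟩ hf)
    obtain ⟨u, hu⟩ := Ideal.mem_span_singleton'.mp hf'
    rw [Ideal.mem_comap, Ideal.mem_span_singleton_mul]
    refine ⟨u, ?_, by rw [← hu, mul_comm]⟩
    by_contra huP
    have hx'u : p' z' ∈ X'.basicOpen u := by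
      by_contra h
      exact huP ((mem_ptIdeal hx'W' u).mpr h)
    obtain ⟨y, hyu, hyA⟩ := mem_closure_iff.mp hz'A _ (X'.basicOpen u).2 hx'u
    have hyW' : y ∈ W'.1 := X'.basicOpen_le u hyu
    have h2 : α f ∈ ptIdeal X' W'.1 y hyW' := by
      have := map_le_ptIdeal π W W'.1 e y hyW' (𝓐.ideal ⟨W, hW⟩)
        ((ideal_le_ptIdeal_iff 𝓐 ⟨W, hW⟩ (π y) (e hyW')).mpr (hA₁ y hyA))
      rw [hα] at this
      exact this (Ideal.mem_map_of_mem _ hf)
    rw [← hu] at h2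
    rcases Ideal.IsPrime.mem_or_mem inferInstance h2 with h3 | h3
    · exact (mem_ptIdeal hyW' u).mp h3 hyu
    · refine gen_not_mem_ptIdeal π 𝔞 ⟨W, hW⟩ W'.1 e t ?_ y hyW' (hA₂ y hyA) h3
      rw [hα]
      exact hgen.le
  have h2 : β a ∈ (𝓐.ideal ⟨W, hW⟩).map β ⊔ 𝓚.ideal ⟨T, hT⟩ := by
    have := hle ⟨T, hT⟩
    rw [ideal_sup, Pi.sup_apply, Groth.Agent.Lib.helper7.IdealComap.ideal_comap p 𝔞 hW hT hTW',
      Groth.Agent.Lib.helper7.IdealComap.ideal_comap p 𝓐 hW hT hTW', hβ] at this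
    exact this (Ideal.mem_map_of_mem _ ha)
  have h5 : β' t = α' (β a) := RingHom.congr_fun hcomm a
  have h3 : β' t ∈ Ideal.span {β' t} * Q ⊔ (𝓚.ideal ⟨T, hT⟩).map α' := by
    have h4 : α' (β a) ∈ ((𝓐.ideal ⟨W, hW⟩).map β ⊔ 𝓚.ideal ⟨T, hT⟩).map α' :=
      Ideal.mem_map_of_mem _ h2
    rw [Ideal.map_sup, Ideal.map_map, ← hcomm, ← Ideal.map_map] at h4
    rw [h5]
    have hkey : Ideal.map β' (Ideal.map α (𝓐.ideal ⟨W, hW⟩)) ≤ Ideal.span {α' (β a)} * Q := by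
      calc Ideal.map β' (Ideal.map α (𝓐.ideal ⟨W, hW⟩))
          ≤ Ideal.map β' (Ideal.span {t} * P) := Ideal.map_mono h1
        _ = Ideal.span {β' t} * Ideal.map β' P := by
            rw [Ideal.map_mul, Ideal.map_span, Set.image_singleton]
        _ ≤ Ideal.span {α' (β a)} * Q := by
            rw [← h5]
            refine Ideal.mul_mono_right ?_
            have := map_le_ptIdeal p' W'.1 T' e₂ z' hz'T' P le_rfl
            rw [hβ'] at this
            exact this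
    have hmono : Ideal.map β' (Ideal.map α (𝓐.ideal ⟨W, hW⟩)) ⊔ Ideal.map α' (𝓚.ideal ⟨T, hT⟩) ≤
        Ideal.span {α' (β a)} * Q ⊔ (𝓚.ideal ⟨T, hT⟩).map α' := sup_le_sup_right hkey _
    exact hmono h4
  obtain ⟨m, hm, k', hk', hsum⟩ := Submodule.mem_sup.mp h3
  obtain ⟨j, hjQ, hj⟩ := Ideal.mem_span_singleton_mul.mp hm
  have h6 : β' t * (1 - j) = k' := by
    rw [mul_sub, mul_one, hj, ← hsum]
    ring
  have h7 : z' ∈ Z'.basicOpen (1 - j) := by
    by_contra h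
    have h1j : (1 - j) ∈ Q := (mem_ptIdeal hz'T' _).mpr h
    have h1Q : (1 : Γ(Z', T')) ∈ Q := by
      have := Q.add_mem h1j hjQ
      rwa [sub_add_cancel] at this
    exact (Ideal.IsPrime.ne_top inferInstance) ((Ideal.eq_top_iff_one Q).mpr h1Q)
  obtain ⟨w, hwj, hwB⟩ := mem_closure_iff.mp hz'B _ (Z'.basicOpen (1 - j)).2 h7
  have hwT' : w ∈ T' := Z'.basicOpen_le _ hwj
  have h8 : k' ∈ ptIdeal Z' T' w hwT' := by
    have := map_le_ptIdeal π' T T' e₁ w hwT' _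
      ((ideal_le_ptIdeal_iff 𝓚 ⟨T, hT⟩ (π' w) (e₁ hwT')).mpr (hB₁ w hwB))
    rw [hα'] at this
    exact this hk'
  rw [← h6] at h8
  rcases Ideal.IsPrime.mem_or_mem inferInstance h8 with h9 | h9
  · have h10 : t ∈ ptIdeal X' W'.1 (p' w) (e₂ hwT') := by
      rw [← comap_ptIdeal p' W'.1 T' e₂ w hwT', hβ']
      exact h9
    refine gen_not_mem_ptIdeal π 𝔞 ⟨W, hW⟩ W'.1 e t ?_ (p' w) (e₂ hwT') ?_ h10
    · rw [hα]
      exact hgen.le
    · rw [hpt]
      exact hB₂ w hwB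
  · exact (mem_ptIdeal hwT' _).mp h9 hwj

end Groth.Agent.Lib.helper16.BlowSep
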