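import Groth.Agent.Lib.Helper16.Blow2Reg4
import Groth.Agent.Lib.Helper16.Blow2Chart
import Groth.Agent.Lib.Helper16.BlowSep
import Groth.Agent.Lib.Helper17.RegGeneriz

/-!
# The blow-up of a regular local ring of dimension two at its closed point is regular (helper16)
-/

set_option autoImplicit false
universe u
open CategoryTheory CategoryTheory.Limits AlgebraicGeometry TopologicalSpace Opposite
open HomogeneousLocalization IsLocalRing

namespace Groth.Agent.Lib.helper16.ReesBlowup

open Groth.Agent.Lib.helper16.BlowSep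

section general

variable {A : Type u} [CommRing A]

theorem ringOf_mem_ptIdeal_iff {Y : Scheme.{u}} (q : Y ⟶ Spec (CommRingCat.of A)) (V : Y.Opens)
    (p : Y) (hp : p ∈ V) (a : A) :
    ringOf q V a ∈ ptIdeal Y V p hp ↔ a ∈ (q p).asIdeal := by
  have h1 := comap_ptIdeal q ⊤ V le_top p hp
  have h2 : ringOf q V a = (q.appLE ⊤ V le_top).hom ((Scheme.ΓSpecIso (CommRingCat.of A)).inv.hom a) := rfl
  rw [h2, ← Ideal.mem_comap, h1, mem_ptIdeal, basicOpen_eq_of_affine]
  exact not_not

theorem primeIdealOf_asIdeal_eq_ptIdeal {Y : Scheme.{u}} {V : Y.Opens} (hV : IsAffineOpen V)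
    (p : Y) (hp : p ∈ V) : (hV.primeIdealOf ⟨p, hp⟩).asIdeal = ptIdeal Y V p hp := by
  rw [hV.primeIdealOf_eq_map_closedPoint]
  rfl

theorem isRegularLocalRing_atPrime_of_ringEquiv {R S : Type u} [CommRing R] [CommRing S]
    (e : R ≃+* S) (𝔮' : Ideal S) [𝔮'.IsPrime]
    (h : IsRegularLocalRing (Localization.AtPrime (𝔮'.comap e))) :
    IsRegularLocalRing (Localization.AtPrime 𝔮') :=
  IsRegularLocalRing.of_ringEquiv (IsLocalization.ringEquivOfRingEquiv
    (Localization.AtPrime (𝔮'.comap e)) (Localization.AtPrime 𝔮') e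
    (e.map_primeCompl_comap_eq 𝔮'))

end general

section regular

variable (A : Type u) [CommRing A] [IsRegularLocalRing A]

/-- regularity of the blow-up at a point of the chart `D₊(xX)` over the closed point. -/
theorem isRegularLocalRing_stalk_bl_of_chart (x y : A) (hxy : maximalIdeal A = Ideal.span {x, y})
    (h2 : (maximalIdeal A).spanFinrank = 2) (hx : x ∈ maximalIdeal A)
    (p : Bl (maximalIdeal A)) (hp : p ∈ chart (maximalIdeal A) x hx)
    (hcl : (bl (maximalIdeal A)) p = closedPoint A) :
    IsRegularLocalRing ((Bl (maximalIdeal A)).presheaf.stalk p) := by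
  have hU := isAffineOpen_chart (maximalIdeal A) x hx
  letI : Algebra Γ(Bl (maximalIdeal A), chart (maximalIdeal A) x hx)
      ((Bl (maximalIdeal A)).presheaf.stalk p) :=
    TopCat.Presheaf.algebra_section_stalk (Bl (maximalIdeal A)).presheaf ⟨p, hp⟩
  haveI := hU.isLocalization_stalk ⟨p, hp⟩
  haveI := isIso_awayToSection (maximalIdeal A) x hx
  have hbij : Function.Bijective (Proj.awayToSection (Rees.deg (reesAlgebra (maximalIdeal A)))
      (F (maximalIdeal A) x hx)).hom :=
    (ConcreteCategory.isIso_iff_bijective _).mp inferInstance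
  have hmem : (Proj.awayToSection (Rees.deg (reesAlgebra (maximalIdeal A)))
      (F (maximalIdeal A) x hx)).hom (toAway (maximalIdeal A) x hx x) ∈
      (hU.primeIdealOf ⟨p, hp⟩).asIdeal := by
    rw [primeIdealOf_asIdeal_eq_ptIdeal hU p hp]
    have h3 : (Proj.awayToSection (Rees.deg (reesAlgebra (maximalIdeal A)))
        (F (maximalIdeal A) x hx)).hom (toAway (maximalIdeal A) x hx x) =
        ringOf (bl (maximalIdeal A)) (chart (maximalIdeal A) x hx) x := by
      rw [ringOf_bl_chart]
      rfl
    rw [h3, ringOf_mem_ptIdeal_iff, hcl]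
    exact hx
  have hreg' : IsRegularLocalRing (Localization.AtPrime (hU.primeIdealOf ⟨p, hp⟩).asIdeal) :=
    isRegularLocalRing_of_bijective_away A x y hxy h2 hx _ hbij _ hmem
  exact IsRegularLocalRing.of_ringEquiv (IsLocalization.algEquiv
    (hU.primeIdealOf ⟨p, hp⟩).asIdeal.primeCompl
    (Localization.AtPrime (hU.primeIdealOf ⟨p, hp⟩).asIdeal)
    ((Bl (maximalIdeal A)).presheaf.stalk p)).toRingEquiv

/-- regularity of the blow-up at every point over the closed point. -/
theorem isRegularLocalRing_stalk_bl (x y : A) (hxy : maximalIdeal A = Ideal.span {x, y})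
    (h2 : (maximalIdeal A).spanFinrank = 2) (p : Bl (maximalIdeal A))
    (hcl : (bl (maximalIdeal A)) p = closedPoint A) :
    IsRegularLocalRing ((Bl (maximalIdeal A)).presheaf.stalk p) := by
  have hx : x ∈ maximalIdeal A := hxy ▸ Ideal.subset_span (by simp)
  have hy : y ∈ maximalIdeal A := hxy ▸ Ideal.subset_span (by simp)
  have hp : p ∈ chart (maximalIdeal A) x hx ⊔ chart (maximalIdeal A) y hy := by
    rw [chart_sup_eq_top (maximalIdeal A) x y hx hy hxy]; trivial
  rcases Opens.mem_sup.mp hp with hp | hp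
  · exact isRegularLocalRing_stalk_bl_of_chart A x y hxy h2 hx p hp hcl
  · exact isRegularLocalRing_stalk_bl_of_chart A y x (by rw [hxy, Set.pair_comm]) h2 hy p hp hcl

/-- **all local rings of a blow-up of a regular local ring of dimension two at its closed point are
regular.** -/
theorem isRegularLocalRing_stalk_of_isBlowUp (x y : A) (hxy : maximalIdeal A = Ideal.span {x, y})
    (h2 : (maximalIdeal A).spanFinrank = 2) {X : Scheme.{u}} (b : X ⟶ Spec (CommRingCat.of A))
    (hb : BlowUp.IsBlowUp b (idl (maximalIdeal A))) (p : X) :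
    IsRegularLocalRing (X.presheaf.stalk p) := by
  obtain ⟨φ, hφiso, hφ⟩ := exists_iso_bl (maximalIdeal A) b hb
  have hfg : (maximalIdeal A).FG := (isNoetherianRing_iff_ideal_fg A).mp inferInstance _
  haveI := Groth.Agent.Lib.helper16.BlowUpProper.isProper_bl (maximalIdeal A) hfg
  haveI : IsProper b := by rw [← hφ]; infer_instance
  obtain ⟨p₀, hsp, hp₀⟩ :=
    Groth.Agent.Lib.helper17.RegGeneriz.exists_specializes_closedFibre b b.isClosedMap p
  refine Groth.Agent.Lib.helper17.RegGeneriz.isRegularLocalRing_stalk_of_specializes hsp ?_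
  have h1 := isRegularLocalRing_stalk_bl A x y hxy h2 (φ p₀)
    (by rw [← Scheme.Hom.comp_apply, hφ]; exact hp₀)
  exact IsRegularLocalRing.of_ringEquiv (asIso (φ.stalkMap p₀)).commRingCatIsoToRingEquiv

end regular

end Groth.Agent.Lib.helper16.ReesBlowup
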