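import Groth.Agent.Lib.Helper16.Blow2Mult1
import Groth.Agent.Lib.Helper16.Blow2Reg5
import Groth.Agent.Lib.Helper21.CartSum2

/-!
# Multiplicity of the exceptional divisor in the pull-back of a divisor (helper16)

For `A` regular local of dimension two, `b : X → Spec A` a blow-up of the closed point and
`f ∈ 𝔪^μ \ 𝔪^(μ+1)`:  `f·O_X ≤ E^μ`, `f·O_X ≰ E^(μ+1)` and `f·O_X = I' · E^μ` with `I'` effective
Cartier whose support does not contain `E`.

* `exists_chart_hom`: the chart ring of `Bl I` transported along an isomorphism `X ≅ Bl I`.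
* `chart_facts`: on the chart `V` of `X`: `𝔪·O(V) = (x)` is prime, nonzero elements of `A` are
  nonzerodivisors, and `f ∈ xⁿ O(V) → f ∈ 𝔪ⁿ`.
* `pullback_mult`: the main theorem.
-/

set_option autoImplicit false
universe u
open CategoryTheory CategoryTheory.Limits AlgebraicGeometry TopologicalSpace Opposite
open HomogeneousLocalization IsLocalRing

namespace Groth.Agent.Lib.helper16.ReesBlowup

/-- shortcut instance (instance search through `reesAlgebra` is fragile). -/
noncomputable local instance awayCommRing3 {A : Type u} [CommRing A] (I : Ideal A) (f : A) (hf : f ∈ I) :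
    CommRing (Away (Rees.deg (reesAlgebra I)) (F I f hf)) := inferInstance

section general

variable {A : Type u} [CommRing A] (I : Ideal A)

theorem exists_chart_hom {X : Scheme.{u}} (φ : X ⟶ Bl I) [IsIso φ] (x : A) (hx : x ∈ I) :
    ∃ σ : Away (Rees.deg (reesAlgebra I)) (F I x hx) →+* Γ(X, φ ⁻¹ᵁ chart I x hx),
      Function.Bijective σ ∧
        ∀ a, σ (toAway I x hx a) = ringOf (φ ≫ bl I) (φ ⁻¹ᵁ chart I x hx) a := by
  haveI := isIso_awayToSection I x hx
  refine ⟨(φ.app (chart I x hx)).hom.comp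
    (Proj.awayToSection (Rees.deg (reesAlgebra I)) (F I x hx)).hom, ?_, ?_⟩
  · have h1 : Function.Bijective (Proj.awayToSection (Rees.deg (reesAlgebra I)) (F I x hx)).hom :=
      (ConcreteCategory.isIso_iff_bijective _).mp inferInstance
    have h2 : Function.Bijective (φ.app (chart I x hx)).hom :=
      (ConcreteCategory.isIso_iff_bijective _).mp inferInstance
    exact h2.comp h1
  · intro a
    rw [ringOf_comp φ (bl I) (chart I x hx) (φ ⁻¹ᵁ chart I x hx) le_rfl, ringOf_bl_chart,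
      Scheme.Hom.appLE_eq_app]
    rfl

end general

section regular

variable (A : Type u) [CommRing A] [IsRegularLocalRing A]

theorem chart_facts (x y : A) (hxy : maximalIdeal A = Ideal.span {x, y})
    (h2 : (maximalIdeal A).spanFinrank = 2) (hx : x ∈ maximalIdeal A)
    {X : Scheme.{u}} (φ : X ⟶ Bl (maximalIdeal A)) [IsIso φ] :
    (maximalIdeal A).map (ringOf (φ ≫ bl (maximalIdeal A)) (φ ⁻¹ᵁ chart (maximalIdeal A) x hx)) =
        Ideal.span {ringOf (φ ≫ bl (maximalIdeal A)) (φ ⁻¹ᵁ chart (maximalIdeal A) x hx) x} ∧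
      (Ideal.span {ringOf (φ ≫ bl (maximalIdeal A))
        (φ ⁻¹ᵁ chart (maximalIdeal A) x hx) x}).IsPrime ∧
      (∀ g : A, g ≠ 0 → ringOf (φ ≫ bl (maximalIdeal A)) (φ ⁻¹ᵁ chart (maximalIdeal A) x hx) g ∈
        nonZeroDivisors Γ(X, φ ⁻¹ᵁ chart (maximalIdeal A) x hx)) ∧
      (∀ (g : A) (n : ℕ), ringOf (φ ≫ bl (maximalIdeal A)) (φ ⁻¹ᵁ chart (maximalIdeal A) x hx) g ∈
        Ideal.span {ringOf (φ ≫ bl (maximalIdeal A)) (φ ⁻¹ᵁ chart (maximalIdeal A) x hx) x} ^ n →
        g ∈ maximalIdeal A ^ n) := by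
  haveI : IsDomain A := Groth.Agent.Lib.helper15.isDomain_of_isRegularLocalRing A
  obtain ⟨hx0, hprime, hynot⟩ := regular_pair_facts A x y hxy h2
  haveI := isDomain_away (maximalIdeal A) x hx hx0
  obtain ⟨σ, hσ, hσρ⟩ := exists_chart_hom (maximalIdeal A) φ x hx
  set ρ := ringOf (φ ≫ bl (maximalIdeal A)) (φ ⁻¹ᵁ chart (maximalIdeal A) x hx) with hρ
  have hρσ : ρ = σ.comp (toAway (maximalIdeal A) x hx) := by
    ext a; exact (hσρ a).symm
  let e := RingEquiv.ofBijective σ hσ
  have he : ∀ z, e z = σ z := fun _ => rfl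
  have hspan : ∀ n : ℕ, Ideal.span {ρ x} ^ n =
      Ideal.map σ (Ideal.span {toAway (maximalIdeal A) x hx x ^ n}) := by
    intro n
    rw [Ideal.span_singleton_pow, Ideal.map_span, Set.image_singleton, map_pow, hσρ]
  refine ⟨?_, ?_, ?_, ?_⟩
  · rw [hρσ, ← Ideal.map_map, map_toAway_eq_span, Ideal.map_span, Set.image_singleton]
    rfl
  · have h1 := isPrime_span_toAway x y (maximalIdeal A) hxy inferInstance hx hx0 hprime hynot
    have h3 : Ideal.span {ρ x} = Ideal.map e (Ideal.span {toAway (maximalIdeal A) x hx x}) := by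
      rw [Ideal.map_span, Set.image_singleton, he, hσρ]
    rw [h3]
    exact Ideal.map_isPrime_of_equiv e
  · intro g hg
    rw [← hσρ g, ← he]
    apply map_equiv_mem_nonZeroDivisors e
    apply mem_nonZeroDivisors_of_ne_zero
    intro h
    exact hg (toAway_injective (maximalIdeal A) x hx hx0 (h.trans (map_zero _).symm))
  · intro g n hg
    rw [hspan n, ← hσρ g] at hg
    obtain ⟨z, hz, hzg⟩ := (Ideal.mem_map_iff_of_surjective σ hσ.2).mp hg
    rw [hσ.1 hzg] at hz
    exact mem_pow_of_toAway_mem_span x y (maximalIdeal A) hxy hx hx0 hprime hynot n g hz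

open Scheme.IdealSheafData in
/-- **multiplicity of the exceptional divisor in the pull-back of `V(f)`.** -/
theorem pullback_mult (x y : A) (hxy : maximalIdeal A = Ideal.span {x, y})
    (h2 : (maximalIdeal A).spanFinrank = 2) {X : Scheme.{u}} (b : X ⟶ Spec (CommRingCat.of A))
    (hb : BlowUp.IsBlowUp b (idl (maximalIdeal A)))
    (f : A) (μ : ℕ) (hf : f ∈ maximalIdeal A ^ μ) (hf' : f ∉ maximalIdeal A ^ (μ + 1)) :
    (idl (Ideal.span {f})).comap b ≤ ((idl (maximalIdeal A)).comap b) ^ μ ∧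
    ¬ (idl (Ideal.span {f})).comap b ≤ ((idl (maximalIdeal A)).comap b) ^ (μ + 1) ∧
    ∃ I' : X.IdealSheafData, BlowUp.IsEffCartierIdeal I' ∧
      (idl (Ideal.span {f})).comap b = I' * ((idl (maximalIdeal A)).comap b) ^ μ ∧
      ¬ ((((idl (maximalIdeal A)).comap b).support : Set X) ⊆ (I'.support : Set X)) := by
  obtain ⟨φ, hφiso, hφ⟩ := exists_iso_bl (maximalIdeal A) b hb
  subst hφ
  have hx : x ∈ maximalIdeal A := hxy ▸ Ideal.subset_span (by simp)
  have hy : y ∈ maximalIdeal A := hxy ▸ Ideal.subset_span (by simp)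
  have hyx : maximalIdeal A = Ideal.span {y, x} := by rw [hxy, Set.pair_comm]
  obtain ⟨hx0, -, -⟩ := regular_pair_facts A x y hxy h2
  obtain ⟨hy0, -, -⟩ := regular_pair_facts A y x hyx h2
  have hf0 : f ≠ 0 := by
    rintro rfl
    exact hf' (Ideal.zero_mem _)
  -- the two charts
  let Vx : X.affineOpens := ⟨φ ⁻¹ᵁ chart (maximalIdeal A) x hx,
    (isAffineOpen_chart (maximalIdeal A) x hx).preimage_of_isIso φ⟩
  let Vy : X.affineOpens := ⟨φ ⁻¹ᵁ chart (maximalIdeal A) y hy,
    (isAffineOpen_chart (maximalIdeal A) y hy).preimage_of_isIso φ⟩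
  have hcov : ∀ p : X, p ∈ Vx.1 ∨ p ∈ Vy.1 := by
    intro p
    have hp : φ p ∈ chart (maximalIdeal A) x hx ⊔ chart (maximalIdeal A) y hy := by
      rw [chart_sup_eq_top (maximalIdeal A) x y hx hy hxy]; trivial
    exact Opens.mem_sup.mp hp
  obtain ⟨hEx, hPx, hNx, hMx⟩ := chart_facts A x y hxy h2 hx φ
  obtain ⟨hEy, hPy, hNy, hMy⟩ := chart_facts A y x hyx h2 hy φ
  have hJ : ∀ V : X.affineOpens, ((idl (Ideal.span {f})).comap (φ ≫ bl (maximalIdeal A))).ideal V =
      Ideal.span {ringOf (φ ≫ bl (maximalIdeal A)) V.1 f} := by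
    intro V
    rw [ideal_comap_idl, Ideal.map_span, Set.image_singleton]
  have hE : ∀ V : X.affineOpens, ((idl (maximalIdeal A)).comap (φ ≫ bl (maximalIdeal A))).ideal V =
      (maximalIdeal A).map (ringOf (φ ≫ bl (maximalIdeal A)) V.1) := fun V => ideal_comap_idl _ _ V
  have hEn : ∀ (V : X.affineOpens) (n : ℕ),
      (((idl (maximalIdeal A)).comap (φ ≫ bl (maximalIdeal A))) ^ n).ideal V =
      (maximalIdeal A).map (ringOf (φ ≫ bl (maximalIdeal A)) V.1) ^ n := by
    intro V n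
    rw [ideal_pow, Pi.pow_apply, hE]
  -- (a)
  have ha : (idl (Ideal.span {f})).comap (φ ≫ bl (maximalIdeal A)) ≤
      ((idl (maximalIdeal A)).comap (φ ≫ bl (maximalIdeal A))) ^ μ := by
    intro V
    rw [hJ, hEn, ← Ideal.map_pow, Ideal.span_le, Set.singleton_subset_iff]
    exact Ideal.mem_map_of_mem _ hf
  -- key: on the chart `Vx`
  have key : ¬ ((idl (Ideal.span {f})).comap (φ ≫ bl (maximalIdeal A))).ideal Vx ≤
      (((idl (maximalIdeal A)).comap (φ ≫ bl (maximalIdeal A))) ^ (μ + 1)).ideal Vx := by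
    intro hle
    rw [hJ, hEn, Ideal.span_le, Set.singleton_subset_iff] at hle
    exact hf' (hMx f (μ + 1) (by rw [← hEx]; exact hle))
  refine ⟨ha, fun hle => key (hle Vx), ?_⟩
  -- effective Cartier
  have hJC : BlowUp.IsEffCartierIdeal ((idl (Ideal.span {f})).comap (φ ≫ bl (maximalIdeal A))) := by
    intro p
    rcases hcov p with hp | hp
    · exact ⟨Vx, hp, _, hNx f hf0, hJ Vx⟩
    · exact ⟨Vy, hp, _, hNy f hf0, hJ Vy⟩
  have hEC : BlowUp.IsEffCartierIdeal
      (((idl (maximalIdeal A)).comap (φ ≫ bl (maximalIdeal A))) ^ μ) := by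
    intro p
    rcases hcov p with hp | hp
    · refine ⟨Vx, hp, _, pow_mem (hNx x hx0) μ, ?_⟩
      rw [hEn, hEx, Ideal.span_singleton_pow]
    · refine ⟨Vy, hp, _, pow_mem (hNy y hy0) μ, ?_⟩
      rw [hEn, hEy, Ideal.span_singleton_pow]
  -- locally Noetherian
  have hfg : (maximalIdeal A).FG := (isNoetherianRing_iff_ideal_fg A).mp inferInstance _
  haveI := Groth.Agent.Lib.helper16.BlowUpProper.isProper_bl (maximalIdeal A) hfg
  haveI : IsProper (φ ≫ bl (maximalIdeal A)) := inferInstance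
  haveI : IsLocallyNoetherian X :=
    LocallyOfFiniteType.isLocallyNoetherian (φ ≫ bl (maximalIdeal A))
  obtain ⟨I', hI', hJI'⟩ := Groth.Agent.Lib.helper21.CartSum.exists_mul_eq_of_le _ _ hJC hEC ha
  refine ⟨I', hI', by rw [hJI', mul_comm], ?_⟩
  -- the generic point of the exceptional divisor on `Vx`
  intro hsub
  let q : PrimeSpectrum Γ(X, Vx.1) := ⟨_, hPx⟩
  have hq1 : Vx.2.fromSpec q ∈ ((idl (maximalIdeal A)).comap (φ ≫ bl (maximalIdeal A))).support := by
    rw [Groth.Agent.Lib.helper21.CartSum.fromSpec_mem_support_iff, hE, hEx]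
  have hq2 := hsub hq1
  rw [SetLike.mem_coe, Groth.Agent.Lib.helper21.CartSum.fromSpec_mem_support_iff] at hq2
  apply key
  rw [hJI', ideal_mul, Pi.mul_apply, hEn Vx μ, hEn Vx (μ + 1), pow_succ]
  refine Ideal.mul_mono_right (I := _ ^ μ) ?_
  rw [hEx]
  exact hq2

end regular

end Groth.Agent.Lib.helper16.ReesBlowup
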