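import Mathlib

/-!
# The affine blow-up algebra `A[y/x]` as `A[t]/(xt - y)` (helper16)

* `sum_mem_span_of_sum_eq_zero`, `mem_span_of_eval₂_eq_zero`: if `x` is a nonzerodivisor of `A`,
  `y` is a nonzerodivisor modulo `x`, `α : A → B` is injective and `α x * τ = α y`, then the kernel
  of `A[t] → B`, `t ↦ τ` is generated by `x t - y`.
-/

set_option autoImplicit false
universe u
open Polynomial

namespace Groth.Agent.Lib.helper16.Blow2Reg

variable {A : Type*} [CommRing A] (x y : A)

/-- the key induction: a homogeneous relation `∑ cᵢ x^(d-i) y^i = 0` forces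
`∑ cᵢ tⁱ ∈ (x t - y)`. -/
theorem sum_mem_span_of_sum_eq_zero (hx : x ∈ nonZeroDivisors A)
    (hy : ∀ (c : A) (n : ℕ), c * y ^ n ∈ Ideal.span {x} → c ∈ Ideal.span {x}) :
    ∀ (d : ℕ) (c : ℕ → A), ∑ i ∈ Finset.range (d + 1), c i * x ^ (d - i) * y ^ i = 0 →
      ∑ i ∈ Finset.range (d + 1), C (c i) * X ^ i ∈ Ideal.span {C x * X - C y} := by
  intro d
  induction d with
  | zero =>
    intro c hc
    simp only [zero_add, Finset.range_one, Finset.sum_singleton, pow_zero, mul_one, Nat.sub_zero] at hc ⊢
    rw [hc, map_zero]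
    exact zero_mem _
  | succ d ih =>
    intro c hc
    rw [Finset.sum_range_succ] at hc
    have h1 : c (d + 1) * y ^ (d + 1) ∈ Ideal.span {x} := by
      have : c (d + 1) * y ^ (d + 1) =
          -(∑ i ∈ Finset.range (d + 1), c i * x ^ (d + 1 - i) * y ^ i) := by
        rw [Nat.sub_self, pow_zero, mul_one] at hc
        exact eq_neg_of_add_eq_zero_right hc
      rw [this]
      refine neg_mem (Ideal.sum_mem _ fun i hi => ?_)
      have hi' : i ≤ d := Nat.lt_succ_iff.mp (Finset.mem_range.mp hi)
      rw [show d + 1 - i = (d - i) + 1 by omega, pow_succ]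
      rw [Ideal.mem_span_singleton']
      exact ⟨c i * x ^ (d - i) * y ^ i, by ring⟩
    obtain ⟨c', hc'⟩ := Ideal.mem_span_singleton'.mp (hy _ _ h1)
    -- new coefficients
    let c₁ : ℕ → A := Function.update c d (c d + c' * y)
    have hc₁ : ∑ i ∈ Finset.range (d + 1), c₁ i * x ^ (d - i) * y ^ i = 0 := by
      apply hx.2
      rw [Finset.sum_mul]
      rw [Nat.sub_self, pow_zero, mul_one] at hc
      rw [← hc]
      rw [Finset.sum_range_succ, Finset.sum_range_succ]
      have e1 : ∀ i ∈ Finset.range d, c₁ i * x ^ (d - i) * y ^ i * x =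
          c i * x ^ (d + 1 - i) * y ^ i := by
        intro i hi
        have hi' : i < d := Finset.mem_range.mp hi
        simp only [c₁, Function.update_of_ne (Nat.ne_of_lt hi')]
        rw [show d + 1 - i = (d - i) + 1 by omega, pow_succ]
        ring
      rw [Finset.sum_congr rfl e1]
      simp only [c₁, Function.update_self, Nat.sub_self, pow_zero, mul_one]
      rw [show d + 1 - d = 1 by omega, pow_one, ← hc']
      ring
    have h2 := ih c₁ hc₁
    have h3 : ∑ i ∈ Finset.range (d + 1 + 1), C (c i) * X ^ i =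
        ∑ i ∈ Finset.range (d + 1), C (c₁ i) * X ^ i + C c' * X ^ d * (C x * X - C y) := by
      rw [Finset.sum_range_succ, Finset.sum_range_succ (fun i => C (c₁ i) * X ^ i),
        Finset.sum_range_succ (fun i => C (c i) * X ^ i)]
      have e1 : ∀ i ∈ Finset.range d, C (c₁ i) * X ^ i = C (c i) * (X : A[X]) ^ i := by
        intro i hi
        have hi' : i < d := Finset.mem_range.mp hi
        simp only [c₁, Function.update_of_ne (Nat.ne_of_lt hi')]
      rw [Finset.sum_congr rfl e1]
      simp only [c₁, Function.update_self, ← hc', map_add, map_mul]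
      ring
    rw [h3]
    exact add_mem h2 (Ideal.mul_mem_left _ _ (Ideal.mem_span_singleton_self _))

variable {B : Type*} [CommRing B] (α : A →+* B) (τ : B)

/-- the kernel of `A[t] → B`, `t ↦ τ` with `α x * τ = α y` is generated by `x t - y`. -/
theorem mem_span_of_eval₂_eq_zero (hx : x ∈ nonZeroDivisors A)
    (hy : ∀ (c : A) (n : ℕ), c * y ^ n ∈ Ideal.span {x} → c ∈ Ideal.span {x})
    (hα : Function.Injective α) (hτ : α x * τ = α y) (F : A[X]) (hF : eval₂ α τ F = 0) :
    F ∈ Ideal.span {C x * X - C y} := by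
  have h1 : α (∑ i ∈ Finset.range (F.natDegree + 1), F.coeff i * x ^ (F.natDegree - i) * y ^ i) = 0 := by
    have h2 : α x ^ F.natDegree * eval₂ α τ F = 0 := by rw [hF, mul_zero]
    rw [eval₂_eq_sum_range, Finset.mul_sum] at h2
    rw [map_sum, ← h2]
    refine Finset.sum_congr rfl fun i hi => ?_
    have hi' : i ≤ F.natDegree := Nat.lt_succ_iff.mp (Finset.mem_range.mp hi)
    rw [map_mul, map_mul, map_pow, map_pow, ← hτ, mul_pow]
    conv_rhs => rw [← Nat.sub_add_cancel hi', pow_add]
    ring
  have h3 := sum_mem_span_of_sum_eq_zero x y hx hy F.natDegree F.coeff (hα (h1.trans (map_zero α).symm))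
  rwa [← as_sum_range_C_mul_X_pow] at h3

theorem ker_eval₂RingHom_eq_span (hx : x ∈ nonZeroDivisors A)
    (hy : ∀ (c : A) (n : ℕ), c * y ^ n ∈ Ideal.span {x} → c ∈ Ideal.span {x})
    (hα : Function.Injective α) (hτ : α x * τ = α y) :
    RingHom.ker (eval₂RingHom α τ) = Ideal.span {C x * X - C y} := by
  apply le_antisymm
  · intro F hF
    exact mem_span_of_eval₂_eq_zero x y α τ hx hy hα hτ F hF
  · rw [Ideal.span_le, Set.singleton_subset_iff]
    show eval₂RingHom α τ (C x * X - C y) = 0
    simp [hτ]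

end Groth.Agent.Lib.helper16.Blow2Reg
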