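import Mathlib

/-!
# Regularity of `A[t]/(xt - y)` along `x = 0` (helper16)

`isRegularLocalRing_localization_of_mem`: `A` Noetherian local with `𝔪 = (x, y)`, `B` a domain with
a surjection `π : A[t] → B` with kernel `(x t - y)` and `π x ≠ 0`. Then `B_𝔮` is a regular local ring
for every prime `𝔮` of `B` containing `π x`.
-/

set_option autoImplicit false
universe u
open Polynomial IsLocalRing

namespace Groth.Agent.Lib.helper16.Blow2Reg

variable {A : Type u} [CommRing A] [IsLocalRing A] [IsNoetherianRing A] (x y : A)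
  (hm : maximalIdeal A = Ideal.span {x, y})
  {B : Type u} [CommRing B] [IsDomain B] (π : A[X] →+* B) (hπ : Function.Surjective π)
  (hker : RingHom.ker π = Ideal.span {C x * X - C y})

include hm hπ hker

theorem isRegularLocalRing_localization_of_mem (hx0 : π (C x) ≠ 0)
    (𝔮 : Ideal B) [𝔮.IsPrime] (hx : π (C x) ∈ 𝔮) : IsRegularLocalRing (Localization.AtPrime 𝔮) := by
  classical
  haveI : IsNoetherianRing B := isNoetherianRing_of_surjective A[X] B π hπ
  have hxm : x ∈ maximalIdeal A := hm ▸ Ideal.subset_span (by simp)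
  have hym : y ∈ maximalIdeal A := hm ▸ Ideal.subset_span (by simp)
  set M : Ideal A[X] := (maximalIdeal A).map C with hM
  haveI : M.IsPrime := Ideal.isPrime_map_C_of_isPrime
  have hyx : π (C y) = π (C x) * π X := by
    have h : C x * X - C y ∈ RingHom.ker π := hker ▸ Ideal.mem_span_singleton_self _
    rw [RingHom.mem_ker, map_sub, map_mul, sub_eq_zero] at h
    exact h.symm
  have hkM : RingHom.ker π ≤ M := by
    rw [hker, Ideal.span_le, Set.singleton_subset_iff]
    exact sub_mem (Ideal.mul_mem_right _ _ (Ideal.mem_map_of_mem _ hxm)) (Ideal.mem_map_of_mem _ hym)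
  set Q₀ : Ideal B := M.map π with hQ₀def
  haveI hQ₀ : Q₀.IsPrime := Ideal.map_isPrime_of_surjective hπ hkM
  have hQ₀eq : Q₀ = Ideal.span {π (C x)} := by
    rw [hQ₀def, hM, hm, Ideal.map_span, Ideal.map_span, Set.image_pair, Set.image_pair]
    apply le_antisymm
    · rw [Ideal.span_le]
      rintro _ (rfl | rfl)
      · exact Ideal.mem_span_singleton_self _
      · rw [hyx]; exact Ideal.mul_mem_right _ _ (Ideal.mem_span_singleton_self _)
    · exact Ideal.span_mono (by simp)
  have hQ₀le : Q₀ ≤ 𝔮 := by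
    rw [hQ₀eq, Ideal.span_le, Set.singleton_subset_iff]; exact hx
  have hbot : (⊥ : Ideal B) < Q₀ := by
    rw [bot_lt_iff_ne_bot]
    intro h
    apply hx0
    have : π (C x) ∈ Q₀ := hQ₀eq ▸ Ideal.mem_span_singleton_self _
    rw [h] at this
    exact this
  have hht₀ : 1 ≤ Q₀.height := by
    have h := Ideal.height_add_one_le_of_lt_of_isPrime hbot
    rwa [Ideal.height_bot, zero_add] at h
  apply IsRegularLocalRing.of_spanFinrank_maximalIdeal_le
  rw [IsLocalization.AtPrime.ringKrullDim_eq_height 𝔮 (Localization.AtPrime 𝔮),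
    ← Localization.AtPrime.map_eq_maximalIdeal]
  by_cases hq : 𝔮 = Q₀
  · have h1 : 𝔮.map (algebraMap B (Localization.AtPrime 𝔮)) =
        Ideal.span {algebraMap B (Localization.AtPrime 𝔮) (π (C x))} :=
      (congrArg (Ideal.map (algebraMap B (Localization.AtPrime 𝔮))) (hq.trans hQ₀eq)).trans
        (by rw [Ideal.map_span, Set.image_singleton])
    rw [h1]
    have h2 : (Ideal.span {algebraMap B (Localization.AtPrime 𝔮) (π (C x))}).spanFinrank ≤ 1 := by
      have := Submodule.spanFinrank_span_le_ncard_of_finite (R := Localization.AtPrime 𝔮)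
        (Set.finite_singleton (algebraMap B (Localization.AtPrime 𝔮) (π (C x))))
      rwa [Set.ncard_singleton] at this
    have h3 : (1 : ℕ∞) ≤ 𝔮.height := hq ▸ hht₀
    calc ((Ideal.span {algebraMap B (Localization.AtPrime 𝔮) (π (C x))}).spanFinrank : WithBot ℕ∞)
        ≤ ((1 : ℕ) : WithBot ℕ∞) := by exact_mod_cast h2
      _ ≤ (𝔮.height : WithBot ℕ∞) := by exact_mod_cast h3
  · set P : Ideal A[X] := 𝔮.comap π with hP
    haveI : P.IsPrime := Ideal.comap_isPrime π 𝔮
    have hMP : M ≤ P := by
      rw [hP, ← Ideal.map_le_iff_le_comap]; exact hQ₀le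
    have hcomap : P.comap C = maximalIdeal A := by
      apply le_antisymm
      · exact IsLocalRing.le_maximalIdeal (Ideal.IsPrime.ne_top (Ideal.comap_isPrime C P))
      · intro a ha
        exact hMP (Ideal.mem_map_of_mem _ ha)
    have hmax : (P.comap C).IsMaximal := hcomap ▸ maximalIdeal.isMaximal A
    have hne : P ≠ (P.comap C).map C := by
      rw [hcomap]
      intro h
      apply hq
      exact (Ideal.map_comap_of_surjective π hπ 𝔮).symm.trans (congrArg (Ideal.map π) h)
    obtain ⟨f, -, hf⟩ := Polynomial.exists_monic_span_sup_map_eq A P hmax hne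
    rw [hcomap] at hf
    have hqeq : 𝔮 = Ideal.span {π (C x), π f} := by
      have h1 : 𝔮 = P.map π := by rw [hP, Ideal.map_comap_of_surjective π hπ]
      rw [h1, hf, Ideal.map_sup, ← hM, ← hQ₀def, hQ₀eq, Ideal.map_span, Set.image_singleton,
        ← Ideal.span_union]
      rfl
    have h1 : 𝔮.map (algebraMap B (Localization.AtPrime 𝔮)) =
        Ideal.span {algebraMap B (Localization.AtPrime 𝔮) (π (C x)),
          algebraMap B (Localization.AtPrime 𝔮) (π f)} :=
      (congrArg (Ideal.map (algebraMap B (Localization.AtPrime 𝔮))) hqeq).trans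
        (by rw [Ideal.map_span, Set.image_pair])
    rw [h1]
    have h2 : (Ideal.span {algebraMap B (Localization.AtPrime 𝔮) (π (C x)),
          algebraMap B (Localization.AtPrime 𝔮) (π f)}).spanFinrank ≤ 2 := by
      have hfin : ({algebraMap B (Localization.AtPrime 𝔮) (π (C x)),
          algebraMap B (Localization.AtPrime 𝔮) (π f)} : Set (Localization.AtPrime 𝔮)).Finite :=
        Set.toFinite _
      refine (Submodule.spanFinrank_span_le_ncard_of_finite hfin).trans ?_
      refine (Set.ncard_insert_le _ _).trans ?_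
      rw [Set.ncard_singleton]
    have hlt : Q₀ < 𝔮 := lt_of_le_of_ne hQ₀le (Ne.symm hq)
    have h3 : (2 : ℕ∞) ≤ 𝔮.height := by
      have h := Ideal.height_add_one_le_of_lt_of_isPrime hlt
      calc (2 : ℕ∞) = 1 + 1 := by norm_num
        _ ≤ Q₀.height + 1 := by gcongr
        _ ≤ 𝔮.height := h
    calc ((Ideal.span {algebraMap B (Localization.AtPrime 𝔮) (π (C x)),
          algebraMap B (Localization.AtPrime 𝔮) (π f)}).spanFinrank : WithBot ℕ∞)
        ≤ ((2 : ℕ) : WithBot ℕ∞) := by exact_mod_cast h2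
      _ = (((2 : ℕ∞)) : WithBot ℕ∞) := rfl
      _ ≤ (𝔮.height : WithBot ℕ∞) := WithBot.coe_le_coe.mpr h3

end Groth.Agent.Lib.helper16.Blow2Reg
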