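import Groth.Agent.Lib.Helper16.ReesBlowup
import Groth.Agent.Lib.Helper16.Blow2Reg1

/-!
# The chart ring `R_(fX)` of the blow-up of `(f, y)` is `A[t]/(f t - y)` (helper16)
-/

set_option autoImplicit false
universe u
open Polynomial HomogeneousLocalization

namespace Groth.Agent.Lib.helper16.ReesBlowup

variable {A : Type u} [CommRing A] (I : Ideal A) (f : A) (hf : f ∈ I)

/-- shortcut instance (instance search through `reesAlgebra` is fragile). -/
noncomputable local instance awayCommRing (I : Ideal A) (f : A) (hf : f ∈ I) :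
    CommRing (Away (Rees.deg (reesAlgebra I)) (F I f hf)) := inferInstance

/-- characterisation of `frac` by cancellation of the denominator. -/
lemma eq_frac_of_mul_eq (n : ℕ) (z : A) (hz : z ∈ I ^ n)
    (e : Away (Rees.deg (reesAlgebra I)) (F I f hf))
    (he : e * toAway I f hf (f ^ n) = toAway I f hf z) : e = frac I f hf n z hz := by
  have h5 : toAway I f hf (f ^ n) ∈ nonZeroDivisors (Away (Rees.deg (reesAlgebra I)) (F I f hf)) := by
    rw [map_pow]; exact pow_mem (toAway_f_mem_nonZeroDivisors I f hf) n
  exact (mul_cancel_right_mem_nonZeroDivisors h5).mp (he.trans (frac_mul_pow I f hf n z hz).symm)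

lemma toAway_injective [IsDomain A] (hf0 : f ≠ 0) : Function.Injective (toAway I f hf) := by
  rw [injective_iff_map_eq_zero]
  intro a ha
  have h1 := congrArg HomogeneousLocalization.val ha
  rw [val_toAway, val_zero, Localization.mk_eq_mk', IsLocalization.mk'_eq_zero_iff] at h1
  obtain ⟨⟨_, k, rfl⟩, hk⟩ := h1
  have h2 : f ^ k * a = 0 := by
    have := congrArg (fun p : reesAlgebra I => (p : A[X]).coeff k) hk
    simp only [F, Subalgebra.coe_mul, Subalgebra.coe_pow, coe_mon, Subalgebra.coe_algebraMap,
      Polynomial.algebraMap_eq, monomial_pow, monomial_mul_C, one_mul,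
      coeff_monomial, if_true, Subalgebra.coe_zero, coeff_zero] at this
    exact this
  rcases mul_eq_zero.mp h2 with h | h
  · exact absurd (eq_zero_of_pow_eq_zero h) hf0
  · exact h

lemma F_ne_zero (hf0 : f ≠ 0) : F I f hf ≠ 0 := by
  intro h
  exact hf0 ((mon_eq_zero_iff I 1 f _).mp h)

theorem isDomain_away [IsDomain A] (hf0 : f ≠ 0) :
    IsDomain (Away (Rees.deg (reesAlgebra I)) (F I f hf)) := by
  haveI : IsDomain (reesAlgebra I) := inferInstance
  have hle : Submonoid.powers (F I f hf) ≤ nonZeroDivisors (reesAlgebra I) := by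
    rw [Submonoid.powers_le]
    exact mem_nonZeroDivisors_of_ne_zero (F_ne_zero I f hf hf0)
  haveI : IsDomain (Localization (Submonoid.powers (F I f hf))) :=
    IsLocalization.isDomain_localization hle
  exact Function.Injective.isDomain
    (algebraMap (Away (Rees.deg (reesAlgebra I)) (F I f hf)) (Localization (Submonoid.powers (F I f hf))))
    (fun a b hab => HomogeneousLocalization.val_injective _ hab)

section pres

variable (y : A) (hy : y ∈ I)

/-- the fraction `yX / fX`. -/
noncomputable def tau : Away (Rees.deg (reesAlgebra I)) (F I f hf) :=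
  frac I f hf 1 y (by simpa using hy)

lemma toAway_f_mul_tau : toAway I f hf f * tau I f hf y hy = toAway I f hf y := by
  have := frac_mul_pow I f hf 1 y (by simpa using hy)
  rw [pow_one f] at this
  rw [mul_comm]
  exact this

/-- the presentation `A[t] → R_(fX)`, `t ↦ yX / fX`. -/
noncomputable def piA : A[X] →+* Away (Rees.deg (reesAlgebra I)) (F I f hf) :=
  eval₂RingHom (toAway I f hf) (tau I f hf y hy)

@[simp] lemma piA_C (a : A) : piA I f hf y hy (C a) = toAway I f hf a := by simp [piA]

@[simp] lemma piA_X : piA I f hf y hy X = tau I f hf y hy := by simp [piA]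

lemma frac_one_mem_range (h : I = Ideal.span {f, y}) (a : A) (ha : a ∈ I ^ 1) :
    frac I f hf 1 a ha ∈ (piA I f hf y hy).range := by
  have ha' : a ∈ Ideal.span {f, y} := h ▸ (by simpa using ha)
  obtain ⟨c, d, hcd⟩ := Ideal.mem_span_pair.mp ha'
  have key : toAway I f hf c + toAway I f hf d * tau I f hf y hy = frac I f hf 1 a ha := by
    apply eq_frac_of_mul_eq
    rw [pow_one f, add_mul, mul_assoc, mul_comm (tau I f hf y hy), toAway_f_mul_tau, ← map_mul,
      ← map_mul, ← map_add, hcd]
  rw [← key]
  exact ⟨C c + C d * X, by simp⟩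

lemma frac_mem_range (h : I = Ideal.span {f, y}) :
    ∀ (n : ℕ) (z : A) (hz : z ∈ I ^ n), frac I f hf n z hz ∈ (piA I f hf y hy).range := by
  intro n
  induction n with
  | zero =>
    intro z hz
    have key : toAway I f hf z = frac I f hf 0 z hz := by
      apply eq_frac_of_mul_eq
      rw [pow_zero, map_one, mul_one]
    rw [← key]
    exact ⟨C z, by simp⟩
  | succ n ih =>
    intro z hz
    have hz' : z ∈ I ^ n * I := by rwa [← pow_succ]
    revert hz
    refine Submodule.mul_induction_on' (C := fun r _ => ∀ hz : r ∈ I ^ (n + 1),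
      frac I f hf (n + 1) r hz ∈ (piA I f hf y hy).range) ?_ ?_ hz'
    · intro w hw a ha hz
      have ha1 : a ∈ I ^ 1 := by simpa using ha
      have key : frac I f hf n w hw * frac I f hf 1 a ha1 = frac I f hf (n + 1) (w * a) hz := by
        apply eq_frac_of_mul_eq
        rw [pow_succ, map_mul, mul_mul_mul_comm, frac_mul_pow]
        have := frac_mul_pow I f hf 1 a ha1
        rw [pow_one f] at this
        rw [this, map_mul]
      rw [← key]
      exact Subring.mul_mem _ (ih w hw) (frac_one_mem_range I f hf y hy h a ha1)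
    · intro z₁ hz₁ z₂ hz₂ h₁ h₂ hz
      have hz₁' : z₁ ∈ I ^ (n + 1) := by rwa [pow_succ]
      have hz₂' : z₂ ∈ I ^ (n + 1) := by rwa [pow_succ]
      have key : frac I f hf (n + 1) z₁ hz₁' + frac I f hf (n + 1) z₂ hz₂' =
          frac I f hf (n + 1) (z₁ + z₂) hz := by
        apply eq_frac_of_mul_eq
        rw [add_mul, frac_mul_pow, frac_mul_pow, map_add]
      rw [← key]
      exact Subring.add_mem _ (h₁ hz₁') (h₂ hz₂')

theorem piA_surjective (h : I = Ideal.span {f, y}) : Function.Surjective (piA I f hf y hy) := by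
  intro z
  obtain ⟨n, w, hw, rfl⟩ := frac_surjective I f hf z
  exact frac_mem_range I f hf y hy h n w hw

theorem ker_piA [IsDomain A] (hf0 : f ≠ 0)
    (hyf : ∀ (c : A) (n : ℕ), c * y ^ n ∈ Ideal.span {f} → c ∈ Ideal.span {f}) :
    RingHom.ker (piA I f hf y hy) = Ideal.span {C f * X - C y} :=
  Groth.Agent.Lib.helper16.Blow2Reg.ker_eval₂RingHom_eq_span f y (toAway I f hf) (tau I f hf y hy)
    (mem_nonZeroDivisors_of_ne_zero hf0) hyf (toAway_injective I f hf hf0) (toAway_f_mul_tau I f hf y hy)

end pres

end Groth.Agent.Lib.helper16.ReesBlowup
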