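import Groth.Agent.Lib.Helper16.Blow2Reg2
import Groth.Agent.Lib.Helper16.Blow2Reg3
import Groth.Agent.Lib.Helper15.Regular

/-!
# Regular local rings of dimension two: the chart rings of the blow-up of the closed point (helper16)
-/

set_option autoImplicit false
universe u
open Polynomial HomogeneousLocalization IsLocalRing

namespace Groth.Agent.Lib.helper16.ReesBlowup

variable (A : Type u) [CommRing A] [IsRegularLocalRing A]

/-- shortcut instance (instance search through `reesAlgebra` is fragile). -/
noncomputable local instance awayCommRing' {A : Type u} [CommRing A] (I : Ideal A) (f : A) (hf : f ∈ I) :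
    CommRing (Away (Rees.deg (reesAlgebra I)) (F I f hf)) := inferInstance

/-- in a regular local ring with `𝔪 = (x, y)` minimally generated: `x ≠ 0`, `(x)` is prime and
`y ∉ (x)`. -/
theorem regular_pair_facts (x y : A) (hxy : maximalIdeal A = Ideal.span {x, y})
    (h2 : (maximalIdeal A).spanFinrank = 2) :
    x ≠ 0 ∧ (Ideal.span {x}).IsPrime ∧ y ∉ Ideal.span {x} := by
  have hx : Ideal.span (Set.range ![x, y]) = maximalIdeal A := by
    rw [hxy]
    congr 1
    ext z
    simp only [Matrix.range_cons, Matrix.range_empty, Set.union_empty, Set.union_singleton,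
      Set.mem_insert_iff, Set.mem_singleton_iff]
    tauto
  have h0 := Groth.Agent.Lib.helper15.isPrime_span_image_lt A 2 h2 ![x, y] hx 0
  have h1 := Groth.Agent.Lib.helper15.isPrime_span_image_lt A 2 h2 ![x, y] hx 1
  have e0 : (![x, y] '' {j : Fin 2 | j < 0}) = ∅ := by
    ext z; simp
  have e1 : (![x, y] '' {j : Fin 2 | j < 1}) = {x} := by
    ext z
    simp only [Set.mem_image, Set.mem_ofPred_eq, Set.mem_singleton_iff, Fin.exists_fin_two]
    constructor
    · rintro (⟨-, rfl⟩ | ⟨h, -⟩)
      · rfl
      · exact absurd h (by decide)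
    · rintro rfl
      exact Or.inl ⟨by decide, rfl⟩
  rw [e0, Ideal.span_empty] at h0
  rw [e1] at h1
  refine ⟨fun h => h0.2 (by simpa using h), h1.1, by simpa using h1.2⟩

theorem isRegularLocalRing_away_of_mem (x y : A) (hxy : maximalIdeal A = Ideal.span {x, y})
    (h2 : (maximalIdeal A).spanFinrank = 2) (hx : x ∈ maximalIdeal A)
    (𝔮 : Ideal (Away (Rees.deg (reesAlgebra (maximalIdeal A))) (F (maximalIdeal A) x hx))) [𝔮.IsPrime]
    (hmem : toAway (maximalIdeal A) x hx x ∈ 𝔮) : IsRegularLocalRing (Localization.AtPrime 𝔮) := by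
  haveI : IsDomain A := Groth.Agent.Lib.helper15.isDomain_of_isRegularLocalRing A
  obtain ⟨hx0, hprime, hynot⟩ := regular_pair_facts A x y hxy h2
  have hy : y ∈ maximalIdeal A := hxy ▸ Ideal.subset_span (by simp)
  haveI := isDomain_away (maximalIdeal A) x hx hx0
  have hyf : ∀ (c : A) (n : ℕ), c * y ^ n ∈ Ideal.span {x} → c ∈ Ideal.span {x} := by
    intro c n hc
    rcases hprime.mem_or_mem hc with h | h
    · exact h
    · exact absurd (hprime.mem_of_pow_mem n h) hynot
  refine Groth.Agent.Lib.helper16.Blow2Reg.isRegularLocalRing_localization_of_mem x y hxy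
    (piA (maximalIdeal A) x hx y hy) (piA_surjective (maximalIdeal A) x hx y hy hxy)
    (ker_piA (maximalIdeal A) x hx y hy hx0 hyf) ?_ 𝔮 ?_
  · rw [piA_C]
    intro h
    exact hx0 (toAway_injective (maximalIdeal A) x hx hx0 (h.trans (map_zero _).symm))
  · rw [piA_C]
    exact hmem

/-- the same for a ring `B'` identified with the chart ring by a bijective ring homomorphism. -/
theorem isRegularLocalRing_of_bijective_away (x y : A) (hxy : maximalIdeal A = Ideal.span {x, y})
    (h2 : (maximalIdeal A).spanFinrank = 2) (hx : x ∈ maximalIdeal A)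
    {B' : Type u} [CommRing B']
    (φ : Away (Rees.deg (reesAlgebra (maximalIdeal A))) (F (maximalIdeal A) x hx) →+* B')
    (hφ : Function.Bijective φ) (𝔮 : Ideal B') [𝔮.IsPrime]
    (hmem : φ (toAway (maximalIdeal A) x hx x) ∈ 𝔮) : IsRegularLocalRing (Localization.AtPrime 𝔮) := by
  haveI : IsDomain A := Groth.Agent.Lib.helper15.isDomain_of_isRegularLocalRing A
  obtain ⟨hx0, hprime, hynot⟩ := regular_pair_facts A x y hxy h2
  have hy : y ∈ maximalIdeal A := hxy ▸ Ideal.subset_span (by simp)
  haveI := isDomain_away (maximalIdeal A) x hx hx0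
  haveI : IsDomain B' := by
    haveI : Nontrivial B' := ⟨⟨φ 0, φ 1, fun h => zero_ne_one (hφ.1 h)⟩⟩
    haveI : NoZeroDivisors B' := by
      refine ⟨fun {a b} hab => ?_⟩
      obtain ⟨a', rfl⟩ := hφ.2 a
      obtain ⟨b', rfl⟩ := hφ.2 b
      rw [← map_mul] at hab
      have := hφ.1 (hab.trans (map_zero φ).symm)
      rcases mul_eq_zero.mp this with h | h
      · exact Or.inl (by rw [h, map_zero])
      · exact Or.inr (by rw [h, map_zero])
    exact NoZeroDivisors.to_isDomain B'
  have hyf : ∀ (c : A) (n : ℕ), c * y ^ n ∈ Ideal.span {x} → c ∈ Ideal.span {x} := by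
    intro c n hc
    rcases hprime.mem_or_mem hc with h | h
    · exact h
    · exact absurd (hprime.mem_of_pow_mem n h) hynot
  have hker : RingHom.ker (φ.comp (piA (maximalIdeal A) x hx y hy)) =
      Ideal.span {C x * X - C y} := by
    rw [← ker_piA (maximalIdeal A) x hx y hy hx0 hyf]
    ext z
    rw [RingHom.mem_ker, RingHom.mem_ker, RingHom.comp_apply]
    constructor
    · intro h
      exact hφ.1 (h.trans (map_zero φ).symm)
    · intro h
      rw [h, map_zero]
  refine Groth.Agent.Lib.helper16.Blow2Reg.isRegularLocalRing_localization_of_mem x y hxy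
    (φ.comp (piA (maximalIdeal A) x hx y hy))
    (hφ.2.comp (piA_surjective (maximalIdeal A) x hx y hy hxy)) hker ?_ 𝔮 ?_
  · rw [RingHom.comp_apply, piA_C]
    intro h
    exact hx0 (toAway_injective (maximalIdeal A) x hx hx0
      ((hφ.1 (h.trans (map_zero φ).symm)).trans (map_zero _).symm))
  · rw [RingHom.comp_apply, piA_C]
    exact hmem

end Groth.Agent.Lib.helper16.ReesBlowup
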