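import Groth.Agent.Lib.Helper16.Blow2Reg5

/-!
# The blow-up of a domain in `(x, y)` is irreducible (helper16)
-/

set_option autoImplicit false
universe u
open CategoryTheory CategoryTheory.Limits AlgebraicGeometry TopologicalSpace Opposite
open HomogeneousLocalization IsLocalRing

namespace Groth.Agent.Lib.helper16.ReesBlowup

variable {A : Type u} [CommRing A] (I : Ideal A)

theorem isDomain_away' [IsDomain A] (g : reesAlgebra I) (hg : g ≠ 0) :
    IsDomain (Away (Rees.deg (reesAlgebra I)) g) := by
  haveI : IsDomain (reesAlgebra I) := inferInstance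
  have hle : Submonoid.powers g ≤ nonZeroDivisors (reesAlgebra I) := by
    rw [Submonoid.powers_le]
    exact mem_nonZeroDivisors_of_ne_zero hg
  haveI : IsDomain (Localization (Submonoid.powers g)) :=
    IsLocalization.isDomain_localization hle
  exact Function.Injective.isDomain
    (algebraMap (Away (Rees.deg (reesAlgebra I)) g) (Localization (Submonoid.powers g)))
    (fun a b hab => HomogeneousLocalization.val_injective _
      (by rwa [HomogeneousLocalization.algebraMap_apply, HomogeneousLocalization.algebraMap_apply] at hab))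

theorem isIrreducible_basicOpen [IsDomain A] (g : reesAlgebra I) (hg0 : g ≠ 0) {m : ℕ}
    (g_deg : g ∈ Rees.deg (reesAlgebra I) m) (hm : 0 < m) :
    IsIrreducible ((Proj.basicOpen (Rees.deg (reesAlgebra I)) g : (Bl I).Opens) : Set (Bl I)) := by
  haveI := isDomain_away' I g hg0
  haveI : IrreducibleSpace (Spec (CommRingCat.of (Away (Rees.deg (reesAlgebra I)) g))) :=
    inferInstanceAs (IrreducibleSpace (PrimeSpectrum (Away (Rees.deg (reesAlgebra I)) g)))
  have h1 : ((Proj.basicOpen (Rees.deg (reesAlgebra I)) g : (Bl I).Opens) : Set (Bl I)) =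
      Set.range (Proj.awayι (Rees.deg (reesAlgebra I)) g g_deg hm) := by
    rw [← Proj.opensRange_awayι (Rees.deg (reesAlgebra I)) g g_deg hm]
    rfl
  rw [h1, ← Set.image_univ]
  exact (IrreducibleSpace.isIrreducible_univ _).image _
    (Scheme.Hom.continuous (Proj.awayι (Rees.deg (reesAlgebra I)) g g_deg hm)).continuousOn

theorem irreducibleSpace_bl [IsDomain A] (x y : A) (hx : x ∈ I) (hy : y ∈ I) (hx0 : x ≠ 0)
    (hy0 : y ≠ 0) (h : I = Ideal.span {x, y}) : IrreducibleSpace (Bl I) := by
  rw [irreducibleSpace_def]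
  have hUx := isIrreducible_basicOpen I (F I x hx) (F_ne_zero I x hx hx0) (F_mem I x hx) Nat.one_pos
  have hUy := isIrreducible_basicOpen I (F I y hy) (F_ne_zero I y hy hy0) (F_mem I y hy) Nat.one_pos
  have hUxy := isIrreducible_basicOpen I (F I x hx * F I y hy)
    (mul_ne_zero (F_ne_zero I x hx hx0) (F_ne_zero I y hy hy0))
    (SetLike.mul_mem_graded (F_mem I x hx) (F_mem I y hy)) (by norm_num : 0 < 1 + 1)
  rw [Proj.basicOpen_mul] at hUxy
  have hcl : closure ((chart I x hx : (Bl I).Opens) : Set (Bl I)) = Set.univ := by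
    rw [Set.eq_univ_iff_forall]
    intro q
    have hq : q ∈ chart I x hx ⊔ chart I y hy := by
      rw [chart_sup_eq_top I x y hx hy h]; trivial
    rcases Opens.mem_sup.mp hq with hq | hq
    · exact subset_closure hq
    · rw [mem_closure_iff]
      intro W hW hqW
      obtain ⟨z, hz⟩ := hUy.2 W (chart I x hx : (Bl I).Opens) hW (chart I x hx).2 ⟨q, hq, hqW⟩
        (by
          obtain ⟨z, hz⟩ := hUxy.1
          exact ⟨z, hz.2, hz.1⟩)
      exact ⟨z, hz.2.1, hz.2.2⟩
  have := hUx.closure
  rwa [hcl] at this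

end Groth.Agent.Lib.helper16.ReesBlowup
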