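import Groth.Agent.Lib.Helper16.GenFib
import Mathlib.AlgebraicGeometry.Noetherian
import Mathlib.Topology.Sober
import Mathlib.Topology.NoetherianSpace

/-!
# Local finiteness of the generic points of fibres over a point (helper16)

* `finite_maximal_points`: in a quasi-sober `T₀` space, a closed set `Z` has only finitely many
  maximal points (points without proper generization in `Z`) in a Noetherian open subset;
* `finite_isGenFib_inter`: for `p : X' ⟶ X` with `X'` locally Noetherian, `ξ : X` and `V` an affine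
  open of `X'`, only finitely many points of `V` are generic points of the fibre over `ξ`.
-/

set_option autoImplicit false
universe u
open CategoryTheory AlgebraicGeometry TopologicalSpace

namespace Groth.Agent.Lib.helper16.GenFib

theorem finite_maximal_points {Y : Type*} [TopologicalSpace Y] [QuasiSober Y] [T0Space Y]
    (Z : Set Y) (hZ : IsClosed Z) (V : Opens Y) [NoetherianSpace ↥V] :
    {w : Y | w ∈ Z ∧ w ∈ V ∧ ∀ w' ∈ Z, w' ⤳ w → w' = w}.Finite := by
  classical
  let ZV : Set ↥V := Subtype.val ⁻¹' Z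
  have hZV : IsClosed ZV := hZ.preimage continuous_subtype_val
  haveI : QuasiSober ↥V := V.isOpen.isOpenEmbedding_subtypeVal.quasiSober
  haveI : QuasiSober ↥ZV := hZV.isClosedEmbedding_subtypeVal.quasiSober
  haveI : NoetherianSpace ↥ZV := inferInstance
  have hfin := NoetherianSpace.finite_irreducibleComponents (α := ↥ZV)
  haveI := hfin.to_subtype
  set M : Set Y := {w : Y | w ∈ Z ∧ w ∈ V ∧ ∀ w' ∈ Z, w' ⤳ w → w' = w} with hM
  let ψ : ↥M → ↥ZV := fun w => ⟨⟨w.1, w.2.2.1⟩, w.2.1⟩
  let φ : ↥M → Set ↥ZV := fun w => irreducibleComponent (ψ w)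
  have hφ : ∀ w, φ w ∈ irreducibleComponents ↥ZV :=
    fun w => irreducibleComponent_mem_irreducibleComponents _
  have hφeq : ∀ w : ↥M, φ w = closure {ψ w} := by
    intro w
    have hirr : IsIrreducible (φ w) := isIrreducible_irreducibleComponent
    have hcl : IsClosed (φ w) := isClosed_irreducibleComponent
    obtain ⟨t, ht⟩ := QuasiSober.sober hirr hcl
    have hw' : ψ w ∈ φ w := mem_irreducibleComponent
    have htw : t ⤳ ψ w := by
      rw [specializes_iff_mem_closure, ht.def]
      exact hw'
    have h1 : t.1.1 ⤳ w.1 := (htw.map continuous_subtype_val).map continuous_subtype_val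
    have h2 : t.1.1 = w.1 := w.2.2.2 _ t.2 h1
    have h3 : t = ψ w := Subtype.ext (Subtype.ext h2)
    rw [← ht.def, h3]
  have hinj : Function.Injective
      (fun w : ↥M => (⟨φ w, hφ w⟩ : ↥(irreducibleComponents ↥ZV))) := by
    intro w₁ w₂ h
    have h1 : φ w₁ = φ w₂ := congrArg Subtype.val h
    rw [hφeq, hφeq] at h1
    have h2 : ψ w₁ = ψ w₂ := (inseparable_iff_closure_eq.mpr h1).eq
    apply Subtype.ext
    exact congrArg (fun z : ↥ZV => z.1.1) h2
  haveI : Finite ↥M := Finite.of_injective _ hinj
  exact Set.toFinite M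

variable {X' X : Scheme.{u}} (p : X' ⟶ X)

theorem finite_isGenFib_inter [IsLocallyNoetherian X'] (ξ : X) (V : X'.Opens)
    (hV : IsAffineOpen V) : {w : X' | p w = ξ ∧ IsGenFib p w ∧ w ∈ V}.Finite := by
  haveI : IsNoetherianRing Γ(X', V) := IsLocallyNoetherian.component_noetherian ⟨V, hV⟩
  haveI : NoetherianSpace ↥V := noetherianSpace_of_isAffineOpen V hV
  have hcl : IsClosed (p ⁻¹' closure {ξ}) := isClosed_closure.preimage p.continuous
  refine (finite_maximal_points (p ⁻¹' closure {ξ}) hcl V).subset ?_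
  rintro w ⟨h1, h2, h3⟩
  refine ⟨?_, h3, ?_⟩
  · show p w ∈ closure {ξ}
    rw [h1]
    exact subset_closure rfl
  · intro w' hw' hsp
    have h4 : p w' ⤳ p w := p.base.hom.map_specializes hsp
    have h5 : ξ ⤳ p w' := specializes_iff_mem_closure.mpr hw'
    rw [h1] at h4
    have h6 : p w' = ξ := (h4.antisymm h5).eq
    exact h2 w' (by rw [h6, h1]) hsp

end Groth.Agent.Lib.helper16.GenFib
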