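import Groth.Agent.Lib.Helper16.DivSum8
import Groth.Agent.Lib.Helper16.GenFibFin
import Groth.Agent.Lib.Helper16.SecOrd3

/-!
# Flat pullback preserves rational equivalence to zero (helper16)

`ratEquivZero_pullFun`: for `p : X' ⟶ X` flat with a dimension shift `c` at the generic points of
the fibres, if `α ∼ 0` on `X` then every cycle with coefficients `p^*α` is `∼ 0` on `X'`.
-/

set_option autoImplicit false
universe u
open CategoryTheory CategoryTheory.Limits AlgebraicGeometry TopologicalSpace Opposite IsLocalRing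

namespace Groth.Agent.Lib.helper16.DivSum

open Groth.Agent.Lib.helper16.OrdGen Groth.Agent.Lib.helper16.GenFib
  Groth.Agent.Lib.helper16.FinDeg Groth.Agent.Lib.helper16.ShiftPull
  Groth.Agent.Lib.helper16.CycOpen Groth.Agent.Lib.helper17.FibreStalk
  Groth.Agent.Lib.helper16.SecOrd

theorem finsum_sigma' {ι : Type*} {κ : ι → Type*} {M : Type*} [AddCommMonoid M]
    (f : (Σ i, κ i) → M) (hf : (Function.support f).Finite) :
    ∑ᶠ j, f j = ∑ᶠ i, ∑ᶠ w, f ⟨i, w⟩ := by
  classical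
  set s : Finset (Σ i, κ i) := hf.toFinset with hs
  have hsub : Function.support f ⊆ ↑s := by
    intro j hj
    rw [hs, Set.Finite.coe_toFinset]
    exact hj
  rw [finsum_eq_sum_of_support_subset f hsub, ← Finset.sigma_image_fst_preimage_mk s,
    Finset.sum_sigma]
  have hinner : ∀ i, ∑ᶠ w, f ⟨i, w⟩ =
      ∑ w ∈ s.preimage (Sigma.mk i) sigma_mk_injective.injOn, f ⟨i, w⟩ := by
    intro i
    apply finsum_eq_sum_of_support_subset
    intro w hw
    rw [Finset.coe_preimage, Set.mem_preimage]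
    exact hsub hw
  have houter : (Function.support fun i => ∑ᶠ w, f ⟨i, w⟩) ⊆ ↑(s.image Sigma.fst) := by
    intro i hi
    rw [Function.mem_support] at hi
    by_contra hni
    apply hi
    apply finsum_eq_zero_of_forall_eq_zero
    intro w
    by_contra hw
    apply hni
    rw [Finset.coe_image]
    exact ⟨⟨i, w⟩, hsub hw, rfl⟩
  rw [finsum_eq_sum_of_support_subset _ houter]
  refine Finset.sum_congr rfl fun i _ => ?_
  rw [hinner i]

variable {X' X : Scheme.{u}} (p : X' ⟶ X)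

/-- flat pullback preserves rational equivalence to zero. -/
theorem ratEquivZero_pullFun [Flat p] {δ' : X' → ℤ} {δ : X → ℤ}
    [IsLocallyNoetherian X] [IsLocallyNoetherian X'] (hδ : Cyc.IsDimFun X δ)
    (hδ' : Cyc.IsDimFun X' δ') {c : ℤ} (hc : HasShift p δ' δ c) (k : ℤ)
    (α : AlgebraicCycle X ℤ) (h0 : Cyc.RatEquivZero δ k α) (α' : AlgebraicCycle X' ℤ)
    (hα' : ⇑α' = Cyc.pullFun p δ' δ c ⇑α) : Cyc.RatEquivZero δ' (k + c) α' := by
  obtain ⟨ι, ξ, f, hξ, hf, hlf, hsum⟩ := h0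
  let J : Type u := Σ i : ι, {ξ' : X' // p ξ' = ξ i ∧ IsGenFib p ξ'}
  let m : J → ℕ := fun j =>
    (Module.length (X'.presheaf.stalk j.2.1) (FibRing p j.2.1)).toNat
  let g : ∀ j : J, X'.residueField j.2.1 := fun j =>
    p.residueFieldMap j.2.1 ((X.residueFieldCongr j.2.2.1.symm).hom (f j.1))
  have hg : ∀ j : J, g j ≠ 0 := by
    intro j
    have h1 : (X.residueFieldCongr j.2.2.1.symm).hom (f j.1) ≠ 0 :=
      (map_ne_zero_iff _ (RingHom.injective _)).mpr (hf j.1)
    exact (map_ne_zero_iff _ (RingHom.injective _)).mpr h1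
  -- local finiteness
  have hlf' : ∀ x' : X', ∃ U : Set X', IsOpen U ∧ x' ∈ U ∧
      {j : J | (closure {j.2.1} ∩ U).Nonempty}.Finite := by
    intro x'
    obtain ⟨U, hU, hxU, hfin⟩ := hlf (p x')
    obtain ⟨_, ⟨V, hV : IsAffineOpen V, rfl⟩, hxV, hVU⟩ :=
      X'.isBasis_affineOpens.exists_subset_of_mem_open (show x' ∈ p ⁻¹' U from hxU)
        (hU.preimage p.continuous)
    refine ⟨V, V.isOpen, hxV, ?_⟩
    have hfin2 : ∀ i : ι, {w : {ξ' : X' // p ξ' = ξ i ∧ IsGenFib p ξ'} | w.1 ∈ V}.Finite := by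
      intro i
      have := finite_isGenFib_inter p (ξ i) V hV
      exact (this.preimage Subtype.val_injective.injOn).subset
        (fun w hw => ⟨w.2.1, w.2.2, hw⟩)
    refine (Set.Finite.biUnion hfin (fun i _ => (hfin2 i).image (Sigma.mk i))).subset ?_
    rintro ⟨i, w⟩ ⟨z, hz1, hz2⟩
    have hwV : w.1 ∈ V := (specializes_iff_mem_closure.mpr hz1).mem_open V.isOpen hz2
    rw [Set.mem_iUnion₂]
    refine ⟨i, ⟨ξ i, subset_closure rfl, ?_⟩, w, hwV, rfl⟩
    rw [← w.2.1]
    exact hVU hwV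
  refine ⟨J, fun j => j.2.1, fun j => g j ^ (m j : ℤ), ?_, ?_, hlf', ?_⟩
  · intro j
    rw [hc j.2.1 j.2.2.2, j.2.2.1, hξ j.1]
    ring
  · intro j
    exact zpow_ne_zero _ (hg j)
  · intro x'
    rw [hα']
    have h1 : Cyc.pullFun p δ' δ c ⇑α x' =
        ∑ᶠ i, Cyc.pullFun p δ' δ c (Cyc.divFun δ (ξ i) (f i)) x' := by
      unfold Cyc.pullFun
      split_ifs with h
      · rw [hsum (p x'), finsum_mul]
      · simp
    rw [h1]
    have h2 : ∀ i, Cyc.pullFun p δ' δ c (Cyc.divFun δ (ξ i) (f i)) x' =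
        ∑ᶠ w : {ξ' : X' // p ξ' = ξ i ∧ IsGenFib p ξ'},
          Cyc.divFun δ' w.1 (g ⟨i, w⟩ ^ (m ⟨i, w⟩ : ℤ)) x' := by
      intro i
      rw [pullFun_divFun_shift p hδ hδ' hc (ξ i) (f i) (hf i) x']
      refine finsum_congr fun w => ?_
      rw [divFun_zpow δ' w.1 _ (hg ⟨i, w⟩) _ x']
    rw [finsum_congr h2]
    symm
    refine finsum_sigma' (fun j : J => Cyc.divFun δ' j.2.1 (g j ^ (m j : ℤ)) x') ?_
    obtain ⟨U, hU, hxU, hfin⟩ := hlf' x'
    refine hfin.subset ?_
    intro j hj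
    rw [Function.mem_support] at hj
    have hsp : j.2.1 ⤳ x' := by
      by_contra hns
      apply hj
      unfold Cyc.divFun
      rw [dif_neg (fun h => hns h.1)]
    exact ⟨x', specializes_iff_mem_closure.mp hsp, hxU⟩

end Groth.Agent.Lib.helper16.DivSum
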