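import Groth.Agent.Lib.Helper16.PullSec
import Groth.Agent.Lib.Helper16.DivSum9

/-!
# Flat pullback commutes with `c₁(L) ∩ -` (helper16)

* `exists_cycle_pullFun`: the flat pullback of a cycle is a cycle (locally finite support);
* `pullFun_c1CapFun`: `p^*(c₁(L) ∩ α) = c₁(p^*L) ∩ p^*α` on coefficient functions, when the second
  cap is computed with the pulled back rational sections;
* `ratEquiv_pullFun_c1CapFun`: the same up to rational equivalence for arbitrary sections.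
-/

set_option autoImplicit false
universe u
open CategoryTheory CategoryTheory.Limits AlgebraicGeometry TopologicalSpace Opposite IsLocalRing

namespace Groth.Agent.Lib.helper16.C1Pull

open Groth.Agent.Lib.helper16.OrdGen Groth.Agent.Lib.helper16.GenFib
  Groth.Agent.Lib.helper16.ShiftPull Groth.Agent.Lib.helper16.DivSum
  Groth.Agent.Lib.helper16.PullStalk Groth.Agent.Lib.helper16.SecOrd
  Groth.Agent.Lib.helper17.FibreStalk

variable {X' X : Scheme.{u}} (p : X' ⟶ X)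

theorem exists_cycle_pullFun [IsLocallyNoetherian X'] {δ' : X' → ℤ} {δ : X → ℤ} {c : ℤ}
    (hδ' : Cyc.IsDimFun X' δ') (hc : HasShift p δ' δ c) (α : AlgebraicCycle X ℤ) :
    ∃ α' : AlgebraicCycle X' ℤ, ⇑α' = Cyc.pullFun p δ' δ c ⇑α := by
  refine ⟨{ toFun := Cyc.pullFun p δ' δ c ⇑α
            supportWithinDomain' := Set.subset_univ _
            supportLocallyFiniteWithinDomain' := ?_ }, rfl⟩
  intro x' _
  obtain ⟨T, hT, hfin⟩ := α.supportLocallyFiniteWithinDomain' (p x') trivial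
  obtain ⟨_, ⟨V, hV : IsAffineOpen V, rfl⟩, hxV, hVU⟩ :=
    X'.isBasis_affineOpens.exists_subset_of_mem_open
      (show x' ∈ p ⁻¹' (interior T) from mem_interior_iff_mem_nhds.mpr hT)
      (isOpen_interior.preimage p.continuous)
  refine ⟨V, V.isOpen.mem_nhds hxV, ?_⟩
  refine (Set.Finite.biUnion hfin
    (fun ξ₀ _ => finite_isGenFib_inter p ξ₀ V hV)).subset ?_
  rintro w ⟨hwV, hw⟩
  rw [Function.mem_support] at hw
  have hcond : δ' w = δ (p w) + c := by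
    by_contra hne
    apply hw
    unfold Cyc.pullFun
    rw [if_neg hne]
  have hα : α (p w) ≠ 0 := by
    intro h0
    apply hw
    unfold Cyc.pullFun
    rw [if_pos hcond, h0, zero_mul]
  rw [Set.mem_iUnion₂]
  exact ⟨p w, ⟨interior_subset (hVU hwV), hα⟩, rfl,
    isGenFib_of_delta_eq p δ' δ c hδ' hc w hcond, hwV⟩

open Classical in
/-- flat pullback commutes with `c₁(L) ∩ -`, for the pulled back rational sections. -/
theorem pullFun_c1CapFun [Flat p] {δ' : X' → ℤ} {δ : X → ℤ} [IsLocallyNoetherian X]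
    [IsLocallyNoetherian X'] (hδ : Cyc.IsDimFun X δ) (hδ' : Cyc.IsDimFun X' δ') {c : ℤ}
    (hc : HasShift p δ' δ c) (L : X.Modules) (hL : IsLocCyc L)
    (e : ∀ ξ' : X', Cyc.secFibre ((Scheme.Modules.pullback p).obj L) ξ') (he : ∀ ξ', e ξ' ≠ 0)
    (α : AlgebraicCycle X ℤ) (v : (ξ : X) → Cyc.secFibre L ξ) (hv : ∀ ξ, v ξ ≠ 0) :
    Cyc.pullFun p δ' δ c (Cyc.c1CapFun δ L ⇑α v) =
      Cyc.c1CapFun δ' ((Scheme.Modules.pullback p).obj L) (Cyc.pullFun p δ' δ c ⇑α)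
        (fun ξ' => pullSec p ξ' L (v (p ξ'))) := by
  funext x'
  have hmapsp : ∀ {z w : X'}, z ⤳ w → p z ⤳ p w := fun h => p.base.hom.map_specializes h
  obtain ⟨t, ht⟩ := hL.cyc (p x')
  -- the rational functions
  have hφex : ∀ ξ₀ : X, ∀ h : ξ₀ ⤳ p x', ∃ φ : X.presheaf.stalk ξ₀, v ξ₀ =
      φ • (Submodule.Quotient.mk (L.presheaf.stalkSpecializes h t) : Cyc.secFibre L ξ₀) :=
    fun ξ₀ h => exists_smul_mk_eq L ξ₀ _ (hL.spec (p x') ξ₀ h t ht) (v ξ₀)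
  let G : ∀ ξ₀ : X, X.residueField ξ₀ := fun ξ₀ =>
    if h : ξ₀ ⤳ p x' then X.residue ξ₀ (Classical.choose (hφex ξ₀ h)) else 1
  have hG : ∀ ξ₀, G ξ₀ ≠ 0 := by
    intro ξ₀
    by_cases h : ξ₀ ⤳ p x'
    · simp only [G, dif_pos h]
      have hspec := Classical.choose_spec (hφex ξ₀ h)
      exact residue_ne_zero_of_smul_ne_zero L ξ₀ (hspec ▸ hv ξ₀)
    · simp only [G, dif_neg h]
      exact one_ne_zero
  -- step 1: `secDivFun` downstairs
  have h1 : ∀ ξ₀, Cyc.secDivFun δ L ξ₀ (v ξ₀) (p x') = Cyc.divFun δ ξ₀ (G ξ₀) (p x') := by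
    intro ξ₀
    unfold Cyc.secDivFun Cyc.divFun
    by_cases h : ξ₀ ⤳ p x' ∧ δ (p x') + 1 = δ ξ₀
    · rw [dif_pos h, dif_pos h]
      have hspec := Classical.choose_spec (hφex ξ₀ h.1)
      rw [secOrdAt_eq L (p x') ξ₀ h.1 (v ξ₀) (hv ξ₀) t ht _ hspec]
      simp only [G, dif_pos h.1]
    · rw [dif_neg h, dif_neg h]
  -- step 2: the left side
  have hL1 : Cyc.pullFun p δ' δ c (Cyc.c1CapFun δ L ⇑α v) x' =
      ∑ᶠ ξ₀ : X, α ξ₀ * Cyc.pullFun p δ' δ c (Cyc.divFun δ ξ₀ (G ξ₀)) x' := by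
    unfold Cyc.pullFun Cyc.c1CapFun
    split_ifs with hcond
    · rw [finsum_mul]
      refine finsum_congr fun ξ₀ => ?_
      rw [h1 ξ₀, mul_assoc]
    · simp
  -- step 4: the right side, termwise
  have h4 : ∀ ξ' : X', Cyc.pullFun p δ' δ c ⇑α ξ' *
      Cyc.secDivFun δ' ((Scheme.Modules.pullback p).obj L) ξ' (pullSec p ξ' L (v (p ξ'))) x' =
      Cyc.pullFun p δ' δ c ⇑α ξ' *
        Cyc.divFun δ' ξ' (p.residueFieldMap ξ' (G (p ξ'))) x' := by
    intro ξ'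
    congr 1
    unfold Cyc.secDivFun Cyc.divFun
    by_cases h : ξ' ⤳ x' ∧ δ' x' + 1 = δ' ξ'
    · rw [dif_pos h, dif_pos h]
      have hsp : p ξ' ⤳ p x' := hmapsp h.1
      have hspec := Classical.choose_spec (hφex (p ξ') hsp)
      obtain ⟨t₁, ht₁⟩ := hL.cyc (p ξ')
      have hne : pullSec p ξ' L (v (p ξ')) ≠ 0 :=
        pullSec_ne_zero p ξ' L t₁ ht₁ (e ξ') (he ξ') (v (p ξ')) (hv (p ξ'))
      rw [secOrdAt_pullSec p L h.1 t ht (v (p ξ')) _ hspec hne]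
      simp only [G, dif_pos hsp]
    · rw [dif_neg h, dif_neg h]
  show Cyc.pullFun p δ' δ c (Cyc.c1CapFun δ L ⇑α v) x' =
    ∑ᶠ ξ' : X', Cyc.pullFun p δ' δ c ⇑α ξ' *
      Cyc.secDivFun δ' ((Scheme.Modules.pullback p).obj L) ξ' (pullSec p ξ' L (v (p ξ'))) x'
  rw [hL1, finsum_congr h4]
  -- step 3: the flat pullback of the principal divisors
  have h3 : ∀ ξ₀ : X, α ξ₀ * Cyc.pullFun p δ' δ c (Cyc.divFun δ ξ₀ (G ξ₀)) x' =
      ∑ᶠ ξ' : {ξ' : X' // p ξ' = ξ₀ ∧ IsGenFib p ξ'}, α ξ₀ *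
        (((Module.length (X'.presheaf.stalk ξ'.1) (FibRing p ξ'.1)).toNat : ℤ) *
          Cyc.divFun δ' ξ'.1 (p.residueFieldMap ξ'.1
            ((X.residueFieldCongr ξ'.2.1.symm).hom (G ξ₀))) x') := by
    intro ξ₀
    rw [pullFun_divFun_shift p hδ hδ' hc ξ₀ (G ξ₀) (hG ξ₀) x', mul_finsum]
  rw [finsum_congr h3]
  -- step 5: reindexing
  let J : Type u := Σ ξ₀ : X, {ξ' : X' // p ξ' = ξ₀ ∧ IsGenFib p ξ'}
  let F : J → ℤ := fun j => α j.1 *
    (((Module.length (X'.presheaf.stalk j.2.1) (FibRing p j.2.1)).toNat : ℤ) *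
      Cyc.divFun δ' j.2.1 (p.residueFieldMap j.2.1
        ((X.residueFieldCongr j.2.2.1.symm).hom (G j.1))) x')
  have hFfin : (Function.support F).Finite := by
    obtain ⟨_, ⟨V, hV : IsAffineOpen V, rfl⟩, hxV, -⟩ :=
      X'.isBasis_affineOpens.exists_subset_of_mem_open (Set.mem_univ x') isOpen_univ
    have hfin1 := finite_specializes_support α (p x')
    have hfin2 : ∀ ξ₀ : X,
        {w : {ξ' : X' // p ξ' = ξ₀ ∧ IsGenFib p ξ'} | w.1 ∈ V}.Finite := by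
      intro ξ₀
      have := finite_isGenFib_inter p ξ₀ V hV
      exact (this.preimage Subtype.val_injective.injOn).subset
        (fun w hw => ⟨w.2.1, w.2.2, hw⟩)
    refine (Set.Finite.biUnion hfin1 (fun ξ₀ _ => (hfin2 ξ₀).image (Sigma.mk ξ₀))).subset ?_
    rintro ⟨ξ₀, w⟩ hj
    rw [Function.mem_support] at hj
    have hα0 : α ξ₀ ≠ 0 := fun h0 => hj (by simp only [F, h0, zero_mul])
    have hsp : w.1 ⤳ x' := by
      by_contra hns
      apply hj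
      simp only [F]
      unfold Cyc.divFun
      rw [dif_neg (fun h => hns h.1), mul_zero, mul_zero]
    rw [Set.mem_iUnion₂]
    refine ⟨ξ₀, ⟨hα0, ?_⟩, w, hsp.mem_open V.isOpen hxV, rfl⟩
    rw [← w.2.1]
    exact hmapsp hsp
  have hsig : ∑ᶠ ξ₀ : X, ∑ᶠ ξ' : {ξ' : X' // p ξ' = ξ₀ ∧ IsGenFib p ξ'}, α ξ₀ *
        (((Module.length (X'.presheaf.stalk ξ'.1) (FibRing p ξ'.1)).toNat : ℤ) *
          Cyc.divFun δ' ξ'.1 (p.residueFieldMap ξ'.1
            ((X.residueFieldCongr ξ'.2.1.symm).hom (G ξ₀))) x') = ∑ᶠ j : J, F j :=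
    (finsum_sigma' F hFfin).symm
  rw [hsig]
  let E : {ξ' : X' // IsGenFib p ξ'} ≃ J :=
    { toFun := fun ξ' => ⟨p ξ'.1, ξ'.1, rfl, ξ'.2⟩
      invFun := fun j => ⟨j.2.1, j.2.2.2⟩
      left_inv := fun _ => rfl
      right_inv := by
        rintro ⟨ξ₀, ξ', rfl, h2⟩
        rfl }
  rw [← finsum_comp_equiv E]
  symm
  let ι : {ξ' : X' // IsGenFib p ξ'} → X' := Subtype.val
  have hι : Function.Injective ι := Subtype.val_injective
  rw [← finsum_mem_univ, finsum_mem_inter_support_eq' _ Set.univ (Set.range ι) (by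
    intro ξ' hξ'
    simp only [Set.mem_univ, true_iff]
    by_cases hcond : δ' ξ' = δ (p ξ') + c
    · exact ⟨⟨ξ', isGenFib_of_delta_eq p δ' δ c hδ' hc ξ' hcond⟩, rfl⟩
    · exfalso
      apply hξ'
      show Cyc.pullFun p δ' δ c ⇑α ξ' * _ = 0
      unfold Cyc.pullFun
      rw [if_neg hcond, zero_mul]), finsum_mem_range hι]
  refine finsum_congr fun ξ' => ?_
  have hcond : δ' ξ'.1 = δ (p ξ'.1) + c := hc ξ'.1 ξ'.2
  show Cyc.pullFun p δ' δ c ⇑α ξ'.1 * _ = F (E ξ')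
  simp only [F, E, Equiv.coe_fn_mk]
  unfold Cyc.pullFun
  rw [if_pos hcond, mul_assoc]
  congr 3

/-- flat pullback commutes with `c₁(L) ∩ -` up to rational equivalence, for arbitrary sections. -/
theorem ratEquiv_pullFun_c1CapFun [Flat p] {δ' : X' → ℤ} {δ : X → ℤ} [IsLocallyNoetherian X]
    [IsLocallyNoetherian X'] (hδ : Cyc.IsDimFun X δ) (hδ' : Cyc.IsDimFun X' δ') {c : ℤ}
    (hc : HasShift p δ' δ c) (L : X.Modules) (hL : PicF.IsInvertible L) (k : ℤ)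
    (α : AlgebraicCycle X ℤ) (hα : α ∈ Cyc.Zk X δ k)
    (v : (ξ : X) → Cyc.secFibre L ξ) (hv : ∀ ξ, v ξ ≠ 0)
    (u : (ξ : X') → Cyc.secFibre ((Scheme.Modules.pullback p).obj L) ξ) (hu : ∀ ξ, u ξ ≠ 0)
    (γ₁ γ₂ : AlgebraicCycle X' ℤ)
    (h₁ : ⇑γ₁ = Cyc.pullFun p δ' δ c (Cyc.c1CapFun δ L ⇑α v))
    (h₂ : ⇑γ₂ = Cyc.c1CapFun δ' ((Scheme.Modules.pullback p).obj L)
      (Cyc.pullFun p δ' δ c ⇑α) u) :
    Cyc.RatEquiv δ' (k + c - 1) γ₁ γ₂ := by
  have hLc := isLocCyc_of_isInvertible L hL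
  have hP : PicF.IsInvertible ((Scheme.Modules.pullback p).obj L) :=
    (Groth.Agent.Lib.helper16.FLF.isInvertible_iff_isFinLocFreeOfRank_one _).2
      (Groth.Agent.Lib.helper16.FLF.isFinLocFreeOfRank_pullback p
        ((Groth.Agent.Lib.helper16.FLF.isInvertible_iff_isFinLocFreeOfRank_one L).1 hL))
  have hPc := isLocCyc_of_isInvertible _ hP
  obtain ⟨α', hα'⟩ := exists_cycle_pullFun p hδ' hc α
  have hα'k : α' ∈ Cyc.Zk X' δ' (k + c - 1 + 1) := by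
    intro x hx
    have := congrFun hα' x
    rw [this]
    simp only [Cyc.pullFun]
    split_ifs with hcond
    · have : δ (p x) ≠ k := fun e => hx (by rw [hcond, e]; ring)
      rw [hα _ this, zero_mul]
    · rfl
  have hu₀ : ∀ ξ', pullSec p ξ' L (v (p ξ')) ≠ 0 := fun ξ' => by
    obtain ⟨t₁, ht₁⟩ := hLc.cyc (p ξ')
    exact pullSec_ne_zero p ξ' L t₁ ht₁ (u ξ') (hu ξ') _ (hv _)
  refine ratEquiv_c1CapFun_of_sections X' δ' _ hPc (k + c - 1) α' hα'k _ u hu₀ hu γ₁ γ₂ ?_ ?_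
  · rw [h₁, hα', pullFun_c1CapFun p hδ hδ' hc L hLc u hu α v hv]
  · rw [h₂, hα']

end Groth.Agent.Lib.helper16.C1Pull
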