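import Groth.Agent.Lib.Helper16.CycClosed1
import Mathlib.AlgebraicGeometry.Stalk
import Mathlib.AlgebraicGeometry.Morphisms.ClosedImmersion

/-!
# The local rings of the pullback of a closed immersion (helper16)

For `f : X' ⟶ X` and a closed immersion `i : D ⟶ X`, at a point `z` of `X' ×_X D`:
`ker_stalkMap_fst`: the kernel of `O_{X',pr₁ z} → O_{X' ×_X D, z}` is generated by the image of the
kernel of `O_{X, i (pr₂ z)} → O_{D, pr₂ z}` (under `baseMap`).
-/

set_option autoImplicit false
universe u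
open CategoryTheory CategoryTheory.Limits AlgebraicGeometry TopologicalSpace Opposite IsLocalRing

namespace Groth.Agent.Lib.helper16.CIPull

theorem apply_fst_eq_apply_snd {X Y S : Scheme.{u}} (f : X ⟶ S) (g : Y ⟶ S)
    (x' : ↥(pullback f g)) :
    f (pullback.fst f g x') = g (pullback.snd f g x') := by
  have := congrArg (fun φ => φ.base x') (pullback.condition (f := f) (g := g))
  exact this

theorem germ_eq_zero_congr {Z : Scheme.{u}} {V : Z.Opens} {y y' : Z} (e : y = y') (hy : y ∈ V)
    (hy' : y' ∈ V) (σ : Γ(Z, V)) :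
    Z.presheaf.germ V y hy σ = 0 ↔ Z.presheaf.germ V y' hy' σ = 0 := by
  subst e
  rfl

theorem stalkClosedPointTo_congr {R : CommRingCat.{u}} [IsLocalRing R] {Z : Scheme.{u}}
    (g₁ g₂ : Spec R ⟶ Z) (e : g₁ = g₂) (U : Z.Opens) (β : Γ(Z, U))
    (h₁ : g₁ (closedPoint R) ∈ U) (h₂ : g₂ (closedPoint R) ∈ U) :
    (Scheme.stalkClosedPointTo g₁).hom (Z.presheaf.germ U _ h₁ β) =
      (Scheme.stalkClosedPointTo g₂).hom (Z.presheaf.germ U _ h₂ β) := by
  subst e
  rfl

variable {X' X D : Scheme.{u}} (f : X' ⟶ X) (i : D ⟶ X)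

/-- the ring map `O_{X, i (pr₂ z)} → O_{X', pr₁ z}` -/
noncomputable def baseMap (z : ↥(pullback f i)) :
    X.presheaf.stalk (i (pullback.snd f i z)) →+* X'.presheaf.stalk (pullback.fst f i z) :=
  (X.presheaf.stalkSpecializes (specializes_of_eq (apply_fst_eq_apply_snd f i z)) ≫
    f.stalkMap (pullback.fst f i z)).hom

theorem stalkMap_fst_baseMap (z : ↥(pullback f i)) (a : X.presheaf.stalk (i (pullback.snd f i z))) :
    ((pullback.fst f i).stalkMap z).hom (baseMap f i z a) =
      ((pullback.snd f i).stalkMap z).hom ((i.stalkMap (pullback.snd f i z)).hom a) := by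
  have h1 := Scheme.Hom.stalkMap_congr_hom (pullback.snd f i ≫ i) (pullback.fst f i ≫ f)
    pullback.condition.symm z
  rw [Scheme.Hom.stalkMap_comp, Scheme.Hom.stalkMap_comp, TopCat.Presheaf.stalkCongr_hom] at h1
  have h2 := congrArg (fun φ => φ.hom a) h1
  exact h2.symm

theorem map_ker_le_ker (z : ↥(pullback f i)) :
    (RingHom.ker (i.stalkMap (pullback.snd f i z)).hom).map (baseMap f i z) ≤
      RingHom.ker ((pullback.fst f i).stalkMap z).hom := by
  rw [Ideal.map_le_iff_le_comap]
  intro a ha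
  rw [Ideal.mem_comap, RingHom.mem_ker, stalkMap_fst_baseMap, RingHom.mem_ker.1 ha, map_zero]

theorem baseMap_isLocalHom (z : ↥(pullback f i)) : IsLocalHom (baseMap f i z) := by
  unfold baseMap
  have e : Inseparable (i (pullback.snd f i z)) (f (pullback.fst f i z)) :=
    .of_eq (apply_fst_eq_apply_snd f i z).symm
  haveI : IsLocalHom (X.presheaf.stalkSpecializes
      (specializes_of_eq (apply_fst_eq_apply_snd f i z))).hom :=
    isLocalHom_of_iso (X.presheaf.stalkCongr e)
  rw [CommRingCat.hom_comp]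
  infer_instance

theorem ker_le_map_ker [IsClosedImmersion i] (z : ↥(pullback f i)) :
    RingHom.ker ((pullback.fst f i).stalkMap z).hom ≤
      (RingHom.ker (i.stalkMap (pullback.snd f i z)).hom).map (baseMap f i z) := by
  set x' := pullback.fst f i z with hx'
  set d := pullback.snd f i z with hd
  set I := RingHom.ker (i.stalkMap d).hom with hI
  set IB := I.map (baseMap f i z) with hIB
  haveI := baseMap_isLocalHom f i z
  have hIm : I ≤ maximalIdeal (X.presheaf.stalk (i d)) := by
    intro a ha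
    rw [mem_maximalIdeal, mem_nonunits_iff]
    intro hu
    have h1 : IsUnit ((i.stalkMap d).hom a) := hu.map _
    rw [RingHom.mem_ker.1 ha] at h1
    exact not_isUnit_zero h1
  have hIBm : IB ≤ maximalIdeal (X'.presheaf.stalk x') := by
    rw [hIB, Ideal.map_le_iff_le_comap]
    intro a ha
    have h1 := hIm ha
    rw [Ideal.mem_comap, mem_maximalIdeal, mem_nonunits_iff]
    rw [mem_maximalIdeal, mem_nonunits_iff] at h1
    intro hu
    exact h1 (isUnit_of_map_unit (baseMap f i z) a hu)
  have hIBtop : IB ≠ ⊤ := fun h => (Ideal.IsPrime.ne_top inferInstance) (top_le_iff.1 (h ▸ hIBm))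
  haveI : Nontrivial (X'.presheaf.stalk x' ⧸ IB) := Ideal.Quotient.nontrivial_iff.mpr hIBtop
  haveI : IsLocalRing (X'.presheaf.stalk x' ⧸ IB) :=
    IsLocalRing.of_surjective' (Ideal.Quotient.mk IB) Ideal.Quotient.mk_surjective
  let R : CommRingCat.{u} := CommRingCat.of (X'.presheaf.stalk x' ⧸ IB)
  haveI : IsLocalRing R := inferInstanceAs (IsLocalRing (X'.presheaf.stalk x' ⧸ IB))
  let q : X'.presheaf.stalk x' ⟶ R := CommRingCat.ofHom (Ideal.Quotient.mk IB)
  haveI : IsLocalHom q.hom :=
    IsLocalHom.of_surjective (Ideal.Quotient.mk IB) Ideal.Quotient.mk_surjective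
  -- the map on the side of `D`
  have hker_le : RingHom.ker (i.stalkMap d).hom ≤
      RingHom.ker ((Ideal.Quotient.mk IB).comp (baseMap f i z)) := by
    intro a ha
    rw [RingHom.mem_ker, RingHom.comp_apply, Ideal.Quotient.eq_zero_iff_mem]
    exact Ideal.mem_map_of_mem _ ha
  let ψ₀ : D.presheaf.stalk d →+* (X'.presheaf.stalk x' ⧸ IB) :=
    RingHom.liftOfSurjective (i.stalkMap d).hom (i.stalkMap_surjective d)
      ⟨(Ideal.Quotient.mk IB).comp (baseMap f i z), hker_le⟩
  have hψ₀ : ψ₀.comp (i.stalkMap d).hom = (Ideal.Quotient.mk IB).comp (baseMap f i z) :=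
    RingHom.liftOfSurjective_comp _ _ _
  let ψ : D.presheaf.stalk d ⟶ R := CommRingCat.ofHom ψ₀
  let a₀ : Spec R ⟶ X' := Spec.map q ≫ X'.fromSpecStalk x'
  let b₀ : Spec R ⟶ D := Spec.map ψ ≫ D.fromSpecStalk d
  have hcomm : a₀ ≫ f = b₀ ≫ i := by
    have e1 : i.stalkMap d ≫ ψ = (X.presheaf.stalkSpecializes
        (specializes_of_eq (apply_fst_eq_apply_snd f i z)) ≫ f.stalkMap x') ≫ q := by
      ext a
      exact congrArg (fun φ => φ a) hψ₀
    show (Spec.map q ≫ X'.fromSpecStalk x') ≫ f = (Spec.map ψ ≫ D.fromSpecStalk d) ≫ i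
    rw [Category.assoc, Category.assoc, ← Scheme.SpecMap_stalkMap_fromSpecStalk,
      ← Scheme.SpecMap_stalkMap_fromSpecStalk (f := i), ← Spec.map_comp_assoc,
      ← Spec.map_comp_assoc, e1, Spec.map_comp_assoc, Spec.map_comp_assoc, Spec.map_comp_assoc,
      Scheme.SpecMap_stalkSpecializes_fromSpecStalk]
  let h : Spec R ⟶ pullback f i := pullback.lift a₀ b₀ hcomm
  have hfst : h ≫ pullback.fst f i = a₀ := pullback.lift_fst _ _ _
  have ha₀cp : a₀ (closedPoint R) = x' := by
    show (Spec.map q ≫ X'.fromSpecStalk x') (closedPoint R) = x'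
    rw [Scheme.Hom.comp_apply, Spec_closedPoint, Scheme.fromSpecStalk_closedPoint]
  have hz : h (closedPoint R) = z := by
    apply (pullback.fst f i).isClosedEmbedding.injective
    have := congrArg (fun φ => φ.base (closedPoint R)) hfst
    exact this.trans ha₀cp
  intro b hb
  obtain ⟨U, hxU, β, rfl⟩ := TopCat.Presheaf.exists_germ_eq _ b
  rw [← Ideal.Quotient.eq_zero_iff_mem]
  have hU₀ : a₀ (closedPoint R) ∈ U := by rw [ha₀cp]; exact hxU
  have h1 := congrArg (fun φ => φ.hom β)
    (Scheme.germ_stalkClosedPointTo_Spec_fromSpecStalk q U hU₀)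
  have hU₁ : (h ≫ pullback.fst f i) (closedPoint R) ∈ U := by rw [hfst]; exact hU₀
  have h2 := stalkClosedPointTo_congr (h ≫ pullback.fst f i) a₀ hfst U β hU₁ hU₀
  have h3 : (Scheme.stalkClosedPointTo (h ≫ pullback.fst f i)).hom
      (X'.presheaf.germ U _ hU₁ β) = 0 := by
    rw [Scheme.stalkClosedPointTo_comp]
    show (Scheme.stalkClosedPointTo h).hom (((pullback.fst f i).stalkMap (h (closedPoint R))).hom
      (X'.presheaf.germ U _ hU₁ β)) = 0
    have h5 := Scheme.Hom.germ_stalkMap_apply (pullback.fst f i) U (h (closedPoint R)) hU₁ β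
    rw [show ((pullback.fst f i).stalkMap (h (closedPoint R))).hom
      (X'.presheaf.germ U _ hU₁ β) = _ from h5]
    have h4 : (pullback f i).presheaf.germ ((pullback.fst f i) ⁻¹ᵁ U) z hxU
        ((pullback.fst f i).app U β) = 0 := by
      have h6 := RingHom.mem_ker.1 hb
      have h7 := Scheme.Hom.germ_stalkMap_apply (pullback.fst f i) U z hxU β
      rw [show ((pullback.fst f i).stalkMap z).hom (X'.presheaf.germ U x' hxU β) = _ from h7] at h6
      exact h6
    rw [(germ_eq_zero_congr hz hU₁ hxU _).2 h4, map_zero]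
  rw [h2] at h3
  rw [← h3]
  exact h1.symm

end Groth.Agent.Lib.helper16.CIPull
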