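import Mathlib

/-!
# Degrees and lengths: algebraic preliminaries for the degree formula (helper16)

* `deg φ`: the rank of `S` over `R` along a ring map `φ : R →+* S`;
  `deg_comp_left`, `deg_comp_right`: invariance under bijective maps.
* `length_self_ringEquiv`, `length_quotient_self`.
* `finrank_local`: for a finite local `k`-algebra `D`:
  `dim_k D = length_D D · [κ(D) : k]`.
-/

set_option autoImplicit false
universe u

namespace Groth.Agent.Lib.helper16.FinDeg

open Function IsLocalRing

/-- the rank of `S` over `R` along `φ`. -/
noncomputable abbrev deg {R S : Type*} [CommRing R] [CommRing S] (φ : R →+* S) : ℕ :=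
  @Module.finrank R S _ _ φ.toAlgebra.toModule

theorem deg_algebraMap {R S : Type*} [CommRing R] [CommRing S] [Algebra R S] :
    deg (algebraMap R S) = Module.finrank R S := by
  unfold deg
  have : (algebraMap R S).toAlgebra = ‹Algebra R S› := Algebra.algebra_ext _ _ (fun _ => rfl)
  rw [this]

theorem deg_eq_of_square {R S R' S' : Type*} [CommRing R] [CommRing S] [CommRing R'] [CommRing S']
    (φ : R →+* S) (φ' : R' →+* S') (i : R ≃+* R') (j : S ≃+* S')
    (hc : φ'.comp i.toRingHom = j.toRingHom.comp φ) : deg φ = deg φ' := by
  letI := φ.toAlgebra
  letI := φ'.toAlgebra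
  exact Algebra.finrank_eq_of_equiv_equiv i j hc

theorem deg_comp_left {R' R S : Type*} [CommRing R'] [CommRing R] [CommRing S] (φ : R →+* S)
    (e : R' →+* R) (he : Bijective e) : deg (φ.comp e) = deg φ :=
  deg_eq_of_square (φ.comp e) φ (RingEquiv.ofBijective e he) (RingEquiv.refl S) (by ext; rfl)

theorem deg_comp_right {R S S' : Type*} [CommRing R] [CommRing S] [CommRing S'] (φ : R →+* S)
    (g : S →+* S') (hg : Bijective g) : deg (g.comp φ) = deg φ :=
  (deg_eq_of_square φ (g.comp φ) (RingEquiv.refl R) (RingEquiv.ofBijective g hg)
    (by ext; rfl)).symm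

theorem length_self_ringEquiv {R R' : Type*} [CommRing R] [CommRing R'] (e : R ≃+* R') :
    Module.length R R = Module.length R' R' := by
  let f : R →ₛₗ[(e : R →+* R')] R' :=
    { toFun := e
      map_add' := map_add e
      map_smul' := fun r m => by
        change e (r * m) = e r * e m
        exact map_mul e r m }
  have hf : Function.Bijective f := e.bijective
  haveI : RingHomSurjective (e : R →+* R') := ⟨e.surjective⟩
  rw [Module.length, Module.length, WithBot.unbot_inj,
    Order.krullDim_eq_of_orderIso (Submodule.orderIsoMapComapOfBijective f hf)]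

theorem length_quotient_self {R : Type*} [CommRing R] (I : Ideal R) :
    Module.length R (R ⧸ I) = Module.length (R ⧸ I) (R ⧸ I) :=
  Module.length_eq_of_surjective Ideal.Quotient.mk_surjective

theorem finrank_local (k D : Type u) [Field k] [CommRing D] [IsLocalRing D] [Algebra k D]
    [Module.Finite k D] :
    Module.finrank k D =
      (Module.length D D).toNat * deg ((IsLocalRing.residue D).comp (algebraMap k D)) := by
  haveI : IsLocalHom (algebraMap k D) := inferInstance
  have h1 : Module.length k D = Module.finrank k D := by
    rw [Module.length_eq_rank, ← Module.finrank_eq_rank]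
    simp
  have h2 := IsLocalRing.length_restrictScalars k D D
  have h3 : Module.length (ResidueField k) (ResidueField D) =
      Module.finrank (ResidueField k) (ResidueField D) := by
    haveI : Module.Finite (ResidueField k) (ResidueField D) := inferInstance
    rw [Module.length_eq_rank, ← Module.finrank_eq_rank]
    simp
  have h4 : Module.finrank (ResidueField k) (ResidueField D) =
      deg ((IsLocalRing.residue D).comp (algebraMap k D)) := by
    rw [← deg_algebraMap]
    have hbij : Bijective (IsLocalRing.residue k) :=
      ⟨(IsLocalRing.residue k).injective, IsLocalRing.residue_surjective⟩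
    rw [← deg_comp_left (algebraMap (ResidueField k) (ResidueField D)) (IsLocalRing.residue k) hbij]
    rfl
  rw [h1, h3, h4] at h2
  have h5 := congrArg ENat.toNat h2
  rw [ENat.toNat_natCast, ENat.toNat_mul, ENat.toNat_natCast] at h5
  exact h5

end Groth.Agent.Lib.helper16.FinDeg
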