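import Groth.Agent.Lib.Helper16.CIPull1
import Groth.Agent.Lib.Helper16.FinDeg1
import Groth.Agent.Lib.Helper17.FibreStalk

/-!
# Fibre rings of the pullback of a closed immersion (helper16)

* `ker_stalkMap_fst`: the kernel of `O_{X',pr₁ z} → O_{X' ×_X D, z}` is the extension of the ideal
  of `D`.
* `length_fibRing_snd`: the fibre ring of `pr₂ : X' ×_X D → D` at `z` has the same length as the
  fibre ring of `f` at `pr₁ z`.
* `exists_unit_mul_of_span_eq`: generators of the same principal ideal of a local ring differ by a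
  unit.
-/

set_option autoImplicit false
universe u
open CategoryTheory CategoryTheory.Limits AlgebraicGeometry TopologicalSpace Opposite IsLocalRing

namespace Groth.Agent.Lib.helper16.CIPull

open Groth.Agent.Lib.helper17.FibreStalk

section alg

theorem exists_unit_mul_of_span_eq {B : Type*} [CommRing B] [IsLocalRing B] {a b : B}
    (h : Ideal.span {a} = Ideal.span {b}) : ∃ u : B, IsUnit u ∧ a = u * b := by
  have ha : a ∈ Ideal.span {b} := h ▸ Ideal.mem_span_singleton_self a
  have hb : b ∈ Ideal.span {a} := h.symm ▸ Ideal.mem_span_singleton_self b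
  obtain ⟨c, hc⟩ := Ideal.mem_span_singleton'.1 ha
  obtain ⟨c', hc'⟩ := Ideal.mem_span_singleton'.1 hb
  by_cases hu : IsUnit c
  · exact ⟨c, hu, hc.symm⟩
  · have hcc : ¬ IsUnit (c' * c) := fun h => hu (isUnit_of_mul_isUnit_right h)
    have h1 : IsUnit (1 - c' * c) := by
      have := IsLocalRing.isUnit_one_sub_self_of_mem_nonunits _ hcc
      exact this
    have h2 : (1 - c' * c) * b = 0 := by
      rw [sub_mul, one_mul, mul_assoc, hc, hc', sub_self]
    have hb0 : b = 0 := by
      have := h1.mul_left_cancel (a := 1 - c' * c) (b := b) (c := 0) (by rw [h2, mul_zero])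
      exact this
    refine ⟨1, isUnit_one, ?_⟩
    rw [one_mul, hb0, ← hc, hb0, mul_zero]

variable {B C : Type u} [CommRing B] [CommRing C]

/-- `C/MC ≃ B/M` for `ψ : B → C` surjective with kernel contained in `M`. -/
noncomputable def quotMapEquivOfKerLe (ψ : B →+* C) (hψ : Function.Surjective ψ) (M : Ideal B)
    (hM : RingHom.ker ψ ≤ M) : (C ⧸ M.map ψ) ≃+* (B ⧸ M) := by
  have h1 : RingHom.ker ((Ideal.Quotient.mk (M.map ψ)).comp ψ) = M := by
    rw [← RingHom.comap_ker, Ideal.mk_ker, Ideal.comap_map_of_surjective ψ hψ]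
    exact sup_eq_left.2 hM
  exact (RingHom.quotientKerEquivOfSurjective
      (f := (Ideal.Quotient.mk (M.map ψ)).comp ψ)
      (Ideal.Quotient.mk_surjective.comp hψ)).symm.trans (Ideal.quotEquivOfEq h1)

theorem length_quot_map_of_ker_le (ψ : B →+* C) (hψ : Function.Surjective ψ) (M : Ideal B)
    (hM : RingHom.ker ψ ≤ M) :
    Module.length C (C ⧸ M.map ψ) = Module.length B (B ⧸ M) := by
  rw [Groth.Agent.Lib.helper16.FinDeg.length_quotient_self,
    Groth.Agent.Lib.helper16.FinDeg.length_quotient_self]
  exact Groth.Agent.Lib.helper16.FinDeg.length_self_ringEquiv (quotMapEquivOfKerLe ψ hψ M hM)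

theorem length_quot_congr' {R : Type u} [CommRing R] {J J' : Ideal R} (h : J = J') :
    Module.length R (R ⧸ J) = Module.length R (R ⧸ J') := by
  subst h
  rfl

end alg

variable {X' X D : Scheme.{u}} (f : X' ⟶ X) (i : D ⟶ X) [IsClosedImmersion i]

theorem ker_stalkMap_fst (z : ↥(pullback f i)) :
    RingHom.ker ((pullback.fst f i).stalkMap z).hom =
      (RingHom.ker (i.stalkMap (pullback.snd f i z)).hom).map (baseMap f i z) :=
  le_antisymm (ker_le_map_ker f i z) (map_ker_le_ker f i z)

theorem ker_stalkMap_le_maximalIdeal (d : D) :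
    RingHom.ker (i.stalkMap d).hom ≤ maximalIdeal (X.presheaf.stalk (i d)) := by
  intro a ha
  rw [mem_maximalIdeal, mem_nonunits_iff]
  intro hu
  have h1 : IsUnit ((i.stalkMap d).hom a) := hu.map _
  rw [RingHom.mem_ker.1 ha] at h1
  exact not_isUnit_zero h1

theorem map_baseMap_maximalIdeal (z : ↥(pullback f i)) :
    (maximalIdeal (X.presheaf.stalk (i (pullback.snd f i z)))).map (baseMap f i z) =
      (maximalIdeal (X.presheaf.stalk (f (pullback.fst f i z)))).map
        (f.stalkMap (pullback.fst f i z)).hom := by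
  unfold baseMap
  rw [CommRingCat.hom_comp, ← Ideal.map_map]
  congr 1
  have e : Inseparable (i (pullback.snd f i z)) (f (pullback.fst f i z)) :=
    .of_eq (apply_fst_eq_apply_snd f i z).symm
  exact map_maximalIdeal_of_surjective _
    (ConcreteCategory.bijective_of_isIso (X.presheaf.stalkCongr e).hom).2

theorem length_fibRing_snd (z : ↥(pullback f i)) :
    Module.length ((pullback f i).presheaf.stalk z) (FibRing (pullback.snd f i) z) =
      Module.length (X'.presheaf.stalk (pullback.fst f i z)) (FibRing f (pullback.fst f i z)) := by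
  set ψ := ((pullback.fst f i).stalkMap z).hom with hψ
  set M := (maximalIdeal (X.presheaf.stalk (f (pullback.fst f i z)))).map
    (f.stalkMap (pullback.fst f i z)).hom with hM
  have hker : RingHom.ker ψ ≤ M := by
    rw [hψ, ker_stalkMap_fst, hM, ← map_baseMap_maximalIdeal]
    exact Ideal.map_mono (ker_stalkMap_le_maximalIdeal i _)
  have hmap : M.map ψ = (maximalIdeal (D.presheaf.stalk (pullback.snd f i z))).map
      ((pullback.snd f i).stalkMap z).hom := by
    rw [hM, ← map_baseMap_maximalIdeal, Ideal.map_map,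
      ← map_maximalIdeal_of_surjective (i.stalkMap (pullback.snd f i z)).hom
        (i.stalkMap_surjective _), Ideal.map_map]
    congr 1
    ext a
    exact stalkMap_fst_baseMap f i z a
  have h1 := length_quot_map_of_ker_le ψ ((pullback.fst f i).stalkMap_surjective z) M hker
  rw [length_quot_congr' hmap] at h1
  exact h1

end Groth.Agent.Lib.helper16.CIPull
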