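import Mathlib
import Groth.Prelude.Def_W4stktopologysheavesDim
import Groth.Agent.Lib.Helper16.PosetCat

/-!
# Dimension functions on sober spaces give rank functions on irreducible closed sets (helper16)
-/

universe u

namespace Groth.Agent.Lib.helper16.SoberRank

open Groth.Agent.Lib.helper16.PosetCat TopologicalSpace

variable {X : Type u} [TopologicalSpace X]

/-- closure of a point as an irreducible closed set -/
def cl (x : X) : IrreducibleCloseds X :=
  ⟨closure {x}, isIrreducible_singleton.closure, isClosed_closure⟩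

theorem codim_eq (Y Y' : IrreducibleCloseds X) : PtTop.codim Y (Y' : Set X) = cd Y Y' := rfl

theorem isCatenarySpace_iff : PtTop.IsCatenarySpace X ↔ IsCat (IrreducibleCloseds X) := Iff.rfl

theorem cl_le_cl {x y : X} : cl y ≤ cl x ↔ x ⤳ y := by
  rw [specializes_iff_closure_subset]; rfl

variable [QuasiSober X]

/-- generic point -/
noncomputable def gp (Z : IrreducibleCloseds X) : X := Z.isIrreducible.genericPoint

theorem closure_gp (Z : IrreducibleCloseds X) : closure {gp Z} = (Z : Set X) :=
  Z.isIrreducible.closure_genericPoint Z.isClosed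

theorem cl_gp (Z : IrreducibleCloseds X) : cl (gp Z) = Z :=
  IrreducibleCloseds.ext (closure_gp Z)

variable [T0Space X]

theorem gp_cl (x : X) : gp (cl x) = x := by
  have h : closure {gp (cl x)} = closure {x} := closure_gp (cl x)
  exact ((inseparable_iff_closure_eq.mpr h).eq)

theorem gp_specializes {Z Z' : IrreducibleCloseds X} (h : Z ≤ Z') : gp Z' ⤳ gp Z := by
  rw [← cl_le_cl, cl_gp, cl_gp]; exact h

theorem gp_injective : Function.Injective (gp : IrreducibleCloseds X → X) := by
  intro Z Z' h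
  rw [← cl_gp Z, ← cl_gp Z', h]

variable (δ : X → ℤ) (hδ : PtTop.IsDimensionFunction δ)
include hδ

theorem strictMono_rank : StrictMono (fun Z : IrreducibleCloseds X => δ (gp Z)) := by
  intro Z Z' h
  exact hδ.1 (gp Z') (gp Z) (gp_specializes h.le) (fun e => h.ne (gp_injective e).symm)

theorem rank_covBy (Z Z' : IrreducibleCloseds X) (h : Z ⋖ Z') : δ (gp Z') = δ (gp Z) + 1 := by
  apply hδ.2
  refine ⟨gp_specializes h.le, fun e => h.lt.ne (gp_injective e).symm, fun z hz1 hz2 => ?_⟩
  have h1 : cl z ≤ Z' := by rw [← cl_gp Z', cl_le_cl]; exact hz1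
  have h2 : Z ≤ cl z := by rw [← cl_gp Z, cl_le_cl]; exact hz2
  rcases h.eq_or_eq h2 h1 with e | e
  · right; rw [← gp_cl z, e]
  · left; rw [← gp_cl z, e]

theorem isCat_and_cd : IsCat (IrreducibleCloseds X) ∧
    ∀ Z Z' : IrreducibleCloseds X, Z ≤ Z' → cd Z Z' = ((δ (gp Z') - δ (gp Z)).toNat : ℕ∞) :=
  of_rank (fun Z => δ (gp Z)) (strictMono_rank δ hδ) (rank_covBy δ hδ)

theorem codim_cl {x y : X} (h : x ⤳ y) : cd (cl y) (cl x) = ((δ x - δ y).toNat : ℕ∞) := by
  rw [(isCat_and_cd δ hδ).2 _ _ (cl_le_cl.mpr h), gp_cl, gp_cl]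

end Groth.Agent.Lib.helper16.SoberRank
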