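import Mathlib
import Groth.Prelude.Def_W4stktopologysheavesDim
import Groth.Agent.Lib.Helper16.PosetCat2
import Groth.Agent.Lib.Helper16.SoberRank

/-!
# Irreducible closed subsets of subspaces; catenary spaces are local (helper16)
-/

universe u

namespace Groth.Agent.Lib.helper16.IrrSub

open Groth.Agent.Lib.helper16.PosetCat TopologicalSpace

variable {X : Type u} [TopologicalSpace X]

theorem isPreirreducible_inter_open {Z D : Set X}
    (hZ : IsPreirreducible Z) (hD : IsOpen D) : IsPreirreducible (Z ∩ D) := by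
  intro u v hu hv ⟨a, ⟨haZ, haD⟩, hau⟩ ⟨b, ⟨hbZ, hbD⟩, hbv⟩
  obtain ⟨c, hcZ, hc1, hc2⟩ := hZ (u ∩ D) (v ∩ D) (hu.inter hD) (hv.inter hD)
    ⟨a, haZ, hau, haD⟩ ⟨b, hbZ, hbv, hbD⟩
  exact ⟨c, ⟨hcZ, hc1.2⟩, hc1.1, hc2.1⟩

theorem isPreirreducible_of_image {A : Type*} [TopologicalSpace A] {g : A → X}
    (hg : Topology.IsInducing g) {Z : Set A} (h : IsPreirreducible (g '' Z)) :
    IsPreirreducible Z := by
  intro u v hu hv ⟨a, haZ, hau⟩ ⟨b, hbZ, hbv⟩
  obtain ⟨u', hu', rfl⟩ := hg.isOpen_iff.mp hu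
  obtain ⟨v', hv', rfl⟩ := hg.isOpen_iff.mp hv
  obtain ⟨_, ⟨c, hcZ, rfl⟩, hc1, hc2⟩ := h u' v' hu' hv' ⟨g a, ⟨a, haZ, rfl⟩, hau⟩
    ⟨g b, ⟨b, hbZ, rfl⟩, hbv⟩
  exact ⟨c, hcZ, hc1, hc2⟩

/-- irreducible closed subsets of a subspace embed into those of the space (closure of image) -/
noncomputable def emb (S : Set X) : IrreducibleCloseds ↥S ↪o IrreducibleCloseds X :=
  OrderEmbedding.ofMapLEIff (IrreducibleCloseds.map Subtype.val continuous_subtype_val) (by
    intro Z Z'
    constructor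
    · intro h
      have h' : closure (Subtype.val '' (Z : Set ↥S)) ⊆ closure (Subtype.val '' (Z' : Set ↥S)) := h
      have e1 := Topology.IsInducing.subtypeVal.closure_eq_preimage_closure_image (Z : Set ↥S)
      have e2 := Topology.IsInducing.subtypeVal.closure_eq_preimage_closure_image (Z' : Set ↥S)
      rw [Z.isClosed.closure_eq] at e1
      rw [Z'.isClosed.closure_eq] at e2
      show (Z : Set ↥S) ⊆ Z'
      rw [e1, e2]
      exact Set.preimage_mono h'
    · intro h
      exact IrreducibleCloseds.map_mono continuous_subtype_val h)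

theorem coe_emb (S : Set X) (Z : IrreducibleCloseds ↥S) :
    ((emb S Z : IrreducibleCloseds X) : Set X) = closure (Subtype.val '' (Z : Set ↥S)) := rfl

theorem range_emb {S U C : Set X} (hU : IsOpen U) (hC : IsClosed C) (hS : S = U ∩ C) :
    Set.range (emb S) = {W : IrreducibleCloseds X | (W : Set X) ⊆ C ∧ ((W : Set X) ∩ U).Nonempty} := by
  ext W
  constructor
  · rintro ⟨Z, rfl⟩
    refine ⟨?_, ?_⟩
    · rw [coe_emb]
      apply closure_minimal _ hC
      rintro _ ⟨z, -, rfl⟩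
      exact (hS.le z.2).2
    · obtain ⟨z, hz⟩ := Z.isIrreducible.nonempty
      refine ⟨z.1, ?_, ?_⟩
      · rw [coe_emb]; exact subset_closure ⟨z, hz, rfl⟩
      · exact (hS.le z.2).1
  · rintro ⟨hWC, hWU⟩
    have himg : Subtype.val '' (Subtype.val ⁻¹' (W : Set X) : Set ↥S) = (W : Set X) ∩ U := by
      rw [Subtype.image_preimage_coe, hS]
      ext x
      constructor
      · rintro ⟨⟨h1, _⟩, h3⟩; exact ⟨h3, h1⟩
      · rintro ⟨h1, h2⟩; exact ⟨⟨h2, hWC h1⟩, h1⟩
    have hne : (Subtype.val ⁻¹' (W : Set X) : Set ↥S).Nonempty := by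
      have : (Subtype.val '' (Subtype.val ⁻¹' (W : Set X) : Set ↥S)).Nonempty := by
        rw [himg]; exact hWU
      exact Set.image_nonempty.mp this
    have hirr : IsIrreducible (Subtype.val ⁻¹' (W : Set X) : Set ↥S) := by
      refine ⟨hne, isPreirreducible_of_image Topology.IsInducing.subtypeVal ?_⟩
      rw [himg]
      exact isPreirreducible_inter_open W.isIrreducible.isPreirreducible hU
    refine ⟨⟨_, hirr, W.isClosed.preimage continuous_subtype_val⟩, ?_⟩
    apply IrreducibleCloseds.ext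
    rw [coe_emb]
    show closure (Subtype.val '' (Subtype.val ⁻¹' (W : Set X) : Set ↥S)) = W
    rw [himg]
    apply subset_antisymm
    · exact closure_minimal Set.inter_subset_left W.isClosed
    · exact (isPreirreducible_iff_subset_closure_inter_open _).mp W.isIrreducible.isPreirreducible
        U hU hWU

theorem emb_convex {S : Set X} (hS : IsLocallyClosed S) (a b : IrreducibleCloseds ↥S)
    (p : IrreducibleCloseds X) (h1 : emb S a ≤ p) (h2 : p ≤ emb S b) : p ∈ Set.range (emb S) := by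
  obtain ⟨U, C, hU, hC, hSeq⟩ := hS
  have ha : emb S a ∈ Set.range (emb S) := ⟨a, rfl⟩
  have hb : emb S b ∈ Set.range (emb S) := ⟨b, rfl⟩
  rw [range_emb hU hC hSeq] at ha hb ⊢
  exact ⟨(show (p : Set X) ⊆ emb S b from h2).trans hb.1,
    ha.2.mono (Set.inter_subset_inter_left _ (show (emb S a : Set X) ⊆ p from h1))⟩

theorem isCat_of_isLocallyClosed (hX : IsCat (IrreducibleCloseds X)) {S : Set X}
    (hS : IsLocallyClosed S) : IsCat (IrreducibleCloseds ↥S) :=
  isCat_of_embedding (emb S) (emb_convex hS) hX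

theorem isCat_of_open_cover
    (h : ∀ x : X, ∃ U : Set X, IsOpen U ∧ x ∈ U ∧ IsCat (IrreducibleCloseds ↥U)) :
    IsCat (IrreducibleCloseds X) := by
  apply isCat_of_local
  intro a b hab
  obtain ⟨x, hx⟩ := a.isIrreducible.nonempty
  obtain ⟨U, hU, hxU, hcat⟩ := h x
  refine ⟨IrreducibleCloseds ↥U, inferInstance, emb U, emb_convex hU.isLocallyClosed, hcat, ?_, ?_⟩
  · rw [range_emb hU isClosed_univ (Set.inter_univ U).symm]
    exact ⟨Set.subset_univ _, ⟨x, hx, hxU⟩⟩
  · rw [range_emb hU isClosed_univ (Set.inter_univ U).symm]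
    exact ⟨Set.subset_univ _, ⟨x, hab hx, hxU⟩⟩

end Groth.Agent.Lib.helper16.IrrSub
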