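import Mathlib
import Groth.Prelude.Def_W4stktopologysheavesDim
import Groth.Prelude.Def_Found
import Groth.Agent.Lib.Helper16.PosetCat3
import Groth.Agent.Lib.Helper16.IrrSub

/-!
# Catenary spaces vs catenary rings (helper16)
-/

universe u

namespace Groth.Agent.Lib.helper16.CatSch

open Groth.Agent.Lib.helper16.PosetCat Groth.Agent.Lib.helper16.IrrSub TopologicalSpace
open AlgebraicGeometry

theorem isCat_of_isOpenEmbedding {X Y : Type*} [TopologicalSpace X] [TopologicalSpace Y]
    (f : Y → X) (hf : Topology.IsOpenEmbedding f) (hX : IsCat (IrreducibleCloseds X)) :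
    IsCat (IrreducibleCloseds Y) := by
  let e := IrreducibleCloseds.orderIsoOfIsOpenEmbedding f hf
  let φ : IrreducibleCloseds Y ↪o IrreducibleCloseds X :=
    e.toOrderEmbedding.trans (OrderEmbedding.subtype _)
  refine isCat_of_embedding φ (fun a b p h1 _ => ?_) hX
  have hne : (f ⁻¹' (p : Set X)).Nonempty :=
    (e a).2.mono (Set.preimage_mono (show ((e a : IrreducibleCloseds X) : Set X) ⊆ p from h1))
  exact ⟨e.symm ⟨p, hne⟩, by simp [φ]⟩

theorem isCatenarySpace_homeomorph {X Y : Type u} [TopologicalSpace X] [TopologicalSpace Y]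
    (h : X ≃ₜ Y) : PtTop.IsCatenarySpace X ↔ PtTop.IsCatenarySpace Y :=
  ⟨isCat_of_isOpenEmbedding h.symm h.symm.isOpenEmbedding,
    isCat_of_isOpenEmbedding h h.isOpenEmbedding⟩

theorem isCatenarySpace_primeSpectrum_iff (R : Type u) [CommRing R] :
    PtTop.IsCatenarySpace (PrimeSpectrum R) ↔ CAlg.IsCatenary R := by
  show IsCat (IrreducibleCloseds (PrimeSpectrum R)) ↔ _
  rw [isCat_iff_isCat', ← isCat'_antiIso_iff (PrimeSpectrum.pointsEquivIrreducibleCloseds R)]
  rfl

theorem isCatenarySpace_affineOpen_iff {S : Scheme.{u}} {U : S.Opens} (hU : IsAffineOpen U) :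
    PtTop.IsCatenarySpace ↥U ↔ CAlg.IsCatenary Γ(S, U) := by
  rw [← isCatenarySpace_primeSpectrum_iff]
  exact isCatenarySpace_homeomorph (hU.isoSpec.hom.homeomorph)

end Groth.Agent.Lib.helper16.CatSch
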