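import Groth.Agent.Lib.Helper7.SurfCartier
import Groth.Agent.Lib.Helper18.AbsCurveDiv
import Groth.Agent.Lib.Helper16.QCohAss

/-!
# Divisorial part of a closed subscheme (helper16), part 1: points, primes, heights

Dictionary between points of an affine open and primes, local dimensions as heights, and maximal
points of closed subsets.
-/

set_option autoImplicit false
universe u
open CategoryTheory CategoryTheory.Limits AlgebraicGeometry TopologicalSpace Opposite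

namespace Groth.Agent.Lib.helper16.CodimDiv

open Groth.Agent.Lib.helper16.QCohAss Groth.Agent.Lib.helper7.SurfCartier

variable {X : Scheme.{u}}

/-- generizations of a point of an affine open lie in it and have smaller primes -/
theorem le_primeIdealOf_of_specializes {W : X.Opens} (hW : IsAffineOpen W) {x y : X} (h : y ⤳ x)
    (hx : x ∈ W) :
    ∃ hy : y ∈ W, (hW.primeIdealOf ⟨y, hy⟩).asIdeal ≤ (hW.primeIdealOf ⟨x, hx⟩).asIdeal := by
  have hy : y ∈ W := h.mem_open W.2 hx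
  refine ⟨hy, ?_⟩
  have e1 : hW.fromSpec (hW.primeIdealOf ⟨y, hy⟩) = y := hW.fromSpec_primeIdealOf ⟨y, hy⟩
  have e2 : hW.fromSpec (hW.primeIdealOf ⟨x, hx⟩) = x := hW.fromSpec_primeIdealOf ⟨x, hx⟩
  have hspec : hW.primeIdealOf ⟨y, hy⟩ ⤳ hW.primeIdealOf ⟨x, hx⟩ := by
    have h0 : hW.fromSpec (hW.primeIdealOf ⟨y, hy⟩) ⤳ hW.fromSpec (hW.primeIdealOf ⟨x, hx⟩) := by
      rw [e1, e2]; exact h
    exact hW.fromSpec.isOpenEmbedding.isInducing.specializes_iff.mp h0
  exact (PrimeSpectrum.le_iff_specializes _ _).mpr hspec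

theorem eq_of_primeIdealOf_eq {W : X.Opens} (hW : IsAffineOpen W) {x y : X} (hx : x ∈ W)
    (hy : y ∈ W)
    (h : (hW.primeIdealOf ⟨y, hy⟩).asIdeal = (hW.primeIdealOf ⟨x, hx⟩).asIdeal) : y = x := by
  have h' : hW.primeIdealOf ⟨y, hy⟩ = hW.primeIdealOf ⟨x, hx⟩ := PrimeSpectrum.ext h
  have e1 : hW.fromSpec (hW.primeIdealOf ⟨y, hy⟩) = y := hW.fromSpec_primeIdealOf ⟨y, hy⟩
  have e2 : hW.fromSpec (hW.primeIdealOf ⟨x, hx⟩) = x := hW.fromSpec_primeIdealOf ⟨x, hx⟩
  rw [← e1, ← e2, h']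

/-- a prime strictly containing a prime with a nonzerodivisor has height at least two -/
theorem two_le_height {R : Type*} [CommRing R] (P p : Ideal R) [P.IsPrime] [p.IsPrime] (t : R)
    (ht : t ∈ nonZeroDivisors R) (htP : t ∈ P) (hlt : P < p) : 2 ≤ p.height := by
  have h1 : P.height ≠ 0 := by
    intro h0
    have hmin : P ∈ minimalPrimes R := Ideal.height_eq_zero_iff.mp h0
    exact Set.disjoint_left.mp (Ideal.disjoint_nonZeroDivisors_of_mem_minimalPrimes hmin) htP ht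
  have h2 : 1 ≤ P.height := ENat.one_le_iff_ne_zero.mpr h1
  have h3 : P.height + 1 ≤ p.height := Ideal.height_add_one_le_of_lt_of_isPrime hlt
  calc (2 : ℕ∞) = 1 + 1 := by norm_num
    _ ≤ P.height + 1 := by gcongr
    _ ≤ p.height := h3

/-- local dimension is monotone under specialization -/
theorem dim_le_of_specializes {x y : X} (h : y ⤳ x) :
    ringKrullDim (X.presheaf.stalk y) ≤ ringKrullDim (X.presheaf.stalk x) := by
  obtain ⟨_, ⟨W, hW, rfl⟩, hxW, -⟩ :=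
    X.isBasis_affineOpens.exists_subset_of_mem_open (Set.mem_univ x) isOpen_univ
  obtain ⟨hyW, hle⟩ := le_primeIdealOf_of_specializes hW h hxW
  rw [Groth.Agent.Lib.Helper18.AbsCurveDiv.ringKrullDim_stalk_eq_height hW x hxW,
    Groth.Agent.Lib.Helper18.AbsCurveDiv.ringKrullDim_stalk_eq_height hW y hyW]
  exact_mod_cast Ideal.height_mono hle

/-- the prime of a maximal point is a minimal prime -/
theorem primeIdealOf_mem_minimalPrimes {W : X.Opens} (hW : IsAffineOpen W) {η : X} (hη : η ∈ W)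
    (hmax : ∀ y : X, y ⤳ η → y = η) :
    (hW.primeIdealOf ⟨η, hη⟩).asIdeal ∈ minimalPrimes Γ(X, W) := by
  refine ⟨⟨inferInstance, bot_le⟩, fun q hq hle => ?_⟩
  haveI := hq.1
  let Q : PrimeSpectrum Γ(X, W) := ⟨q, hq.1⟩
  have hyW : hW.fromSpec Q ∈ W := fromSpec_mem hW Q
  have hpQ : hW.primeIdealOf ⟨hW.fromSpec Q, hyW⟩ = Q := primeIdealOf_fromSpec hW Q
  have hspec : hW.fromSpec Q ⤳ η := by
    refine specializes_of_le hW η (hW.fromSpec Q) hη hyW ?_
    rw [hpQ]; exact hle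
  have heq := hmax _ hspec
  have : (hW.primeIdealOf ⟨η, hη⟩) = Q := by
    rw [← hpQ]
    congr 1
    exact Subtype.ext heq.symm
  rw [this]

/-- the point of a minimal prime is a maximal point -/
theorem maxPt_of_mem_minimalPrimes {W : X.Opens} (hW : IsAffineOpen W)
    (Q : PrimeSpectrum Γ(X, W)) (hQ : Q.asIdeal ∈ minimalPrimes Γ(X, W)) (y : X)
    (hy : y ⤳ hW.fromSpec Q) : y = hW.fromSpec Q := by
  have hηW : hW.fromSpec Q ∈ W := fromSpec_mem hW Q
  obtain ⟨hyW, hle⟩ := le_primeIdealOf_of_specializes hW hy hηW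
  rw [primeIdealOf_fromSpec hW Q] at hle
  have hge : Q.asIdeal ≤ (hW.primeIdealOf ⟨y, hyW⟩).asIdeal :=
    hQ.2 ⟨inferInstance, bot_le⟩ hle
  refine eq_of_primeIdealOf_eq hW hηW hyW ?_
  rw [primeIdealOf_fromSpec hW Q]
  exact le_antisymm hle hge

/-- maximal points have zero-dimensional local rings -/
theorem dim_eq_zero_of_maxPt {η : X} (hmax : ∀ y : X, y ⤳ η → y = η) :
    ringKrullDim (X.presheaf.stalk η) = 0 := by
  obtain ⟨_, ⟨W, hW, rfl⟩, hηW, -⟩ :=
    X.isBasis_affineOpens.exists_subset_of_mem_open (Set.mem_univ η) isOpen_univ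
  rw [Groth.Agent.Lib.Helper18.AbsCurveDiv.ringKrullDim_stalk_eq_height hW η hηW]
  have := Ideal.height_eq_zero_iff.mpr (primeIdealOf_mem_minimalPrimes hW hηW hmax)
  rw [this]
  rfl

/-- every point of a closed subset has a generization which is a maximal point of the subset -/
theorem exists_maxPt (Z' : Set X) (hZ' : IsClosed Z') (z : X) (hz : z ∈ Z') :
    ∃ y ∈ Z', y ⤳ z ∧ ∀ w ∈ Z', w ⤳ y → w = y := by
  obtain ⟨_, ⟨W, hW, rfl⟩, hzW, -⟩ :=
    X.isBasis_affineOpens.exists_subset_of_mem_open (Set.mem_univ z) isOpen_univ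
  let 𝓥 : X.IdealSheafData := Scheme.IdealSheafData.vanishingIdeal ⟨Z', hZ'⟩
  have hsupp : ∀ x : X, x ∈ 𝓥.support ↔ x ∈ Z' := by
    intro x
    have : (𝓥.support : Set X) = Z' := Scheme.IdealSheafData.coe_support_vanishingIdeal _
    rw [← this]; rfl
  set J := 𝓥.ideal ⟨W, hW⟩ with hJ
  have hJz : J ≤ (hW.primeIdealOf ⟨z, hzW⟩).asIdeal :=
    (mem_support_iff_le_primeIdealOf 𝓥 ⟨W, hW⟩ z hzW).mp ((hsupp z).mpr hz)
  obtain ⟨q, hq, hqz⟩ := Ideal.exists_minimalPrimes_le hJz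
  haveI := hq.1.1
  let Q : PrimeSpectrum Γ(X, W) := ⟨q, hq.1.1⟩
  have hyW : hW.fromSpec Q ∈ W := fromSpec_mem hW Q
  have hpQ : hW.primeIdealOf ⟨hW.fromSpec Q, hyW⟩ = Q := primeIdealOf_fromSpec hW Q
  refine ⟨hW.fromSpec Q, ?_, ?_, ?_⟩
  · rw [← hsupp, mem_support_iff_le_primeIdealOf 𝓥 ⟨W, hW⟩ _ hyW, hpQ]
    exact hq.1.2
  · refine specializes_of_le hW z (hW.fromSpec Q) hzW hyW ?_
    rw [hpQ]; exact hqz
  · intro w hw hwy
    obtain ⟨hwW, hle⟩ := le_primeIdealOf_of_specializes hW hwy hyW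
    rw [hpQ] at hle
    have hJw : J ≤ (hW.primeIdealOf ⟨w, hwW⟩).asIdeal :=
      (mem_support_iff_le_primeIdealOf 𝓥 ⟨W, hW⟩ w hwW).mp ((hsupp w).mpr hw)
    have hge : q ≤ (hW.primeIdealOf ⟨w, hwW⟩).asIdeal := hq.2 ⟨inferInstance, hJw⟩ hle
    refine eq_of_primeIdealOf_eq hW hyW hwW ?_
    rw [hpQ]
    exact le_antisymm hle hge

end Groth.Agent.Lib.helper16.CodimDiv
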