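import Groth.Agent.Lib.Helper16.CodimDiv1

/-!
# Divisorial part of a closed subscheme (helper16), part 2: integral closed subschemes
-/

set_option autoImplicit false
universe u
open CategoryTheory CategoryTheory.Limits AlgebraicGeometry TopologicalSpace Opposite

namespace Groth.Agent.Lib.helper16.CodimDiv

open Groth.Agent.Lib.helper16.QCohAss Groth.Agent.Lib.helper7.SurfCartier

variable {X : Scheme.{u}}

section Integral

variable (𝓓 : X.IdealSheafData) [hint : IsIntegral 𝓓.subscheme]

include hint in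
/-- the ideal of an integral closed subscheme on an affine open meeting it is prime -/
theorem isPrime_ideal (W : X.affineOpens) (x : X) (hxW : x ∈ W.1) (hx : x ∈ 𝓓.support) :
    (𝓓.ideal W).IsPrime := by
  have hx' : x ∈ Set.range 𝓓.subschemeι := by
    rw [Scheme.IdealSheafData.range_subschemeι]; exact hx
  obtain ⟨c, rfl⟩ := hx'
  haveI : Nonempty (𝓓.subschemeι ⁻¹ᵁ W.1) := ⟨⟨c, hxW⟩⟩
  haveI : IsDomain Γ(𝓓.subscheme, 𝓓.subschemeι ⁻¹ᵁ W.1) :=
    AlgebraicGeometry.IsIntegral.component_integral (X := 𝓓.subscheme) (𝓓.subschemeι ⁻¹ᵁ W.1)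
  rw [← 𝓓.ker_subschemeι_app W]
  exact RingHom.ker_isPrime _

include hint in
theorem radical_eq : 𝓓.radical = 𝓓 := by
  refine le_antisymm ?_ (Scheme.IdealSheafData.le_radical _)
  intro W f hf
  change f ∈ (𝓓.ideal W).radical at hf
  obtain ⟨n, hn⟩ := hf
  rw [← 𝓓.ker_subschemeι_app W, RingHom.mem_ker] at hn ⊢
  rw [map_pow] at hn
  haveI : IsReduced 𝓓.subscheme := inferInstance
  exact IsReduced.eq_zero _ ⟨n, hn⟩

include hint in
/-- an ideal sheaf whose support contains an integral closed subscheme is contained in its ideal -/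
theorem le_of_support_le (𝓩 : X.IdealSheafData) (h : 𝓓.support ≤ 𝓩.support) : 𝓩 ≤ 𝓓 := by
  have h1 : 𝓩 ≤ Scheme.IdealSheafData.vanishingIdeal 𝓓.support :=
    Scheme.IdealSheafData.le_support_iff_le_vanishingIdeal.mp h
  rwa [Scheme.IdealSheafData.vanishingIdeal_support, radical_eq] at h1

include hint in
/-- if the ideal of an integral closed subscheme on an affine open is the prime of a point `z`,
every closed set containing `z` contains the subscheme -/
theorem support_subset_of_ideal_eq (W : X.affineOpens) (z : X) (hzW : z ∈ W.1)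
    (hz : 𝓓.ideal W = (W.2.primeIdealOf ⟨z, hzW⟩).asIdeal) (T : Set X) (hT : IsClosed T)
    (hzT : z ∈ T) : (𝓓.support : Set X) ⊆ T := by
  haveI : IrreducibleSpace 𝓓.subscheme := inferInstance
  have hirr : IsIrreducible (𝓓.support : Set X) := isIrreducible_support 𝓓
  have hzS : z ∈ 𝓓.support := by
    rw [mem_support_iff_le_primeIdealOf 𝓓 W z hzW, hz]
  have h1 : (𝓓.support : Set X) ⊆ closure ((𝓓.support : Set X) ∩ (W.1 : Set X)) :=
    subset_closure_inter_of_isPreirreducible_of_isOpen hirr.isPreirreducible W.1.2 ⟨z, hzS, hzW⟩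
  refine h1.trans (closure_minimal ?_ hT)
  rintro x ⟨hxS, hxW⟩
  have hle : (W.2.primeIdealOf ⟨z, hzW⟩).asIdeal ≤ (W.2.primeIdealOf ⟨x, hxW⟩).asIdeal := by
    rw [← hz]
    exact (mem_support_iff_le_primeIdealOf 𝓓 W x hxW).mp hxS
  have hspec : z ⤳ x := specializes_of_le W.2 x z hxW hzW hle
  exact hT.closure_subset_iff.mpr (Set.singleton_subset_iff.mpr hzT) hspec.mem_closure

end Integral

end Groth.Agent.Lib.helper16.CodimDiv
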