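import Groth.Agent.Lib.Helper16.CodimDiv2
import Groth.Prelude.Def_BlowUp2

/-!
# Divisorial part of a closed subscheme (helper16), part 3: the two key local arguments
-/

set_option autoImplicit false
universe u
open CategoryTheory CategoryTheory.Limits AlgebraicGeometry TopologicalSpace Opposite

namespace Groth.Agent.Lib.helper16.CodimDiv

open Groth.Agent.Lib.helper16.QCohAss Groth.Agent.Lib.helper7.SurfCartier

variable {X : Scheme.{u}}

/-- **Nakayama step**: if `𝓩 * 𝓓 = 𝓩` for an integral effective Cartier divisor `𝓓` then the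
support of `𝓩` contains a maximal point of `X`. -/
theorem exists_maxPt_of_mul_eq [IsLocallyNoetherian X] (𝓩 𝓓 : X.IdealSheafData)
    [hint : IsIntegral 𝓓.subscheme] (hD : BlowUp.IsEffCartierIdeal 𝓓) (h : 𝓩 * 𝓓 = 𝓩) :
    ∃ η : X, η ∈ 𝓩.support ∧ ∀ y : X, y ⤳ η → y = η := by
  obtain ⟨c⟩ : Nonempty 𝓓.subscheme := inferInstance
  set x : X := 𝓓.subschemeι c with hxdef
  have hxS : x ∈ 𝓓.support := by
    have : x ∈ Set.range 𝓓.subschemeι := ⟨c, rfl⟩
    rwa [Scheme.IdealSheafData.range_subschemeι] at this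
  obtain ⟨W, hxW, t, ht, hW⟩ := hD x
  haveI : IsNoetherianRing Γ(X, W.1) := IsLocallyNoetherian.component_noetherian W
  haveI hP : (𝓓.ideal W).IsPrime := isPrime_ideal 𝓓 W x hxW hxS
  set J : Ideal Γ(X, W.1) := 𝓩.ideal W with hJ
  have hJeq : J * Ideal.span {t} = J := by
    have := congrArg (fun A : X.IdealSheafData => A.ideal W) h
    simp only [Scheme.IdealSheafData.ideal_mul, Pi.mul_apply] at this
    rw [hW] at this
    exact this
  have hle : (J : Submodule Γ(X, W.1) Γ(X, W.1)) ≤ (Ideal.span {t} : Ideal Γ(X, W.1)) • J := by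
    have h2 : (Ideal.span {t} : Ideal Γ(X, W.1)) • J = J := by
      rw [smul_eq_mul, mul_comm]; exact hJeq
    rw [h2]
  obtain ⟨r, hr1, hr0⟩ := Submodule.exists_sub_one_mem_and_smul_eq_zero_of_fg_of_le_smul
    (Ideal.span {t} : Ideal Γ(X, W.1)) J (IsNoetherian.noetherian J) hle
  have hrP : r ∉ 𝓓.ideal W := by
    intro hr
    apply hP.ne_top
    rw [Ideal.eq_top_iff_one]
    have h3 : r - 1 ∈ 𝓓.ideal W := hW ▸ hr1
    have : (1 : Γ(X, W.1)) = r - (r - 1) := by ring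
    rw [this]
    exact Ideal.sub_mem _ hr h3
  obtain ⟨q, hq, hqP⟩ := Ideal.exists_minimalPrimes_le (bot_le : (⊥ : Ideal Γ(X, W.1)) ≤ 𝓓.ideal W)
  haveI := hq.1.1
  let Q : PrimeSpectrum Γ(X, W.1) := ⟨q, hq.1.1⟩
  have hηW : W.2.fromSpec Q ∈ W.1 := fromSpec_mem W.2 Q
  refine ⟨W.2.fromSpec Q, ?_, maxPt_of_mem_minimalPrimes W.2 Q hq⟩
  rw [mem_support_iff_le_primeIdealOf 𝓩 W _ hηW, primeIdealOf_fromSpec W.2 Q]
  intro n hn
  have h0 : r * n = 0 := hr0 n hn
  have hrq : r ∉ q := fun hr => hrP (hqP hr)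
  have : r * n ∈ q := by rw [h0]; exact zero_mem _
  exact (hq.1.1.mem_or_mem this).resolve_left hrq

section Cover

variable {I : Type u} (𝓓 : I → X.IdealSheafData) (hD : ∀ i, BlowUp.IsEffCartierIdeal (𝓓 i))
  (Z' : Set X)
  (hcodim : ∀ z ∈ Z', (∀ y ∈ Z', y ⤳ z → y = z) →
    (2 : WithBot ℕ∞) ≤ ringKrullDim (X.presheaf.stalk z))

include hD hcodim in
/-- no maximal point of `X` lies in `Z' ∪ ⋃ D_i` -/
theorem not_maxPt_of_mem_cover (η : X) (hη : η ∈ Z' ∪ ⋃ i, ((𝓓 i).support : Set X))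
    (hmax : ∀ y : X, y ⤳ η → y = η) : False := by
  rcases hη with hη | hη
  · have h2 := hcodim η hη (fun y _ hy => hmax y hy)
    rw [dim_eq_zero_of_maxPt hmax] at h2
    exact absurd h2 (by decide)
  · obtain ⟨i, hi⟩ := Set.mem_iUnion.mp hη
    obtain ⟨W, hηW, t, ht, hW⟩ := hD i η
    have hmin := primeIdealOf_mem_minimalPrimes W.2 hηW hmax
    have htp : t ∈ (W.2.primeIdealOf ⟨η, hηW⟩).asIdeal := by
      apply (mem_support_iff_le_primeIdealOf (𝓓 i) W η hηW).mp hi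
      rw [hW]; exact Ideal.mem_span_singleton_self t
    exact Set.disjoint_left.mp (Ideal.disjoint_nonZeroDivisors_of_mem_minimalPrimes hmin) htp ht

variable (hDint : ∀ i, IsIntegral (𝓓 i).subscheme) (hZ' : IsClosed Z')

include hD hcodim hDint hZ' in
/-- a point of small local dimension in the support of `𝓩` forces some `D_i` into the support -/
theorem exists_le_of_lowdim (𝓩 : X.IdealSheafData)
    (hcover : (𝓩.support : Set X) ⊆ Z' ∪ ⋃ i, ((𝓓 i).support : Set X)) (z : X)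
    (hz : z ∈ 𝓩.support) (hdim : ¬ (2 : WithBot ℕ∞) ≤ ringKrullDim (X.presheaf.stalk z)) :
    ∃ i, 𝓩 ≤ 𝓓 i := by
  rcases hcover hz with hzZ' | hzD
  · exfalso
    obtain ⟨y, hyZ', hyz, hymax⟩ := exists_maxPt Z' hZ' z hzZ'
    exact hdim ((hcodim y hyZ' hymax).trans (dim_le_of_specializes hyz))
  · obtain ⟨i, hi⟩ := Set.mem_iUnion.mp hzD
    refine ⟨i, ?_⟩
    haveI := hDint i
    obtain ⟨W, hzW, t, ht, hW⟩ := hD i z
    haveI hP : ((𝓓 i).ideal W).IsPrime := isPrime_ideal (𝓓 i) W z hzW hi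
    have hle : (𝓓 i).ideal W ≤ (W.2.primeIdealOf ⟨z, hzW⟩).asIdeal :=
      (mem_support_iff_le_primeIdealOf (𝓓 i) W z hzW).mp hi
    have heq : (𝓓 i).ideal W = (W.2.primeIdealOf ⟨z, hzW⟩).asIdeal := by
      by_contra hne
      have hlt : (𝓓 i).ideal W < (W.2.primeIdealOf ⟨z, hzW⟩).asIdeal := lt_of_le_of_ne hle hne
      have htP : t ∈ (𝓓 i).ideal W := by rw [hW]; exact Ideal.mem_span_singleton_self t
      have h2 := two_le_height ((𝓓 i).ideal W) (W.2.primeIdealOf ⟨z, hzW⟩).asIdeal t ht htP hlt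
      apply hdim
      rw [Groth.Agent.Lib.Helper18.AbsCurveDiv.ringKrullDim_stalk_eq_height W.2 z hzW]
      exact (WithBot.coe_le_coe.mpr h2 : ((2 : ℕ∞) : WithBot ℕ∞) ≤ _)
    refine le_of_support_le (𝓓 i) 𝓩 ?_
    exact support_subset_of_ideal_eq (𝓓 i) W z hzW heq _ 𝓩.support.isClosed hz

end Cover

end Groth.Agent.Lib.helper16.CodimDiv
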