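import Mathlib
import Groth.Prelude.Def_W4c6modpairsegaMP
import Groth.Agent.Lib.Helper16.EffCartier

/-!
# More on effective Cartier ideals (helper16): interior is affine over the scheme; nonzerodivisor criterion
via a scheme-theoretically dominant map.
-/

set_option autoImplicit false
universe u
open CategoryTheory CategoryTheory.Limits AlgebraicGeometry TopologicalSpace Opposite

namespace Groth.Agent.Lib.helper16.EffCartier2

open Scheme.IdealSheafData Groth.Agent.Lib.helper16.EffCartier

/-- on a chart `(V, t)` of `K`, the interior of `K` meets `V` in `D(t)`. -/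
lemma interior_inf_chart {X : Scheme.{u}} (K : X.IdealSheafData) (V : X.affineOpens) (t : Γ(X, V.1))
    (hV : K.ideal V = Ideal.span {t}) : ModPair.interior K ⊓ V.1 = X.basicOpen t := by
  ext y
  constructor
  · rintro ⟨hyK, hyV⟩
    by_contra hy
    apply hyK
    show y ∈ K.support
    rw [mem_support_iff_of_mem (U := V) hyV, Scheme.mem_zeroLocus_iff]
    intro s hs hys
    rw [hV] at hs
    obtain ⟨a, rfl⟩ := Ideal.mem_span_singleton'.mp hs
    rw [Scheme.basicOpen_mul] at hys
    exact hy hys.2
  · intro hy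
    have hyV : y ∈ V.1 := X.basicOpen_le t hy
    refine ⟨?_, hyV⟩
    show y ∉ K.support
    rw [mem_support_iff_of_mem (U := V) hyV, Scheme.mem_zeroLocus_iff]
    intro h
    exact h t (hV ▸ Ideal.mem_span_singleton_self t) hy

/-- the complement of an effective Cartier divisor is affine over the ambient scheme. -/
theorem isAffineHom_interior_ι {X : Scheme.{u}} (K : X.IdealSheafData)
    (hK : BlowUp.IsEffCartierIdeal K) : IsAffineHom (ModPair.interior K).ι := by
  apply isAffineHom_of_forall_exists_isAffineOpen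
  intro x
  obtain ⟨V, hxV, t, ht, hV⟩ := hK x
  refine ⟨V.1, hxV, V.2, ?_⟩
  rw [← (ModPair.interior K).ι.isAffineOpen_iff_of_isOpenImmersion,
    Scheme.Hom.image_preimage_eq_opensRange_inf, Scheme.Opens.opensRange_ι,
    interior_inf_chart K V t hV]
  exact V.2.basicOpen t

/-- a section whose basic open is everything is a unit. -/
lemma isUnit_of_le_basicOpen {X : Scheme.{u}} {U : X.Opens} (s : Γ(X, U)) (h : U ≤ X.basicOpen s) :
    IsUnit s := by
  apply X.toRingedSpace.isUnit_of_isUnit_germ U s
  intro x hx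
  exact (X.mem_basicOpen s x hx).mp (h hx)

/-- if `h : U ⟶ Y` is scheme-theoretically dominant and quasi-compact and the pullback of a section
`t` is invertible on `U` (over `V'`), then the pullback of `t` to `V'` is a nonzerodivisor. -/
theorem appLE_mem_nonZeroDivisors_of_dominant {U Y X : Scheme.{u}} (h : U ⟶ Y)
    [IsSchemeTheoreticallyDominant h] [QuasiCompact h] (r : Y ⟶ X) (V : X.Opens) (t : Γ(X, V))
    (V' : Y.Opens) (e : V' ≤ r ⁻¹ᵁ V) (hU : ∀ u : U, h u ∈ V' → r (h u) ∈ X.basicOpen t) :
    (r.appLE V V' e).hom t ∈ nonZeroDivisors Γ(Y, V') := by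
  rw [mem_nonZeroDivisors_iff_left]
  intro a ha
  apply h.app_injective V'
  rw [map_zero]
  have h1 : (h.app V').hom a * (h.app V').hom ((r.appLE V V' e).hom t) = 0 := by
    rw [← map_mul, mul_comm, ha, map_zero]
  have h2 : IsUnit ((h.app V').hom ((r.appLE V V' e).hom t)) := by
    apply isUnit_of_le_basicOpen
    intro u hu
    rw [← Scheme.preimage_basicOpen, Scheme.basicOpen_appLE]
    exact ⟨hu, hU u hu⟩
  exact (h2.mul_left_eq_zero).mp h1

/-- the map to the scheme-theoretic image of a quasi-compact morphism is scheme-theoretically dominant. -/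
theorem toImage_isSchemeTheoreticallyDominant {X Y : Scheme.{u}} (f : X ⟶ Y) [QuasiCompact f] :
    IsSchemeTheoreticallyDominant f.toImage := by
  rw [isSchemeTheoreticallyDominant_iff]
  refine ext_of_iSup_eq_top
    (fun U : Y.affineOpens => ⟨f.imageι ⁻¹ᵁ U.1, U.2.preimage f.imageι⟩) ?_ (fun U => ?_)
  · rw [eq_top_iff]
    intro x _
    obtain ⟨_, ⟨V, hV, rfl⟩, hxV, -⟩ :=
      (Y.isBasis_affineOpens).exists_subset_of_mem_open (Set.mem_univ (f.imageι x)) isOpen_univ
    exact TopologicalSpace.Opens.mem_iSup.mpr ⟨⟨V, hV⟩, hxV⟩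
  · rw [Scheme.Hom.ker_apply, Scheme.IdealSheafData.ideal_bot, Pi.bot_apply]
    exact (RingHom.injective_iff_ker_eq_bot _).mp (f.toImage_app_injective U)

end Groth.Agent.Lib.helper16.EffCartier2
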