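import Mathlib
import Groth.Prelude.Def_W4c6modpairsegaMP
import Groth.Agent.Lib.Helper16.EffCartier2

/-!
# Modulus pairs (`ModPair`): interiors, scheme-theoretic images of product interiors, admissible blow-ups (helper16)
-/


set_option autoImplicit false
universe u
open CategoryTheory CategoryTheory.Limits AlgebraicGeometry TopologicalSpace Opposite

namespace Groth.Agent.Lib.helper16.ModPairLib

open Scheme.IdealSheafData Groth.Agent.Lib.helper16.EffCartier Groth.Agent.Lib.helper16.EffCartier2

/-- base change of "iso over an open": if `s` is an isomorphism over `O` and `g` maps `V` into `O`,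
then the base change of `s` along `g` is an isomorphism over `V`. -/
theorem isIso_snd_morphismRestrict {X S T : Scheme.{u}} (s : X ⟶ S) (g : T ⟶ S) (O : S.Opens)
    (V : T.Opens) (hV : V ≤ g ⁻¹ᵁ O) [IsIso (s ∣_ O)] : IsIso (pullback.snd s g ∣_ V) := by
  have hrange : Set.range (V.ι ≫ g) ⊆ Set.range O.ι := by
    rintro _ ⟨v, rfl⟩
    rw [Scheme.Opens.range_ι]
    exact hV v.2
  have h1 : IsPullback ((pullback.snd s g ⁻¹ᵁ V).ι ≫ pullback.fst s g) (pullback.snd s g ∣_ V) s
      (V.ι ≫ g) :=
    (isPullback_morphismRestrict (pullback.snd s g) V).flip.paste_horiz (IsPullback.of_hasPullback s g)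
  rw [← IsOpenImmersion.lift_fac O.ι (V.ι ≫ g) hrange] at h1
  exact (IsPullback.of_right' h1 (isPullback_morphismRestrict s O).flip).isIso_snd_of_isIso

/-- the scheme-theoretic image of an open subscheme restricts to that open subscheme. -/
theorem isIso_imageι_morphismRestrict {P : Scheme.{u}} (U₀ V : P.Opens) (hV : V = U₀) :
    IsIso (U₀.ι.imageι ∣_ V) := by
  subst hV
  have hrange : Set.range V.ι.toImage ⊆ Set.range (V.ι.imageι ⁻¹ᵁ V).ι := by
    rintro _ ⟨v, rfl⟩
    rw [Scheme.Opens.range_ι]
    show V.ι.imageι (V.ι.toImage v) ∈ V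
    rw [← Scheme.Hom.comp_apply, Scheme.Hom.toImage_imageι]
    exact v.2
  have hsec : IsOpenImmersion.lift (V.ι.imageι ⁻¹ᵁ V).ι V.ι.toImage hrange ≫ (V.ι.imageι ∣_ V) = 𝟙 _ := by
    rw [← cancel_mono V.ι, Category.assoc, morphismRestrict_ι, IsOpenImmersion.lift_fac_assoc,
      Scheme.Hom.toImage_imageι, Category.id_comp]
  haveI : IsSplitEpi (V.ι.imageι ∣_ V) := ⟨⟨_, hsec⟩⟩
  haveI : Mono (V.ι.imageι ∣_ V) := by
    haveI : IsClosedImmersion (V.ι.imageι ∣_ V) :=
      MorphismProperty.of_isPullback (isPullback_morphismRestrict V.ι.imageι V).flip inferInstance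
    infer_instance
  exact isIso_of_mono_of_isSplitEpi _


/-- if `I ≤ J.comap f` then `f` maps the interior of `I` into the interior of `J`. -/
lemma map_mem_interior {X Y : Scheme.{u}} {I : X.IdealSheafData} {J : Y.IdealSheafData} {f : X ⟶ Y}
    (h : ModPair.IsAmbient I J f) {x : X} (hx : x ∈ ModPair.interior I) : f x ∈ ModPair.interior J := by
  intro h'
  apply hx
  have : x ∈ (J.comap f).support := (mem_compl_support_comap J f x).mpr h'
  exact support_subset_of_le h this

/-- if `I = J.comap f` then the preimage of the interior of `J` is the interior of `I`. -/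
lemma mem_interior_of_isMinimal {X Y : Scheme.{u}} {I : X.IdealSheafData} {J : Y.IdealSheafData}
    {f : X ⟶ Y} (h : ModPair.IsMinimal I J f) {x : X} (hx : f x ∈ ModPair.interior J) :
    x ∈ ModPair.interior I := by
  intro h'
  apply hx
  have h'' : x ∈ (J.comap f).support := by
    have := h'
    rw [show I = J.comap f from h] at this
    exact this
  exact (mem_compl_support_comap J f x).mp h''

lemma isAmbient_of_isMinimal {X Y : Scheme.{u}} {I : X.IdealSheafData} {J : Y.IdealSheafData}
    {f : X ⟶ Y} (h : ModPair.IsMinimal I J f) : ModPair.IsAmbient I J f := le_of_eq h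

/-- for a minimal morphism the interior of the source is the preimage of the interior of the target. -/
lemma preimage_interior_of_isMinimal {X Y : Scheme.{u}} {I : X.IdealSheafData} {J : Y.IdealSheafData}
    {f : X ⟶ Y} (h : ModPair.IsMinimal I J f) : f ⁻¹ᵁ ModPair.interior J = ModPair.interior I :=
  le_antisymm (fun _ hx => mem_interior_of_isMinimal h hx)
    (fun _ hx => map_mem_interior (isAmbient_of_isMinimal h) hx)

/-- in the minimal case (second leg minimal) the product interior is the preimage of the interior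
of `X`. -/
lemma prodInterior_eq_fst {S T X : Scheme.{u}} (IS : S.IdealSheafData)
    (IT : T.IdealSheafData) (IX : X.IdealSheafData)
    (p : X ⟶ S) (hp : ModPair.IsAmbient IX IS p) (f : T ⟶ S) (hf : ModPair.IsMinimal IT IS f) :
    ModPair.prodInterior p f IX IT = pullback.fst p f ⁻¹ᵁ ModPair.interior IX := by
  apply le_antisymm inf_le_left
  intro x hx
  refine ⟨hx, ?_⟩
  show (pullback.snd p f) x ∈ ModPair.interior IT
  apply mem_interior_of_isMinimal hf
  have hcomm : f ((pullback.snd p f) x) = p ((pullback.fst p f) x) := by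
    rw [← Scheme.Hom.comp_apply, ← Scheme.Hom.comp_apply, pullback.condition]
  rw [hcomm]
  exact map_mem_interior hp hx

/-- in the minimal case (first leg minimal) the product interior is the preimage of the interior
of `T`. -/
lemma prodInterior_eq_snd {S T X : Scheme.{u}} (IS : S.IdealSheafData)
    (IT : T.IdealSheafData) (IX : X.IdealSheafData)
    (s : X ⟶ S) (hs : ModPair.IsMinimal IX IS s) (g : T ⟶ S) (hg : ModPair.IsAmbient IT IS g) :
    ModPair.prodInterior s g IX IT = pullback.snd s g ⁻¹ᵁ ModPair.interior IT := by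
  apply le_antisymm inf_le_right
  intro x hx
  refine ⟨?_, hx⟩
  show (pullback.fst s g) x ∈ ModPair.interior IX
  apply mem_interior_of_isMinimal hs
  have hcomm : s ((pullback.fst s g) x) = g ((pullback.snd s g) x) := by
    rw [← Scheme.Hom.comp_apply, ← Scheme.Hom.comp_apply, pullback.condition]
  rw [hcomm]
  exact map_mem_interior hg hx

/-- the intersection of two opens with affine inclusions has an affine inclusion. -/
theorem isAffineHom_inf_ι {P : Scheme.{u}} (U V : P.Opens) [IsAffineHom U.ι] [IsAffineHom V.ι] :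
    IsAffineHom (U ⊓ V).ι := by
  haveI : IsAffineHom (P.homOfLE (inf_le_left : U ⊓ V ≤ U)) :=
    MorphismProperty.of_isPullback (isPullback_opens_inf U V).flip inferInstance
  rw [← P.homOfLE_ι (inf_le_left : U ⊓ V ≤ U)]
  infer_instance

/-- the preimage of the interior of an effective Cartier ideal has an affine inclusion. -/
theorem isAffineHom_preimage_interior_ι {X P : Scheme.{u}} (I : X.IdealSheafData)
    (hI : BlowUp.IsEffCartierIdeal I) (ρ : P ⟶ X) : IsAffineHom (ρ ⁻¹ᵁ ModPair.interior I).ι := by
  haveI : IsAffineHom (ModPair.interior I).ι := isAffineHom_interior_ι I hI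
  exact MorphismProperty.of_isPullback (isPullback_morphismRestrict ρ (ModPair.interior I)) inferInstance

/-- the inclusion of the product interior is an affine morphism. -/
theorem isAffineHom_prodInterior_ι {S T X : Scheme.{u}} (f : X ⟶ S) (g : T ⟶ S)
    (I : X.IdealSheafData) (J : T.IdealSheafData) (hI : BlowUp.IsEffCartierIdeal I)
    (hJ : BlowUp.IsEffCartierIdeal J) : IsAffineHom (ModPair.prodInterior f g I J).ι := by
  haveI := isAffineHom_preimage_interior_ι I hI (pullback.fst f g)
  haveI := isAffineHom_preimage_interior_ι J hJ (pullback.snd f g)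
  exact isAffineHom_inf_ι _ _

/-- the pullback of an effective Cartier ideal to the scheme-theoretic image of an open `U₀` (with
quasi-compact inclusion) which maps into the interior is effective Cartier. -/
theorem isEffCartier_comap_imageι {X P : Scheme.{u}} (I : X.IdealSheafData)
    (hI : BlowUp.IsEffCartierIdeal I) (U₀ : P.Opens) [QuasiCompact U₀.ι] (ρ : P ⟶ X)
    (h : U₀ ≤ ρ ⁻¹ᵁ ModPair.interior I) :
    BlowUp.IsEffCartierIdeal (I.comap (U₀.ι.imageι ≫ ρ)) := by
  haveI := toImage_isSchemeTheoreticallyDominant U₀.ι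
  set r := U₀.ι.imageι ≫ ρ with hr
  intro y
  obtain ⟨V, hyV, t, ht, hV⟩ := hI (r y)
  obtain ⟨_, ⟨V', hV', rfl⟩, hyV', hVU⟩ :=
    ((U₀.ι.image).isBasis_affineOpens).exists_subset_of_mem_open
      (show y ∈ ((r ⁻¹ᵁ V.1 : (U₀.ι.image).Opens) : Set _) from hyV) (r ⁻¹ᵁ V.1).2
  refine ⟨⟨V', hV'⟩, hyV', (r.appLE V.1 V' hVU).hom t, ?_, ?_⟩
  · apply appLE_mem_nonZeroDivisors_of_dominant U₀.ι.toImage r V.1 t V' hVU
    intro u hu
    rw [← interior_inf_chart I V t hV]
    refine ⟨?_, hVU hu⟩
    have h1 : r (U₀.ι.toImage u) = ρ (U₀.ι u) := by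
      rw [hr, ← Scheme.Hom.comp_apply, ← Category.assoc, Scheme.Hom.toImage_imageι,
        Scheme.Hom.comp_apply]
    rw [h1]
    exact h u.2
  · rw [Groth.Agent.Lib.helper7.IdealComap.ideal_comap r I V.2 hV' hVU, hV, Ideal.map_span,
      Set.image_singleton]

/-- modulus condition for the second projection when the second leg is minimal. -/
lemma comap_fst_le_comap_snd {S T X Y : Scheme.{u}} (IS : S.IdealSheafData)
    (IT : T.IdealSheafData) (IX : X.IdealSheafData)
    (p : X ⟶ S) (hp : ModPair.IsAmbient IX IS p) (f : T ⟶ S) (hf : ModPair.IsMinimal IT IS f)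
    (ι : Y ⟶ pullback p f) :
    IX.comap (ι ≫ pullback.fst p f) ≤ IT.comap (ι ≫ pullback.snd p f) := by
  have h1 : IX.comap (pullback.fst p f) ≤ IT.comap (pullback.snd p f) := by
    have h2 : IT.comap (pullback.snd p f) = (IS.comap p).comap (pullback.fst p f) := by
      rw [show IT = IS.comap f from hf, ← Scheme.IdealSheafData.comap_comp,
        ← Scheme.IdealSheafData.comap_comp, pullback.condition]
    rw [h2]
    exact Scheme.IdealSheafData.comap_mono _ hp
  rw [Scheme.IdealSheafData.comap_comp, Scheme.IdealSheafData.comap_comp]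
  exact Scheme.IdealSheafData.comap_mono _ h1

/-- modulus condition for the first projection when the first leg is minimal. -/
lemma comap_snd_le_comap_fst {S T X Y : Scheme.{u}} (IS : S.IdealSheafData)
    (IT : T.IdealSheafData) (IX : X.IdealSheafData)
    (s : X ⟶ S) (hs : ModPair.IsMinimal IX IS s) (g : T ⟶ S) (hg : ModPair.IsAmbient IT IS g)
    (ι : Y ⟶ pullback s g) :
    IT.comap (ι ≫ pullback.snd s g) ≤ IX.comap (ι ≫ pullback.fst s g) := by
  have h1 : IT.comap (pullback.snd s g) ≤ IX.comap (pullback.fst s g) := by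
    have h2 : IX.comap (pullback.fst s g) = (IS.comap g).comap (pullback.snd s g) := by
      rw [show IX = IS.comap s from hs, ← Scheme.IdealSheafData.comap_comp,
        ← Scheme.IdealSheafData.comap_comp, pullback.condition]
    rw [h2]
    exact Scheme.IdealSheafData.comap_mono _ hg
  rw [Scheme.IdealSheafData.comap_comp, Scheme.IdealSheafData.comap_comp]
  exact Scheme.IdealSheafData.comap_mono _ h1

end Groth.Agent.Lib.helper16.ModPairLib
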