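import Mathlib
import Groth.Prelude.Def_W4c6modpairsegaMP
import Groth.Agent.Lib.Helper16.ModPairLib

/-!
# Modulus pairs: admissible blow-ups are multiplicative, and morphisms are determined after an admissible blow-up (helper16)
-/


set_option autoImplicit false
universe u
open CategoryTheory CategoryTheory.Limits AlgebraicGeometry TopologicalSpace Opposite

namespace Groth.Agent.Lib.helper16.ModPairLib2

open Scheme.IdealSheafData Groth.Agent.Lib.helper16.EffCartier Groth.Agent.Lib.helper16.EffCartier2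
  Groth.Agent.Lib.helper16.ModPairLib

/-- two morphisms into a scheme separated over `Z` which agree over `Z` and on a scheme-theoretically
dominant `ι` are equal. -/
theorem ext_of_schDominant_of_isSeparated {W X Y Z : Scheme.{u}} {f g : X ⟶ Y}
    (s : Y ⟶ Z) [IsSeparated s] (h : f ≫ s = g ≫ s)
    (ι : W ⟶ X) [IsSchemeTheoreticallyDominant ι] (hU : ι ≫ f = ι ≫ g) : f = g := by
  let X' : Over Z := Over.mk (f ≫ s)
  let Y' : Over Z := Over.mk s
  let U' : Over Z := Over.mk (ι ≫ f ≫ s)
  let f' : X' ⟶ Y' := Over.homMk f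
  let g' : X' ⟶ Y' := Over.homMk g (by simpa [X', Y'] using h.symm)
  let ι' : U' ⟶ X' := Over.homMk ι
  have : IsSeparated Y'.hom := ‹_›
  have hlift : ι' ≫ f' = ι' ≫ g' := by ext1; exact hU
  have hfac : (equalizer.lift ι' hlift).left ≫ (equalizer.ι f' g').left = ι := by
    rw [← Over.comp_left, equalizer.lift_ι]
    rfl
  have hker : (equalizer.ι f' g').left.ker = ⊥ := by
    rw [eq_bot_iff, ← ι.ker_eq_bot]
    have := Scheme.Hom.le_ker_comp (equalizer.lift ι' hlift).left (equalizer.ι f' g').left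
    rwa [hfac] at this
  have : IsIso (equalizer.ι f' g').left := IsClosedImmersion.isIso_iff_ker_eq_bot.mpr hker
  rw [← cancel_epi (equalizer.ι f' g').left]
  exact congr($(equalizer.condition f' g').left)


/-- the identity is an abstract admissible blow-up. -/
theorem isAdmBlowup_id {X : Scheme.{u}} (I : X.IdealSheafData) : ModPair.IsAdmBlowup I I (𝟙 X) := by
  exact ⟨(Scheme.IdealSheafData.comap_id I).symm, inferInstance, inferInstance⟩

/-- abstract admissible blow-ups compose. -/
theorem isAdmBlowup_comp {X Y Z : Scheme.{u}} {I : X.IdealSheafData} {J : Y.IdealSheafData}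
    {K : Z.IdealSheafData} {f : X ⟶ Y} {g : Y ⟶ Z} (hf : ModPair.IsAdmBlowup I J f)
    (hg : ModPair.IsAdmBlowup J K g) : ModPair.IsAdmBlowup I K (f ≫ g) := by
  obtain ⟨hf1, hf2, hf3⟩ := hf
  obtain ⟨hg1, hg2, hg3⟩ := hg
  refine ⟨?_, inferInstance, ?_⟩
  · show I = K.comap (f ≫ g)
    rw [Scheme.IdealSheafData.comap_comp, ← show J = K.comap g from hg1]
    exact hf1
  · rw [morphismRestrict_comp]
    have h1 : IsIso (f ∣_ g ⁻¹ᵁ ModPair.interior K) := by
      rw [preimage_interior_of_isMinimal hg1]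
      exact hf3
    exact IsIso.comp_isIso' h1 hg3

/-- a morphism of modulus pairs is determined by its composite with an abstract admissible blow-up. -/
theorem hom_ext_of_isAdmBlowup {X Y Z : Scheme.{u}} {I : X.IdealSheafData} {J : Y.IdealSheafData}
    {K : Z.IdealSheafData} (hI : BlowUp.IsEffCartierIdeal I) {f₁ f₂ : X ⟶ Y}
    (hf₁ : ModPair.IsAmbient I J f₁) (hf₂ : ModPair.IsAmbient I J f₂) {s : Y ⟶ Z}
    (hs : ModPair.IsAdmBlowup J K s) (h : f₁ ≫ s = f₂ ≫ s) : f₁ = f₂ := by
  obtain ⟨hs1, hs2, hs3⟩ := hs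
  haveI : IsSchemeTheoreticallyDominant (ModPair.interior I).ι :=
    ⟨ker_ι_eq_bot_of_isEffCartier I hI (ModPair.interior I) (fun x hx => hx)⟩
  refine ext_of_schDominant_of_isSeparated s h (ModPair.interior I).ι ?_
  have hr : ∀ (f : X ⟶ Y), ModPair.IsAmbient I J f →
      Set.range ((ModPair.interior I).ι ≫ f) ⊆ Set.range (s ⁻¹ᵁ ModPair.interior K).ι := by
    intro f hf
    rintro _ ⟨x, rfl⟩
    rw [Scheme.Opens.range_ι, preimage_interior_of_isMinimal hs1]
    exact map_mem_interior hf x.2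
  have key : IsOpenImmersion.lift (s ⁻¹ᵁ ModPair.interior K).ι ((ModPair.interior I).ι ≫ f₁) (hr f₁ hf₁) =
      IsOpenImmersion.lift (s ⁻¹ᵁ ModPair.interior K).ι ((ModPair.interior I).ι ≫ f₂) (hr f₂ hf₂) := by
    rw [← cancel_mono (s ∣_ ModPair.interior K), ← cancel_mono (ModPair.interior K).ι]
    simp only [Category.assoc, morphismRestrict_ι, IsOpenImmersion.lift_fac_assoc, h]
  rw [← IsOpenImmersion.lift_fac (s ⁻¹ᵁ ModPair.interior K).ι ((ModPair.interior I).ι ≫ f₁) (hr f₁ hf₁),
    key, IsOpenImmersion.lift_fac]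

end Groth.Agent.Lib.helper16.ModPairLib2
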