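import Mathlib
import Groth.Prelude.Def_W4c6modpairsegaMP
import Groth.Agent.Lib.Helper16.ModPairLib2

set_option autoImplicit false
universe u
open CategoryTheory CategoryTheory.Limits AlgebraicGeometry TopologicalSpace Opposite

namespace Groth.Agent.Lib.helper16.CoprodIdeal

open Scheme.IdealSheafData Groth.Agent.Lib.helper16.EffCartier Groth.Agent.Lib.helper16.EffCartier2
  Groth.Agent.Lib.helper16.ModPairLib Groth.Agent.Lib.helper16.ModPairLib2

/-- inequalities of ideal sheaves can be checked after pulling back to a jointly surjective family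
of open immersions. -/
theorem le_of_forall_comap_le {X : Scheme.{u}} {A B : X.IdealSheafData} {ι : Type*}
    {U : ι → Scheme.{u}} (j : ∀ i, U i ⟶ X) [∀ i, IsOpenImmersion (j i)]
    (hcov : ∀ x : X, ∃ i, x ∈ Set.range (j i))
    (h : ∀ i, A.comap (j i) ≤ B.comap (j i)) : A ≤ B := by
  refine Scheme.IdealSheafData.le_of_iSup_eq_top
    (fun p : Σ i, (U i).affineOpens =>
      (⟨j p.1 ''ᵁ p.2.1, p.2.2.image_of_isOpenImmersion (j p.1)⟩ : X.affineOpens)) ?_ ?_
  · rw [eq_top_iff]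
    intro x _
    obtain ⟨i, y, rfl⟩ := hcov x
    obtain ⟨_, ⟨W, hW, rfl⟩, hyW, -⟩ :=
      (U i).isBasis_affineOpens.exists_subset_of_mem_open (Set.mem_univ y) isOpen_univ
    exact Opens.mem_iSup.mpr ⟨⟨i, ⟨W, hW⟩⟩, ⟨y, hyW, rfl⟩⟩
  · rintro ⟨i, W⟩
    have h1 := h i W
    rw [Scheme.IdealSheafData.ideal_comap_of_isOpenImmersion,
      Scheme.IdealSheafData.ideal_comap_of_isOpenImmersion] at h1
    have hsurj : Function.Surjective ((j i).appIso W.1).inv.hom := by
      intro x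
      exact ⟨((j i).appIso W.1).hom.hom x, by
        rw [← CommRingCat.comp_apply, Iso.hom_inv_id]; rfl⟩
    exact (Ideal.comap_le_comap_iff_of_surjective _ hsurj _ _).mp h1

theorem eq_of_forall_comap_eq {X : Scheme.{u}} {A B : X.IdealSheafData} {ι : Type*}
    {U : ι → Scheme.{u}} (j : ∀ i, U i ⟶ X) [∀ i, IsOpenImmersion (j i)]
    (hcov : ∀ x : X, ∃ i, x ∈ Set.range (j i))
    (h : ∀ i, A.comap (j i) = B.comap (j i)) : A = B :=
  le_antisymm (le_of_forall_comap_le j hcov fun i => (h i).le)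
    (le_of_forall_comap_le j hcov fun i => (h i).ge)

/-- effective Cartier ideals can be detected on a jointly surjective family of open immersions. -/
theorem isEffCartier_of_forall_comap {X : Scheme.{u}} {A : X.IdealSheafData} {ι : Type*}
    {U : ι → Scheme.{u}} (j : ∀ i, U i ⟶ X) [∀ i, IsOpenImmersion (j i)]
    (hcov : ∀ x : X, ∃ i, x ∈ Set.range (j i))
    (h : ∀ i, BlowUp.IsEffCartierIdeal (A.comap (j i))) : BlowUp.IsEffCartierIdeal A := by
  intro x
  obtain ⟨i, y, rfl⟩ := hcov x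
  obtain ⟨W, hyW, t, ht, hW⟩ := h i y
  have hsurj : Function.Surjective ((j i).appIso W.1).inv.hom := by
    intro x
    exact ⟨((j i).appIso W.1).hom.hom x, by
      rw [← CommRingCat.comp_apply, Iso.hom_inv_id]; rfl⟩
  have hinj : Function.Injective ((j i).appIso W.1).inv.hom := by
    intro a b hab
    have := congrArg ((j i).appIso W.1).hom.hom hab
    rwa [← CommRingCat.comp_apply, ← CommRingCat.comp_apply, Iso.inv_hom_id] at this
  refine ⟨⟨j i ''ᵁ W.1, W.2.image_of_isOpenImmersion (j i)⟩, ⟨y, hyW, rfl⟩,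
    ((j i).appIso W.1).inv.hom t, ?_, ?_⟩
  · rw [mem_nonZeroDivisors_iff_right]
    intro s hs
    obtain ⟨s', rfl⟩ := hsurj s
    rw [← map_mul] at hs
    have : s' * t = 0 := hinj (by rw [hs, map_zero])
    rw [(mem_nonZeroDivisors_iff_right.mp ht) s' this, map_zero]
  · rw [Scheme.IdealSheafData.ideal_comap_of_isOpenImmersion] at hW
    have := congrArg (Ideal.map ((j i).appIso W.1).inv.hom) hW
    rwa [Ideal.map_comap_of_surjective _ hsurj, Ideal.map_span, Set.image_singleton] at this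


section binary
variable {A B : Scheme.{u}}

/-- the two-member family `inl`, `inr`. -/
noncomputable def binFam (A B : Scheme.{u}) : Bool → Scheme.{u} := fun b => if b then A else B

noncomputable def binMap (A B : Scheme.{u}) : ∀ b, binFam A B b ⟶ A ⨿ B
  | true => coprod.inl
  | false => coprod.inr

instance (b : Bool) : IsOpenImmersion (binMap A B b) := by
  cases b
  · exact inferInstanceAs (IsOpenImmersion (coprod.inr : B ⟶ A ⨿ B))
  · exact inferInstanceAs (IsOpenImmersion (coprod.inl : A ⟶ A ⨿ B))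

lemma binMap_cov (x : (A ⨿ B : Scheme.{u})) : ∃ b, x ∈ Set.range (binMap A B b) := by
  obtain ⟨(a | b), rfl⟩ := (coprodMk A B).surjective x
  · exact ⟨true, a, (coprodMk_inl A B a).symm⟩
  · exact ⟨false, b, (coprodMk_inr A B b).symm⟩

theorem le_of_comap_inl_inr {I J : (A ⨿ B : Scheme.{u}).IdealSheafData}
    (h1 : I.comap coprod.inl ≤ J.comap coprod.inl) (h2 : I.comap coprod.inr ≤ J.comap coprod.inr) :
    I ≤ J :=
  le_of_forall_comap_le (binMap A B) binMap_cov (fun b => by cases b <;> assumption)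

theorem eq_of_comap_inl_inr {I J : (A ⨿ B : Scheme.{u}).IdealSheafData}
    (h1 : I.comap coprod.inl = J.comap coprod.inl) (h2 : I.comap coprod.inr = J.comap coprod.inr) :
    I = J :=
  le_antisymm (le_of_comap_inl_inr h1.le h2.le) (le_of_comap_inl_inr h1.ge h2.ge)

theorem isEffCartier_of_comap_inl_inr {I : (A ⨿ B : Scheme.{u}).IdealSheafData}
    (h1 : BlowUp.IsEffCartierIdeal (I.comap coprod.inl))
    (h2 : BlowUp.IsEffCartierIdeal (I.comap coprod.inr)) : BlowUp.IsEffCartierIdeal I :=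
  isEffCartier_of_forall_comap (binMap A B) binMap_cov (fun b => by cases b <;> assumption)

/-- `coprod.desc a b` restricted over an open missing the image of `b` is an isomorphism if
`a` restricted over it is. -/
theorem isIso_desc_morphismRestrict_left {X : Scheme.{u}} (a : A ⟶ X) (b : B ⟶ X) (V : X.Opens)
    [IsIso (a ∣_ V)] (hb : ∀ y : B, b y ∉ V) : IsIso (coprod.desc a b ∣_ V) := by
  set p := coprod.desc a b with hp
  have hrange : Set.range ((a ⁻¹ᵁ V).ι ≫ coprod.inl) ⊆ Set.range (p ⁻¹ᵁ V).ι := by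
    rintro _ ⟨x, rfl⟩
    rw [Scheme.Opens.range_ι]
    show p (((a ⁻¹ᵁ V).ι ≫ coprod.inl) x) ∈ V
    rw [← Scheme.Hom.comp_apply, Category.assoc, hp, coprod.inl_desc]
    exact x.2
  let k : (a ⁻¹ᵁ V : Scheme.{u}) ⟶ (p ⁻¹ᵁ V : Scheme.{u}) :=
    IsOpenImmersion.lift (p ⁻¹ᵁ V).ι ((a ⁻¹ᵁ V).ι ≫ coprod.inl) hrange
  have hk : k ≫ (p ⁻¹ᵁ V).ι = (a ⁻¹ᵁ V).ι ≫ coprod.inl := IsOpenImmersion.lift_fac _ _ _
  have hkp : k ≫ (p ∣_ V) = a ∣_ V := by
    rw [← cancel_mono V.ι, Category.assoc, morphismRestrict_ι, ← Category.assoc, hk,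
      Category.assoc, hp, coprod.inl_desc, morphismRestrict_ι]
  haveI : IsOpenImmersion k := by
    haveI : IsOpenImmersion (k ≫ (p ⁻¹ᵁ V).ι) := hk ▸ inferInstance
    exact IsOpenImmersion.of_comp k (p ⁻¹ᵁ V).ι
  haveI : Surjective k := by
    refine ⟨fun z => ?_⟩
    obtain ⟨(x | y), hxy⟩ := (coprodMk A B).surjective z.1
    · rw [coprodMk_inl] at hxy
      have hx : x ∈ a ⁻¹ᵁ V := by
        show a x ∈ V
        have : p ((coprod.inl : A ⟶ A ⨿ B) x) = a x := by
          rw [← Scheme.Hom.comp_apply, hp, coprod.inl_desc]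
        rw [← this, hxy]
        exact z.2
      refine ⟨⟨x, hx⟩, ?_⟩
      apply (p ⁻¹ᵁ V).ι.isOpenEmbedding.injective
      rw [← Scheme.Hom.comp_apply, hk, Scheme.Hom.comp_apply]
      exact hxy
    · exfalso
      rw [coprodMk_inr] at hxy
      apply hb y
      have : p ((coprod.inr : B ⟶ A ⨿ B) y) = b y := by
        rw [← Scheme.Hom.comp_apply, hp, coprod.inr_desc]
      rw [← this, hxy]
      exact z.2
  haveI : IsIso k := (isIso_iff_isOpenImmersion_and_surjective k).mpr ⟨inferInstance, inferInstance⟩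
  have : p ∣_ V = inv k ≫ (a ∣_ V) := by rw [IsIso.eq_inv_comp, hkp]
  rw [this]
  infer_instance

theorem isIso_desc_morphismRestrict_right {X : Scheme.{u}} (a : A ⟶ X) (b : B ⟶ X) (V : X.Opens)
    [IsIso (b ∣_ V)] (ha : ∀ y : A, a y ∉ V) : IsIso (coprod.desc a b ∣_ V) := by
  set p := coprod.desc a b with hp
  have hrange : Set.range ((b ⁻¹ᵁ V).ι ≫ coprod.inr) ⊆ Set.range (p ⁻¹ᵁ V).ι := by
    rintro _ ⟨x, rfl⟩
    rw [Scheme.Opens.range_ι]
    show p (((b ⁻¹ᵁ V).ι ≫ coprod.inr) x) ∈ V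
    rw [← Scheme.Hom.comp_apply, Category.assoc, hp, coprod.inr_desc]
    exact x.2
  let k : (b ⁻¹ᵁ V : Scheme.{u}) ⟶ (p ⁻¹ᵁ V : Scheme.{u}) :=
    IsOpenImmersion.lift (p ⁻¹ᵁ V).ι ((b ⁻¹ᵁ V).ι ≫ coprod.inr) hrange
  have hk : k ≫ (p ⁻¹ᵁ V).ι = (b ⁻¹ᵁ V).ι ≫ coprod.inr := IsOpenImmersion.lift_fac _ _ _
  have hkp : k ≫ (p ∣_ V) = b ∣_ V := by
    rw [← cancel_mono V.ι, Category.assoc, morphismRestrict_ι, ← Category.assoc, hk,
      Category.assoc, hp, coprod.inr_desc, morphismRestrict_ι]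
  haveI : IsOpenImmersion k := by
    haveI : IsOpenImmersion (k ≫ (p ⁻¹ᵁ V).ι) := hk ▸ inferInstance
    exact IsOpenImmersion.of_comp k (p ⁻¹ᵁ V).ι
  haveI : Surjective k := by
    refine ⟨fun z => ?_⟩
    obtain ⟨(x | y), hxy⟩ := (coprodMk A B).surjective z.1
    · exfalso
      rw [coprodMk_inl] at hxy
      apply ha x
      have : p ((coprod.inl : A ⟶ A ⨿ B) x) = a x := by
        rw [← Scheme.Hom.comp_apply, hp, coprod.inl_desc]
      rw [← this, hxy]
      exact z.2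
    · rw [coprodMk_inr] at hxy
      have hy : y ∈ b ⁻¹ᵁ V := by
        show b y ∈ V
        have : p ((coprod.inr : B ⟶ A ⨿ B) y) = b y := by
          rw [← Scheme.Hom.comp_apply, hp, coprod.inr_desc]
        rw [← this, hxy]
        exact z.2
      refine ⟨⟨y, hy⟩, ?_⟩
      apply (p ⁻¹ᵁ V).ι.isOpenEmbedding.injective
      rw [← Scheme.Hom.comp_apply, hk, Scheme.Hom.comp_apply]
      exact hxy
  haveI : IsIso k := (isIso_iff_isOpenImmersion_and_surjective k).mpr ⟨inferInstance, inferInstance⟩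
  have : p ∣_ V = inv k ≫ (b ∣_ V) := by rw [IsIso.eq_inv_comp, hkp]
  rw [this]
  infer_instance

end binary

/-- a morphism is an isomorphism over `U₀ ⊔ U₁` if it is over `U₀` and over `U₁`. -/
theorem isIso_morphismRestrict_sup {X Y : Scheme.{u}} (p : Y ⟶ X) (U₀ U₁ U : X.Opens)
    (hU : U₀ ⊔ U₁ = U) [IsIso (p ∣_ U₀)] [IsIso (p ∣_ U₁)] : IsIso (p ∣_ U) := by
  have h0 : U₀ ≤ U := hU ▸ le_sup_left
  have h1 : U₁ ≤ U := hU ▸ le_sup_right
  let W : Bool → X.Opens := fun b => if b then U₀ else U₁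
  have hW : ∀ b, W b ≤ U := fun b => by cases b <;> simp [W, h0, h1]
  have hiso : ∀ b, IsIso (p ∣_ W b) := fun b => by
    cases b
    · exact inferInstanceAs (IsIso (p ∣_ U₁))
    · exact inferInstanceAs (IsIso (p ∣_ U₀))
  have key : ∀ b, U.ι ''ᵁ (U.ι ⁻¹ᵁ W b) = W b := fun b => by
    rw [Scheme.Hom.image_preimage_eq_opensRange_inf, Scheme.Opens.opensRange_ι]
    exact inf_eq_right.mpr (hW b)
  change (MorphismProperty.isomorphisms Scheme.{u}) (p ∣_ U)
  refine IsZariskiLocalAtTarget.of_iSup_eq_top (fun b : Bool => U.ι ⁻¹ᵁ W b) ?_ (fun b => ?_)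
  · rw [eq_top_iff]
    rintro ⟨x, hx⟩ -
    rw [← hU] at hx
    rcases hx with hx | hx
    · exact Opens.mem_iSup.mpr ⟨true, hx⟩
    · exact Opens.mem_iSup.mpr ⟨false, hx⟩
  · rw [(MorphismProperty.isomorphisms Scheme.{u}).arrow_mk_iso_iff
      (morphismRestrictRestrict p U (U.ι ⁻¹ᵁ W b) ≪≫ morphismRestrictEq p (key b))]
    exact hiso b

end Groth.Agent.Lib.helper16.CoprodIdeal
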