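import Groth.Agent.Lib.Helper16.CodimDiv3
import Groth.Agent.Lib.Helper16.CoprodIdeal

/-!
# Divisorial part of a closed subscheme (helper16), part 4: restriction of ideal sheaves to opens
-/

set_option autoImplicit false
universe u
open CategoryTheory CategoryTheory.Limits AlgebraicGeometry TopologicalSpace Opposite

namespace Groth.Agent.Lib.helper16.CodimDiv

variable {X : Scheme.{u}}

theorem comap_mul_of_inverse {R S : Type*} [CommRing R] [CommRing S] (φ : R →+* S) (ψ : S →+* R)
    (h1 : ∀ x, ψ (φ x) = x) (h2 : ∀ y, φ (ψ y) = y) (K L : Ideal S) :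
    Ideal.comap φ (K * L) = Ideal.comap φ K * Ideal.comap φ L := by
  refine le_antisymm ?_ (Ideal.le_comap_mul φ)
  intro x hx
  have hx' : φ x ∈ K * L := hx
  have h3 : ψ (φ x) ∈ Ideal.map ψ (K * L) := Ideal.mem_map_of_mem ψ hx'
  rw [h1, Ideal.map_mul] at h3
  have hK : Ideal.map ψ K ≤ Ideal.comap φ K := by
    rw [Ideal.map_le_iff_le_comap]
    intro y hy
    change φ (ψ y) ∈ K
    rwa [h2]
  have hL : Ideal.map ψ L ≤ Ideal.comap φ L := by
    rw [Ideal.map_le_iff_le_comap]
    intro y hy
    change φ (ψ y) ∈ L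
    rwa [h2]
  exact Ideal.mul_mono hK hL h3

/-- restriction to an open subscheme commutes with products of ideal sheaves -/
theorem comap_mul {V : Scheme.{u}} (j : V ⟶ X) [IsOpenImmersion j] (A B : X.IdealSheafData) :
    (A * B).comap j = A.comap j * B.comap j := by
  refine Scheme.IdealSheafData.ext (funext fun W => ?_)
  rw [Scheme.IdealSheafData.ideal_mul, Pi.mul_apply,
    Scheme.IdealSheafData.ideal_comap_of_isOpenImmersion,
    Scheme.IdealSheafData.ideal_comap_of_isOpenImmersion,
    Scheme.IdealSheafData.ideal_comap_of_isOpenImmersion, Scheme.IdealSheafData.ideal_mul,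
    Pi.mul_apply]
  refine comap_mul_of_inverse (j.appIso W.1).inv.hom (j.appIso W.1).hom.hom ?_ ?_ _ _
  · intro x
    exact congr($((j.appIso W.1).inv_hom_id).hom x)
  · intro y
    exact congr($((j.appIso W.1).hom_inv_id).hom y)

/-- an ideal sheaf restricts to the unit ideal on an open set disjoint from its support -/
theorem comap_eq_top_of_disjoint (A : X.IdealSheafData) (V : X.Opens)
    (h : Disjoint (A.support : Set X) (V : Set X)) : A.comap V.ι = ⊤ := by
  rw [← Scheme.IdealSheafData.support_eq_bot_iff, Scheme.IdealSheafData.support_comap]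
  ext x
  simp only [Closeds.coe_preimage, Set.mem_preimage, SetLike.mem_coe, Closeds.coe_bot,
    Set.mem_empty_iff_false, iff_false]
  intro hx
  exact Set.disjoint_left.mp h hx x.2

/-- agreement of two ideal sheaves on opens passes to smaller opens -/
theorem comap_eq_of_le (A B : X.IdealSheafData) {V V' : X.Opens} (hle : V' ≤ V)
    (h : A.comap V.ι = B.comap V.ι) : A.comap V'.ι = B.comap V'.ι := by
  rw [← X.homOfLE_ι hle, Scheme.IdealSheafData.comap_comp, Scheme.IdealSheafData.comap_comp, h]

/-- agreement of two ideal sheaves is local -/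
theorem comap_sSup_eq (A B : X.IdealSheafData) (S : Set X.Opens)
    (h : ∀ V ∈ S, A.comap V.ι = B.comap V.ι) :
    A.comap (sSup S).ι = B.comap (sSup S).ι := by
  refine Groth.Agent.Lib.helper16.CoprodIdeal.eq_of_forall_comap_eq
    (U := fun V : S => ((V.1 : X.Opens) : Scheme.{u}))
    (fun V : S => X.homOfLE (le_sSup V.2 : V.1 ≤ sSup S)) ?_ ?_
  · intro x
    obtain ⟨V, hVS, hxV⟩ := Opens.mem_sSup.mp x.2
    refine ⟨⟨V, hVS⟩, ⟨x.1, hxV⟩, ?_⟩
    apply Subtype.ext
    exact congr($(X.homOfLE_ι (le_sSup hVS : V ≤ sSup S)) ⟨x.1, hxV⟩)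
  · intro V
    rw [← Scheme.IdealSheafData.comap_comp, ← Scheme.IdealSheafData.comap_comp, X.homOfLE_ι]
    exact h V.1 V.2

end Groth.Agent.Lib.helper16.CodimDiv
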