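import Groth.Agent.Lib.Helper16.EffCartier
import Mathlib.RingTheory.Ideal.Colon

set_option autoImplicit false
universe u
open CategoryTheory CategoryTheory.Limits AlgebraicGeometry
open AlgebraicGeometry.Scheme AlgebraicGeometry.Scheme.IdealSheafData

namespace Groth.Agent.Lib.helper16.EffDiv

/-- Colon ideals commute with localization away from an element when the denominator ideal is
finitely generated. -/
theorem map_colon_away {R S : Type*} [CommRing R] [CommRing S] [Algebra R S] (f : R)
    [IsLocalization.Away f S] (𝔞 𝔟 : Ideal R) (h𝔟 : 𝔟.FG) :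
    (𝔞.colon (𝔟 : Set R)).map (algebraMap R S) =
      (𝔞.map (algebraMap R S)).colon ((𝔟.map (algebraMap R S) : Ideal S) : Set S) := by
  apply le_antisymm
  · rw [Ideal.map_le_iff_le_comap]
    intro r hr
    rw [Ideal.mem_comap, Submodule.mem_colon]
    intro y hy
    -- y ∈ 𝔟.map: induction
    refine Submodule.span_induction (p := fun y _ => algebraMap R S r • y ∈ 𝔞.map (algebraMap R S))
      ?_ ?_ ?_ ?_ hy
    · rintro _ ⟨b, hb, rfl⟩
      rw [smul_eq_mul, ← map_mul]
      exact Ideal.mem_map_of_mem _ (Submodule.mem_colon.mp hr b hb)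
    · simp
    · intro x y _ _ hx hy
      rw [smul_add]; exact Ideal.add_mem _ hx hy
    · intro a x _ hx
      rw [smul_eq_mul, smul_eq_mul, mul_left_comm]
      exact Ideal.mul_mem_left _ _ hx
  · intro y hy
    obtain ⟨r, s, rfl⟩ := IsLocalization.exists_mk'_eq (Submonoid.powers f) y
    obtain ⟨T, hT⟩ := h𝔟
    -- for each generator, a power of f
    have key : ∀ b ∈ T, ∃ n : ℕ, f ^ n * (r * b) ∈ 𝔞 := by
      intro b hb
      have hb' : b ∈ 𝔟 := hT ▸ Ideal.subset_span hb
      have h1 : IsLocalization.mk' S r s • algebraMap R S b ∈ 𝔞.map (algebraMap R S) :=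
        Submodule.mem_colon.mp hy _ (Ideal.mem_map_of_mem _ hb')
      rw [smul_eq_mul, mul_comm, IsLocalization.mul_mk'_eq_mk'_of_mul,
        IsLocalization.mk'_mem_map_algebraMap_iff] at h1
      obtain ⟨_, ⟨n, rfl⟩, hn⟩ := h1
      exact ⟨n, by rwa [mul_comm r b]⟩
    choose! n hn using key
    rw [IsLocalization.mk'_mem_map_algebraMap_iff]
    refine ⟨f ^ (T.sup n), ⟨_, rfl⟩, ?_⟩
    rw [Submodule.mem_colon, ← hT]
    intro y hy
    refine Submodule.span_induction (p := fun y _ => (f ^ T.sup n * r) • y ∈ 𝔞) ?_ ?_ ?_ ?_ hy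
    · intro b hb
      have hle : n b ≤ T.sup n := Finset.le_sup hb
      obtain ⟨k, hk⟩ := Nat.exists_eq_add_of_le hle
      rw [smul_eq_mul, hk, pow_add, mul_assoc, mul_assoc, mul_comm (f ^ n b), mul_assoc]
      refine Ideal.mul_mem_left _ _ ?_
      rw [mul_comm]
      exact hn b hb
    · simp
    · intro x y _ _ hx hy
      rw [smul_add]; exact Ideal.add_mem _ hx hy
    · intro a x _ hx
      rw [smul_eq_mul, smul_eq_mul, mul_left_comm]
      exact Ideal.mul_mem_left _ _ hx

open Groth.Agent.Lib.helper16.EffCartier in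
/-- The ideals of an effective Cartier ideal sheaf are finitely generated. -/
theorem fg_ideal_of_isEffCartier {X : Scheme.{u}} {B : X.IdealSheafData}
    (hB : BlowUp.IsEffCartierIdeal B) (V : X.affineOpens) : (B.ideal V).FG := by
  apply Ideal.fg_of_localizationSpan {s : Γ(X, V.1) | (B.ideal (X.affineBasicOpen s)).FG}
  · rw [← V.2.self_le_iSup_basicOpen_iff]
    intro y hy
    obtain ⟨W, hyW, hWV, t, ht, hW⟩ := exists_principal_le hB y V.1 hy
    obtain ⟨s, hsle, hys⟩ := V.2.exists_basicOpen_le (V := W.1) ⟨y, hyW⟩ hy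
    refine TopologicalSpace.Opens.mem_iSup.mpr ⟨⟨s, ?_⟩, hys⟩
    show (B.ideal (X.affineBasicOpen s)).FG
    have := (principal_of_le B (V := W) (V' := X.affineBasicOpen s) hsle ht hW).2
    rw [this]
    exact Submodule.fg_span_singleton _
  · rintro ⟨s, hs⟩
    have inst := V.2.isLocalization_basicOpen s
    let e := IsLocalization.algEquiv (Submonoid.powers s) Γ(X, X.basicOpen s) (Localization.Away s)
    have : (B.ideal V).map (algebraMap Γ(X, V.1) (Localization.Away s)) =
        ((B.ideal V).map (X.presheaf.map (homOfLE (X.basicOpen_le s)).op).hom).map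
          (e : Γ(X, X.basicOpen s) →+* Localization.Away s) := by
      rw [Ideal.map_map]
      congr 1
      ext a
      exact (e.commutes a).symm
    rw [this]
    refine Ideal.FG.map ?_ _
    have h2 := B.map_ideal_basicOpen V s
    rw [h2]
    exact hs

/-- The colon ideal sheaf `(A : B)` for `B` of finite type. -/
def colon {X : Scheme.{u}} (A B : X.IdealSheafData) (hB : ∀ U : X.affineOpens, (B.ideal U).FG) :
    X.IdealSheafData where
  ideal U := (A.ideal U).colon ((B.ideal U : Ideal Γ(X, U.1)) : Set Γ(X, U.1))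
  map_ideal_basicOpen U f := by
    have : (X.presheaf.map (homOfLE (X.basicOpen_le f)).op).hom = algebraMap _ _ := rfl
    have inst := U.2.isLocalization_basicOpen f
    rw [← A.map_ideal_basicOpen U f, ← B.map_ideal_basicOpen U f, this]
    exact map_colon_away f _ _ (hB U)

@[simp]
lemma ideal_colon {X : Scheme.{u}} (A B : X.IdealSheafData)
    (hB : ∀ U : X.affineOpens, (B.ideal U).FG) (U : X.affineOpens) :
    (colon A B hB).ideal U = (A.ideal U).colon ((B.ideal U : Ideal Γ(X, U.1)) : Set Γ(X, U.1)) := rfl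

open Groth.Agent.Lib.helper16.EffCartier

/-- Ring-level: for `t` any element and `𝔞 ≤ (t)`, `(𝔞 : (t)) * (t) = 𝔞`. -/
lemma colon_span_mul {R : Type*} [CommRing R] (𝔞 : Ideal R) (t : R) (h : 𝔞 ≤ Ideal.span {t}) :
    𝔞.colon ((Ideal.span {t} : Ideal R) : Set R) * Ideal.span {t} = 𝔞 := by
  apply le_antisymm
  · rw [Ideal.mul_le]
    intro x hx y hy
    exact Submodule.mem_colon.mp hx y hy
  · intro a ha
    obtain ⟨c, rfl⟩ := Ideal.mem_span_singleton'.mp (h ha)
    refine Ideal.mul_mem_mul ?_ (Ideal.mem_span_singleton_self t)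
    rw [Submodule.mem_colon]
    intro y hy
    obtain ⟨z, rfl⟩ := Ideal.mem_span_singleton'.mp hy
    have : c • (z * t) = z * (c * t) := by simp only [smul_eq_mul]; ring
    rw [this]
    exact Ideal.mul_mem_left _ _ ha

/-- Ring-level: `((t c) : (t)) = (c)` for `t` a nonzerodivisor. -/
lemma colon_span_span {R : Type*} [CommRing R] (t c : R) (ht : t ∈ nonZeroDivisors R) :
    (Ideal.span {t * c} : Ideal R).colon ((Ideal.span {t} : Ideal R) : Set R) = Ideal.span {c} := by
  apply le_antisymm
  · intro y hy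
    have h1 := Submodule.mem_colon.mp hy t (Ideal.mem_span_singleton_self t)
    obtain ⟨w, hw⟩ := Ideal.mem_span_singleton'.mp h1
    rw [Ideal.mem_span_singleton']
    refine ⟨w, ?_⟩
    have h2 : (w * c - y) * t = 0 := by
      rw [smul_eq_mul] at hw
      rw [sub_mul, sub_eq_zero]
      rw [← hw]; ring
    have h3 := (mem_nonZeroDivisors_iff_right.mp ht) _ h2
    exact sub_eq_zero.mp h3
  · rw [Ideal.span_singleton_le_iff_mem, Submodule.mem_colon]
    intro y hy
    obtain ⟨z, rfl⟩ := Ideal.mem_span_singleton'.mp hy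
    rw [Ideal.mem_span_singleton']
    exact ⟨z, by simp only [smul_eq_mul]; ring⟩

/-- **Division**: if `A ≤ B` with `B` effective Cartier, then `(A : B) * B = A`. -/
theorem colon_mul_eq {X : Scheme.{u}} {A B : X.IdealSheafData} (hB : BlowUp.IsEffCartierIdeal B)
    (hAB : A ≤ B) : colon A B (fg_ideal_of_isEffCartier hB) * B = A := by
  refine Scheme.IdealSheafData.ext_of_iSup_eq_top (fun V : Charts B => V.1) (iSup_charts hB)
    (fun V => ?_)
  obtain ⟨V, t, ht, hV⟩ := V
  show (colon A B _ * B).ideal V = A.ideal V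
  rw [Scheme.IdealSheafData.ideal_mul, Pi.mul_apply, ideal_colon, hV]
  exact colon_span_mul _ t (hV ▸ hAB V)

/-- If moreover `A` is effective Cartier then so is `(A : B)`. -/
theorem isEffCartier_colon {X : Scheme.{u}} {A B : X.IdealSheafData}
    (hA : BlowUp.IsEffCartierIdeal A) (hB : BlowUp.IsEffCartierIdeal B) (hAB : A ≤ B) :
    BlowUp.IsEffCartierIdeal (colon A B (fg_ideal_of_isEffCartier hB)) := by
  intro x
  obtain ⟨VA, hxA, s, hs, hAV⟩ := hA x
  obtain ⟨V, hxV, hle, t, ht, hBV⟩ := exists_principal_le hB x VA.1 hxA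
  obtain ⟨hs', hAV'⟩ := principal_of_le A (V := VA) (V' := V) hle hs hAV
  set s' := (X.presheaf.map (homOfLE hle).op).hom s with hs'def
  have hst : s' ∈ Ideal.span {t} := by
    rw [← hBV]; apply hAB V; rw [hAV']; exact Ideal.mem_span_singleton_self _
  obtain ⟨c, hc⟩ := Ideal.mem_span_singleton'.mp hst
  have hc' : s' = t * c := by rw [← hc, mul_comm]
  refine ⟨V, hxV, c, ?_, ?_⟩
  · rw [hc'] at hs'
    exact mem_nonZeroDivisors_of_mul_mem hs'
  · rw [ideal_colon, hAV', hBV, hc']
    exact colon_span_span t c ht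

/-- **Division lemma**: for effective Cartier ideals `A ≤ B` there is an effective Cartier ideal
`C` with `A = C * B`. -/
theorem exists_eq_mul {X : Scheme.{u}} {A B : X.IdealSheafData}
    (hA : BlowUp.IsEffCartierIdeal A) (hB : BlowUp.IsEffCartierIdeal B) (hAB : A ≤ B) :
    ∃ C : X.IdealSheafData, BlowUp.IsEffCartierIdeal C ∧ A = C * B :=
  ⟨_, isEffCartier_colon hA hB hAB, (colon_mul_eq hB hAB).symm⟩

/-- Cancellation of an effective Cartier factor in inequalities. -/
theorem le_of_mul_le_mul {X : Scheme.{u}} {A B E : X.IdealSheafData}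
    (hE : BlowUp.IsEffCartierIdeal E) (h : A * E ≤ B * E) : A ≤ B := by
  refine Scheme.IdealSheafData.le_of_iSup_eq_top (fun V : Charts E => V.1) (iSup_charts hE)
    (fun V => ?_)
  obtain ⟨V, e, he, hV⟩ := V
  show A.ideal V ≤ B.ideal V
  have h1 : A.ideal V * Ideal.span {e} ≤ B.ideal V * Ideal.span {e} := by
    have := h V
    rwa [Scheme.IdealSheafData.ideal_mul, Scheme.IdealSheafData.ideal_mul, Pi.mul_apply,
      Pi.mul_apply, hV] at this
  intro a ha
  have h2 : a * e ∈ B.ideal V * Ideal.span {e} :=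
    h1 (Ideal.mul_mem_mul ha (Ideal.mem_span_singleton_self e))
  obtain ⟨b, hb, hbe⟩ := Ideal.mem_mul_span_singleton.mp h2
  have h3 : (b - a) * e = 0 := by rw [sub_mul, hbe, sub_self]
  have h4 := (mem_nonZeroDivisors_iff_right.mp he) _ h3
  rw [← sub_eq_zero.mp h4]; exact hb

end Groth.Agent.Lib.helper16.EffDiv
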