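import Groth.Agent.Lib.Helper16.CodimDiv4
import Groth.Agent.Lib.Helper16.EffDiv
import Groth.Agent.Lib.Helper8.DevAnn

/-!
# Divisorial part of a closed subscheme (helper16), part 5: the induction and the main theorem

For a closed subscheme `Z` of a Noetherian scheme with `Z ⊆ Z' ∪ ⋃ D_i` (`D_i` integral effective
Cartier divisors, `Z'` closed of codimension `≥ 2`), there are exponents `a_i` with
`D = Σ a_i D_i ⊆ Z` and `D = Z` outside codimension two.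
-/

set_option autoImplicit false
universe u
open CategoryTheory CategoryTheory.Limits AlgebraicGeometry TopologicalSpace Opposite

namespace Groth.Agent.Lib.helper16.CodimDiv

open Groth.Agent.Lib.helper16.EffDiv Groth.Agent.Lib.helper8.Dev

variable {X : Scheme.{u}}

section Cover

variable [IsNoetherian X] {I : Type u} (𝓓 : I → X.IdealSheafData)
  (hD : ∀ i, BlowUp.IsEffCartierIdeal (𝓓 i)) (hDint : ∀ i, IsIntegral (𝓓 i).subscheme)
  (Z' : Set X) (hZ' : IsClosed Z')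
  (hcodim : ∀ z ∈ Z', (∀ y ∈ Z', y ⤳ z → y = z) →
    (2 : WithBot ℕ∞) ≤ ringKrullDim (X.presheaf.stalk z))

omit [AlgebraicGeometry.IsNoetherian X] in
theorem prod_add_single (a : I →₀ ℕ) (i : I) :
    (a + Finsupp.single i 1).prod (fun i n => 𝓓 i ^ n) = a.prod (fun i n => 𝓓 i ^ n) * 𝓓 i := by
  rw [Finsupp.prod_add_index' (h := fun i n => 𝓓 i ^ n) (fun _ => pow_zero _)
      (fun _ _ _ => pow_add _ _ _),
    Finsupp.prod_single_index (h := fun i n => 𝓓 i ^ n) (pow_zero _), pow_one]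

omit [AlgebraicGeometry.IsNoetherian X] in
theorem mul_le_mul_right_ideal {A B : X.IdealSheafData} (h : A ≤ B) (C : X.IdealSheafData) :
    A * C ≤ B * C := by
  intro W
  rw [Scheme.IdealSheafData.ideal_mul, Scheme.IdealSheafData.ideal_mul, Pi.mul_apply,
    Pi.mul_apply]
  exact Ideal.mul_mono_left (h W)

include hD hDint hZ' hcodim in
theorem exists_exponents (𝓩 : X.IdealSheafData) :
    ((𝓩.support : Set X) ⊆ Z' ∪ ⋃ i, ((𝓓 i).support : Set X)) →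
      ∃ a : I →₀ ℕ, 𝓩 ≤ a.prod (fun i n => 𝓓 i ^ n) ∧
        ∀ z : X, ¬ (2 : WithBot ℕ∞) ≤ ringKrullDim (X.presheaf.stalk z) →
          ∃ V : X.Opens, z ∈ V ∧
            𝓩.comap V.ι = (a.prod (fun i n => 𝓓 i ^ n)).comap V.ι := by
  refine WellFoundedGT.induction (motive := fun 𝓩 : X.IdealSheafData =>
    ((𝓩.support : Set X) ⊆ Z' ∪ ⋃ i, ((𝓓 i).support : Set X)) →
      ∃ a : I →₀ ℕ, 𝓩 ≤ a.prod (fun i n => 𝓓 i ^ n) ∧
        ∀ z : X, ¬ (2 : WithBot ℕ∞) ≤ ringKrullDim (X.presheaf.stalk z) →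
          ∃ V : X.Opens, z ∈ V ∧
            𝓩.comap V.ι = (a.prod (fun i n => 𝓓 i ^ n)).comap V.ι) 𝓩 ?_
  intro 𝓩 ih hcover
  by_cases h : ∃ i, 𝓩 ≤ 𝓓 i
  · obtain ⟨i, hi⟩ := h
    haveI := hDint i
    have hfg := fg_ideal_of_isEffCartier (hD i)
    set 𝓩₁ := colon 𝓩 (𝓓 i) hfg with h𝓩₁
    have h1 : 𝓩₁ * 𝓓 i = 𝓩 := colon_mul_eq (hD i) hi
    have hle : 𝓩 ≤ 𝓩₁ := by
      intro W f hf
      rw [h𝓩₁, ideal_colon, Submodule.mem_colon]
      intro y _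
      exact Ideal.mul_mem_right y _ hf
    have hne : 𝓩₁ ≠ 𝓩 := by
      intro heq
      rw [heq] at h1
      obtain ⟨η, hη, hmax⟩ := exists_maxPt_of_mul_eq 𝓩 (𝓓 i) (hD i) h1
      exact not_maxPt_of_mem_cover 𝓓 hD Z' hcodim η (hcover hη) hmax
    have hlt : 𝓩 < 𝓩₁ := lt_of_le_of_ne hle (Ne.symm hne)
    have hcover₁ : ((𝓩₁.support : Set X) ⊆ Z' ∪ ⋃ i, ((𝓓 i).support : Set X)) :=
      (SetLike.coe_subset_coe.mpr (Scheme.IdealSheafData.support_antitone hle)).trans hcover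
    obtain ⟨a₁, ha₁, hV₁⟩ := ih 𝓩₁ hlt hcover₁
    refine ⟨a₁ + Finsupp.single i 1, ?_, ?_⟩
    · rw [prod_add_single, ← h1]
      exact mul_le_mul_right_ideal ha₁ _
    · intro z hz
      obtain ⟨V, hzV, hV⟩ := hV₁ z hz
      refine ⟨V, hzV, ?_⟩
      rw [prod_add_single, comap_mul, ← hV, ← comap_mul, h1]
  · refine ⟨0, ?_, ?_⟩
    · rw [Finsupp.prod_zero_index]
      exact (le_top : 𝓩 ≤ ⊤)
    · intro z hz
      have hzS : z ∉ 𝓩.support := fun hzS =>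
        h (exists_le_of_lowdim 𝓓 hD Z' hcodim hDint hZ' 𝓩 hcover z hzS hz)
      let V : X.Opens := 𝓩.support.compl
      refine ⟨V, hzS, ?_⟩
      rw [Finsupp.prod_zero_index]
      have h1 : 𝓩.comap V.ι = ⊤ := by
        refine comap_eq_top_of_disjoint 𝓩 V ?_
        rw [Set.disjoint_left]
        intro x hx hx'
        exact hx' hx
      rw [h1]
      exact (Scheme.IdealSheafData.comap_top _).symm

include hD hDint hZ' hcodim in
theorem main (𝓩 : X.IdealSheafData)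
    (hcover : (𝓩.support : Set ↥X) ⊆ Z' ∪ ⋃ i, ((𝓓 i).support : Set ↥X)) :
    ∃ a : I →₀ ℕ, 𝓩 ≤ a.prod (fun i n => 𝓓 i ^ n) ∧
      ∃ U : X.Opens, (a.prod (fun i n => 𝓓 i ^ n)).comap U.ι = 𝓩.comap U.ι ∧
        ∀ z ∈ (𝓩.support : Set ↥X) \ (U : Set ↥X),
          (∀ y ∈ (𝓩.support : Set ↥X) \ (U : Set ↥X), y ⤳ z → y = z) →
          (2 : WithBot ℕ∞) ≤ ringKrullDim ↑(X.presheaf.stalk z) := by
  obtain ⟨a, ha, hV⟩ := exists_exponents 𝓓 hD hDint Z' hZ' hcodim 𝓩 hcover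
  refine ⟨a, ha, sSup {V : X.Opens | 𝓩.comap V.ι = (a.prod (fun i n => 𝓓 i ^ n)).comap V.ι},
    ?_, ?_⟩
  · exact (comap_sSup_eq 𝓩 _ _ (fun V hV => hV)).symm
  · rintro z ⟨_, hzU⟩ _
    by_contra hdim
    obtain ⟨V, hzV, hVeq⟩ := hV z hdim
    exact hzU ((le_sSup (a := V) hVeq : V ≤ _) hzV)

end Cover

end Groth.Agent.Lib.helper16.CodimDiv
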