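import Mathlib
import Groth.Prelude.Def_Coh
import Groth.Agent.Lib.Helper21.CohWeakSerre

/-!
# `Coh(X)` is an abelian category for `X` locally Noetherian
-/

set_option autoImplicit false
set_option backward.isDefEq.respectTransparency false
universe u

open CategoryTheory CategoryTheory.Limits AlgebraicGeometry Opposite TopologicalSpace
open Scheme.Modules
open scoped ZeroObject

namespace Groth.Agent.Lib.helper16.CohLoc

variable (X : Scheme.{u})

/-- the object property "coherent" -/
abbrev isCoh : ObjectProperty X.Modules := fun M => Coh.IsCoh M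

variable [IsLocallyNoetherian X]

theorem ws : Groth.Agent.Lib.helper21.SSWeakSerre.WeakSerre (fun M : X.Modules => Coh.IsCoh M) :=
  Groth.Agent.Lib.helper21.CohWeakSerre.weakSerre_isCoh

instance instIso : (isCoh X).IsClosedUnderIsomorphisms where
  of_iso e h := (ws X).iso e h

instance instZero : (isCoh X).ContainsZero where
  exists_zero := by
    have : HasZeroObject X.Modules := inferInstance
    exact ⟨(0 : X.Modules), isZero_zero _, (ws X).zero _ (isZero_zero _)⟩

instance instKer : (isCoh X).IsClosedUnderKernels where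
  kernels_le := by
    rintro _ ⟨f, k, hk, ⟨hX, hY⟩⟩
    exact (ws X).iso (IsLimit.conePointUniqueUpToIso (kernelIsKernel f) hk) ((ws X).ker f hX hY)

instance instCoker : (isCoh X).IsClosedUnderCokernels where
  cokernels_le := by
    rintro _ ⟨f, k, hk, ⟨hX, hY⟩⟩
    exact (ws X).iso (IsColimit.coconePointUniqueUpToIso (cokernelIsCokernel f) hk)
      ((ws X).coker f hX hY)

theorem isCoh_biprod {A B : X.Modules} (hA : Coh.IsCoh A) (hB : Coh.IsCoh B) :
    Coh.IsCoh (A ⊞ B) := by
  let S : ShortComplex X.Modules := ShortComplex.mk (biprod.inl : A ⟶ A ⊞ B) biprod.snd (by simp)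
  have hS : S.ShortExact := by
    have : S.Splitting :=
      { r := biprod.fst
        s := biprod.inr
        f_r := by simp [S]
        s_g := by simp [S]
        id := by simp [S] }
    exact this.shortExact
  exact (ws X).ext S hS hA hB

instance instBinProd : (isCoh X).IsClosedUnderBinaryProducts where
  limitsOfShape_le := by
    rintro M ⟨p⟩
    have hA : Coh.IsCoh (p.diag.obj ⟨WalkingPair.left⟩) := p.prop_diag_obj _
    have hB : Coh.IsCoh (p.diag.obj ⟨WalkingPair.right⟩) := p.prop_diag_obj _
    refine (ws X).iso ?_ (isCoh_biprod X hA hB)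
    have e1 : (p.diag.obj ⟨WalkingPair.left⟩ ⊞ p.diag.obj ⟨WalkingPair.right⟩) ≅
        (p.diag.obj ⟨WalkingPair.left⟩ ⨯ p.diag.obj ⟨WalkingPair.right⟩) := biprod.isoProd _ _
    exact e1 ≪≫ IsLimit.conePointUniqueUpToIso (prodIsProd _ _)
      ((IsLimit.postcomposeHomEquiv (diagramIsoPair p.diag) _).2 p.isLimit)

instance instTerminal : (isCoh X).IsClosedUnderLimitsOfShape (Discrete.{0} PEmpty) where
  limitsOfShape_le := by
    rintro M ⟨p⟩
    have hT : IsTerminal M :=
      (IsLimit.equivOfNatIsoOfIso p.diag.uniqueFromEmpty _ _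
        (by exact Cone.ext (Iso.refl _) (by rintro ⟨⟨⟩⟩))).1 p.isLimit
    have hZ : IsZero M := by
      have h0 : IsZero (0 : X.Modules) := isZero_zero _
      exact IsZero.of_iso h0 (IsLimit.conePointUniqueUpToIso hT (IsZero.isTerminal h0))
    exact (ws X).zero _ hZ

instance instFinProd : (isCoh X).IsClosedUnderFiniteProducts := .mk'

noncomputable instance instAbelian : Abelian (isCoh X).FullSubcategory := inferInstance

end Groth.Agent.Lib.helper16.CohLoc
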