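import Mathlib
import Groth.Prelude.Def_Coh
import Groth.Prelude.Def_CohB1
import Groth.Agent.Lib.Helper16.CohLoc1
import Groth.Agent.Lib.Helper7.RestrictSupport
import Groth.Agent.Lib.Helper16.Satur5

/-!
# `Coh(X)/Coh_Z(X) ≃ Coh(U)` for `X` Noetherian
-/

set_option autoImplicit false
set_option backward.isDefEq.respectTransparency false
universe u

open CategoryTheory CategoryTheory.Limits AlgebraicGeometry Opposite TopologicalSpace
open Scheme.Modules
open scoped ZeroObject

namespace Groth.Agent.Lib.helper16.CohLoc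

variable (X : Scheme.{u}) [IsLocallyNoetherian X]

noncomputable instance instPFL : PreservesFiniteLimits (isCoh X).ι := by
  have : ∀ {A B : (isCoh X).FullSubcategory} (f : A ⟶ B),
      PreservesLimit (parallelPair f 0) (isCoh X).ι :=
    fun f => (isCoh X).preservesKernels_ι f
  exact Functor.preservesFiniteLimits_of_preservesKernels _

noncomputable instance instPFC : PreservesFiniteColimits (isCoh X).ι := by
  have : ∀ {A B : (isCoh X).FullSubcategory} (f : A ⟶ B),
      PreservesColimit (parallelPair f 0) (isCoh X).ι :=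
    fun f => (isCoh X).preservesCokernels_ι f
  exact Functor.preservesFiniteColimits_of_preservesCokernels _

variable (U : X.Opens)

/-- restriction of coherent modules to `U`, as a functor to all modules -/
noncomputable abbrev G : (isCoh X).FullSubcategory ⥤ (↑U : Scheme.{u}).Modules :=
  (isCoh X).ι ⋙ restrictFunctor U.ι

/-- the class of morphisms inverted by restriction -/
abbrev W' : MorphismProperty (isCoh X).FullSubcategory := (G X U).kernel.isoModSerre

theorem W'_iff {A B : (isCoh X).FullSubcategory} (f : A ⟶ B) :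
    W' X U f ↔ IsIso ((restrictFunctor U.ι).map f.hom) := by
  rw [show W' X U = _ from Abelian.isoModSerre_kernel_eq_inverseImage_isomorphisms (G X U)]
  rfl

/-- the class of morphisms in the statement -/
def W : MorphismProperty (isCoh X).FullSubcategory := fun A B f =>
  CohB1.support (kernel f.hom) ⊆ (↑U : Set X)ᶜ ∧ CohB1.support (cokernel f.hom) ⊆ (↑U : Set X)ᶜ

theorem W_eq : W X U = W' X U := by
  ext A B f
  rw [W'_iff]
  exact (Groth.Agent.Lib.helper7.RestrictSupport.isIso_restrict_map_iff f.hom U).symm

section loc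

variable (hres : ∀ M : X.Modules, Coh.IsCoh M → Coh.IsCoh ((restrictFunctor U.ι).obj M))

/-- restriction `Coh(X) ⥤ Coh(U)` -/
noncomputable abbrev L : (isCoh X).FullSubcategory ⥤ (isCoh (↑U : Scheme.{u})).FullSubcategory :=
  ObjectProperty.lift (isCoh (↑U : Scheme.{u})) (G X U) (fun M => hres M.obj M.property)

theorem inverts : (W' X U).IsInvertedBy (L X U hres) := by
  intro A B f hf
  rw [W'_iff] at hf
  have : IsIso ((isCoh (↑U : Scheme.{u})).ι.map ((L X U hres).map f)) := hf
  exact isIso_of_reflects_iso _ (isCoh (↑U : Scheme.{u})).ι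

/-- the induced functor from the localization -/
noncomputable def Φ : (W' X U).Localization ⥤ (isCoh (↑U : Scheme.{u})).FullSubcategory :=
  Localization.lift (L X U hres) (inverts X U hres) (W' X U).Q

/-- the factorization isomorphism -/
noncomputable def η : (W' X U).Q ⋙ Φ X U hres ≅ L X U hres := Localization.fac _ _ _

theorem map_eq_of {A B : (isCoh X).FullSubcategory} (f g : A ⟶ B)
    (h : (L X U hres).map f = (L X U hres).map g) :
    (W' X U).Q.map f = (W' X U).Q.map g := by
  have h1 : (G X U).map f = (G X U).map g :=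
    congrArg (fun φ => (isCoh (↑U : Scheme.{u})).ι.map φ) h
  have h2 : (G X U).map (f - g) = 0 := by rw [Functor.map_sub, h1, sub_self]
  have h3 : (G X U).kernel (Abelian.image (f - g)) := by
    have hm : Mono ((G X U).map (Abelian.image.ι (f - g))) := inferInstance
    have he : Epi ((G X U).map (Abelian.factorThruImage (f - g))) := inferInstance
    have hc : (G X U).map (Abelian.factorThruImage (f - g)) ≫
        (G X U).map (Abelian.image.ι (f - g)) = 0 := by
      rw [← Functor.map_comp, Abelian.image.fac, h2]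
    have h0 : (G X U).map (Abelian.image.ι (f - g)) = 0 := by
      rw [← cancel_epi ((G X U).map (Abelian.factorThruImage (f - g))), hc, comp_zero]
    exact IsZero.of_mono_eq_zero _ h0
  have h4 := (ObjectProperty.SerreClassLocalization.map_eq_zero_iff (W' X U).Q (G X U).kernel
    (f - g)).mpr h3
  rw [Functor.map_sub, sub_eq_zero] at h4
  exact h4

theorem faithful : (Φ X U hres).Faithful := by
  refine Functor.faithful_of_comp_of_hasLeftCalculusOfFractions (L := (W' X U).Q) (W := W' X U)
    (Φ X U hres) ?_
  intro A B f g h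
  apply map_eq_of X U hres
  have nf := (η X U hres).hom.naturality f
  have ng := (η X U hres).hom.naturality g
  simp only [Functor.comp_map] at nf ng
  rw [h] at nf
  have := nf.symm.trans ng
  exact (cancel_epi ((η X U hres).hom.app A)).mp this

variable [CompactSpace X] [QuasiSeparatedSpace X]

theorem exists_fraction (hU : IsCompact (U : Set X)) (A B : (isCoh X).FullSubcategory)
    (g' : (L X U hres).obj A ⟶ (L X U hres).obj B) :
    ∃ (F : (isCoh X).FullSubcategory) (s : F ⟶ A) (f : F ⟶ B), W' X U s ∧
      (L X U hres).map s ≫ g' = (L X U hres).map f := by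
  let R := restrictFunctor U.ι
  let gh : R.obj A.obj ⟶ R.obj B.obj := g'.hom
  let i' : R.obj A.obj ⟶ R.obj (A.obj ⊞ B.obj) :=
    R.map (biprod.inl : A.obj ⟶ A.obj ⊞ B.obj) + gh ≫ R.map (biprod.inr : B.obj ⟶ A.obj ⊞ B.obj)
  have h1 : i' ≫ R.map (biprod.fst : A.obj ⊞ B.obj ⟶ A.obj) = 𝟙 _ := by
    simp only [i', Preadditive.add_comp, Category.assoc, ← R.map_comp, biprod.inl_fst,
      biprod.inr_fst, R.map_id, R.map_zero, comp_zero, add_zero]
  have h2 : i' ≫ R.map (biprod.snd : A.obj ⊞ B.obj ⟶ B.obj) = gh := by
    simp only [i', Preadditive.add_comp, Category.assoc, ← R.map_comp, biprod.inl_snd,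
      biprod.inr_snd, R.map_id, R.map_zero, Category.comp_id, zero_add]
  haveI : Mono i' := mono_of_mono_fac h1
  haveI : (A.obj ⊞ B.obj).IsQuasicoherent := (isCoh_biprod X A.property B.property).1
  haveI : (R.obj A.obj).IsQuasicoherent := (hres _ A.property).1
  obtain ⟨F, i, e, hm, hq, hft, he⟩ := Groth.Agent.Lib.helper16.Satur.exists_ft_extension U hU
    (A.obj ⊞ B.obj) (R.obj A.obj) (hres _ A.property).2 i'
  let F' : (isCoh X).FullSubcategory := ⟨F, ⟨hq, hft⟩⟩
  let s : F' ⟶ A := ObjectProperty.homMk (i ≫ biprod.fst)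
  let f : F' ⟶ B := ObjectProperty.homMk (i ≫ biprod.snd)
  refine ⟨F', s, f, ?_, ?_⟩
  · rw [W'_iff]
    have : R.map s.hom = e.hom := by
      show R.map (i ≫ biprod.fst) = _
      rw [R.map_comp, ← he, Category.assoc, h1, Category.comp_id]
    show IsIso (R.map s.hom)
    rw [this]
    infer_instance
  · apply ObjectProperty.hom_ext
    show R.map (i ≫ biprod.fst) ≫ gh = R.map (i ≫ biprod.snd)
    rw [R.map_comp, R.map_comp, ← he, Category.assoc, Category.assoc, reassoc_of% h1,
      Category.assoc, h2]

theorem full (hU : IsCompact (U : Set X)) : (Φ X U hres).Full := by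
  haveI : (W' X U).Q.EssSurj := Localization.essSurj _ (W' X U)
  refine Functor.full_of_comp_essSurj (Φ X U hres) (W' X U).Q ?_
  intro A B φ
  let g' : (L X U hres).obj A ⟶ (L X U hres).obj B :=
    (η X U hres).inv.app A ≫ φ ≫ (η X U hres).hom.app B
  obtain ⟨F, s, f, hs, hfs⟩ := exists_fraction X U hres hU A B g'
  haveI : IsIso ((W' X U).Q.map s) := Localization.inverts _ (W' X U) s hs
  refine ⟨inv ((W' X U).Q.map s) ≫ (W' X U).Q.map f, ?_⟩
  rw [Functor.map_comp, Functor.map_inv, IsIso.inv_comp_eq]
  have ns := (η X U hres).hom.naturality s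
  have nf := (η X U hres).hom.naturality f
  simp only [Functor.comp_map] at ns nf
  rw [← cancel_mono ((η X U hres).hom.app B), nf, Category.assoc]
  have h3 : φ ≫ (η X U hres).hom.app B = (η X U hres).hom.app A ≫ g' := by
    simp [g']
  rw [h3, ← Category.assoc, ns, Category.assoc, hfs]

theorem essSurj (hU : IsCompact (U : Set X)) : (Φ X U hres).EssSurj := by
  refine ⟨fun N => ?_⟩
  haveI : N.obj.IsQuasicoherent := N.property.1
  obtain ⟨G', hq, hft, ⟨e⟩⟩ := Groth.Agent.Lib.helper16.Satur.exists_ft_extension_module U hU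
    N.obj N.property.2
  let A : (isCoh X).FullSubcategory := ⟨G', ⟨hq, hft⟩⟩
  refine ⟨(W' X U).Q.obj A, ⟨(η X U hres).app A ≪≫ ?_⟩⟩
  exact (isCoh (↑U : Scheme.{u})).fullyFaithfulι.preimageIso e

theorem main (hU : IsCompact (U : Set X)) : (L X U hres).IsLocalization (W X U) := by
  rw [W_eq]
  haveI := faithful X U hres
  haveI := full X U hres hU
  haveI := essSurj X U hres hU
  haveI : (Φ X U hres).IsEquivalence := { }
  exact Functor.IsLocalization.of_equivalence_target (W' X U).Q (W' X U) (L X U hres)
    (Φ X U hres).asEquivalence (η X U hres)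

end loc


end Groth.Agent.Lib.helper16.CohLoc
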