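import Mathlib
import Groth.Prelude.Def_W4c6modpairsegaMP
import Groth.Agent.Lib.Helper16.CoprodIdeal

set_option autoImplicit false
universe u
open CategoryTheory CategoryTheory.Limits AlgebraicGeometry TopologicalSpace Opposite

namespace Groth.Agent.Lib.helper16.CoprodPair

open Scheme.IdealSheafData Groth.Agent.Lib.helper16.EffCartier Groth.Agent.Lib.helper16.EffCartier2
  Groth.Agent.Lib.helper16.ModPairLib Groth.Agent.Lib.helper16.ModPairLib2
  Groth.Agent.Lib.helper16.CoprodIdeal

variable {σ : Type u} (F : σ → ModPair.Pair.{u})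

/-- total space of the coproduct. -/
noncomputable abbrev tot : Scheme.{u} := ∐ fun i => (F i).total

/-- coproduct of the divisors. -/
noncomputable abbrev sub : Scheme.{u} := ∐ fun i => (F i).mod.subscheme

/-- the map from the coproduct of the divisors. -/
noncomputable abbrev m : sub F ⟶ tot F := Limits.Sigma.map fun i => (F i).mod.subschemeι

lemma ι_m (j : σ) : Sigma.ι (fun i => (F i).mod.subscheme) j ≫ m F =
    (F j).mod.subschemeι ≫ Sigma.ι (fun i => (F i).total) j := by
  simp [m]

lemma preimage_opensRange (j : σ) :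
    m F ⁻¹ᵁ (Sigma.ι (fun i => (F i).total) j).opensRange =
      (Sigma.ι (fun i => (F i).mod.subscheme) j).opensRange := by
  ext z
  obtain ⟨⟨i, v⟩, rfl⟩ := (sigmaMk (fun i => (F i).mod.subscheme)).surjective z
  rw [sigmaMk_mk]
  have h1 : m F (Sigma.ι (fun i => (F i).mod.subscheme) i v) =
      Sigma.ι (fun i => (F i).total) i ((F i).mod.subschemeι v) := by
    rw [← Scheme.Hom.comp_apply, ι_m, Scheme.Hom.comp_apply]
  constructor
  · rintro ⟨x, hx⟩
    change Sigma.ι (fun i => (F i).total) j x = m F _ at hx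
    rw [h1] at hx
    obtain ⟨hji, -⟩ := Sigma.mk.inj_iff.mp ((sigmaι_eq_iff _ _ _ _ _).mp hx)
    subst hji
    exact ⟨v, rfl⟩
  · rintro ⟨w, hw⟩
    obtain ⟨hji, -⟩ := Sigma.mk.inj_iff.mp ((sigmaι_eq_iff _ _ _ _ _).mp hw)
    subst hji
    exact ⟨(F j).mod.subschemeι v, h1.symm⟩

theorem isPullback_ι (j : σ) :
    IsPullback (F j).mod.subschemeι (Sigma.ι (fun i => (F i).mod.subscheme) j)
      (Sigma.ι (fun i => (F i).total) j) (m F) :=
  IsOpenImmersion.isPullback _ _ _ _ (ι_m F j) (preimage_opensRange F j)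


instance isClosedImmersion_m : IsClosedImmersion (m F) := by
  refine IsZariskiLocalAtTarget.of_iSup_eq_top (P := @IsClosedImmersion)
    (fun j : σ => (Sigma.ι (fun i => (F i).total) j).opensRange) ?_ (fun j => ?_)
  · rw [eq_top_iff]
    intro x _
    obtain ⟨⟨i, v⟩, rfl⟩ := (sigmaMk (fun i => (F i).total)).surjective x
    rw [sigmaMk_mk]
    exact Opens.mem_iSup.mpr ⟨i, v, rfl⟩
  · rw [(MorphismProperty.arrow_mk_iso_iff @IsClosedImmersion
      (morphismRestrictOpensRange (m F) (Sigma.ι (fun i => (F i).total) j)))]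
    have h := (isPullback_ι F j).flip
    have h2 : pullback.snd (m F) (Sigma.ι (fun i => (F i).total) j) =
        h.isoPullback.inv ≫ (F j).mod.subschemeι := by
      rw [Iso.eq_inv_comp, h.isoPullback_hom_snd]
    rw [h2]
    infer_instance

/-- the modulus on the coproduct. -/
noncomputable def mod : (tot F).IdealSheafData := (m F).ker

theorem comap_ι (j : σ) : (mod F).comap (Sigma.ι (fun i => (F i).total) j) = (F j).mod := by
  ext W : 2
  rw [Scheme.IdealSheafData.ideal_comap_of_isOpenImmersion]
  have := AlgebraicGeometry.Scheme.ker_ideal_of_isPullback_of_isOpenImmersion (m F) (F j).mod.subschemeι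
    (Sigma.ι (fun i => (F i).mod.subscheme) j) (Sigma.ι (fun i => (F i).total) j)
    (isPullback_ι F j) W
  rw [Scheme.IdealSheafData.ker_subschemeι] at this
  exact this.symm

theorem isEffCartier_mod : BlowUp.IsEffCartierIdeal (mod F) := by
  refine isEffCartier_of_forall_comap (fun j => Sigma.ι (fun i => (F i).total) j) ?_ (fun j => ?_)
  · intro x
    obtain ⟨⟨i, v⟩, rfl⟩ := (sigmaMk (fun i => (F i).total)).surjective x
    rw [sigmaMk_mk]
    exact ⟨i, v, rfl⟩
  · rw [comap_ι]
    exact (F j).isEffCartier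


lemma cov (x : (tot F : Scheme.{u})) :
    ∃ i, x ∈ Set.range (Sigma.ι (fun i => (F i).total) i) := by
  obtain ⟨⟨i, v⟩, rfl⟩ := (sigmaMk (fun i => (F i).total)).surjective x
  rw [sigmaMk_mk]
  exact ⟨i, v, rfl⟩

/-- the coproduct pair. -/
noncomputable def pair : ModPair.Pair.{u} := ⟨tot F, mod F, isEffCartier_mod F⟩

/-- the coprojections. -/
noncomputable def inj (j : σ) : F j ⟶ pair F :=
  ⟨Sigma.ι (fun i => (F i).total) j, (comap_ι F j).ge⟩

/-- the induced morphism out of the coproduct. -/
noncomputable def desc {P : ModPair.Pair.{u}} (g : ∀ j, F j ⟶ P) : pair F ⟶ P :=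
  ⟨Sigma.desc fun j => (g j).hom, by
    show mod F ≤ P.mod.comap _
    refine le_of_forall_comap_le (fun j => Sigma.ι (fun i => (F i).total) j) (cov F) (fun j => ?_)
    rw [comap_ι, ← Scheme.IdealSheafData.comap_comp, Sigma.ι_desc]
    exact (g j).cond⟩

/-- the cofan of the coproduct pair. -/
noncomputable def cofan : Cofan F := Cofan.mk (pair F) (inj F)

/-- the coproduct pair is a coproduct. -/
noncomputable def isColimit : IsColimit (cofan F) :=
  Cofan.IsColimit.mk _ (fun s => desc F (fun j => s.inj j))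
    (fun s j => by
      apply ModPair.Pair.Hom.ext
      show Sigma.ι (fun i => (F i).total) j ≫ (Sigma.desc fun j => (s.inj j).hom) = _
      rw [Sigma.ι_desc])
    (fun s m' hm => by
      apply ModPair.Pair.Hom.ext
      show m'.hom = Sigma.desc fun j => (s.inj j).hom
      apply Sigma.hom_ext
      intro j
      rw [Sigma.ι_desc]
      exact congrArg ModPair.Pair.Hom.hom (hm j))

end Groth.Agent.Lib.helper16.CoprodPair
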