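import Mathlib
import Groth.Prelude.Def_W4c6modpairsegaMP
import Groth.Agent.Lib.Helper16.CoprodPair

set_option autoImplicit false
universe u
open CategoryTheory CategoryTheory.Limits AlgebraicGeometry TopologicalSpace Opposite

namespace Groth.Agent.Lib.helper16.CoprodPair2

open Scheme.IdealSheafData Groth.Agent.Lib.helper16.EffCartier Groth.Agent.Lib.helper16.EffCartier2
  Groth.Agent.Lib.helper16.ModPairLib Groth.Agent.Lib.helper16.ModPairLib2
  Groth.Agent.Lib.helper16.CoprodIdeal Groth.Agent.Lib.helper16.CoprodPair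

section schemes

variable {σ : Type u} {A B : σ → Scheme.{u}}

lemma cov' (A : σ → Scheme.{u}) (x : (∐ A : Scheme.{u})) : ∃ i, x ∈ Set.range (Sigma.ι A i) := by
  obtain ⟨⟨i, v⟩, rfl⟩ := (sigmaMk A).surjective x
  rw [sigmaMk_mk]
  exact ⟨i, v, rfl⟩

lemma preimage_opensRange' (g : ∀ i, A i ⟶ B i) (j : σ) :
    Limits.Sigma.map g ⁻¹ᵁ (Sigma.ι B j).opensRange = (Sigma.ι A j).opensRange := by
  ext z
  obtain ⟨⟨i, v⟩, rfl⟩ := (sigmaMk A).surjective z
  rw [sigmaMk_mk]
  have h1 : Limits.Sigma.map g (Sigma.ι A i v) = Sigma.ι B i (g i v) := by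
    rw [← Scheme.Hom.comp_apply, Limits.Sigma.ι_map, Scheme.Hom.comp_apply]
  constructor
  · rintro ⟨x, hx⟩
    change Sigma.ι B j x = Limits.Sigma.map g _ at hx
    rw [h1] at hx
    obtain ⟨hji, -⟩ := Sigma.mk.inj_iff.mp ((sigmaι_eq_iff _ _ _ _ _).mp hx)
    subst hji
    exact ⟨v, rfl⟩
  · rintro ⟨w, hw⟩
    obtain ⟨hji, -⟩ := Sigma.mk.inj_iff.mp ((sigmaι_eq_iff _ _ _ _ _).mp hw)
    subst hji
    exact ⟨g j v, h1.symm⟩

theorem isPullback_ι' (g : ∀ i, A i ⟶ B i) (j : σ) :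
    IsPullback (g j) (Sigma.ι A j) (Sigma.ι B j) (Limits.Sigma.map g) :=
  IsOpenImmersion.isPullback _ _ _ _ (Limits.Sigma.ι_map g j) (preimage_opensRange' g j)

theorem isProper_sigmaMap (g : ∀ i, A i ⟶ B i) [∀ i, IsProper (g i)] :
    IsProper (Limits.Sigma.map g) := by
  refine IsZariskiLocalAtTarget.of_iSup_eq_top (P := @IsProper)
    (fun j : σ => (Sigma.ι B j).opensRange) ?_ (fun j => ?_)
  · rw [eq_top_iff]
    intro x _
    obtain ⟨i, hi⟩ := cov' B x
    exact Opens.mem_iSup.mpr ⟨i, hi⟩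
  · rw [(MorphismProperty.arrow_mk_iso_iff @IsProper
      (morphismRestrictOpensRange (Limits.Sigma.map g) (Sigma.ι B j)))]
    have h := (isPullback_ι' g j).flip
    have h2 : pullback.snd (Limits.Sigma.map g) (Sigma.ι B j) =
        h.isoPullback.inv ≫ g j := by
      rw [Iso.eq_inv_comp, h.isoPullback_hom_snd]
    rw [h2]
    infer_instance

/-- `Sigma.desc a` restricted over an open met only by the `j`-th summand is an isomorphism if
`a j` restricted over it is. -/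
theorem isIso_sigmaDesc_morphismRestrict {X : Scheme.{u}} (a : ∀ i, A i ⟶ X) (V : X.Opens) (j : σ)
    [IsIso (a j ∣_ V)] (hb : ∀ i, i ≠ j → ∀ y : A i, a i y ∉ V) :
    IsIso (Sigma.desc a ∣_ V) := by
  set p := Sigma.desc a with hp
  have hrange : Set.range ((a j ⁻¹ᵁ V).ι ≫ Sigma.ι A j) ⊆ Set.range (p ⁻¹ᵁ V).ι := by
    rintro _ ⟨x, rfl⟩
    rw [Scheme.Opens.range_ι]
    show p (((a j ⁻¹ᵁ V).ι ≫ Sigma.ι A j) x) ∈ V
    rw [← Scheme.Hom.comp_apply, Category.assoc, hp, Sigma.ι_desc]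
    exact x.2
  let k : (a j ⁻¹ᵁ V : Scheme.{u}) ⟶ (p ⁻¹ᵁ V : Scheme.{u}) :=
    IsOpenImmersion.lift (p ⁻¹ᵁ V).ι ((a j ⁻¹ᵁ V).ι ≫ Sigma.ι A j) hrange
  have hk : k ≫ (p ⁻¹ᵁ V).ι = (a j ⁻¹ᵁ V).ι ≫ Sigma.ι A j := IsOpenImmersion.lift_fac _ _ _
  have hkp : k ≫ (p ∣_ V) = a j ∣_ V := by
    rw [← cancel_mono V.ι, Category.assoc, morphismRestrict_ι, ← Category.assoc, hk,
      Category.assoc, hp, Sigma.ι_desc, morphismRestrict_ι]
  haveI : IsOpenImmersion k := by
    haveI : IsOpenImmersion (k ≫ (p ⁻¹ᵁ V).ι) := hk ▸ inferInstance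
    exact IsOpenImmersion.of_comp k (p ⁻¹ᵁ V).ι
  haveI : Surjective k := by
    refine ⟨fun z => ?_⟩
    obtain ⟨⟨i, x⟩, hxy⟩ := (sigmaMk A).surjective z.1
    rw [sigmaMk_mk] at hxy
    have hpx : p (Sigma.ι A i x) = a i x := by
      rw [← Scheme.Hom.comp_apply, hp, Sigma.ι_desc]
    have hxV : a i x ∈ V := by
      rw [← hpx, hxy]
      exact z.2
    by_cases hij : i = j
    · subst hij
      refine ⟨⟨x, hxV⟩, ?_⟩
      apply (p ⁻¹ᵁ V).ι.isOpenEmbedding.injective
      rw [← Scheme.Hom.comp_apply, hk, Scheme.Hom.comp_apply]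
      exact hxy
    · exact absurd hxV (hb i hij x)
  haveI : IsIso k := (isIso_iff_isOpenImmersion_and_surjective k).mpr ⟨inferInstance, inferInstance⟩
  have : p ∣_ V = inv k ≫ (a j ∣_ V) := by rw [IsIso.eq_inv_comp, hkp]
  rw [this]
  infer_instance

/-- a morphism is an isomorphism over `⨆ U i` if it is over each `U i`. -/
theorem isIso_morphismRestrict_iSup {X Y : Scheme.{u}} (p : Y ⟶ X) {ι : Type*} (W : ι → X.Opens)
    (U : X.Opens) (hU : ⨆ i, W i = U) [hiso : ∀ i, IsIso (p ∣_ W i)] : IsIso (p ∣_ U) := by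
  have hW : ∀ b, W b ≤ U := fun b => hU ▸ le_iSup W b
  have key : ∀ b, U.ι ''ᵁ (U.ι ⁻¹ᵁ W b) = W b := fun b => by
    rw [Scheme.Hom.image_preimage_eq_opensRange_inf, Scheme.Opens.opensRange_ι]
    exact inf_eq_right.mpr (hW b)
  change (MorphismProperty.isomorphisms Scheme.{u}) (p ∣_ U)
  refine IsZariskiLocalAtTarget.of_iSup_eq_top (fun b : ι => U.ι ⁻¹ᵁ W b) ?_ (fun b => ?_)
  · rw [eq_top_iff]
    rintro ⟨x, hx⟩ -
    rw [← hU] at hx
    obtain ⟨i, hi⟩ := Opens.mem_iSup.mp hx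
    exact Opens.mem_iSup.mpr ⟨i, hi⟩
  · rw [(MorphismProperty.isomorphisms Scheme.{u}).arrow_mk_iso_iff
      (morphismRestrictRestrict p U (U.ι ⁻¹ᵁ W b) ≪≫ morphismRestrictEq p (key b))]
    exact hiso b

theorem isIso_morphismRestrict_of_le_opensRange {X Y : Scheme.{u}} (g : X ⟶ Y) [IsOpenImmersion g]
    (U : Y.Opens) (hU : U ≤ g.opensRange) : IsIso (g ∣_ U) := by
  haveI : Surjective (g ∣_ U) := by
    refine ⟨fun y => ?_⟩
    obtain ⟨x, hx⟩ := hU y.2
    have hxU : x ∈ g ⁻¹ᵁ U := by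
      show g x ∈ U
      rw [hx]
      exact y.2
    refine ⟨⟨x, hxU⟩, Subtype.ext ?_⟩
    rw [morphismRestrict_base_coe]
    exact hx
  exact (isIso_iff_isOpenImmersion_and_surjective _).mpr ⟨inferInstance, inferInstance⟩

end schemes

section pairs

variable {σ : Type u} (F G : σ → ModPair.Pair.{u}) (f : ∀ i, F i ⟶ G i)

theorem isAdmBlowup_sigmaMap (hf : ∀ i, ModPair.IsAdmBlowup (F i).mod (G i).mod (f i).hom) :
    ModPair.IsAdmBlowup (mod F) (mod G)
      (Limits.Sigma.map (fun j => (f j).hom) : tot F ⟶ tot G) := by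
  refine ⟨?_, ?_, ?_⟩
  · show mod F = (mod G).comap (Limits.Sigma.map (fun j => (f j).hom) : tot F ⟶ tot G)
    refine eq_of_forall_comap_eq (fun j => Sigma.ι (fun i => (F i).total) j) (cov F) (fun j => ?_)
    rw [comap_ι, ← Scheme.IdealSheafData.comap_comp, Limits.Sigma.ι_map,
      Scheme.IdealSheafData.comap_comp, comap_ι]
    exact (hf j).1
  · haveI : ∀ i, IsProper (f i).hom := fun i => (hf i).2.1
    exact isProper_sigmaMap _
  · set U : (tot G).Opens := ModPair.interior (mod G) with hU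
    let R : σ → (tot G).Opens := fun j => (Sigma.ι (fun i => (G i).total) j).opensRange
    refine isIso_morphismRestrict_iSup _ (fun j => U ⊓ R j) U ?_ (hiso := fun j => ?_)
    · apply le_antisymm
      · exact iSup_le fun j => inf_le_left
      · intro x hx
        obtain ⟨i, hi⟩ := cov G x
        exact Opens.mem_iSup.mpr ⟨i, hx, hi⟩
    · have hmin : ModPair.IsMinimal (G j).mod (mod G) (Sigma.ι (fun i => (G i).total) j) :=
        (comap_ι G j).symm
      have hpre : Sigma.ι (fun i => (G i).total) j ⁻¹ᵁ (U ⊓ R j) = ModPair.interior (G j).mod := by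
        rw [Scheme.Hom.preimage_inf, hU, preimage_interior_of_isMinimal hmin]
        apply inf_eq_left.mpr
        intro x _
        exact ⟨x, rfl⟩
      haveI : IsIso (((f j).hom ≫ Sigma.ι (fun i => (G i).total) j) ∣_ (U ⊓ R j)) := by
        rw [morphismRestrict_comp]
        have i1 : IsIso (Sigma.ι (fun i => (G i).total) j ∣_ (U ⊓ R j)) :=
          isIso_morphismRestrict_of_le_opensRange _ _ inf_le_right
        have i2 : IsIso ((f j).hom ∣_ (Sigma.ι (fun i => (G i).total) j ⁻¹ᵁ (U ⊓ R j))) := by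
          have h3 : IsIso ((f j).hom ∣_ ModPair.interior (G j).mod) := (hf j).2.2
          exact ((MorphismProperty.isomorphisms Scheme.{u}).arrow_mk_iso_iff
            (morphismRestrictEq (f j).hom hpre)).mpr h3
        exact @IsIso.comp_isIso _ _ _ _ _ _ _ i2 i1
      refine isIso_sigmaDesc_morphismRestrict
        (fun i => (f i).hom ≫ Sigma.ι (fun i => (G i).total) i) (U ⊓ R j) j ?_
      intro i hij y hy
      obtain ⟨w, hw⟩ := hy.2
      rw [Scheme.Hom.comp_apply] at hw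
      obtain ⟨hji, -⟩ := Sigma.mk.inj_iff.mp ((sigmaι_eq_iff _ _ _ _ _).mp hw)
      exact hij hji.symm

/-- the induced map on coproduct pairs. -/
noncomputable def map : CoprodPair.pair F ⟶ CoprodPair.pair G := desc F (fun j => f j ≫ inj G j)

lemma map_hom : (map F G f).hom = (Limits.Sigma.map (fun j => (f j).hom) : tot F ⟶ tot G) := rfl

lemma inj_map (j : σ) : inj F j ≫ map F G f = f j ≫ inj G j := by
  apply ModPair.Pair.Hom.ext
  show Sigma.ι (fun i => (F i).total) j ≫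
    (Limits.Sigma.map (fun j => (f j).hom) : tot F ⟶ tot G) =
      (f j).hom ≫ Sigma.ι (fun i => (G i).total) j
  rw [Limits.Sigma.ι_map]

theorem admBlowup_map (hf : ∀ i, ModPair.Pair.admBlowup (f i)) :
    ModPair.Pair.admBlowup (map F G f) :=
  isAdmBlowup_sigmaMap F G f hf

end pairs

end Groth.Agent.Lib.helper16.CoprodPair2
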