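import Mathlib
import Groth.Prelude.Def_W4stkflatp2Cpct

set_option autoImplicit false
universe u
open CategoryTheory CategoryTheory.Limits AlgebraicGeometry TopologicalSpace Cpct

namespace Groth.Agent.Lib.helper16.CpctLib

variable {S : Scheme.{u}}

lemma restr_ι {A B : Pair S} (f : A ⟶ B) : restr f ≫ B.U.ι = A.U.ι ≫ f.bar.left := by
  simp [restr]

lemma restr_id (A : Pair S) : restr (𝟙 A) = 𝟙 _ := by
  rw [← cancel_mono A.U.ι, restr_ι]
  simp

lemma restr_comp {A B C : Pair S} (f : A ⟶ B) (g : B ⟶ C) :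
    restr (f ≫ g) = restr f ≫ restr g := by
  rw [← cancel_mono C.U.ι, restr_ι, Category.assoc, restr_ι, ← Category.assoc, restr_ι]
  simp

instance (A : Pair S) : IsProper A.bar.hom := A.isProper

lemma isProper_bar_left {A B : Pair S} (f : A ⟶ B) : IsProper f.bar.left := by
  haveI : IsProper (f.bar.left ≫ B.bar.hom) := by
    rw [Over.w]
    exact A.isProper
  exact IsProper.of_comp f.bar.left B.bar.hom

lemma isCompact_inter [QuasiSeparatedSpace S] {Z : Scheme.{u}} (p : Z ⟶ S) [IsProper p]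
    (U V : Z.Opens) (hU : IsCompact (U : Set Z)) (hV : IsCompact (V : Set Z)) :
    IsCompact ((U ⊓ V : Z.Opens) : Set Z) := by
  haveI : QuasiSeparatedSpace Z := quasiSeparatedSpace_of_quasiSeparated p
  exact QuasiSeparatedSpace.inter_isCompact _ _ U.2 hU V.2 hV

theorem isIso_resLE_fst {X X' Y : Scheme.{u}} (f : Y ⟶ X) (u : X' ⟶ X) (UX : X.Opens)
    (UX' : X'.Opens) (UY : Y.Opens) (hf : UY ≤ f ⁻¹ᵁ UX) (hu : UX' ≤ u ⁻¹ᵁ UX)
    [IsIso (u.resLE UX UX' hu)] :
    IsIso ((pullback.fst f u).resLE UY (pullback.fst f u ⁻¹ᵁ UY ⊓ pullback.snd f u ⁻¹ᵁ UX')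
      inf_le_left) := by
  set UP : (pullback f u).Opens := pullback.fst f u ⁻¹ᵁ UY ⊓ pullback.snd f u ⁻¹ᵁ UX' with hUP
  set rf := f.resLE UX UY hf with hrf
  set ru := u.resLE UX UX' hu with hru
  have hrfι : rf ≫ UX.ι = UY.ι ≫ f := Scheme.Hom.resLE_comp_ι _ _
  have hruι : ru ≫ UX.ι = UX'.ι ≫ u := Scheme.Hom.resLE_comp_ι _ _
  have hcomm : UY.ι ≫ f = (rf ≫ inv ru ≫ UX'.ι) ≫ u := by
    rw [Category.assoc, Category.assoc, ← hruι, IsIso.inv_hom_id_assoc, hrfι]
  let k : (UY : Scheme.{u}) ⟶ pullback f u := pullback.lift UY.ι (rf ≫ inv ru ≫ UX'.ι) hcomm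
  have hk1 : k ≫ pullback.fst _ _ = UY.ι := pullback.lift_fst _ _ _
  have hk2 : k ≫ pullback.snd _ _ = rf ≫ inv ru ≫ UX'.ι := pullback.lift_snd _ _ _
  have hrange : Set.range k ⊆ Set.range UP.ι := by
    rintro _ ⟨y, rfl⟩
    rw [Scheme.Opens.range_ι]
    constructor
    · show pullback.fst f u (k y) ∈ UY
      rw [← Scheme.Hom.comp_apply, hk1]
      exact y.2
    · show pullback.snd f u (k y) ∈ UX'
      rw [← Scheme.Hom.comp_apply, hk2, ← Category.assoc, Scheme.Hom.comp_apply]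
      exact Subtype.property _
  let k' : (UY : Scheme.{u}) ⟶ (UP : Scheme.{u}) := IsOpenImmersion.lift UP.ι k hrange
  have hk' : k' ≫ UP.ι = k := IsOpenImmersion.lift_fac _ _ _
  set r1 := (pullback.fst f u).resLE UY UP inf_le_left with hr1
  set r2 := (pullback.snd f u).resLE UX' UP inf_le_right with hr2
  have hfst : r1 ≫ UY.ι = UP.ι ≫ pullback.fst _ _ := Scheme.Hom.resLE_comp_ι _ _
  have hsnd : r2 ≫ UX'.ι = UP.ι ≫ pullback.snd _ _ := Scheme.Hom.resLE_comp_ι _ _
  have hsq : r2 = r1 ≫ rf ≫ inv ru := by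
    rw [← Category.assoc, IsIso.eq_comp_inv, ← cancel_mono UX.ι, Category.assoc, hruι,
      ← Category.assoc, hsnd, Category.assoc, Category.assoc, hrfι, ← Category.assoc r1, hfst,
      Category.assoc, pullback.condition]
  refine ⟨k', ?_, ?_⟩
  · rw [← cancel_mono UP.ι, Category.assoc, hk', Category.id_comp]
    apply pullback.hom_ext
    · rw [Category.assoc, hk1, hfst]
    · rw [Category.assoc, hk2, ← hsnd, hsq]
      simp only [Category.assoc]
  · rw [← cancel_mono UY.ι, Category.assoc, hfst, ← Category.assoc, hk', hk1, Category.id_comp]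

theorem isIso_resLE_of_section {E X : Scheme.{u}} (i : E ⟶ X) [Mono i] (U : X.Opens)
    (k : (U : Scheme.{u}) ⟶ E) (hk : k ≫ i = U.ι) :
    IsIso (i.resLE U (i ⁻¹ᵁ U) le_rfl) := by
  have hrange : Set.range k ⊆ Set.range (i ⁻¹ᵁ U).ι := by
    rintro _ ⟨y, rfl⟩
    rw [Scheme.Opens.range_ι]
    show i (k y) ∈ U
    rw [← Scheme.Hom.comp_apply, hk]
    exact y.2
  let k' : (U : Scheme.{u}) ⟶ ((i ⁻¹ᵁ U : E.Opens) : Scheme.{u}) :=
    IsOpenImmersion.lift (i ⁻¹ᵁ U).ι k hrange
  have hk' : k' ≫ (i ⁻¹ᵁ U).ι = k := IsOpenImmersion.lift_fac _ _ _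
  have hι : i.resLE U (i ⁻¹ᵁ U) le_rfl ≫ U.ι = (i ⁻¹ᵁ U).ι ≫ i := Scheme.Hom.resLE_comp_ι _ _
  refine ⟨k', ?_, ?_⟩
  · rw [← cancel_mono (i ⁻¹ᵁ U).ι, ← cancel_mono i]
    simp only [Category.assoc, Category.id_comp]
    rw [← Category.assoc k', hk', hk, hι]
  · rw [← cancel_mono U.ι, Category.assoc, hι, ← Category.assoc, hk', hk, Category.id_comp]

section fib

variable [QuasiSeparatedSpace S] {X X' Y : Pair S} (f : Y ⟶ X) (u : X' ⟶ X)

/-- the fibre product pair. -/
noncomputable def fib : Pair S where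
  bar := Over.mk (pullback.fst f.bar.left u.bar.left ≫ Y.bar.hom)
  U := pullback.fst f.bar.left u.bar.left ⁻¹ᵁ Y.U ⊓ pullback.snd f.bar.left u.bar.left ⁻¹ᵁ X'.U
  isProper := by
    haveI := isProper_bar_left u
    show IsProper (pullback.fst f.bar.left u.bar.left ≫ Y.bar.hom)
    infer_instance
  isCompact := by
    haveI := isProper_bar_left u
    haveI := isProper_bar_left f
    haveI : IsProper (pullback.fst f.bar.left u.bar.left ≫ Y.bar.hom) := inferInstance
    exact isCompact_inter (pullback.fst f.bar.left u.bar.left ≫ Y.bar.hom) _ _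
      (Scheme.Hom.isCompact_preimage _ Y.isCompact) (Scheme.Hom.isCompact_preimage _ X'.isCompact)

/-- first projection. -/
noncomputable def fibFst : fib f u ⟶ Y :=
  ⟨Over.homMk (pullback.fst f.bar.left u.bar.left) rfl, fun _ hx => hx.1⟩

/-- second projection. -/
noncomputable def fibSnd : fib f u ⟶ X' :=
  ⟨Over.homMk (pullback.snd f.bar.left u.bar.left) (by
    show pullback.snd f.bar.left u.bar.left ≫ X'.bar.hom =
      pullback.fst f.bar.left u.bar.left ≫ Y.bar.hom
    rw [← Over.w u.bar, ← Over.w f.bar, ← Category.assoc, ← Category.assoc, pullback.condition]),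
    fun _ hx => hx.2⟩

lemma fib_comm : fibFst f u ≫ f = fibSnd f u ≫ u := by
  apply Pair.Hom.ext
  apply Over.OverMorphism.ext
  exact pullback.condition

lemma isIso_restr_fibFst (hu : IsIso (restr u)) : IsIso (restr (fibFst f u)) := by
  haveI : IsIso (u.bar.left.resLE X.U X'.U (fun x hx => Pair.Hom.le u x hx)) := hu
  exact isIso_resLE_fst f.bar.left u.bar.left X.U X'.U Y.U (fun x hx => Pair.Hom.le f x hx)
    (fun x hx => Pair.Hom.le u x hx)

end fib

section eq

variable {X Y : Pair S} (f g : X ⟶ Y)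

instance (A : Pair S) : IsSeparated A.bar.hom := by
  haveI := A.isProper
  infer_instance

/-- the equalizer pair. -/
noncomputable def eqPair : Pair S where
  bar := equalizer f.bar g.bar
  U := (equalizer.ι f.bar g.bar).left ⁻¹ᵁ X.U
  isProper := by
    haveI : IsProper ((equalizer.ι f.bar g.bar).left ≫ X.bar.hom) := inferInstance
    rw [← Over.w (equalizer.ι f.bar g.bar)]
    infer_instance
  isCompact := Scheme.Hom.isCompact_preimage _ X.isCompact

/-- the inclusion of the equalizer. -/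
noncomputable def eqι : eqPair f g ⟶ X := ⟨equalizer.ι f.bar g.bar, fun _ hx => hx⟩

lemma eqι_comp : eqι f g ≫ f = eqι f g ≫ g := by
  apply Pair.Hom.ext
  exact equalizer.condition _ _

lemma isIso_restr_eqι (h : restr f = restr g) : IsIso (restr (eqι f g)) := by
  let j : openOver.obj X ⟶ X.bar := Over.homMk X.U.ι rfl
  have hj : j ≫ f.bar = j ≫ g.bar := by
    apply Over.OverMorphism.ext
    show X.U.ι ≫ f.bar.left = X.U.ι ≫ g.bar.left
    rw [← restr_ι, ← restr_ι, h]
  let k := equalizer.lift j hj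
  have hk : k.left ≫ (equalizer.ι f.bar g.bar).left = X.U.ι :=
    congrArg CommaMorphism.left (equalizer.lift_ι j hj)
  haveI : Mono (equalizer.ι f.bar g.bar).left := by
    haveI : IsClosedImmersion (equalizer.ι f.bar g.bar).left := inferInstance
    infer_instance
  exact isIso_resLE_of_section (equalizer.ι f.bar g.bar).left X.U k.left hk

end eq

end Groth.Agent.Lib.helper16.CpctLib
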