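import Mathlib
import Groth.Prelude.Def_W4stkflatp2Cpct
import Groth.Agent.Lib.Helper16.CpctLib

set_option autoImplicit false
universe u
open CategoryTheory CategoryTheory.Limits AlgebraicGeometry TopologicalSpace Cpct

namespace Groth.Agent.Lib.helper16.CpctLib2

open Groth.Agent.Lib.helper16.CpctLib

/-- the canonical map to the scheme-theoretic image is scheme-theoretically dominant. -/
theorem toImage_dominant {X Y : Scheme.{u}} (f : X ⟶ Y) [QuasiCompact f] :
    IsSchemeTheoreticallyDominant f.toImage := by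
  rw [isSchemeTheoreticallyDominant_iff]
  refine Scheme.IdealSheafData.ext_of_iSup_eq_top
    (fun U : Y.affineOpens =>
      (⟨f.imageι ⁻¹ᵁ U.1, U.2.preimage f.imageι⟩ : f.image.affineOpens)) ?_ (fun U => ?_)
  · rw [eq_top_iff]
    intro x _
    obtain ⟨_, ⟨W, hW, rfl⟩, hxW, -⟩ :=
      Y.isBasis_affineOpens.exists_subset_of_mem_open (Set.mem_univ (f.imageι x)) isOpen_univ
    exact Opens.mem_iSup.mpr ⟨⟨W, hW⟩, hxW⟩
  · rw [Scheme.Hom.ker_apply, Scheme.IdealSheafData.ideal_bot, Pi.bot_apply,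
      ← RingHom.injective_iff_ker_eq_bot]
    exact f.toImage_app_injective U

/-- if `g ≫ j` is scheme-theoretically dominant with `j` an open immersion then so is `g`. -/
theorem dominant_of_comp_openImmersion {X Z₀ Z : Scheme.{u}} (g : X ⟶ Z₀) (j : Z₀ ⟶ Z)
    [IsOpenImmersion j] [QuasiCompact g] [QuasiCompact (g ≫ j)]
    [IsSchemeTheoreticallyDominant (g ≫ j)] : IsSchemeTheoreticallyDominant g := by
  rw [isSchemeTheoreticallyDominant_iff]
  refine Scheme.IdealSheafData.ext_of_iSup_eq_top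
    (fun V : Z₀.affineOpens =>
      (⟨j ⁻¹ᵁ (j ''ᵁ V.1), by rw [Scheme.Hom.preimage_image_eq]; exact V.2⟩ : Z₀.affineOpens))
    ?_ (fun V => ?_)
  · rw [eq_top_iff]
    intro x _
    obtain ⟨_, ⟨W, hW, rfl⟩, hxW, -⟩ :=
      Z₀.isBasis_affineOpens.exists_subset_of_mem_open (Set.mem_univ x) isOpen_univ
    refine Opens.mem_iSup.mpr ⟨⟨W, hW⟩, ?_⟩
    show x ∈ j ⁻¹ᵁ (j ''ᵁ W)
    rw [Scheme.Hom.preimage_image_eq]
    exact hxW
  · rw [Scheme.Hom.ker_apply, Scheme.IdealSheafData.ideal_bot, Pi.bot_apply,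
      ← RingHom.injective_iff_ker_eq_bot]
    have h1 := (g ≫ j).app_injective (j ''ᵁ V.1)
    rw [Scheme.Hom.comp_app] at h1
    have h2 : Function.Surjective (j.app (j ''ᵁ V.1)) :=
      ((ConcreteCategory.isIso_iff_bijective _).mp inferInstance).2
    have h3 : ⇑(CommRingCat.Hom.hom (j.app (j ''ᵁ V.1) ≫ g.app (j ⁻¹ᵁ (j ''ᵁ V.1)))) =
        ⇑(CommRingCat.Hom.hom (g.app (j ⁻¹ᵁ (j ''ᵁ V.1)))) ∘
          ⇑(CommRingCat.Hom.hom (j.app (j ''ᵁ V.1))) := by
      ext s
      rfl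
    have h4 : Function.Injective (⇑(CommRingCat.Hom.hom (g.app (j ⁻¹ᵁ (j ''ᵁ V.1)))) ∘
          ⇑(CommRingCat.Hom.hom (j.app (j ''ᵁ V.1)))) := by
      rw [← h3]
      exact h1
    exact Function.Injective.of_comp_right h4 h2

section graph

variable {S Xb Yb : Scheme.{u}} (p : Xb ⟶ S) (q : Yb ⟶ S) [IsSeparated q] (U : Xb.Opens) (V : Yb.Opens)
  (h : (U : Scheme.{u}) ⟶ (V : Scheme.{u})) (hS : h ≫ V.ι ≫ q = U.ι ≫ p)

/-- the graph morphism. -/
noncomputable def graph : (U : Scheme.{u}) ⟶ pullback p q :=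
  pullback.lift U.ι (h ≫ V.ι) (by rw [Category.assoc, hS])

lemma graph_fst : graph p q U V h hS ≫ pullback.fst p q = U.ι := pullback.lift_fst _ _ _

lemma graph_snd : graph p q U V h hS ≫ pullback.snd p q = h ≫ V.ι := pullback.lift_snd _ _ _

/-- the open part of the graph closure. -/
noncomputable abbrev graphOpen : (graph p q U V h hS).image.Opens :=
  (graph p q U V h hS).imageι ⁻¹ᵁ (pullback.fst p q ⁻¹ᵁ U)

theorem graph_main [CompactSpace (U : Scheme.{u})] [QuasiSeparatedSpace ↥(pullback p q)] :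
    ∃ c' : (U : Scheme.{u}) ⟶ (graphOpen p q U V h hS : Scheme.{u}), IsIso c' ∧
      c' ≫ (graphOpen p q U V h hS).ι = (graph p q U V h hS).toImage := by
  set γ := graph p q U V h hS with hγ
  set P₀ : (pullback p q).Opens := pullback.fst p q ⁻¹ᵁ U with hP₀
  haveI : QuasiCompact γ := quasiCompact_of_compactSpace γ
  have hrange : Set.range γ ⊆ Set.range P₀.ι := by
    rintro _ ⟨a, rfl⟩
    rw [Scheme.Opens.range_ι]
    show pullback.fst p q (γ a) ∈ U
    rw [← Scheme.Hom.comp_apply, graph_fst]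
    exact a.2
  let c : (U : Scheme.{u}) ⟶ (P₀ : Scheme.{u}) := IsOpenImmersion.lift P₀.ι γ hrange
  have hc : c ≫ P₀.ι = γ := IsOpenImmersion.lift_fac _ _ _
  have hcq : c ≫ (pullback.fst p q ∣_ U) = 𝟙 _ := by
    rw [← cancel_mono U.ι, Category.assoc, morphismRestrict_ι, ← Category.assoc, hc, graph_fst,
      Category.id_comp]
  haveI : IsSeparated (pullback.fst p q ∣_ U) :=
    IsZariskiLocalAtTarget.restrict (P := @IsSeparated) (f := pullback.fst p q) inferInstance U
  haveI : IsClosedImmersion c := by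
    haveI : IsClosedImmersion (c ≫ (pullback.fst p q ∣_ U)) := by
      rw [hcq]
      infer_instance
    exact IsClosedImmersion.of_comp c (pullback.fst p q ∣_ U)
  let ZU : γ.image.Opens := γ.imageι ⁻¹ᵁ P₀
  have hrange' : Set.range γ.toImage ⊆ Set.range ZU.ι := by
    rintro _ ⟨a, rfl⟩
    rw [Scheme.Opens.range_ι]
    show pullback.fst p q (γ.imageι (γ.toImage a)) ∈ U
    rw [← Scheme.Hom.comp_apply, ← Scheme.Hom.comp_apply, ← Category.assoc,
      Scheme.Hom.toImage_imageι, graph_fst]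
    exact a.2
  let c' : (U : Scheme.{u}) ⟶ (ZU : Scheme.{u}) := IsOpenImmersion.lift ZU.ι γ.toImage hrange'
  have hc' : c' ≫ ZU.ι = γ.toImage := IsOpenImmersion.lift_fac _ _ _
  haveI : IsClosedImmersion (γ.imageι ∣_ P₀) :=
    IsZariskiLocalAtTarget.restrict (P := @IsClosedImmersion) (f := γ.imageι) inferInstance P₀
  have hce : c' ≫ (γ.imageι ∣_ P₀) = c := by
    rw [← cancel_mono P₀.ι, Category.assoc, morphismRestrict_ι, hc]
    show c' ≫ ZU.ι ≫ γ.imageι = γ
    rw [← Category.assoc, hc', Scheme.Hom.toImage_imageι]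
  haveI : IsClosedImmersion c' := by
    haveI : IsClosedImmersion (c' ≫ (γ.imageι ∣_ P₀)) := by
      rw [hce]
      infer_instance
    exact IsClosedImmersion.of_comp c' (γ.imageι ∣_ P₀)
  haveI : IsSchemeTheoreticallyDominant (c' ≫ ZU.ι) := by
    rw [hc']
    exact toImage_dominant γ
  haveI : QuasiCompact (c' ≫ ZU.ι) := by
    rw [hc']
    infer_instance
  haveI : IsSchemeTheoreticallyDominant c' := dominant_of_comp_openImmersion c' ZU.ι
  exact ⟨c', IsClosedImmersion.isIso_iff_ker_eq_bot.mpr (Scheme.Hom.ker_eq_bot c'), hc'⟩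

theorem graph_main2 [CompactSpace (U : Scheme.{u})] [QuasiSeparatedSpace ↥(pullback p q)] :
    ∃ c' : (U : Scheme.{u}) ⟶ (graphOpen p q U V h hS : Scheme.{u}), IsIso c' ∧
      c' ≫ (graphOpen p q U V h hS).ι ≫ (graph p q U V h hS).imageι ≫ pullback.fst p q = U.ι ∧
      c' ≫ (graphOpen p q U V h hS).ι ≫ (graph p q U V h hS).imageι ≫ pullback.snd p q =
        h ≫ V.ι := by
  obtain ⟨c', hiso, hc'⟩ := graph_main p q U V h hS
  refine ⟨c', hiso, ?_, ?_⟩
  · rw [← Category.assoc, hc', Scheme.Hom.toImage_imageι_assoc, graph_fst]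
  · rw [← Category.assoc, hc', Scheme.Hom.toImage_imageι_assoc, graph_snd]

lemma graph_snd_mem [CompactSpace (U : Scheme.{u})] [QuasiSeparatedSpace ↥(pullback p q)]
    (a : (graph p q U V h hS).image) (ha : a ∈ graphOpen p q U V h hS) :
    ((graph p q U V h hS).imageι ≫ pullback.snd p q) a ∈ V := by
  obtain ⟨c', hiso, -, hc'⟩ := graph_main2 p q U V h hS
  obtain ⟨b, hb⟩ : ∃ b, c' b = ⟨a, ha⟩ := ⟨(inv c') ⟨a, ha⟩, by
    rw [← Scheme.Hom.comp_apply, IsIso.inv_hom_id]; rfl⟩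
  have h1 : a = (c' ≫ (graphOpen p q U V h hS).ι) b := by
    rw [Scheme.Hom.comp_apply, hb]
    rfl
  rw [h1, ← Scheme.Hom.comp_apply, Category.assoc, hc', Scheme.Hom.comp_apply]
  exact Subtype.property _

end graph

section P1

variable {S : Scheme.{u}} [QuasiSeparatedSpace S] {x y : Pair S}
  (h : (x.U : Scheme.{u}) ⟶ (y.U : Scheme.{u})) (hS : h ≫ y.U.ι ≫ y.bar.hom = x.U.ι ≫ x.bar.hom)

instance compactSpace_U (x : Pair S) : CompactSpace (x.U : Scheme.{u}) :=
  isCompact_iff_compactSpace.mp x.isCompact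

instance quasiSeparatedSpace_pullback (x y : Pair S) :
    QuasiSeparatedSpace ↥(pullback x.bar.hom y.bar.hom) :=
  quasiSeparatedSpace_of_quasiSeparated (pullback.fst x.bar.hom y.bar.hom ≫ x.bar.hom)

/-- the graph closure pair. -/
noncomputable def gz : Pair S where
  bar := Over.mk ((graph x.bar.hom y.bar.hom x.U y.U h hS).imageι ≫
    pullback.fst x.bar.hom y.bar.hom ≫ x.bar.hom)
  U := graphOpen x.bar.hom y.bar.hom x.U y.U h hS
  isProper := by
    show IsProper ((graph x.bar.hom y.bar.hom x.U y.U h hS).imageι ≫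
      pullback.fst x.bar.hom y.bar.hom ≫ x.bar.hom)
    infer_instance
  isCompact :=
    Scheme.Hom.isCompact_preimage _ (Scheme.Hom.isCompact_preimage _ x.isCompact)

/-- the projection to `x`. -/
noncomputable def gσ : gz h hS ⟶ x :=
  ⟨Over.homMk ((graph x.bar.hom y.bar.hom x.U y.U h hS).imageι ≫
    pullback.fst x.bar.hom y.bar.hom) (by simp [gz]), fun _ ha => ha⟩

/-- the projection to `y`. -/
noncomputable def gφ : gz h hS ⟶ y :=
  ⟨Over.homMk ((graph x.bar.hom y.bar.hom x.U y.U h hS).imageι ≫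
    pullback.snd x.bar.hom y.bar.hom) (by
      show ((graph x.bar.hom y.bar.hom x.U y.U h hS).imageι ≫
        pullback.snd x.bar.hom y.bar.hom) ≫ y.bar.hom =
        (graph x.bar.hom y.bar.hom x.U y.U h hS).imageι ≫
          pullback.fst x.bar.hom y.bar.hom ≫ x.bar.hom
      rw [Category.assoc, pullback.condition]),
    fun a ha => graph_snd_mem x.bar.hom y.bar.hom x.U y.U h hS a ha⟩

theorem P1_main : IsIso (restr (gσ h hS)) ∧ restr (gσ h hS) ≫ h = restr (gφ h hS) := by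
  obtain ⟨c₀, hiso₀, hc1₀, hc2₀⟩ := graph_main2 x.bar.hom y.bar.hom x.U y.U h hS
  let c' : (x.U : Scheme.{u}) ⟶ ((gz h hS).U : Scheme.{u}) := c₀
  have hiso : IsIso c' := hiso₀
  have hc1 : c' ≫ (gz h hS).U.ι ≫ (gσ h hS).bar.left = x.U.ι := hc1₀
  have hc2 : c' ≫ (gz h hS).U.ι ≫ (gφ h hS).bar.left = h ≫ y.U.ι := hc2₀
  have h1 : restr (gσ h hS) ≫ x.U.ι = (gz h hS).U.ι ≫ (gσ h hS).bar.left := restr_ι _
  have h2 : restr (gφ h hS) ≫ y.U.ι = (gz h hS).U.ι ≫ (gφ h hS).bar.left := restr_ι _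
  have h3 : c' ≫ restr (gσ h hS) = 𝟙 _ := by
    rw [← cancel_mono x.U.ι, Category.assoc, h1, hc1, Category.id_comp]
  have h4 : restr (gσ h hS) = inv c' := by
    rw [← Category.id_comp (restr (gσ h hS)), ← IsIso.inv_hom_id c', Category.assoc, h3,
      Category.comp_id]
  refine ⟨h4 ▸ inferInstance, ?_⟩
  rw [← cancel_epi c', ← Category.assoc, h3, Category.id_comp, ← cancel_mono y.U.ι,
    Category.assoc, h2, hc2]

end P1

end Groth.Agent.Lib.helper16.CpctLib2
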