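import Groth.Agent.Lib.Helper16.CycOpen2

/-!
# Orders and principal divisors under closed immersions (helper16)

For a closed immersion `ι : Z ⟶ X`:
* `residueFieldMap_bijective`, `resEquiv`: the residue fields agree.
* `locQuotEquiv`: `O_{X,ι z}/𝔭_{ι ξ} ≃ O_{Z,z}/𝔭_ξ`.
* `ordAt_closedImmersion`, `divFun_closedImmersion`, `divFun_eq_zero_of_notMem_range`.
* `divFun_congr`: transport of `Cyc.divFun` along an equality of points.
-/

set_option autoImplicit false
universe u
open CategoryTheory CategoryTheory.Limits AlgebraicGeometry TopologicalSpace Opposite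

namespace Groth.Agent.Lib.helper16.CycClosed

open Groth.Agent.Lib.helper16.CycOpen

theorem divFun_congr {X : Scheme.{u}} (δ : X → ℤ) {ξ ξ' : X} (h : ξ = ξ')
    (f : X.residueField ξ) :
    Cyc.divFun δ ξ f = Cyc.divFun δ ξ' ((X.residueFieldCongr h).hom f) := by
  subst h
  rw [Scheme.residueFieldCongr_refl]
  rfl

variable {X Z : Scheme.{u}} (ι : Z ⟶ X) [IsClosedImmersion ι]

theorem residueFieldMap_bijective (z : Z) : Function.Bijective (ι.residueFieldMap z).hom := by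
  refine ⟨(ι.residueFieldMap z).hom.injective, ?_⟩
  intro b
  obtain ⟨a, rfl⟩ := Z.residue_surjective z b
  obtain ⟨a', rfl⟩ := ι.stalkMap_surjective z a
  refine ⟨X.residue (ι z) a', ?_⟩
  have h2 := ConcreteCategory.congr_hom (Scheme.residue_residueFieldMap ι z) a'
  simpa using h2

/-- the isomorphism of residue fields induced by a closed immersion -/
noncomputable def resEquiv (z : Z) : X.residueField (ι z) ≃+* Z.residueField z :=
  RingEquiv.ofBijective (ι.residueFieldMap z).hom (residueFieldMap_bijective ι z)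

@[simp] theorem resEquiv_apply (z : Z) (a : X.residueField (ι z)) :
    resEquiv ι z a = ι.residueFieldMap z a := rfl

theorem specializes_iff_closedImmersion (z ξ : Z) : ι ξ ⤳ ι z ↔ ξ ⤳ z :=
  ι.isClosedEmbedding.isInducing.specializes_iff

theorem mem_range_of_specializes (ξ : Z) (x : X) (h : ι ξ ⤳ x) : x ∈ Set.range ι := by
  have hcl : IsClosed (Set.range ι) := ι.isClosedEmbedding.isClosed_range
  exact h.mem_closed hcl ⟨ξ, rfl⟩

theorem ker_specMap_comp (z ξ : Z) (h : ξ ⤳ z) (h' : ι ξ ⤳ ι z) :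
    RingHom.ker ((Ideal.Quotient.mk (RingHom.ker (Cyc.specMap z ξ h))).comp (ι.stalkMap z).hom) =
      RingHom.ker (Cyc.specMap (ι z) (ι ξ) h') := by
  ext a
  simp only [RingHom.mem_ker, RingHom.comp_apply, Ideal.Quotient.eq_zero_iff_mem]
  rw [specMap_stalkMap ι z ξ h h' a]
  constructor
  · intro hx
    exact (ι.residueFieldMap ξ).hom.injective (by rw [hx, map_zero])
  · intro hx
    rw [hx, map_zero]

/-- the isomorphism of the local rings of the closure of `ξ` induced by a closed immersion -/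
noncomputable def locQuotEquiv (z ξ : Z) (h : ξ ⤳ z) (h' : ι ξ ⤳ ι z) :
    Cyc.LocQuot (ι z) (ι ξ) h' ≃+* Cyc.LocQuot z ξ h :=
  (Ideal.quotEquivOfEq (ker_specMap_comp ι z ξ h h').symm).trans
    (RingHom.quotientKerEquivOfSurjective
      (f := (Ideal.Quotient.mk (RingHom.ker (Cyc.specMap z ξ h))).comp (ι.stalkMap z).hom)
      (Ideal.Quotient.mk_surjective.comp (ι.stalkMap_surjective z)))

theorem locQuotEquiv_mk (z ξ : Z) (h : ξ ⤳ z) (h' : ι ξ ⤳ ι z) (a : X.presheaf.stalk (ι z)) :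
    locQuotEquiv ι z ξ h h' (Ideal.Quotient.mk _ a) = Ideal.Quotient.mk _ (ι.stalkMap z a) :=
  rfl

theorem ordAt_closedImmersion (z ξ : Z) (h : ξ ⤳ z) (h' : ι ξ ⤳ ι z)
    (f' : X.residueField (ι ξ)) :
    Cyc.ordAt (ι z) (ι ξ) h' f' = Cyc.ordAt z ξ h (ι.residueFieldMap ξ f') := by
  unfold Cyc.ordAt
  refine ordFrac_ringEquiv (locQuotEquiv ι z ξ h h') (resEquiv ι ξ) ?_ f'
  intro r
  obtain ⟨a, rfl⟩ := Ideal.Quotient.mk_surjective r
  rw [locQuotEquiv_mk]
  exact (specMap_stalkMap ι z ξ h h' a).symm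

theorem divFun_closedImmersion (δ : X → ℤ) (z ξ : Z) (f' : X.residueField (ι ξ)) :
    Cyc.divFun δ (ι ξ) f' (ι z) =
      Cyc.divFun (fun v => δ (ι v)) ξ (ι.residueFieldMap ξ f') z := by
  unfold Cyc.divFun
  by_cases h : ξ ⤳ z ∧ δ (ι z) + 1 = δ (ι ξ)
  · have h' : ι ξ ⤳ ι z ∧ δ (ι z) + 1 = δ (ι ξ) :=
      ⟨(specializes_iff_closedImmersion ι z ξ).2 h.1, h.2⟩
    rw [dif_pos h, dif_pos h']
    exact ordAt_closedImmersion ι z ξ h.1 h'.1 f'
  · have h' : ¬ (ι ξ ⤳ ι z ∧ δ (ι z) + 1 = δ (ι ξ)) := fun h' =>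
      h ⟨(specializes_iff_closedImmersion ι z ξ).1 h'.1, h'.2⟩
    rw [dif_neg h, dif_neg h']

theorem divFun_eq_zero_of_notMem_range (δ : X → ℤ) (ξ : Z) (f' : X.residueField (ι ξ)) (x : X)
    (hx : x ∉ Set.range ι) : Cyc.divFun δ (ι ξ) f' x = 0 := by
  unfold Cyc.divFun
  rw [dif_neg]
  intro h
  exact hx (mem_range_of_specializes ι ξ x h.1)

end Groth.Agent.Lib.helper16.CycClosed
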