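import Groth.Agent.Lib.Helper16.CycOpen3

/-!
# Extending rational equivalences from an open subscheme (helper16)

* `locallyFinite_transfer`: a locally finite family of points of an open `U` of a locally Noetherian
  scheme `X` is locally finite in `X`.
* `exists_ratEquiv_of_open`: if the restrictions of `α`, `β` to `U` are rationally equivalent then
  `α ∼ β + γ` for a cycle `γ` vanishing on `U`.
-/

set_option autoImplicit false
universe u
open CategoryTheory CategoryTheory.Limits AlgebraicGeometry TopologicalSpace Opposite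

namespace Groth.Agent.Lib.helper16.CycOpen

variable {X : Scheme.{u}}

theorem locallyFinite_transfer [IsLocallyNoetherian X] (U : X.Opens) {ι : Type*}
    (ξ : ι → (U : Scheme.{u}))
    (hlf : ∀ u : (U : Scheme.{u}), ∃ V : Set (U : Scheme.{u}), IsOpen V ∧ u ∈ V ∧
      {i | (closure {ξ i} ∩ V).Nonempty}.Finite) (x : X) :
    ∃ W : X.Opens, IsAffineOpen W ∧ x ∈ W ∧
      {i | (closure {U.ι (ξ i)} ∩ (W : Set X)).Nonempty}.Finite := by
  obtain ⟨W, hW, hxW⟩ : ∃ W : X.Opens, IsAffineOpen W ∧ x ∈ W := by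
    obtain ⟨W, hW, hxW, -⟩ := Opens.isBasis_iff_nbhd.mp X.isBasis_affineOpens
      (show x ∈ (⊤ : X.Opens) from trivial)
    exact ⟨W, hW, hxW⟩
  refine ⟨W, hW, hxW, ?_⟩
  haveI : IsNoetherianRing Γ(X, W) := IsLocallyNoetherian.component_noetherian ⟨W, hW⟩
  haveI : NoetherianSpace W := noetherianSpace_of_isAffineOpen W hW
  have hK : IsCompact (U.ι ⁻¹' (W : Set X) : Set (U : Scheme.{u})) := by
    rw [U.ι.isOpenEmbedding.isInducing.isCompact_iff]
    have h1 : U.ι '' (U.ι ⁻¹' (W : Set X)) = W.ι '' (W.ι ⁻¹' (U : Set X)) := by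
      rw [Set.image_preimage_eq_inter_range, Set.image_preimage_eq_inter_range,
        Scheme.Opens.range_ι, Scheme.Opens.range_ι, Set.inter_comm]
    rw [h1]
    exact (NoetherianSpace.isCompact _).image W.ι.continuous
  choose V hVo hVu hVf using hlf
  obtain ⟨t, -, ht⟩ := hK.elim_nhds_subcover V (fun u _ => (hVo u).mem_nhds (hVu u))
  refine (Set.Finite.biUnion t.finite_toSet (fun u _ => hVf u)).subset ?_
  rintro i ⟨z, hz1, hz2⟩
  have hξz : U.ι (ξ i) ⤳ z := specializes_iff_mem_closure.2 hz1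
  have hξW : U.ι (ξ i) ∈ W := hξz.mem_open W.isOpen hz2
  obtain ⟨u, hut, hu⟩ := Set.mem_iUnion₂.1 (ht hξW)
  exact Set.mem_biUnion hut ⟨ξ i, subset_closure rfl, hu⟩

theorem exists_ratEquiv_of_open (X : Scheme.{u}) (δ : X → ℤ) (hX : Cyc.IsSetup X δ) (U : X.Opens)
    (k : ℤ) (α β : AlgebraicCycle X ℤ) (hα : α ∈ Cyc.Zk X δ k) (hβ : β ∈ Cyc.Zk X δ k)
    (αU βU : AlgebraicCycle (↑U : Scheme.{u}) ℤ) (hαU : ∀ u : ↥U, αU u = α (U.ι u))
    (hβU : ∀ u : ↥U, βU u = β (U.ι u))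
    (h : Cyc.RatEquiv (fun u : ↥U => δ (U.ι u)) k αU βU) :
    ∃ γ : AlgebraicCycle X ℤ, γ ∈ Cyc.Zk X δ k ∧ (∀ x : X, x ∈ U → γ x = 0) ∧
      Cyc.RatEquiv δ k α (β + γ) := by
  haveI : IsLocallyNoetherian X := hX.1
  have hδ : Cyc.IsDimFun X δ := hX.2.2
  obtain ⟨ι, ξ, f, hδξ, hf, hlf, hsum⟩ := h
  -- transport the data to `X`
  let σ : ∀ i, X.residueField (U.ι (ξ i)) ≃+* (↑U : Scheme.{u}).residueField (ξ i) := fun i =>
    (asIso (U.ι.residueFieldMap (ξ i))).commRingCatIsoToRingEquiv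
  let ξ' : ι → X := fun i => U.ι (ξ i)
  let f' : ∀ i, X.residueField (ξ' i) := fun i => (σ i).symm (f i)
  have hf' : ∀ i, f' i ≠ 0 := fun i =>
    (map_ne_zero_iff _ (σ i).symm.injective).2 (hf i)
  have hσf : ∀ i, U.ι.residueFieldMap (ξ i) (f' i) = f i := fun i => (σ i).apply_symm_apply (f i)
  let D : X → ℤ := fun x => ∑ᶠ i, Cyc.divFun δ (ξ' i) (f' i) x
  -- (a) the value on `U`
  have hDU : ∀ u : (↑U : Scheme.{u}), D (U.ι u) = α (U.ι u) - β (U.ι u) := by
    intro u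
    have h1 := hsum u
    rw [Function.locallyFinsuppWithin.coe_sub, Pi.sub_apply, hαU u, hβU u] at h1
    rw [h1]
    apply finsum_congr
    intro i
    rw [← hσf i]
    exact divFun_openImmersion U.ι δ u (ξ i) (f' i)
  -- (b) support in dimension k
  have hDne : ∀ x, D x ≠ 0 → ∃ i, Cyc.divFun δ (ξ' i) (f' i) x ≠ 0 := by
    intro x hx
    by_contra hne
    push Not at hne
    exact hx (finsum_eq_zero_of_forall_eq_zero hne)
  have hdiv : ∀ i x, Cyc.divFun δ (ξ' i) (f' i) x ≠ 0 → ξ' i ⤳ x ∧ δ x = k := by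
    intro i x hx
    unfold Cyc.divFun at hx
    split_ifs at hx with h
    · refine ⟨h.1, ?_⟩
      have h1 : δ (U.ι (ξ i)) = k + 1 := hδξ i
      have h2 : δ x + 1 = δ (U.ι (ξ i)) := h.2
      omega
    · exact absurd rfl hx
  have hDk : ∀ x, δ x ≠ k → D x = 0 := by
    intro x hx
    by_contra hne
    obtain ⟨i, hi⟩ := hDne x hne
    exact hx (hdiv i x hi).2
  -- (c) locally finite support
  have hDlf : ∀ z ∈ (Set.univ : Set X), ∃ t ∈ nhds z, Set.Finite (t ∩ Function.support D) := by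
    intro z _
    obtain ⟨W, hW, hzW, hfin⟩ := locallyFinite_transfer U ξ hlf z
    refine ⟨W, W.isOpen.mem_nhds hzW, ?_⟩
    refine (Set.Finite.biUnion hfin
      (fun i _ => finite_divFun_ne_zero δ hδ hW (ξ' i) (f' i) (hf' i))).subset ?_
    rintro x ⟨hxW, hx⟩
    obtain ⟨i, hi⟩ := hDne x hx
    exact Set.mem_biUnion (show i ∈ {i | (closure {U.ι (ξ i)} ∩ (W : Set X)).Nonempty} from
      ⟨x, specializes_iff_mem_closure.1 (hdiv i x hi).1, hxW⟩) ⟨hxW, hi⟩
  let Dc : AlgebraicCycle X ℤ := ⟨D, Set.subset_univ _, hDlf⟩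
  refine ⟨α - β - Dc, ?_, ?_, ?_⟩
  · intro x hx
    rw [Function.locallyFinsuppWithin.coe_sub, Function.locallyFinsuppWithin.coe_sub,
      Pi.sub_apply, Pi.sub_apply, hα x hx, hβ x hx]
    change 0 - 0 - D x = 0
    rw [hDk x hx]
    ring
  · intro x hxU
    obtain ⟨u, rfl⟩ : x ∈ Set.range U.ι := by
      rw [Scheme.Opens.range_ι]; exact hxU
    rw [Function.locallyFinsuppWithin.coe_sub, Function.locallyFinsuppWithin.coe_sub,
      Pi.sub_apply, Pi.sub_apply]
    change α (U.ι u) - β (U.ι u) - D (U.ι u) = 0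
    rw [hDU u]
    ring
  · have hDc : α - (β + (α - β - Dc)) = Dc := by abel
    unfold Cyc.RatEquiv
    rw [hDc]
    refine ⟨ι, ξ', f', hδξ, hf', ?_, fun x => rfl⟩
    intro x
    obtain ⟨W, -, hxW, hfin⟩ := locallyFinite_transfer U ξ hlf x
    exact ⟨W, W.isOpen, hxW, hfin⟩

end Groth.Agent.Lib.helper16.CycOpen
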