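import Groth.Agent.Lib.Helper16.CycClosed1
import Groth.Agent.Lib.Helper16.CycOpen4

/-!
# Cycles and closed immersions (helper16)

* `exists_cycle_of_family`: a locally finite family of principal divisors sums to a cycle,
  rationally equivalent to zero.
* `map_apply`, `map_apply_of_notMem_range`: pushforward of cycles along a closed immersion.
* `exists_restrict`: restriction of a cycle along a closed immersion.
* `ratEquivZero_map`: rational equivalence to zero pushes forward along a closed immersion.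
-/

set_option autoImplicit false
universe u
open CategoryTheory CategoryTheory.Limits AlgebraicGeometry TopologicalSpace Opposite

namespace Groth.Agent.Lib.helper16.CycClosed

open Groth.Agent.Lib.helper16.CycOpen

section family

variable {X : Scheme.{u}}

theorem divFun_ne_zero_specializes (δ : X → ℤ) (ξ : X) (f : X.residueField ξ) (x : X)
    (h : Cyc.divFun δ ξ f x ≠ 0) : ξ ⤳ x ∧ δ x + 1 = δ ξ := by
  unfold Cyc.divFun at h
  split_ifs at h with h'
  · exact h'
  · exact absurd rfl h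

theorem finite_support_divFun (δ : X → ℤ) {J : Type*} (ξ : J → X)
    (f : ∀ j, X.residueField (ξ j))
    (hlf : ∀ x : X, ∃ U : Set X, IsOpen U ∧ x ∈ U ∧ {j | (closure {ξ j} ∩ U).Nonempty}.Finite)
    (x : X) : (Function.support fun j => Cyc.divFun δ (ξ j) (f j) x).Finite := by
  obtain ⟨U, -, hxU, hfin⟩ := hlf x
  refine hfin.subset ?_
  intro j hj
  exact ⟨x, specializes_iff_mem_closure.1 (divFun_ne_zero_specializes δ _ _ x hj).1, hxU⟩

theorem exists_cycle_of_family [IsLocallyNoetherian X] (δ : X → ℤ) (hδ : Cyc.IsDimFun X δ)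
    (k : ℤ) {J : Type u} (ξ : J → X) (f : ∀ j, X.residueField (ξ j))
    (hδξ : ∀ j, δ (ξ j) = k + 1) (hf : ∀ j, f j ≠ 0)
    (hlf : ∀ x : X, ∃ U : Set X, IsOpen U ∧ x ∈ U ∧ {j | (closure {ξ j} ∩ U).Nonempty}.Finite) :
    ∃ D : AlgebraicCycle X ℤ, (∀ x, D x = ∑ᶠ j, Cyc.divFun δ (ξ j) (f j) x) ∧
      D ∈ Cyc.Zk X δ k ∧ Cyc.RatEquivZero δ k D := by
  let D : X → ℤ := fun x => ∑ᶠ j, Cyc.divFun δ (ξ j) (f j) x
  have hDne : ∀ x, D x ≠ 0 → ∃ j, Cyc.divFun δ (ξ j) (f j) x ≠ 0 := by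
    intro x hx
    by_contra hne
    push Not at hne
    exact hx (finsum_eq_zero_of_forall_eq_zero hne)
  have hDk : ∀ x, δ x ≠ k → D x = 0 := by
    intro x hx
    by_contra hne
    obtain ⟨j, hj⟩ := hDne x hne
    have h1 := (divFun_ne_zero_specializes δ _ _ x hj).2
    have h2 := hδξ j
    omega
  have hDlf : ∀ z ∈ (Set.univ : Set X), ∃ t ∈ nhds z, Set.Finite (t ∩ Function.support D) := by
    intro z _
    obtain ⟨U, hU, hzU, hfin⟩ := hlf z
    obtain ⟨_, ⟨W, hW : IsAffineOpen W, rfl⟩, hzW, hWU⟩ :=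
      X.isBasis_affineOpens.exists_subset_of_mem_open hzU hU
    refine ⟨W, W.isOpen.mem_nhds hzW, ?_⟩
    refine (Set.Finite.biUnion hfin
      (fun j _ => finite_divFun_ne_zero δ hδ hW (ξ j) (f j) (hf j))).subset ?_
    rintro x ⟨hxW, hx⟩
    obtain ⟨j, hj⟩ := hDne x hx
    exact Set.mem_biUnion (show j ∈ {j | (closure {ξ j} ∩ U).Nonempty} from
      ⟨x, specializes_iff_mem_closure.1 (divFun_ne_zero_specializes δ _ _ x hj).1, hWU hxW⟩)
      ⟨hxW, hj⟩
  refine ⟨⟨D, Set.subset_univ _, hDlf⟩, fun x => rfl, hDk, ?_⟩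
  exact ⟨J, ξ, f, hδξ, hf, hlf, fun x => rfl⟩

end family

variable {X Z : Scheme.{u}} (ι : Z ⟶ X) [IsClosedImmersion ι]

theorem residueDegree_eq_one (z : Z) : ι.residueDegree z = 1 := by
  unfold Scheme.Hom.residueDegree
  letI := (ι.residueFieldMap z).hom.toAlgebra
  rw [finrank_eq_one_iff_of_nonzero' (1 : Z.residueField z) one_ne_zero]
  intro w
  obtain ⟨c, hc⟩ := (residueFieldMap_bijective ι z).2 w
  refine ⟨c, ?_⟩
  rw [Algebra.smul_def, mul_one]
  exact hc

theorem map_apply (δZ : Z → ℤ) (δX : X → ℤ) (hδ : ∀ z, δZ z = δX (ι z))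
    (α : AlgebraicCycle Z ℤ) (z : Z) :
    AlgebraicCycle.map ι δZ δX α (ι z) = α z := by
  show ∑ᶠ x' ∈ ι ⁻¹' {ι z}, α x' * ((AlgebraicCycle.mapCoeff ι δZ δX x' : ℕ) : ℤ) = α z
  have hinj : Function.Injective ι := ι.isClosedEmbedding.injective
  have hset : (ι ⁻¹' {ι z} : Set Z) = {z} := by
    ext w
    simp only [Set.mem_preimage, Set.mem_singleton_iff]
    exact hinj.eq_iff
  rw [hset, finsum_mem_singleton]
  unfold AlgebraicCycle.mapCoeff
  rw [if_pos (hδ z), residueDegree_eq_one]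
  simp

theorem map_apply_of_notMem_range (δZ : Z → ℤ) (δX : X → ℤ)
    (α : AlgebraicCycle Z ℤ) (x : X) (hx : x ∉ Set.range ι) :
    AlgebraicCycle.map ι δZ δX α x = 0 := by
  show ∑ᶠ x' ∈ ι ⁻¹' {x}, α x' * ((AlgebraicCycle.mapCoeff ι δZ δX x' : ℕ) : ℤ) = 0
  have hset : (ι ⁻¹' {x} : Set Z) = ∅ := by
    ext w
    simp only [Set.mem_preimage, Set.mem_singleton_iff, Set.mem_empty_iff_false, iff_false]
    intro h
    exact hx ⟨w, h⟩
  rw [hset, finsum_mem_empty]

theorem exists_restrict (α : AlgebraicCycle X ℤ) :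
    ∃ β : AlgebraicCycle Z ℤ, ∀ z, β z = α (ι z) := by
  refine ⟨⟨fun z => α (ι z), Set.subset_univ _, ?_⟩, fun z => rfl⟩
  intro z _
  obtain ⟨T, hT, hfin⟩ := α.supportLocallyFiniteWithinDomain' (ι z) trivial
  refine ⟨ι ⁻¹' T, ι.continuous.continuousAt hT, ?_⟩
  have hinj : Function.Injective ι := ι.isClosedEmbedding.injective
  refine (hfin.preimage hinj.injOn).subset ?_
  rintro w ⟨h1, h2⟩
  exact ⟨h1, h2⟩

theorem ratEquivZero_map (δ : X → ℤ) (k : ℤ) (β : AlgebraicCycle Z ℤ)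
    (h : Cyc.RatEquivZero (fun z => δ (ι z)) k β) :
    Cyc.RatEquivZero δ k (AlgebraicCycle.map ι (fun z => δ (ι z)) δ β) := by
  obtain ⟨J, ξ, f, hδξ, hf, hlf, hsum⟩ := h
  let f' : ∀ j, X.residueField (ι (ξ j)) := fun j => (resEquiv ι (ξ j)).symm (f j)
  have hf' : ∀ j, f' j ≠ 0 := fun j =>
    (map_ne_zero_iff _ (resEquiv ι (ξ j)).symm.injective).2 (hf j)
  have hσf : ∀ j, ι.residueFieldMap (ξ j) (f' j) = f j := fun j =>
    (resEquiv ι (ξ j)).apply_symm_apply (f j)
  refine ⟨J, fun j => ι (ξ j), f', hδξ, hf', ?_, ?_⟩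
  · intro x
    by_cases hx : x ∈ Set.range ι
    · obtain ⟨z, rfl⟩ := hx
      obtain ⟨U', hU', hzU', hfin⟩ := hlf z
      obtain ⟨U, hU, rfl⟩ := ι.isClosedEmbedding.isInducing.isOpen_iff.1 hU'
      refine ⟨U, hU, hzU', hfin.subset ?_⟩
      rintro j ⟨y, hy1, hy2⟩
      have hsp : ι (ξ j) ⤳ y := specializes_iff_mem_closure.2 hy1
      obtain ⟨z', rfl⟩ := mem_range_of_specializes ι (ξ j) y hsp
      exact ⟨z', specializes_iff_mem_closure.1
        ((specializes_iff_closedImmersion ι z' (ξ j)).1 hsp), hy2⟩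
    · refine ⟨(Set.range ι)ᶜ, ι.isClosedEmbedding.isClosed_range.isOpen_compl, hx, ?_⟩
      convert Set.finite_empty
      ext j
      simp only [Set.mem_setOf_eq, Set.mem_empty_iff_false, iff_false]
      rintro ⟨y, hy1, hy2⟩
      exact hy2 (mem_range_of_specializes ι (ξ j) y (specializes_iff_mem_closure.2 hy1))
  · intro x
    by_cases hx : x ∈ Set.range ι
    · obtain ⟨z, rfl⟩ := hx
      rw [map_apply ι _ δ (fun _ => rfl), hsum z]
      apply finsum_congr
      intro j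
      rw [← hσf j]
      exact (divFun_closedImmersion ι δ z (ξ j) (f' j)).symm
    · rw [map_apply_of_notMem_range ι _ δ β x hx]
      symm
      apply finsum_eq_zero_of_forall_eq_zero
      intro j
      exact divFun_eq_zero_of_notMem_range ι δ (ξ j) (f' j) x hx

end Groth.Agent.Lib.helper16.CycClosed
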