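import Groth.Agent.Lib.Helper16.CycClosed2
import Groth.Agent.Lib.Helper16.SecOrd3

/-!
# Restricting families of principal divisors to a closed subscheme (helper16)

* `isLocallyNoetherian_of_isClosedImmersion`, `isDimFun_closedImmersion`: the setup passes to
  closed subschemes.
* `exists_cycle_restrict_family`: a locally finite family of principal divisors on `X` all of whose
  points lie on the closed subscheme `Z` restricts to a cycle on `Z` rationally equivalent to zero.
* `ratEquivZero_neg`, `divFun_inv`.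
-/

set_option autoImplicit false
universe u
open CategoryTheory CategoryTheory.Limits AlgebraicGeometry TopologicalSpace Opposite

namespace Groth.Agent.Lib.helper16.CycClosed

open Groth.Agent.Lib.helper16.CycOpen Groth.Agent.Lib.helper16.SecOrd

section general

variable {X : Scheme.{u}}

theorem divFun_inv (δ : X → ℤ) (ξ : X) (f : X.residueField ξ) (hf : f ≠ 0) (x : X) :
    Cyc.divFun δ ξ f⁻¹ x = - Cyc.divFun δ ξ f x := by
  have h := divFun_zpow δ ξ f hf (-1) x
  rw [zpow_neg_one] at h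
  rw [h]
  ring

theorem ratEquivZero_neg (δ : X → ℤ) (k : ℤ) (α : AlgebraicCycle X ℤ)
    (h : Cyc.RatEquivZero δ k α) : Cyc.RatEquivZero δ k (-α) := by
  obtain ⟨J, ξ, f, hδξ, hf, hlf, hsum⟩ := h
  refine ⟨J, ξ, fun j => (f j)⁻¹, hδξ, fun j => inv_ne_zero (hf j), hlf, ?_⟩
  intro x
  rw [Function.locallyFinsuppWithin.coe_neg, Pi.neg_apply, hsum x, ← finsum_neg_distrib]
  apply finsum_congr
  intro j
  exact (divFun_inv δ (ξ j) (f j) (hf j) x).symm

theorem ratEquiv_symm (δ : X → ℤ) (k : ℤ) (α β : AlgebraicCycle X ℤ)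
    (h : Cyc.RatEquiv δ k α β) : Cyc.RatEquiv δ k β α := by
  unfold Cyc.RatEquiv at h ⊢
  have := ratEquivZero_neg δ k _ h
  rwa [neg_sub] at this

end general

variable {X Z : Scheme.{u}} (ι : Z ⟶ X) [IsClosedImmersion ι]

include ι in
theorem isLocallyNoetherian_of_isClosedImmersion [IsLocallyNoetherian X] :
    IsLocallyNoetherian Z := by
  refine isLocallyNoetherian_of_affine_cover
    (S := fun U : X.affineOpens => (⟨ι ⁻¹ᵁ U.1, U.2.preimage ι⟩ : Z.affineOpens)) ?_ ?_
  · rw [eq_top_iff]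
    rintro x -
    obtain ⟨_, ⟨U, hU, rfl⟩, hxU, -⟩ :=
      X.isBasis_affineOpens.exists_subset_of_mem_open (Set.mem_univ (ι x)) isOpen_univ
    exact TopologicalSpace.Opens.mem_iSup.mpr ⟨⟨U, hU⟩, hxU⟩
  · intro U
    have := IsLocallyNoetherian.component_noetherian U
    exact isNoetherianRing_of_surjective _ _ (ι.app U.1).hom (ι.app_surjective U.1 U.2)

theorem isDimFun_closedImmersion (δ : X → ℤ) (hδ : Cyc.IsDimFun X δ) :
    Cyc.IsDimFun Z (fun z => δ (ι z)) := by
  intro x y hxy hne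
  have hinj : Function.Injective ι := ι.isClosedEmbedding.injective
  have h1 := hδ (ι x) (ι y) ((specializes_iff_closedImmersion ι y x).2 hxy)
    (fun h => hne (hinj h))
  refine ⟨h1.1, fun himm => h1.2 ?_⟩
  intro z hxz hzy
  obtain ⟨z', rfl⟩ := mem_range_of_specializes ι x z hxz
  rcases himm z' ((specializes_iff_closedImmersion ι z' x).1 hxz)
    ((specializes_iff_closedImmersion ι y z').1 hzy) with h | h
  · left; rw [h]
  · right; rw [h]

theorem exists_cycle_restrict_family [IsLocallyNoetherian X] (δ : X → ℤ)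
    (hδ : Cyc.IsDimFun X δ) (k : ℤ) {J : Type u} (ξ : J → X)
    (f : ∀ j, X.residueField (ξ j)) (hδξ : ∀ j, δ (ξ j) = k + 1) (hf : ∀ j, f j ≠ 0)
    (hlf : ∀ x : X, ∃ U : Set X, IsOpen U ∧ x ∈ U ∧ {j | (closure {ξ j} ∩ U).Nonempty}.Finite)
    (hr : ∀ j, ξ j ∈ Set.range ι) :
    ∃ D : AlgebraicCycle Z ℤ, (∀ z, D z = ∑ᶠ j, Cyc.divFun δ (ξ j) (f j) (ι z)) ∧
      D ∈ Cyc.Zk Z (fun z => δ (ι z)) k ∧ Cyc.RatEquivZero (fun z => δ (ι z)) k D := by
  haveI : IsLocallyNoetherian Z := isLocallyNoetherian_of_isClosedImmersion ι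
  choose ζ hζ using hr
  let g : ∀ j, Z.residueField (ζ j) := fun j =>
    ι.residueFieldMap (ζ j) ((X.residueFieldCongr (hζ j).symm).hom (f j))
  have hg : ∀ j, g j ≠ 0 := by
    intro j
    refine (map_ne_zero_iff _ (ι.residueFieldMap (ζ j)).hom.injective).2 ?_
    exact (map_ne_zero_iff _ (X.residueFieldCongr (hζ j).symm).hom.hom.injective).2 (hf j)
  obtain ⟨D, hD, hDk, hDr⟩ := exists_cycle_of_family (fun z => δ (ι z))
    (isDimFun_closedImmersion ι δ hδ) k ζ g (fun j => by
      show δ (ι (ζ j)) = k + 1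
      rw [hζ j]; exact hδξ j) hg (by
      intro z
      obtain ⟨U, hU, hzU, hfin⟩ := hlf (ι z)
      refine ⟨ι ⁻¹' U, hU.preimage ι.continuous, hzU, hfin.subset ?_⟩
      rintro j ⟨z', hz1, hz2⟩
      have hsp : ζ j ⤳ z' := specializes_iff_mem_closure.2 hz1
      have hsp' : ι (ζ j) ⤳ ι z' := (specializes_iff_closedImmersion ι z' (ζ j)).2 hsp
      rw [hζ j] at hsp'
      exact ⟨ι z', specializes_iff_mem_closure.1 hsp', hz2⟩)
  refine ⟨D, ?_, hDk, hDr⟩
  intro z
  rw [hD z]
  apply finsum_congr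
  intro j
  rw [← divFun_closedImmersion ι δ z (ζ j), ← divFun_congr δ (hζ j).symm (f j)]

end Groth.Agent.Lib.helper16.CycClosed
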