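import Groth.Agent.Lib.Helper16.PullStalk
import Groth.Agent.Lib.Helper16.SecOrd3

/-!
# Pullback of rational sections of a module (helper16)

For `f : X ⟶ Y`, `A : Y.Modules`, `x : X`:
* `pullSec f x A : A(f x) → (f^*A)(x)` on the fibres `A(y) = A_y/𝔪_y A_y`, with `pullSec_mk`,
  `pullSec_smul`, `pullSec_ne_zero`;
* `secOrdAt_pullSec`: the order of a pulled back rational section along `ξ ⤳ x` is the order of
  the pulled back rational function.
-/

set_option autoImplicit false
universe u
open CategoryTheory CategoryTheory.Limits AlgebraicGeometry Opposite TopologicalSpace IsLocalRing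

namespace Groth.Agent.Lib.helper16.PullStalk

open Groth.Agent.Lib.helper16.SecOrd

variable {X Y : Scheme.{u}} (f : X ⟶ Y) (x : X) (A : Y.Modules)

theorem pullStalk_zero : pullStalk f x A 0 = 0 := by
  have h := pullStalk_smul f x A 0 0
  rw [zero_smul, map_zero, zero_smul] at h
  exact h

theorem pullStalk_neg (m : A.presheaf.stalk (f x)) :
    pullStalk f x A (-m) = - pullStalk f x A m := by
  have h := pullStalk_add f x A m (-m)
  rw [add_neg_cancel, pullStalk_zero] at h
  exact (neg_eq_of_add_eq_zero_right h.symm).symm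

theorem pullStalk_sub (m m' : A.presheaf.stalk (f x)) :
    pullStalk f x A (m - m') = pullStalk f x A m - pullStalk f x A m' := by
  rw [sub_eq_add_neg, pullStalk_add, pullStalk_neg, ← sub_eq_add_neg]

theorem pullStalk_mem (m : A.presheaf.stalk (f x))
    (hm : m ∈ maximalIdeal (Y.presheaf.stalk (f x)) •
      (⊤ : Submodule (Y.presheaf.stalk (f x)) (A.presheaf.stalk (f x)))) :
    pullStalk f x A m ∈ maximalIdeal (X.presheaf.stalk x) •
      (⊤ : Submodule (X.presheaf.stalk x)
        (((Scheme.Modules.pullback f).obj A).presheaf.stalk x)) := by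
  refine Submodule.smul_induction_on hm ?_ ?_
  · intro r hr n _
    rw [pullStalk_smul]
    refine Submodule.smul_mem_smul ?_ Submodule.mem_top
    have hloc : IsLocalHom (f.stalkMap x).hom := inferInstance
    exact ((IsLocalRing.local_hom_TFAE (f.stalkMap x).hom).out 0 2 rfl rfl).mp hloc
      (Ideal.mem_map_of_mem _ hr)
  · intro a b ha hb
    rw [pullStalk_add]
    exact add_mem ha hb

/-- the pulled back rational section. -/
noncomputable def pullSec (s : Cyc.secFibre A (f x)) :
    Cyc.secFibre ((Scheme.Modules.pullback f).obj A) x :=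
  Submodule.Quotient.mk (pullStalk f x A (Quotient.out s))

theorem pullSec_mk (m : A.presheaf.stalk (f x)) :
    pullSec f x A (Submodule.Quotient.mk m) = Submodule.Quotient.mk (pullStalk f x A m) := by
  unfold pullSec
  rw [Submodule.Quotient.eq, ← pullStalk_sub]
  apply pullStalk_mem
  rw [← Submodule.Quotient.eq]
  exact Quotient.out_eq _

theorem pullSec_smul (r : Y.presheaf.stalk (f x)) (s : Cyc.secFibre A (f x)) :
    pullSec f x A (r • s) = (f.stalkMap x).hom r • pullSec f x A s := by
  obtain ⟨m, rfl⟩ := Submodule.Quotient.mk_surjective _ s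
  rw [← Submodule.Quotient.mk_smul, pullSec_mk, pullSec_mk, pullStalk_smul]
  rfl

theorem pullSec_ne_zero (t : A.presheaf.stalk (f x))
    (ht : Submodule.span (Y.presheaf.stalk (f x)) {t} = ⊤)
    (e : Cyc.secFibre ((Scheme.Modules.pullback f).obj A) x) (he : e ≠ 0)
    (s : Cyc.secFibre A (f x)) (hs : s ≠ 0) : pullSec f x A s ≠ 0 := by
  obtain ⟨c, hc⟩ := exists_smul_mk_eq A (f x) t ht s
  have hcu : IsUnit c := by
    by_contra hnu
    apply hs
    rw [hc]
    exact smul_mk_eq_zero_of_mem A (f x) ((IsLocalRing.mem_maximalIdeal _).2 hnu) t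
  rw [hc, pullSec_smul, pullSec_mk]
  intro h0
  have hu : IsUnit ((f.stalkMap x).hom c) := hcu.map _
  have h1 : (Submodule.Quotient.mk (pullStalk f x A t) :
      Cyc.secFibre ((Scheme.Modules.pullback f).obj A) x) = 0 := hu.smul_eq_zero.mp h0
  obtain ⟨ψ, hψ⟩ := exists_smul_mk_eq ((Scheme.Modules.pullback f).obj A) x (pullStalk f x A t)
    (span_pullStalk_of_span f x A t ht) e
  apply he
  rw [hψ, h1, smul_zero]

variable {x}

theorem secOrdAt_pullSec {ξ : X} (h' : ξ ⤳ x) (t : A.presheaf.stalk (f x))
    (ht : Submodule.span (Y.presheaf.stalk (f x)) {t} = ⊤)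
    (s : Cyc.secFibre A (f ξ)) (φ : Y.presheaf.stalk (f ξ))
    (hφ : s = φ • (Submodule.Quotient.mk
      (A.presheaf.stalkSpecializes (f.base.hom.map_specializes h') t) : Cyc.secFibre A (f ξ)))
    (hne : pullSec f ξ A s ≠ 0) :
    Cyc.secOrdAt ((Scheme.Modules.pullback f).obj A) ξ x h' (pullSec f ξ A s) =
      Cyc.ordAt x ξ h' (f.residueFieldMap ξ (Y.residue (f ξ) φ)) := by
  rw [secOrdAt_eq _ x ξ h' _ hne (pullStalk f x A t) (span_pullStalk_of_span f x A t ht)
    ((f.stalkMap ξ).hom φ) (by
      rw [hφ, pullSec_smul, pullSec_mk, stalkSpecializes_pullStalk])]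
  congr 1

end Groth.Agent.Lib.helper16.PullStalk
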