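import Groth.Agent.Lib.Helper16.CycClosed3
import Groth.Agent.Lib.Helper16.PullSec
import Groth.Agent.Lib.Helper16.GenFibFin

/-!
# Closed immersions: setup, fundamental cycle, divisors of pulled back sections (helper16)

* `isUniversallyCatenary_of_surjective`, `isSetup_closedImmersion`.
* `exists_cycle_subschemeFun_id`: `[Y]_{k+1}` is a cycle when `δ ≤ k + 1` on `Y`.
* `secDivFun_closedImmersion`: the divisor of a rational section of `L` on the closure of `ι η`
  agrees with the divisor of the pulled back rational section of `ι^*L`.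
-/

set_option autoImplicit false
universe u
open CategoryTheory CategoryTheory.Limits AlgebraicGeometry TopologicalSpace Opposite

namespace Groth.Agent.Lib.helper16.CycClosed

open Groth.Agent.Lib.helper16.CycOpen Groth.Agent.Lib.helper16.SecOrd
  Groth.Agent.Lib.helper16.PullStalk Groth.Agent.Lib.helper16.GenFib

theorem isUniversallyCatenary_of_surjective {R S : Type u} [CommRing R] [CommRing S]
    (φ : R →+* S) (hφ : Function.Surjective φ) (h : CAlg.IsUniversallyCatenary R) :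
    CAlg.IsUniversallyCatenary S := by
  obtain ⟨hN, hC⟩ := h
  refine ⟨isNoetherianRing_of_surjective R S φ hφ, ?_⟩
  intro T _ _ hT
  letI : Algebra R S := φ.toAlgebra
  letI : Algebra R T := ((algebraMap S T).comp φ).toAlgebra
  haveI : IsScalarTower R S T := IsScalarTower.of_algebraMap_eq (fun _ => rfl)
  apply hC T
  haveI : Algebra.FiniteType R S :=
    Algebra.FiniteType.of_surjective (Algebra.ofId R S) hφ
  exact Algebra.FiniteType.trans (S := S) inferInstance hT

variable {X Z : Scheme.{u}} (ι : Z ⟶ X) [IsClosedImmersion ι]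

theorem isSetup_closedImmersion (δ : X → ℤ) (hX : Cyc.IsSetup X δ) :
    Cyc.IsSetup Z (fun z => δ (ι z)) := by
  haveI : IsLocallyNoetherian X := hX.1
  refine ⟨isLocallyNoetherian_of_isClosedImmersion ι, fun z => ?_,
    isDimFun_closedImmersion ι δ hX.2.2⟩
  exact isUniversallyCatenary_of_surjective (ι.stalkMap z).hom (ι.stalkMap_surjective z)
    (hX.2.1 (ι z))

theorem secDivFun_closedImmersion (δ : X → ℤ) (L : X.Modules) (hL : IsLocCyc L) (η y : Z)
    (t : Cyc.secFibre L (ι η)) (ht : t ≠ 0) (hne : pullSec ι η L t ≠ 0) :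
    Cyc.secDivFun δ L (ι η) t (ι y) =
      Cyc.secDivFun (fun z => δ (ι z)) ((Scheme.Modules.pullback ι).obj L) η
        (pullSec ι η L t) y := by
  unfold Cyc.secDivFun
  by_cases h : η ⤳ y ∧ δ (ι y) + 1 = δ (ι η)
  · have h' : ι η ⤳ ι y := ι.base.hom.map_specializes h.1
    rw [dif_pos h, dif_pos ⟨h', h.2⟩]
    obtain ⟨g, hg⟩ := hL.cyc (ι y)
    have hg' := hL.spec (ι y) (ι η) h' g hg
    obtain ⟨ψ, hψ⟩ := exists_smul_mk_eq L (ι η) _ hg' t
    rw [secOrdAt_eq L (ι y) (ι η) h' t ht g hg ψ hψ,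
      secOrdAt_pullSec ι L h.1 g hg t ψ hψ hne, ordAt_closedImmersion ι y η h.1 h']
  · have h' : ¬ (ι η ⤳ ι y ∧ δ (ι y) + 1 = δ (ι η)) := fun h' =>
      h ⟨(specializes_iff_closedImmersion ι y η).1 h'.1, h'.2⟩
    rw [dif_neg h, dif_neg h']

end Groth.Agent.Lib.helper16.CycClosed

namespace Groth.Agent.Lib.helper16.CycClosed

open Groth.Agent.Lib.helper16.GenFib

theorem subschemeFun_id {Y : Scheme.{u}} (δ : Y → ℤ) (k : ℤ) (η : Y) :
    Cyc.subschemeFun δ k (𝟙 Y) η = if δ η = k then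
      ((Module.length (Y.presheaf.stalk η) (Y.presheaf.stalk η)).toNat : ℤ) else 0 := by
  unfold Cyc.subschemeFun
  split_ifs with h
  · have hset : {z : Y | (𝟙 Y : Y ⟶ Y) z = η} = {η} := by
      ext z
      simp
    rw [hset, finsum_mem_singleton]
  · rfl

theorem exists_cycle_subschemeFun_id {Y : Scheme.{u}} [IsLocallyNoetherian Y] (δ : Y → ℤ)
    (hδ : Cyc.IsDimFun Y δ) (k : ℤ) (hdim : ∀ y : Y, δ y ≤ k) :
    ∃ α : AlgebraicCycle Y ℤ, ⇑α = Cyc.subschemeFun δ k (𝟙 Y) ∧ α ∈ Cyc.Zk Y δ k := by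
  have hk : ∀ y, δ y ≠ k → Cyc.subschemeFun δ k (𝟙 Y) y = 0 := by
    intro y hy
    unfold Cyc.subschemeFun
    rw [if_neg hy]
  refine ⟨⟨Cyc.subschemeFun δ k (𝟙 Y), Set.subset_univ _, ?_⟩, rfl, hk⟩
  intro y _
  obtain ⟨_, ⟨V, hV : IsAffineOpen V, rfl⟩, hyV, -⟩ :=
    Y.isBasis_affineOpens.exists_subset_of_mem_open (Set.mem_univ y) isOpen_univ
  haveI : IsNoetherianRing Γ(Y, V) := IsLocallyNoetherian.component_noetherian ⟨V, hV⟩
  haveI : NoetherianSpace ↥V := noetherianSpace_of_isAffineOpen V hV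
  refine ⟨V, V.isOpen.mem_nhds hyV, ?_⟩
  refine (finite_maximal_points (Set.univ : Set Y) isClosed_univ V).subset ?_
  rintro w ⟨hwV, hw⟩
  refine ⟨trivial, hwV, ?_⟩
  intro w' _ hsp
  by_contra hne
  have hwk : δ w = k := by
    by_contra hwk
    exact hw (hk w hwk)
  have h1 := (hδ w' w hsp hne).1
  have h2 := hdim w'
  omega

end Groth.Agent.Lib.helper16.CycClosed
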