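import Groth.Agent.Lib.Helper16.CycOpen1

/-!
# Orders and principal divisors under open immersions (helper16)

* `specMap_stalkMap`: naturality of `Cyc.specMap`.
* `ordAt_openImmersion`: `Cyc.ordAt` is compatible with open immersions.
* `divFun_openImmersion`: `Cyc.divFun` is compatible with open immersions.
-/

set_option autoImplicit false
universe u
open CategoryTheory CategoryTheory.Limits AlgebraicGeometry TopologicalSpace Opposite

namespace Groth.Agent.Lib.helper16.CycOpen

variable {X U : Scheme.{u}} (j : U ⟶ X)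

theorem specMap_stalkMap (u ξ : U) (h : ξ ⤳ u) (h' : j ξ ⤳ j u) (a : X.presheaf.stalk (j u)) :
    Cyc.specMap u ξ h (j.stalkMap u a) = j.residueFieldMap ξ (Cyc.specMap (j u) (j ξ) h' a) := by
  unfold Cyc.specMap
  have h1 := Scheme.Hom.stalkSpecializes_stalkMap_apply j ξ u h a
  have h2 := ConcreteCategory.congr_hom (Scheme.residue_residueFieldMap j ξ)
    (X.presheaf.stalkSpecializes h' a)
  simp only [CommRingCat.hom_comp, RingHom.coe_comp, Function.comp_apply] at h2 ⊢
  erw [h2]
  congr 1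
  exact h1.symm

variable [IsOpenImmersion j]

/-- the isomorphism of the local rings of the closure of `ξ` induced by an open immersion -/
noncomputable def locQuotEquiv (u ξ : U) (h : ξ ⤳ u) (h' : j ξ ⤳ j u) :
    Cyc.LocQuot (j u) (j ξ) h' ≃+* Cyc.LocQuot u ξ h :=
  Ideal.quotientEquiv _ _ (asIso (j.stalkMap u)).commRingCatIsoToRingEquiv (by
    rw [Ideal.map_comap_of_equiv]
    ext x
    simp only [RingHom.mem_ker, Ideal.mem_comap]
    have h1 := specMap_stalkMap j u ξ h h'
      ((asIso (j.stalkMap u)).commRingCatIsoToRingEquiv.symm x)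
    have h2 : j.stalkMap u ((asIso (j.stalkMap u)).commRingCatIsoToRingEquiv.symm x) = x :=
      (asIso (j.stalkMap u)).commRingCatIsoToRingEquiv.apply_symm_apply x
    rw [h2] at h1
    rw [h1]
    constructor
    · intro hx
      exact (j.residueFieldMap ξ).hom.injective (by rw [hx, map_zero])
    · intro hx
      rw [hx, map_zero])

theorem ordAt_openImmersion (u ξ : U) (h : ξ ⤳ u) (h' : j ξ ⤳ j u)
    (f' : X.residueField (j ξ)) :
    Cyc.ordAt (j u) (j ξ) h' f' = Cyc.ordAt u ξ h (j.residueFieldMap ξ f') := by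
  unfold Cyc.ordAt
  refine ordFrac_ringEquiv (locQuotEquiv j u ξ h h')
    (asIso (j.residueFieldMap ξ)).commRingCatIsoToRingEquiv ?_ f'
  intro r
  obtain ⟨a, rfl⟩ := Ideal.Quotient.mk_surjective r
  exact (specMap_stalkMap j u ξ h h' a).symm

theorem specializes_iff_openImmersion (u ξ : U) : j ξ ⤳ j u ↔ ξ ⤳ u :=
  j.isOpenEmbedding.isInducing.specializes_iff

theorem divFun_openImmersion (δ : X → ℤ) (u ξ : U) (f' : X.residueField (j ξ)) :
    Cyc.divFun δ (j ξ) f' (j u) =
      Cyc.divFun (fun v => δ (j v)) ξ (j.residueFieldMap ξ f') u := by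
  unfold Cyc.divFun
  by_cases h : ξ ⤳ u ∧ δ (j u) + 1 = δ (j ξ)
  · have h' : j ξ ⤳ j u ∧ δ (j u) + 1 = δ (j ξ) :=
      ⟨(specializes_iff_openImmersion j u ξ).2 h.1, h.2⟩
    rw [dif_pos h, dif_pos h']
    exact ordAt_openImmersion j u ξ h.1 h'.1 f'
  · have h' : ¬ (j ξ ⤳ j u ∧ δ (j u) + 1 = δ (j ξ)) := fun h' =>
      h ⟨(specializes_iff_openImmersion j u ξ).1 h'.1, h'.2⟩
    rw [dif_neg h, dif_neg h']

end Groth.Agent.Lib.helper16.CycOpen
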