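import Groth.Agent.Lib.Helper16.SecOrd6
import Groth.Agent.Lib.Helper16.CycFlat1
import Groth.Agent.Lib.Helper16.CycOpen2

/-!
# Orders of rational functions under flat pullback (helper16)

`ordAt_pullback_flat`: for a morphism `f : X ⟶ Y` of integral locally Noetherian schemes, flat at a
point `x` of codimension `≤ 1` whose image has codimension `≤ 1`, the order of `g ∘ f` at `x` is the
order of `g` at `f x` times the length of `O_{X,x}/𝔪_{f x} O_{X,x}`.
-/

set_option autoImplicit false
universe u
open CategoryTheory CategoryTheory.Limits AlgebraicGeometry TopologicalSpace Opposite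

namespace Groth.Agent.Lib.helper16.CycFlat

open Groth.Agent.Lib.helper16.SecOrd Groth.Agent.Lib.helper16.CycOpen

variable {X Y : Scheme.{u}} [IsIntegral X] [IsIntegral Y] [IsLocallyNoetherian X]
  [IsLocallyNoetherian Y]

theorem ordAt_div (x : X) (h : genericPoint X ⤳ x) (hx : Order.coheight x ≤ 1)
    (a b : X.presheaf.stalk x) (ha : a ≠ 0) (hb : b ≠ 0) :
    Cyc.ordAt x (genericPoint X) h
      (Cyc.specMap x (genericPoint X) h a / Cyc.specMap x (genericPoint X) h b) =
    ((Module.length (X.presheaf.stalk x) (X.presheaf.stalk x ⧸ Ideal.span {a})).toNat : ℤ) -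
      ((Module.length (X.presheaf.stalk x) (X.presheaf.stalk x ⧸ Ideal.span {b})).toNat : ℤ) := by
  have hinj := specMap_genericPoint_injective x h
  have ha' : Cyc.specMap x (genericPoint X) h a ≠ 0 := by
    rw [Ne, ← map_zero (Cyc.specMap x (genericPoint X) h)]
    exact fun e => ha (hinj e)
  have hb' : Cyc.specMap x (genericPoint X) h b ≠ 0 := by
    rw [Ne, ← map_zero (Cyc.specMap x (genericPoint X) h)]
    exact fun e => hb (hinj e)
  rw [← ordAt_specMap_genericPoint x h hx a ha, ← ordAt_specMap_genericPoint x h hx b hb,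
    div_eq_mul_inv]
  unfold Cyc.ordAt
  rw [ordFrac_mul' _ _ ha' (inv_ne_zero hb'), ordFrac_inv' _ _ hb']
  ring

theorem exists_div_eq (y : Y) (h' : genericPoint Y ⤳ y) (g : Y.residueField (genericPoint Y))
    (hg : g ≠ 0) :
    ∃ a b : Y.presheaf.stalk y, a ≠ 0 ∧ b ≠ 0 ∧
      g = Cyc.specMap y (genericPoint Y) h' a / Cyc.specMap y (genericPoint Y) h' b := by
  haveI := isFractionRing_locQuot y h'
  obtain ⟨a', b', hb', hab⟩ := IsFractionRing.div_surjective
    (A := Cyc.LocQuot y (genericPoint Y) h') g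
  obtain ⟨a, rfl⟩ := Ideal.Quotient.mk_surjective a'
  obtain ⟨b, rfl⟩ := Ideal.Quotient.mk_surjective b'
  have hab' : g = Cyc.specMap y (genericPoint Y) h' a / Cyc.specMap y (genericPoint Y) h' b :=
    hab.symm
  refine ⟨a, b, ?_, ?_, hab'⟩
  · rintro rfl
    apply hg
    rw [hab', map_zero, zero_div]
  · rintro rfl
    apply hg
    rw [hab', map_zero, div_zero]

theorem ordAt_pullback_flat (f : X ⟶ Y) (x : X) (hflat : (f.stalkMap x).hom.Flat)
    (hx : Order.coheight x ≤ 1) (hy : Order.coheight (f x) ≤ 1)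
    (h : genericPoint X ⤳ x) (h' : genericPoint Y ⤳ f x)
    (ρ : Y.residueField (genericPoint Y) →+* X.residueField (genericPoint X))
    (hρ : ∀ a, ρ (Cyc.specMap (f x) (genericPoint Y) h' a) =
      Cyc.specMap x (genericPoint X) h (f.stalkMap x a))
    (g : Y.residueField (genericPoint Y)) (hg : g ≠ 0) :
    Cyc.ordAt x (genericPoint X) h (ρ g) =
      Cyc.ordAt (f x) (genericPoint Y) h' g *
        ((Module.length (X.presheaf.stalk x)
          (X.presheaf.stalk x ⧸ Ideal.map (f.stalkMap x).hom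
            (IsLocalRing.maximalIdeal (Y.presheaf.stalk (f x))))).toNat : ℤ) := by
  obtain ⟨a, b, ha, hb, rfl⟩ := exists_div_eq (f x) h' g hg
  have hinjY := specMap_genericPoint_injective (f x) h'
  have hinjX := specMap_genericPoint_injective x h
  have hφ : ∀ c : Y.presheaf.stalk (f x), c ≠ 0 → f.stalkMap x c ≠ 0 := by
    intro c hc h0
    have h1 := hρ c
    rw [h0, map_zero] at h1
    have h2 : Cyc.specMap (f x) (genericPoint Y) h' c = 0 :=
      ρ.injective (by rw [h1, map_zero])
    rw [← map_zero (Cyc.specMap (f x) (genericPoint Y) h')] at h2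
    exact hc (hinjY h2)
  rw [map_div₀, hρ, hρ, ordAt_div x h hx _ _ (hφ a ha) (hφ b hb),
    ordAt_div (f x) h' hy a b ha hb]
  letI := (f.stalkMap x).hom.toAlgebra
  haveI : Module.Flat (Y.presheaf.stalk (f x)) (X.presheaf.stalk x) := hflat
  haveI : Ring.KrullDimLE 1 (Y.presheaf.stalk (f x)) :=
    krullDimLE_of_coheight_le (n := 1) (by exact_mod_cast hy)
  have hfl : ∀ c : Y.presheaf.stalk (f x), c ≠ 0 →
      IsFiniteLength (Y.presheaf.stalk (f x)) (Y.presheaf.stalk (f x) ⧸ Ideal.span {c}) :=
    fun c hc => isFiniteLength_quotient_span_singleton _ (mem_nonZeroDivisors_iff_ne_zero.mpr hc)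
  have e1 := length_quot_span_map (B := X.presheaf.stalk x) a (hfl a ha)
  have e2 := length_quot_span_map (B := X.presheaf.stalk x) b (hfl b hb)
  have e1' : Module.length (X.presheaf.stalk x)
      (X.presheaf.stalk x ⧸ Ideal.span {(f.stalkMap x).hom a}) = _ := e1
  have e2' : Module.length (X.presheaf.stalk x)
      (X.presheaf.stalk x ⧸ Ideal.span {(f.stalkMap x).hom b}) = _ := e2
  erw [e1', e2']
  rw [ENat.toNat_mul, ENat.toNat_mul]
  push_cast
  have e3 : (algebraMap (Y.presheaf.stalk (f x)) (X.presheaf.stalk x)) = (f.stalkMap x).hom := rfl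
  rw [e3]
  ring

end Groth.Agent.Lib.helper16.CycFlat
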