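import Groth.Agent.Lib.Helper16.CycFlat2
import Groth.Agent.S1861

/-!
# Flat pullback of a principal divisor (helper16)

`pullFun_divFun_flat`: for `f : X ⟶ Y` flat, locally of finite type, of relative dimension `r`
between integral schemes, `f^*(div_Y g) = div_X(g ∘ f)` coefficientwise.
-/

set_option autoImplicit false
universe u
open CategoryTheory CategoryTheory.Limits AlgebraicGeometry TopologicalSpace Opposite

namespace Groth.Agent.Lib.helper16.CycFlat

open Groth.Agent.Lib.helper16.SecOrd Groth.Agent.Lib.helper16.CycOpen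
open Groth.Agent.Lib.helper3.DimIneq Groth.Agent.Lib.helper3.DimFibre
  Groth.Agent.Lib.helper3.RelDim Groth.Agent.Lib.helper3.QFinTop

variable {X Y : Scheme.{u}} [IsIntegral X] [IsIntegral Y]

theorem coheight_genericPoint : Order.coheight (genericPoint X) = 0 := by
  rw [Order.coheight_eq_zero]
  exact isMax_top

theorem coheight_le_one' (δ : X → ℤ) (hδ : Cyc.IsDimFun X δ) (x : X)
    (hx : δ (genericPoint X) ≤ δ x + 1) : Order.coheight x ≤ 1 := by
  rw [show (1 : ℕ∞) = ((1 : ℕ) : ℕ∞) from rfl, Order.coheight_le_coe_iff]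
  intro y hy
  have hyx : y ⤳ x := hy.le
  have hne : y ≠ x := fun h => by subst h; exact lt_irrefl _ hy
  have h1 := (hδ y x hyx hne).1
  have hyη : y = genericPoint X := by
    by_contra hne'
    have h2 := (hδ (genericPoint X) y (genericPoint_specializes y) (Ne.symm hne')).1
    omega
  subst hyη
  rw [coheight_genericPoint]
  exact zero_lt_one

variable [IsLocallyNoetherian X] [IsLocallyNoetherian Y]

theorem ordAt_genericPoint (h : genericPoint Y ⤳ genericPoint Y)
    (g : Y.residueField (genericPoint Y)) (hg : g ≠ 0) :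
    Cyc.ordAt (genericPoint Y) (genericPoint Y) h g = 0 := by
  obtain ⟨a, b, ha, hb, rfl⟩ := exists_div_eq (genericPoint Y) h g hg
  rw [ordAt_div (genericPoint Y) h (by rw [coheight_genericPoint]; exact zero_le_one) a b ha hb]
  have key : ∀ c : Y.presheaf.stalk (genericPoint Y), c ≠ 0 →
      Module.length (Y.presheaf.stalk (genericPoint Y))
        (Y.presheaf.stalk (genericPoint Y) ⧸ Ideal.span {c}) = 0 := by
    intro c hc
    have hu : IsUnit c := isUnit_of_ne_zero_functionField c hc
    rw [Module.length_eq_zero_iff]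
    exact Submodule.Quotient.subsingleton_iff.mpr (Ideal.span_singleton_eq_top.mpr hu)
  rw [key a ha, key b hb]
  simp

theorem ordAt_eq_zero_of_eq (y y₀ : Y) (h : y₀ ⤳ y) (hy₀ : y₀ = genericPoint Y) (heq : y = y₀)
    (g : Y.residueField y₀) (hg : g ≠ 0) : Cyc.ordAt y y₀ h g = 0 := by
  subst heq
  subst hy₀
  exact ordAt_genericPoint h g hg

theorem ordAt_pullback_flat' (f : X ⟶ Y) (x : X) (hflat : (f.stalkMap x).hom.Flat)
    (hx : Order.coheight x ≤ 1) (hy : Order.coheight (f x) ≤ 1)
    (h : genericPoint X ⤳ x) (y₀ : Y) (hy₀ : y₀ = genericPoint Y) (h' : y₀ ⤳ f x)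
    (ρ : Y.residueField y₀ →+* X.residueField (genericPoint X))
    (hρ : ∀ a, ρ (Cyc.specMap (f x) y₀ h' a) =
      Cyc.specMap x (genericPoint X) h (f.stalkMap x a))
    (g : Y.residueField y₀) (hg : g ≠ 0) :
    Cyc.ordAt x (genericPoint X) h (ρ g) =
      Cyc.ordAt (f x) y₀ h' g *
        ((Module.length (X.presheaf.stalk x)
          (X.presheaf.stalk x ⧸ Ideal.map (f.stalkMap x).hom
            (IsLocalRing.maximalIdeal (Y.presheaf.stalk (f x))))).toNat : ℤ) := by
  subst hy₀
  exact ordAt_pullback_flat f x hflat hx hy h h' ρ hρ g hg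

open Classical in
omit [IsLocallyNoetherian X] [IsLocallyNoetherian Y] in
theorem pullFun_divFun_flat (δX : X → ℤ) (δY : Y → ℤ) (hX : Cyc.IsSetup X δX)
    (hY : Cyc.IsSetup Y δY) (f : X ⟶ Y) [Flat f] [LocallyOfFiniteType f] (r : ℕ)
    (hr : Cyc.HasRelDim f r) (hδ : Cyc.DeltaCompat f δX δY)
    (g : Y.residueField (f (genericPoint X))) (hg : g ≠ 0) :
    Cyc.pullFun f δX δY r (Cyc.divFun δY (f (genericPoint X)) g) =
      Cyc.divFun δX (genericPoint X) (f.residueFieldMap (genericPoint X) g) := by
  haveI : IsLocallyNoetherian X := hX.1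
  haveI : IsLocallyNoetherian Y := hY.1
  -- the generic point maps to the generic point, and the dimension function there
  obtain ⟨hη, hδη⟩ := Groth.Agent.S1861.result X Y δX δY hX hY f r hr hδ (genericPoint Y)
    (genericPoint X) (by
      rw [show closure {genericPoint Y} = Set.univ from genericPoint_spec Y]; trivial)
    (fun x' _ hx' => (hx'.antisymm (genericPoint_specializes x')).eq)
  rw [← hη] at hδη
  funext x
  have hηx : genericPoint X ⤳ x := genericPoint_specializes x
  have hfηx : f (genericPoint X) ⤳ f x := hηx.map f.continuous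
  -- the fibre dimension bound
  obtain ⟨n, hn, hδx⟩ := hδ x
  have hnr : n ≤ r := by
    obtain ⟨a, b, ha, hb, hab⟩ := fibreDimAt_eq_add f x
    rw [fibreDimAt_eq_of_hasRelDim f r hr x] at hab
    have hab' : r = a + b := by exact_mod_cast hab
    have hn' : td (f.residueFieldMap x).hom = (n : Cardinal.{u}) := hn
    rw [ha] at hn'
    have : a = n := by exact_mod_cast hn'
    omega
  have hflat : (f.stalkMap x).hom.Flat := (Flat.iff_flat_stalkMap (f := f)).1 inferInstance x
  have hρ : ∀ a, (f.residueFieldMap (genericPoint X)).hom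
      (Cyc.specMap (f x) (f (genericPoint X)) hfηx a) =
      Cyc.specMap x (genericPoint X) hηx (f.stalkMap x a) := fun a =>
    (specMap_stalkMap f x (genericPoint X) hηx hfηx a).symm
  have hdY : δY (f x) ≤ δY (f (genericPoint X)) := by
    by_cases he : f (genericPoint X) = f x
    · rw [he]
    · exact (hY.2.2 _ _ hfηx he).1.le
  show (if δX x = δY (f x) + r then
      (if h : f (genericPoint X) ⤳ f x ∧ δY (f x) + 1 = δY (f (genericPoint X)) then
        Cyc.ordAt (f x) (f (genericPoint X)) h.1 g else 0) *
        ((Module.length (X.presheaf.stalk x)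
          (X.presheaf.stalk x ⧸ Ideal.map (f.stalkMap x).hom
            (IsLocalRing.maximalIdeal (Y.presheaf.stalk (f x))))).toNat : ℤ) else 0) =
    (if h : genericPoint X ⤳ x ∧ δX x + 1 = δX (genericPoint X) then
      Cyc.ordAt x (genericPoint X) h.1 ((f.residueFieldMap (genericPoint X)).hom g) else 0)
  by_cases hC : δX x + 1 = δX (genericPoint X)
  · rw [dif_pos (⟨hηx, hC⟩ : genericPoint X ⤳ x ∧ δX x + 1 = δX (genericPoint X))]
    have hxc : Order.coheight x ≤ 1 := coheight_le_one' δX hX.2.2 x (by omega)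
    have hyc : Order.coheight (f x) ≤ 1 := by
      apply coheight_le_one' δY hY.2.2 (f x)
      rw [← hη]
      omega
    have key := ordAt_pullback_flat' f x hflat hxc hyc hηx (f (genericPoint X)) hη hfηx
      (f.residueFieldMap (genericPoint X)).hom hρ g hg
    by_cases hA : δX x = δY (f x) + r
    · rw [if_pos hA]
      have hB : δY (f x) + 1 = δY (f (genericPoint X)) := by omega
      rw [dif_pos (⟨hfηx, hB⟩ :
        f (genericPoint X) ⤳ f x ∧ δY (f x) + 1 = δY (f (genericPoint X)))]
      exact key.symm
    · rw [if_neg hA]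
      -- then `f x = f η` and the order vanishes
      have hfx : f x = f (genericPoint X) := by
        by_contra hne
        have := (hY.2.2 _ _ hfηx (Ne.symm hne)).1
        omega
      have h0 := ordAt_eq_zero_of_eq (f x) (f (genericPoint X)) hfηx hη hfx g hg
      rw [h0, zero_mul] at key
      exact key.symm
  · rw [dif_neg (fun h => hC h.2 :
      ¬ (genericPoint X ⤳ x ∧ δX x + 1 = δX (genericPoint X)))]
    by_cases hA : δX x = δY (f x) + r
    · rw [if_pos hA, dif_neg (fun h => hC (by have := h.2; omega) :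
        ¬ (f (genericPoint X) ⤳ f x ∧ δY (f x) + 1 = δY (f (genericPoint X)))), zero_mul]
    · rw [if_neg hA]

end Groth.Agent.Lib.helper16.CycFlat
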