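import Groth.Agent.Lib.Helper16.CycFlat1
import Groth.Agent.Lib.Helper3.FibreComp
import Groth.Agent.Lib.Helper3.RelDim

/-!
# Composition of flat pullbacks of cycles (helper16)

* `hasRelDim_comp`: relative dimensions add under composition (first morphism flat);
* `length_fibRing_comp`: `length(O_x/𝔪_z O_x) = length(O_y/𝔪_z O_y) · length(O_x/𝔪_y O_x)`;
* `pullFun_comp`: `(g ∘ f)^* = f^* ∘ g^*` on coefficient functions.
-/

set_option autoImplicit false
universe u
open CategoryTheory CategoryTheory.Limits AlgebraicGeometry TopologicalSpace Opposite IsLocalRing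

namespace Groth.Agent.Lib.helper16.CycFlat

open Groth.Agent.Lib.helper3.DimIneq Groth.Agent.Lib.helper3.DimFibre
  Groth.Agent.Lib.helper3.RelDim Groth.Agent.Lib.helper3.FibreComp
  Groth.Agent.Lib.helper17.FibreStalk Groth.Agent.Lib.helper17.FibreDim

variable {X Y Z : Scheme.{u}} (f : X ⟶ Y) (g : Y ⟶ Z)

theorem hasRelDim_comp [Flat f] [LocallyOfFiniteType f] [LocallyOfFiniteType g] (r s : ℕ)
    (hr : Cyc.HasRelDim f r) (hs : Cyc.HasRelDim g s) : Cyc.HasRelDim (f ≫ g) (r + s) := by
  apply hasRelDim_of_forall_fibreDimAt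
  intro x
  have hflat : (f.stalkMap x).hom.Flat := (Flat.iff_flat_stalkMap (f := f)).1 inferInstance x
  rw [(fibreDimAt_comp f g x).2 hflat, fibreDimAt_eq_of_hasRelDim f r hr x,
    fibreDimAt_eq_of_hasRelDim g s hs (f x)]
  push_cast
  rfl

theorem length_fibRing_comp (x : X) (hflat : (f.stalkMap x).hom.Flat)
    (hfin : IsFiniteLength (Y.presheaf.stalk (f x)) (FibRing g (f x))) :
    Module.length (X.presheaf.stalk x) (FibRing (f ≫ g) x) =
      Module.length (Y.presheaf.stalk (f x)) (FibRing g (f x)) *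
        Module.length (X.presheaf.stalk x) (FibRing f x) := by
  algebraize [(f.stalkMap x).hom]
  haveI : Module.Flat (Y.presheaf.stalk (f x)) (X.presheaf.stalk x) := hflat
  set I : Ideal (Y.presheaf.stalk (f x)) :=
    (maximalIdeal (Z.presheaf.stalk (g (f x)))).map (g.stalkMap (f x)).hom with hI
  have hmap : I.map (algebraMap (Y.presheaf.stalk (f x)) (X.presheaf.stalk x)) =
      (maximalIdeal (Z.presheaf.stalk ((f ≫ g) x))).map ((f ≫ g).stalkMap x).hom := by
    rw [hI, Ideal.map_map, Scheme.Hom.stalkMap_comp]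
    rfl
  have h1 := length_baseChange_mul (A := Y.presheaf.stalk (f x)) (B := X.presheaf.stalk x)
    (Y.presheaf.stalk (f x) ⧸ I) hfin
  rw [← (Algebra.TensorProduct.quotIdealMapEquivTensorQuot (X.presheaf.stalk x)
    I).toLinearEquiv.length_eq] at h1
  refine Eq.trans ?_ h1
  exact (Submodule.quotEquivOfEq _ _ hmap.symm).length_eq

/-- the dimension function upstairs differs from the one downstairs by `n ≤ r`, and the local ring
of the fibre has dimension `r - n`. -/
theorem deltaCompat_fibre [LocallyOfFiniteType f] (δX : X → ℤ) (δY : Y → ℤ) (r : ℕ)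
    (hr : Cyc.HasRelDim f r) (hδ : Cyc.DeltaCompat f δX δY) (x : X) :
    ∃ n b : ℕ, δX x = δY (f x) + n ∧ n + b = r ∧
      ringKrullDim (FibRing f x) = (b : WithBot ℕ∞) := by
  obtain ⟨n, hn, hδx⟩ := hδ x
  obtain ⟨a, b, ha, hb, hab⟩ := fibreDimAt_eq_add f x
  rw [fibreDimAt_eq_of_hasRelDim f r hr x] at hab
  have hab' : r = a + b := by exact_mod_cast hab
  have hn' : td (f.residueFieldMap x).hom = (n : Cardinal.{u}) := hn
  rw [ha] at hn'
  have : a = n := by exact_mod_cast hn'
  refine ⟨n, b, hδx, by omega, ?_⟩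
  rw [dim_fibRing]
  exact hb

theorem isFiniteLength_fibRing [LocallyOfFiniteType f] [IsLocallyNoetherian X] (x : X)
    (h0 : ringKrullDim (FibRing f x) = 0) :
    IsFiniteLength (X.presheaf.stalk x) (FibRing f x) := by
  haveI := isNoetherianRing_fibRing f x
  haveI : Ring.KrullDimLE 0 (FibRing f x) := by
    rw [Ring.krullDimLE_iff, h0]
    rfl
  haveI : IsArtinianRing (FibRing f x) := isArtinianRing_iff_krullDimLE_zero.mpr inferInstance
  rw [isFiniteLength_iff_isNoetherian_isArtinian]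
  refine ⟨inferInstance, ?_⟩
  exact isArtinian_of_surjective_algebraMap (R := FibRing f x) (S := X.presheaf.stalk x)
    Ideal.Quotient.mk_surjective

theorem pullFun_comp [Flat f] [LocallyOfFiniteType f] [LocallyOfFiniteType g]
    (δX : X → ℤ) (δY : Y → ℤ) (δZ : Z → ℤ) [IsLocallyNoetherian Y] (r s : ℕ)
    (hr : Cyc.HasRelDim f r) (hs : Cyc.HasRelDim g s) (hf : Cyc.DeltaCompat f δX δY)
    (hg : Cyc.DeltaCompat g δY δZ) (α : Z → ℤ) :
    Cyc.pullFun f δX δY r (Cyc.pullFun g δY δZ s α) =
      Cyc.pullFun (f ≫ g) δX δZ ((r : ℤ) + s) α := by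
  funext x
  obtain ⟨n₁, b₁, h₁, hb₁, -⟩ := deltaCompat_fibre f δX δY r hr hf x
  obtain ⟨n₂, b₂, h₂, hb₂, hd₂⟩ := deltaCompat_fibre g δY δZ s hs hg (f x)
  have hflat : (f.stalkMap x).hom.Flat := (Flat.iff_flat_stalkMap (f := f)).1 inferInstance x
  show (if δX x = δY (f x) + r then
      (if δY (f x) = δZ (g (f x)) + s then α (g (f x)) *
        ((Module.length (Y.presheaf.stalk (f x)) (FibRing g (f x))).toNat : ℤ) else 0) *
        ((Module.length (X.presheaf.stalk x) (FibRing f x)).toNat : ℤ) else 0) =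
    (if δX x = δZ ((f ≫ g) x) + ((r : ℤ) + s) then α ((f ≫ g) x) *
        ((Module.length (X.presheaf.stalk x) (FibRing (f ≫ g) x)).toNat : ℤ) else 0)
  have hcomp : (f ≫ g) x = g (f x) := rfl
  by_cases hA : δX x = δY (f x) + r
  · rw [if_pos hA]
    by_cases hB : δY (f x) = δZ (g (f x)) + s
    · rw [if_pos hB, if_pos (by rw [hcomp]; omega)]
      have hb0 : b₂ = 0 := by omega
      rw [hb0] at hd₂
      have hfin := isFiniteLength_fibRing g (f x) (by rw [hd₂]; rfl)
      rw [length_fibRing_comp f g x hflat hfin, ENat.toNat_mul]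
      push_cast
      rw [hcomp]
      ring
    · rw [if_neg hB, zero_mul, if_neg (by rw [hcomp]; omega)]
  · rw [if_neg hA, if_neg (by rw [hcomp]; omega)]

end Groth.Agent.Lib.helper16.CycFlat
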