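import Groth.Agent.Lib.Helper16.CycFlat4
import Groth.Agent.Lib.Helper8.StalkLen
import Groth.Agent.Lib.Helper17.StalkPullback

/-!
# Flat pullback of the cycle of a coherent module (helper16)

`pullFun_sheafFun`: `f^*[F]_k = [f^*F]_{k+r}` for `f` flat of relative dimension `r`.
-/

set_option autoImplicit false
universe u
open CategoryTheory CategoryTheory.Limits AlgebraicGeometry TopologicalSpace Opposite IsLocalRing
  TensorProduct

namespace Groth.Agent.Lib.helper16.CycFlat

open Groth.Agent.Lib.helper17.FibreStalk Groth.Agent.Lib.helper17.StalkPullback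

variable {X Y : Scheme.{u}} (f : X ⟶ Y) (F : Y.Modules)

theorem subsingleton_stalk_pullback [F.IsQuasicoherent] (x : X)
    (h : Subsingleton (F.presheaf.stalk (f x))) :
    Subsingleton (((Scheme.Modules.pullback f).obj F).presheaf.stalk x) := by
  letI := (f.stalkMap x).hom.toAlgebra
  letI := FlatMod.moduleStalkOver f ((Scheme.Modules.pullback f).obj F) x
  haveI := isScalarTower_moduleStalkOver f ((Scheme.Modules.pullback f).obj F) x
  obtain ⟨ψ, hψ⟩ := exists_isBaseChange_stalk_pullback f F x
  haveI : Subsingleton (F.presheaf.stalk (f.base x)) := h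
  exact hψ.equiv.symm.toEquiv.subsingleton

theorem length_stalk_pullback [F.IsQuasicoherent] (x : X) (hflat : (f.stalkMap x).hom.Flat)
    (hfin : IsFiniteLength (Y.presheaf.stalk (f x)) (F.presheaf.stalk (f x))) :
    Module.length (X.presheaf.stalk x)
      (((Scheme.Modules.pullback f).obj F).presheaf.stalk x) =
    Module.length (Y.presheaf.stalk (f x)) (F.presheaf.stalk (f x)) *
      Module.length (X.presheaf.stalk x) (FibRing f x) := by
  letI := (f.stalkMap x).hom.toAlgebra
  letI := FlatMod.moduleStalkOver f ((Scheme.Modules.pullback f).obj F) x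
  haveI := isScalarTower_moduleStalkOver f ((Scheme.Modules.pullback f).obj F) x
  haveI : Module.Flat (Y.presheaf.stalk (f x)) (X.presheaf.stalk x) := hflat
  obtain ⟨ψ, hψ⟩ := exists_isBaseChange_stalk_pullback f F x
  rw [← hψ.equiv.length_eq]
  exact length_baseChange_mul (A := Y.presheaf.stalk (f x)) (B := X.presheaf.stalk x)
    (F.presheaf.stalk (f x)) hfin

theorem pullFun_sheafFun (δX : X → ℤ) (δY : Y → ℤ) (hX : Cyc.IsSetup X δX)
    (hY : Cyc.IsSetup Y δY) [Flat f] [LocallyOfFiniteType f] (r : ℕ) (hr : Cyc.HasRelDim f r)
    (hδ : Cyc.DeltaCompat f δX δY) (k : ℤ) (hF : Coh.IsCoh F)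
    (hdim : ∀ y : Y, Nontrivial (F.presheaf.stalk y) → δY y ≤ k) :
    (∀ x : X, Nontrivial (((Scheme.Modules.pullback f).obj F).presheaf.stalk x) →
        δX x ≤ k + r) ∧
      Cyc.pullFun f δX δY r (Cyc.sheafFun δY k F) =
        Cyc.sheafFun δX (k + r) ((Scheme.Modules.pullback f).obj F) := by
  haveI : IsLocallyNoetherian X := hX.1
  haveI : IsLocallyNoetherian Y := hY.1
  haveI : F.IsQuasicoherent := hF.1
  have hnt : ∀ x : X, Nontrivial (((Scheme.Modules.pullback f).obj F).presheaf.stalk x) →
      Nontrivial (F.presheaf.stalk (f x)) := by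
    intro x hx
    by_contra hcon
    rw [not_nontrivial_iff_subsingleton] at hcon
    have := subsingleton_stalk_pullback f F x hcon
    exact not_subsingleton _ this
  refine ⟨fun x hx => ?_, ?_⟩
  · obtain ⟨n, b, h1, h2, -⟩ := deltaCompat_fibre f δX δY r hr hδ x
    have := hdim (f x) (hnt x hx)
    omega
  · funext x
    obtain ⟨n, b, h1, h2, -⟩ := deltaCompat_fibre f δX δY r hr hδ x
    have hflat : (f.stalkMap x).hom.Flat := (Flat.iff_flat_stalkMap (f := f)).1 inferInstance x
    show (if δX x = δY (f x) + r then
        (if δY (f x) = k then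
          ((Module.length (Y.presheaf.stalk (f x)) (F.presheaf.stalk (f x))).toNat : ℤ) else 0) *
          ((Module.length (X.presheaf.stalk x) (FibRing f x)).toNat : ℤ) else 0) =
      (if δX x = k + r then ((Module.length (X.presheaf.stalk x)
          (((Scheme.Modules.pullback f).obj F).presheaf.stalk x)).toNat : ℤ) else 0)
    by_cases hA : δX x = k + r
    · rw [if_pos hA]
      by_cases hnF : Nontrivial (F.presheaf.stalk (f x))
      · have hle := hdim (f x) hnF
        have hk : δY (f x) = k := by omega
        rw [if_pos (by omega), if_pos hk]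
        have hmax : ∀ y : Y, Nontrivial (F.presheaf.stalk y) → y ⤳ f x → y = f x := by
          intro y hy hyx
          by_contra hne
          have h3 := (hY.2.2 y (f x) hyx hne).1
          have h4 := hdim y hy
          omega
        have hfin := ((Groth.Agent.Lib.helper8.StalkLen.minimal_iff_isFiniteLength F hF
          (f x)).mp ⟨hnF, hmax⟩).2
        rw [length_stalk_pullback f F x hflat hfin, ENat.toNat_mul]
        push_cast
        rfl
      · rw [not_nontrivial_iff_subsingleton] at hnF
        haveI := hnF
        haveI := subsingleton_stalk_pullback f F x hnF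
        have e1 : Module.length (Y.presheaf.stalk (f x)) (F.presheaf.stalk (f x)) = 0 :=
          Module.length_eq_zero
        have e2 : Module.length (X.presheaf.stalk x)
            (((Scheme.Modules.pullback f).obj F).presheaf.stalk x) = 0 := Module.length_eq_zero
        rw [e1, e2]
        simp
    · rw [if_neg hA]
      by_cases hB : δX x = δY (f x) + r
      · rw [if_pos hB, if_neg (by omega), zero_mul]
      · rw [if_neg hB]

end Groth.Agent.Lib.helper16.CycFlat
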