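import Groth.Agent.Lib.Helper16.CycClosed4
import Groth.Agent.Lib.Helper26.DimFormula7
import Groth.Agent.S9684

/-!
# Mayer–Vietoris for cycles and closed covers (helper16)

* `isSetup_spec_field`: `(Spec k, 0)` is a setup for Chow homology.
* `isDimFun_of_field`: the dimension function induced from `Spec k` on a scheme locally of finite type.
* `exists_split_family`: a sum of principal divisors on `X = X₁ ∪ X₂` splits as `i₁_*β₁ + i₂_*β₂` with
  `β_i ∼ 0`.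
* `exists_of_map_add_map_eq_zero`: cycle-level exactness of Mayer–Vietoris.
-/

set_option autoImplicit false
universe u
open CategoryTheory CategoryTheory.Limits AlgebraicGeometry TopologicalSpace Opposite

namespace Groth.Agent.Lib.helper16.CycMV

open Groth.Agent.Lib.helper16.CycClosed Groth.Agent.Lib.helper16.CycOpen

theorem isSetup_spec_field (k : Type u) [Field k] :
    Cyc.IsSetup (Spec (CommRingCat.of k)) (fun _ => 0) := by
  refine ⟨inferInstance, fun x => ?_, ?_⟩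
  · letI : Algebra k ((Spec (CommRingCat.of k)).presheaf.stalk x) :=
      StructureSheaf.stalkAlgebra k x
    haveI : IsLocalization.AtPrime ((Spec (CommRingCat.of k)).presheaf.stalk x) x.asIdeal :=
      StructureSheaf.IsLocalization.to_stalk k x
    refine isUniversallyCatenary_of_surjective
      (algebraMap k ((Spec (CommRingCat.of k)).presheaf.stalk x)) ?_
      (Groth.Agent.Lib.helper26.DimFormula.isUniversallyCatenary_field k)
    intro z
    obtain ⟨⟨a, s⟩, h⟩ := IsLocalization.surj x.asIdeal.primeCompl z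
    have hs : (s : k) ≠ 0 := fun h0 => s.2 (by rw [h0]; exact zero_mem _)
    refine ⟨a * (s : k)⁻¹, ?_⟩
    rw [map_mul, ← h, mul_assoc, ← map_mul, mul_inv_cancel₀ hs, map_one, mul_one]
  · intro x y _ hne
    exact absurd (Subsingleton.elim x y) hne

theorem isDimFun_of_field (k : Type u) [Field k] {X : Scheme.{u}}
    (f : X ⟶ Spec (CommRingCat.of k)) [LocallyOfFiniteType f] (δ : X → ℤ)
    (hδ : Cyc.DeltaCompat f δ (fun _ => 0)) : Cyc.IsDimFun X δ :=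
  Groth.Agent.S9684.result f (fun _ => 0) (isSetup_spec_field k) δ hδ

theorem finsum_split {J : Type*} (p : J → Prop) (g : J → ℤ) (hg : (Function.support g).Finite) :
    ∑ᶠ j, g j = ∑ᶠ j : {j // p j}, g j.1 + ∑ᶠ j : {j // ¬ p j}, g j.1 := by
  rw [finsum_subtype_eq_finsum_cond (fun j => p j), finsum_subtype_eq_finsum_cond (fun j => ¬ p j),
    ← finsum_mem_univ g]
  have hu : (Set.univ : Set J) = {j | p j} ∪ {j | ¬ p j} := by
    ext j; simp [em]
  rw [hu]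
  exact finsum_mem_union' (by
    rw [Set.disjoint_left]; intro j h1 h2; exact h2 h1)
    (hg.inter_of_right _) (hg.inter_of_right _)

section split

variable {X X₁ X₂ : Scheme.{u}} (i₁ : X₁ ⟶ X) (i₂ : X₂ ⟶ X) [IsClosedImmersion i₁]
  [IsClosedImmersion i₂]

/-- a family of principal divisors all of whose generic points lie in the closed subscheme `Z` sums to
the pushforward of a cycle on `Z` rationally equivalent to zero -/
theorem exists_cycle_map_family {Z : Scheme.{u}} (ι : Z ⟶ X) [IsClosedImmersion ι]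
    [IsLocallyNoetherian X] (δ : X → ℤ)
    (hδ : Cyc.IsDimFun X δ) (k : ℤ) {J : Type u} (ξ : J → X)
    (f : ∀ j, X.residueField (ξ j)) (hδξ : ∀ j, δ (ξ j) = k + 1) (hf : ∀ j, f j ≠ 0)
    (hlf : ∀ x : X, ∃ U : Set X, IsOpen U ∧ x ∈ U ∧ {j | (closure {ξ j} ∩ U).Nonempty}.Finite)
    (hr : ∀ j, ξ j ∈ Set.range ι) :
    ∃ D : AlgebraicCycle Z ℤ, D ∈ Cyc.Zk Z (fun z => δ (ι z)) k ∧
      Cyc.RatEquivZero (fun z => δ (ι z)) k D ∧
      ∀ x, AlgebraicCycle.map ι (fun z => δ (ι z)) δ D x = ∑ᶠ j, Cyc.divFun δ (ξ j) (f j) x := by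
  obtain ⟨D, hD, hDk, hDr⟩ := exists_cycle_restrict_family ι δ hδ k ξ f hδξ hf hlf hr
  refine ⟨D, hDk, hDr, fun x => ?_⟩
  by_cases hx : x ∈ Set.range ι
  · obtain ⟨z, rfl⟩ := hx
    rw [map_apply ι _ δ (fun _ => rfl), hD z]
  · rw [map_apply_of_notMem_range ι _ δ D x hx]
    symm
    apply finsum_eq_zero_of_forall_eq_zero
    intro j
    by_contra hne
    have hsp := (divFun_ne_zero_specializes δ _ _ x hne).1
    exact hx (hsp.mem_closed ι.isClosedEmbedding.isClosed_range (hr j))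

theorem exists_split_family [IsLocallyNoetherian X] (δ : X → ℤ) (hδ : Cyc.IsDimFun X δ) (k : ℤ)
    (hcov : Set.range i₁ ∪ Set.range i₂ = Set.univ)
    {J : Type u} (ξ : J → X) (f : ∀ j, X.residueField (ξ j)) (hδξ : ∀ j, δ (ξ j) = k + 1)
    (hf : ∀ j, f j ≠ 0)
    (hlf : ∀ x : X, ∃ U : Set X, IsOpen U ∧ x ∈ U ∧ {j | (closure {ξ j} ∩ U).Nonempty}.Finite) :
    ∃ (β₁ : AlgebraicCycle X₁ ℤ) (β₂ : AlgebraicCycle X₂ ℤ),
      β₁ ∈ Cyc.Zk X₁ (fun z => δ (i₁ z)) k ∧ β₂ ∈ Cyc.Zk X₂ (fun z => δ (i₂ z)) k ∧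
      Cyc.RatEquivZero (fun z => δ (i₁ z)) k β₁ ∧ Cyc.RatEquivZero (fun z => δ (i₂ z)) k β₂ ∧
      ∀ x, ∑ᶠ j, Cyc.divFun δ (ξ j) (f j) x =
        AlgebraicCycle.map i₁ (fun z => δ (i₁ z)) δ β₁ x +
          AlgebraicCycle.map i₂ (fun z => δ (i₂ z)) δ β₂ x := by
  have hsub : ∀ (p : J → Prop) (x : X), ∃ U : Set X, IsOpen U ∧ x ∈ U ∧
      {j : {j // p j} | (closure {ξ j.1} ∩ U).Nonempty}.Finite := by
    intro p x
    obtain ⟨U, hU, hxU, hfin⟩ := hlf x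
    refine ⟨U, hU, hxU, ?_⟩
    exact (hfin.preimage Subtype.val_injective.injOn).subset (fun j hj => hj)
  obtain ⟨β₁, h1k, h1r, h1⟩ := exists_cycle_map_family i₁ δ hδ k
    (fun j : {j // ξ j ∈ Set.range i₁} => ξ j.1) (fun j => f j.1) (fun j => hδξ j.1)
    (fun j => hf j.1) (hsub _) (fun j => j.2)
  obtain ⟨β₂, h2k, h2r, h2⟩ := exists_cycle_map_family i₂ δ hδ k
    (fun j : {j // ¬ ξ j ∈ Set.range i₁} => ξ j.1) (fun j => f j.1) (fun j => hδξ j.1)
    (fun j => hf j.1) (hsub _) (fun j => by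
      have : ξ j.1 ∈ Set.range i₁ ∪ Set.range i₂ := by rw [hcov]; trivial
      exact this.resolve_left j.2)
  refine ⟨β₁, β₂, h1k, h2k, h1r, h2r, fun x => ?_⟩
  rw [h1 x, h2 x]
  exact finsum_split (fun j => ξ j ∈ Set.range i₁) (fun j => Cyc.divFun δ (ξ j) (f j) x)
    (finite_support_divFun δ ξ f hlf x)

end split

theorem map_sub_apply {X Z : Scheme.{u}} (ι : Z ⟶ X) [IsClosedImmersion ι] (δZ : Z → ℤ) (δX : X → ℤ)
    (hδ : ∀ z, δZ z = δX (ι z)) (a b : AlgebraicCycle Z ℤ) (x : X) :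
    AlgebraicCycle.map ι δZ δX (a - b) x =
      AlgebraicCycle.map ι δZ δX a x - AlgebraicCycle.map ι δZ δX b x := by
  by_cases hx : x ∈ Set.range ι
  · obtain ⟨z, rfl⟩ := hx
    rw [map_apply ι δZ δX hδ, map_apply ι δZ δX hδ, map_apply ι δZ δX hδ]
    rfl
  · rw [map_apply_of_notMem_range ι δZ δX _ x hx, map_apply_of_notMem_range ι δZ δX _ x hx,
      map_apply_of_notMem_range ι δZ δX _ x hx, sub_zero]

section exact

variable {X X₁ X₂ Y : Scheme.{u}} (i₁ : X₁ ⟶ X) (i₂ : X₂ ⟶ X) [IsClosedImmersion i₁]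
  [IsClosedImmersion i₂] (j₁ : Y ⟶ X₁) (j₂ : Y ⟶ X₂) [IsClosedImmersion j₁] [IsClosedImmersion j₂]

theorem exists_of_map_add_map_eq_zero (hcomm : j₁ ≫ i₁ = j₂ ≫ i₂)
    (hY : Set.range (j₁ ≫ i₁) = Set.range i₁ ∩ Set.range i₂)
    (δ : X → ℤ) (a₁ : AlgebraicCycle X₁ ℤ) (a₂ : AlgebraicCycle X₂ ℤ)
    (h : ∀ x, AlgebraicCycle.map i₁ (fun z => δ (i₁ z)) δ a₁ x +
      AlgebraicCycle.map i₂ (fun z => δ (i₂ z)) δ a₂ x = 0) :
    ∃ γ : AlgebraicCycle Y ℤ, (∀ y, γ y = a₁ (j₁ y)) ∧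
      a₁ = AlgebraicCycle.map j₁ (fun y => δ (i₁ (j₁ y))) (fun x => δ (i₁ x)) γ ∧
      a₂ = -AlgebraicCycle.map j₂ (fun y => δ (i₁ (j₁ y))) (fun x => δ (i₂ x)) γ := by
  have hinj₁ : Function.Injective i₁ := i₁.isClosedEmbedding.injective
  have hinj₂ : Function.Injective i₂ := i₂.isClosedEmbedding.injective
  have hc : ∀ y, i₁ (j₁ y) = i₂ (j₂ y) := by
    intro y
    have := congrArg (fun φ : Y ⟶ X => φ y) hcomm
    simpa using this
  obtain ⟨γ, hγ⟩ := exists_restrict j₁ a₁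
  refine ⟨γ, hγ, ?_, ?_⟩
  · refine DFunLike.ext _ _ fun x₁ => ?_
    by_cases hx : x₁ ∈ Set.range j₁
    · obtain ⟨y, rfl⟩ := hx
      rw [map_apply j₁ (fun y => δ (i₁ (j₁ y))) (fun x => δ (i₁ x)) (fun _ => rfl), hγ]
    · rw [map_apply_of_notMem_range j₁ _ _ γ x₁ hx]
      have hx2 : i₁ x₁ ∉ Set.range i₂ := by
        intro h2
        have : i₁ x₁ ∈ Set.range (j₁ ≫ i₁) := by rw [hY]; exact ⟨⟨x₁, rfl⟩, h2⟩
        obtain ⟨y, hy⟩ := this
        apply hx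
        refine ⟨y, hinj₁ ?_⟩
        simpa using hy
      have h0 := h (i₁ x₁)
      rw [map_apply i₁ _ δ (fun _ => rfl), map_apply_of_notMem_range i₂ _ δ a₂ _ hx2,
        add_zero] at h0
      exact h0
  · refine DFunLike.ext _ _ fun x₂ => ?_
    change a₂ x₂ = -(AlgebraicCycle.map j₂ (fun y => δ (i₁ (j₁ y))) (fun x => δ (i₂ x)) γ x₂)
    by_cases hx : x₂ ∈ Set.range j₂
    · obtain ⟨y, rfl⟩ := hx
      rw [map_apply j₂ (fun y => δ (i₁ (j₁ y))) (fun x => δ (i₂ x))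
        (fun y => by show δ (i₁ (j₁ y)) = δ (i₂ (j₂ y)); rw [hc]), hγ]
      have h0 := h (i₂ (j₂ y))
      rw [map_apply i₂ _ δ (fun _ => rfl), ← hc, map_apply i₁ _ δ (fun _ => rfl)] at h0
      linarith
    · rw [map_apply_of_notMem_range j₂ _ _ γ x₂ hx, neg_zero]
      have hx1 : i₂ x₂ ∉ Set.range i₁ := by
        intro h1
        have : i₂ x₂ ∈ Set.range (j₁ ≫ i₁) := by rw [hY]; exact ⟨h1, ⟨x₂, rfl⟩⟩
        obtain ⟨y, hy⟩ := this
        apply hx
        refine ⟨y, hinj₂ ?_⟩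
        rw [← hc]
        simpa using hy
      have h0 := h (i₂ x₂)
      rw [map_apply i₂ _ δ (fun _ => rfl), map_apply_of_notMem_range i₁ _ δ a₁ _ hx1,
        zero_add] at h0
      exact h0

/-- every cycle on `X = X₁ ∪ X₂` is a sum of pushforwards -/
theorem exists_decomp (hcov : Set.range i₁ ∪ Set.range i₂ = Set.univ) (δ : X → ℤ)
    (α : AlgebraicCycle X ℤ) :
    ∃ (α₁ : AlgebraicCycle X₁ ℤ) (α₂ : AlgebraicCycle X₂ ℤ),
      (∀ z, α₁ z = α (i₁ z)) ∧ (∀ z, α₂ z ≠ 0 → α₂ z = α (i₂ z)) ∧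
      α = AlgebraicCycle.map i₁ (fun x => δ (i₁ x)) δ α₁ +
        AlgebraicCycle.map i₂ (fun x => δ (i₂ x)) δ α₂ := by
  classical
  obtain ⟨α₁, hα₁⟩ := exists_restrict i₁ α
  obtain ⟨α₂', hα₂'⟩ := exists_restrict i₂ α
  have hlf : ∀ z ∈ (Set.univ : Set X₂), ∃ t ∈ nhds z, Set.Finite (t ∩ Function.support
      (fun z : X₂ => if i₂ z ∈ Set.range i₁ then (0 : ℤ) else α (i₂ z))) := by
    intro z hz
    obtain ⟨t, ht, hfin⟩ := α₂'.supportLocallyFiniteWithinDomain' z hz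
    refine ⟨t, ht, hfin.subset ?_⟩
    rintro w ⟨hw1, hw2⟩
    refine ⟨hw1, ?_⟩
    rw [Function.mem_support] at hw2 ⊢
    show α₂' w ≠ 0
    rw [hα₂']
    intro h0
    apply hw2
    simp only
    split_ifs
    · rfl
    · exact h0
  let α₂ : AlgebraicCycle X₂ ℤ :=
    ⟨fun z : X₂ => if i₂ z ∈ Set.range i₁ then (0 : ℤ) else α (i₂ z), Set.subset_univ _, hlf⟩
  have hα₂ : ∀ z, α₂ z = if i₂ z ∈ Set.range i₁ then (0 : ℤ) else α (i₂ z) := fun z => rfl
  refine ⟨α₁, α₂, hα₁, ?_, ?_⟩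
  · intro z hz
    rw [hα₂] at hz ⊢
    split_ifs at hz ⊢ with h1
    · exact absurd rfl hz
    · rfl
  · refine DFunLike.ext _ _ fun x => ?_
    change α x = AlgebraicCycle.map i₁ (fun x => δ (i₁ x)) δ α₁ x +
        AlgebraicCycle.map i₂ (fun x => δ (i₂ x)) δ α₂ x
    by_cases hx1 : x ∈ Set.range i₁
    · obtain ⟨z, rfl⟩ := hx1
      rw [map_apply i₁ _ δ (fun _ => rfl), hα₁]
      by_cases hx2 : i₁ z ∈ Set.range i₂
      · obtain ⟨w, hw⟩ := hx2
        rw [← hw, map_apply i₂ _ δ (fun _ => rfl), hα₂, if_pos ⟨z, hw.symm⟩, add_zero]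
      · rw [map_apply_of_notMem_range i₂ _ δ α₂ _ hx2, add_zero]
    · have hx2 : x ∈ Set.range i₂ := by
        have : x ∈ Set.range i₁ ∪ Set.range i₂ := by rw [hcov]; trivial
        exact this.resolve_left hx1
      obtain ⟨w, rfl⟩ := hx2
      rw [map_apply_of_notMem_range i₁ _ δ α₁ _ hx1, map_apply i₂ _ δ (fun _ => rfl), hα₂,
        if_neg hx1, zero_add]

end exact

end Groth.Agent.Lib.helper16.CycMV
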