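import Groth.Prelude.Def_Cyc
import Mathlib.RingTheory.OrderOfVanishing.Noetherian

/-!
# Invariance of `CycAlg.ordFrac` under isomorphisms (helper16)

* `ord_ringEquiv`: `Ring.ord` is invariant under ring isomorphisms.
* `ordFrac_ringEquiv`: `CycAlg.ordFrac R K f = CycAlg.ordFrac R' K' (σ f)` for compatible isomorphisms
  `e : R ≃+* R'`, `σ : K ≃+* K'`.
-/

set_option autoImplicit false
universe u v

namespace Groth.Agent.Lib.helper16.CycOpen

theorem ord_ringEquiv {R R' : Type*} [CommRing R] [CommRing R'] (e : R ≃+* R') (x : R) :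
    Ring.ord R x = Ring.ord R' (e x) := by
  unfold Ring.ord
  have hI : Ideal.span {e x} = Ideal.map (e : R →+* R') (Ideal.span {x}) := by
    rw [Ideal.map_span, Set.image_singleton]; rfl
  let q : (R ⧸ Ideal.span {x}) ≃+* (R' ⧸ Ideal.span {e x}) := Ideal.quotientEquiv _ _ e hI
  let f : (R ⧸ Ideal.span {x}) →ₛₗ[(e : R →+* R')] (R' ⧸ Ideal.span {e x}) :=
    { toFun := q
      map_add' := map_add q
      map_smul' := by
        intro r m
        obtain ⟨m, rfl⟩ := Ideal.Quotient.mk_surjective m
        change q (Ideal.Quotient.mk _ (r * m)) = Ideal.Quotient.mk _ (e r) * q (Ideal.Quotient.mk _ m)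
        rw [map_mul, map_mul]
        rfl }
  have hf : Function.Bijective f := q.bijective
  haveI : RingHomSurjective (e : R →+* R') := ⟨e.surjective⟩
  rw [Module.length, Module.length, WithBot.unbot_inj,
    Order.krullDim_eq_of_orderIso (Submodule.orderIsoMapComapOfBijective f hf)]

section

variable {R R' : Type u} [CommRing R] [CommRing R'] {K K' : Type v} [Field K] [Field K']
  [Algebra R K] [Algebra R' K'] (e : R ≃+* R') (σ : K ≃+* K')
  (hσ : ∀ r, σ (algebraMap R K r) = algebraMap R' K' (e r))

include hσ in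
theorem cond_ringEquiv
    (h : IsNoetherianRing R ∧ Ring.KrullDimLE 1 R ∧ Nontrivial R ∧ IsFractionRing R K) :
    IsNoetherianRing R' ∧ Ring.KrullDimLE 1 R' ∧ Nontrivial R' ∧ IsFractionRing R' K' := by
  obtain ⟨h1, h2, h3, h4⟩ := h
  have hinj : Function.Injective (algebraMap R' K') := by
    intro x y hxy
    have hx : algebraMap R' K' x = σ (algebraMap R K (e.symm x)) := by rw [hσ]; simp
    have hy : algebraMap R' K' y = σ (algebraMap R K (e.symm y)) := by rw [hσ]; simp
    rw [hx, hy] at hxy
    exact e.symm.injective (IsFractionRing.injective R K (σ.injective hxy))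
  haveI := h3
  refine ⟨isNoetherianRing_of_ringEquiv R e, ?_, e.injective.nontrivial, ?_⟩
  · rw [Ring.krullDimLE_iff] at h2 ⊢
    rwa [← ringKrullDim_eq_of_ringEquiv e]
  · haveI : FaithfulSMul R' K' := (faithfulSMul_iff_algebraMap_injective R' K').2 hinj
    refine IsFractionRing.of_field R' K' fun z => ?_
    obtain ⟨a, b, hb, hab⟩ := IsFractionRing.div_surjective (A := R) (σ.symm z)
    refine ⟨e a, e b, ?_⟩
    rw [← hσ, ← hσ, ← map_div₀, hab]
    simp

include hσ in
theorem ordFrac_ringEquiv (f : K) :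
    CycAlg.ordFrac R K f = CycAlg.ordFrac R' K' (σ f) := by
  unfold CycAlg.ordFrac
  by_cases h : IsNoetherianRing R ∧ Ring.KrullDimLE 1 R ∧ Nontrivial R ∧ IsFractionRing R K
  · have h' := cond_ringEquiv e σ hσ h
    rw [dif_pos h, dif_pos h']
    haveI := h.1; haveI := h.2.1; haveI := h.2.2.1; haveI := h.2.2.2
    haveI := h'.1; haveI := h'.2.1; haveI := h'.2.2.1; haveI := h'.2.2.2
    congr 1
    obtain ⟨a, b, hb, rfl⟩ := IsFractionRing.div_surjective (A := R) f
    haveI : IsDomain R := (IsFractionRing.injective R K).isDomain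
    haveI : IsDomain R' := (IsFractionRing.injective R' K').isDomain
    have key : ∀ x : R, Ring.ordFrac R (algebraMap R K x) =
        Ring.ordFrac R' (algebraMap R' K' (e x)) := by
      intro x
      by_cases hx : x = 0
      · subst hx; simp
      · have hx' : e x ≠ 0 := by simpa using hx
        rw [Ring.ordFrac_eq_ord R hx, Ring.ordFrac_eq_ord R' hx',
          Ring.ordMonoidWithZeroHom_eq_ord (mem_nonZeroDivisors_of_ne_zero hx),
          Ring.ordMonoidWithZeroHom_eq_ord (mem_nonZeroDivisors_of_ne_zero hx'),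
          ord_ringEquiv e x]
    rw [map_div₀, map_div₀, hσ, hσ, map_div₀, key a, key b]
  · have h' : ¬ (IsNoetherianRing R' ∧ Ring.KrullDimLE 1 R' ∧ Nontrivial R' ∧
        IsFractionRing R' K') := by
      intro h'
      apply h
      refine cond_ringEquiv e.symm σ.symm (fun r => ?_) h'
      apply σ.injective
      rw [hσ]; simp
    rw [dif_neg h, dif_neg h']

end

end Groth.Agent.Lib.helper16.CycOpen
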