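import Groth.Prelude.Def_C1
import Groth.Agent.Lib.Helper16.FLF7
import Mathlib.AlgebraicGeometry.FunctionField
import Mathlib.RingTheory.OrderOfVanishing.Noetherian

/-!
# Orders of rational sections of invertible modules (helper16)

* `ordFrac_algebraMap_of_isUnit`: `CycAlg.ordFrac` vanishes on (images of) units.
* `stalkSpecializes_smul`: semilinearity of the specialization maps of stalks of modules.
* `secOrdAt_eq_zero_of_unit`: the order of a rational section `s = a • t` along `x` vanishes if `t`
  generates `L_x` and `a` is a unit at `x`.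
* `locallyFinite_secOrdAt_ne_zero`: local finiteness of the divisor of a rational section.
-/

set_option autoImplicit false
universe u
open CategoryTheory CategoryTheory.Limits AlgebraicGeometry TopologicalSpace Opposite

namespace Groth.Agent.Lib.helper16.SecOrd

open Groth.Agent.Lib.helper16.QCohAss Groth.Agent.Lib.helper16.FLF

theorem ordFrac_algebraMap_of_isUnit (R : Type u) [CommRing R] (K : Type u) [Field K]
    [Algebra R K] {r : R} (hr : IsUnit r) : CycAlg.ordFrac R K (algebraMap R K r) = 0 := by
  unfold CycAlg.ordFrac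
  split_ifs with h
  · haveI := h.1; haveI := h.2.1; haveI := h.2.2.1; haveI := h.2.2.2
    haveI : IsDomain R := (IsFractionRing.injective R K).isDomain
    rw [Ring.ordFrac_of_isUnit hr]
    rfl
  · rfl

variable {X : Scheme.{u}}

theorem stalkSpecializes_smul (L : X.Modules) {x ξ : X} (h : ξ ⤳ x)
    (a : X.presheaf.stalk x) (m : L.presheaf.stalk x) :
    L.presheaf.stalkSpecializes h (a • m) =
      X.presheaf.stalkSpecializes h a • L.presheaf.stalkSpecializes h m := by
  obtain ⟨U, hxU, a', rfl⟩ := TopCat.Presheaf.exists_germ_eq _ a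
  obtain ⟨V, hxV, m', rfl⟩ := TopCat.Presheaf.exists_germ_eq _ m
  have hxW : x ∈ U ⊓ V := ⟨hxU, hxV⟩
  have hξW : ξ ∈ U ⊓ V := h.mem_open (U ⊓ V).isOpen hxW
  have ha : (X.presheaf.germ U x hxU).hom a' =
      (X.presheaf.germ (U ⊓ V) x hxW).hom (X.presheaf.map (homOfLE inf_le_left).op a') :=
    (TopCat.Presheaf.germ_res_apply X.presheaf (homOfLE inf_le_left) x hxW a').symm
  have hm : (L.presheaf.germ V x hxV).hom m' =
      (L.presheaf.germ (U ⊓ V) x hxW).hom (L.presheaf.map (homOfLE inf_le_right).op m') :=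
    (TopCat.Presheaf.germ_res_apply L.presheaf (homOfLE inf_le_right) x hxW m').symm
  have e1 : ∀ (s : Γ(L, U ⊓ V)), L.presheaf.stalkSpecializes h ((L.presheaf.germ (U ⊓ V) x hxW).hom s) =
      (L.presheaf.germ (U ⊓ V) ξ hξW).hom s := fun s =>
    ConcreteCategory.congr_hom (TopCat.Presheaf.germ_stalkSpecializes L.presheaf hxW h) s
  have e2 : ∀ (s : Γ(X, U ⊓ V)), X.presheaf.stalkSpecializes h ((X.presheaf.germ (U ⊓ V) x hxW).hom s) =
      (X.presheaf.germ (U ⊓ V) ξ hξW).hom s := fun s =>
    ConcreteCategory.congr_hom (TopCat.Presheaf.germ_stalkSpecializes X.presheaf hxW h) s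
  change L.presheaf.stalkSpecializes h ((X.presheaf.germ U x hxU).hom a' • (L.presheaf.germ V x hxV).hom m') =
    X.presheaf.stalkSpecializes h ((X.presheaf.germ U x hxU).hom a') •
      L.presheaf.stalkSpecializes h ((L.presheaf.germ V x hxV).hom m')
  rw [ha, hm, ← germ_smul', e1, e1, e2, germ_smul']

theorem isUnit_of_ne_zero_functionField [IsIntegral X] (c : X.presheaf.stalk (genericPoint X))
    (hc : c ≠ 0) : IsUnit c :=
  (isUnit_iff_ne_zero (a := (c : X.functionField))).2 hc

theorem eq_of_smul_eq_smul_functionField [IsIntegral X] {V : Type*} [AddCommGroup V]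
    [Module (X.presheaf.stalk (genericPoint X)) V] {e : V} (he : e ≠ 0)
    {c d : X.presheaf.stalk (genericPoint X)} (h : c • e = d • e) : c = d := by
  by_contra hne
  have hu := isUnit_of_ne_zero_functionField (c - d) (sub_ne_zero.2 hne)
  have h0 : (c - d) • e = 0 := by rw [sub_smul, h, sub_self]
  exact he (hu.smul_eq_zero.1 h0)

theorem stalkSpecializes_injective [IsIntegral X] {x : X} (h : genericPoint X ⤳ x) :
    Function.Injective (X.presheaf.stalkSpecializes h).hom :=
  IsFractionRing.injective (X.presheaf.stalk x) X.functionField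

theorem secOrdAt_eq_zero_of_unit [IsIntegral X] (L : X.Modules) (x : X)
    (h : genericPoint X ⤳ x) (s : Cyc.secFibre L (genericPoint X)) (hs : s ≠ 0)
    (g : L.presheaf.stalk x) (hg : Submodule.span (X.presheaf.stalk x) {g} = ⊤)
    (a : X.presheaf.stalk x) (ha : IsUnit a)
    (hsa : s = (X.presheaf.stalkSpecializes h).hom a •
      (Submodule.Quotient.mk (L.presheaf.stalkSpecializes h g) :
        Cyc.secFibre L (genericPoint X))) :
    Cyc.secOrdAt L (genericPoint X) x h s = 0 := by
  unfold Cyc.secOrdAt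
  split_ifs with ht hφ
  · have ht' := Classical.choose_spec ht
    have hφ' := Classical.choose_spec hφ
    set t' := Classical.choose ht
    set φ' := Classical.choose hφ
    obtain ⟨u, hu⟩ : ∃ u : X.presheaf.stalk x, u • g = t' :=
      Submodule.mem_span_singleton.1 (hg ▸ Submodule.mem_top)
    obtain ⟨v, hv⟩ : ∃ v : X.presheaf.stalk x, v • t' = g :=
      Submodule.mem_span_singleton.1 (ht' ▸ Submodule.mem_top)
    set sp := (X.presheaf.stalkSpecializes h).hom with hsp
    set e : Cyc.secFibre L (genericPoint X) :=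
      Submodule.Quotient.mk (L.presheaf.stalkSpecializes h g) with he_def
    have he : e ≠ 0 := by
      intro he
      apply hs
      rw [hsa, he, smul_zero]
    have h3 : (Submodule.Quotient.mk (L.presheaf.stalkSpecializes h t') :
        Cyc.secFibre L (genericPoint X)) = sp u • e := by
      rw [← hu, stalkSpecializes_smul]
      rfl
    have h4 : (1 : X.presheaf.stalk (genericPoint X)) • e = (sp v * sp u) • e := by
      rw [one_smul, mul_smul, ← h3]
      conv_lhs => rw [he_def, ← hv, stalkSpecializes_smul]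
      rfl
    have h5 : sp v * sp u = 1 := (eq_of_smul_eq_smul_functionField he h4).symm
    have h6 : v * u = 1 := stalkSpecializes_injective h (by
      change sp (v * u) = sp 1
      rw [map_mul, h5, map_one])
    have h7 : s = (φ' * sp u) • e := by
      rw [mul_smul, ← h3]
      exact hφ'
    have h8 : φ' * sp u = sp a := eq_of_smul_eq_smul_functionField he (h7.symm.trans hsa)
    have h9 : φ' = sp (a * v) := by
      rw [map_mul, ← h8, mul_assoc, mul_comm (sp u), h5, mul_one]
    have hav : IsUnit (a * v) := ha.mul (IsUnit.of_mul_eq_one u h6)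
    have h10 : (X.residue (genericPoint X)) φ' =
        algebraMap (Cyc.LocQuot x (genericPoint X) h) (X.residueField (genericPoint X))
          (Ideal.Quotient.mk _ (a * v)) := by
      rw [h9]
      rfl
    rw [h10]
    exact ordFrac_algebraMap_of_isUnit _ _ (hav.map _)
  · rfl
  · rfl

/-- a point of codimension one has no proper generization other than the generic point -/
theorem eq_of_coheight_eq_one [IsIntegral X] {x z : X} (hx : Order.coheight x = 1) (hzx : z ⤳ x)
    (hz : z ≠ genericPoint X) : z = x := by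
  by_contra hne
  have h1 : x < z := by
    refine lt_of_le_not_ge hzx fun h => hne ?_
    exact (Specializes.antisymm h hzx).eq.symm
  have h2 : z < genericPoint X := by
    refine lt_of_le_not_ge (genericPoint_specializes z) fun h => hz ?_
    exact (Specializes.antisymm h (genericPoint_specializes z)).eq
  have h3 := Order.coheight_add_one_le h1
  have h4 := Order.coheight_add_one_le h2
  rw [hx] at h3
  have h5 : (1 : ℕ∞) + 1 ≤ 1 := by
    calc (1 : ℕ∞) + 1 ≤ Order.coheight (genericPoint X) + 1 + 1 := by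
          gcongr; exact le_add_self
      _ ≤ Order.coheight z + 1 := by gcongr
      _ ≤ 1 := h3
  exact absurd h5 (by decide)

/-- the points of codimension one of a locally Noetherian integral scheme lying in an affine open `W`
and outside a nonempty open `U₀` are finite in number -/
theorem finite_codim_one_compl [IsIntegral X] [IsLocallyNoetherian X] {W : X.Opens}
    (hW : IsAffineOpen W) (U₀ : X.Opens) (hη : genericPoint X ∈ U₀) :
    {x : X | x ∈ W ∧ x ∉ U₀ ∧ Order.coheight x = 1}.Finite := by
  haveI : IsNoetherianRing Γ(X, W) := IsLocallyNoetherian.component_noetherian ⟨W, hW⟩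
  haveI : NoetherianSpace W := noetherianSpace_of_isAffineOpen W hW
  have hZ : IsClosed (W.ι ⁻¹' ((U₀ : Set X)ᶜ) : Set (W : Scheme.{u})) :=
    (U₀.isOpen.isClosed_compl).preimage W.ι.continuous
  obtain ⟨S, hSf, hSc, hSi, hSU⟩ := NoetherianSpace.exists_finite_set_isClosed_irreducible hZ
  classical
  let f : Set (W : Scheme.{u}) → X := fun t =>
    if h : IsIrreducible t then W.ι (h.genericPoint) else genericPoint X
  refine (hSf.image f).subset ?_
  rintro x ⟨hxW, hxU, hx1⟩
  obtain ⟨x', rfl⟩ : x ∈ Set.range W.ι := by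
    rw [Scheme.Opens.range_ι]; exact hxW
  have hxZ : x' ∈ (W.ι ⁻¹' ((U₀ : Set X)ᶜ) : Set (W : Scheme.{u})) := hxU
  rw [hSU] at hxZ
  obtain ⟨t, ht, hxt⟩ := hxZ
  have hgen := (hSi t ht).isGenericPoint_genericPoint (hSc t ht)
  set z : (W : Scheme.{u}) := (hSi t ht).genericPoint with hz_def
  have hzt : z ∈ t := hgen.mem
  have hzZ : z ∈ (W.ι ⁻¹' ((U₀ : Set X)ᶜ) : Set (W : Scheme.{u})) := by
    rw [hSU]; exact ⟨t, ht, hzt⟩
  have hzη : W.ι z ≠ genericPoint X := fun h => hzZ (h ▸ hη)
  have hzx : z ⤳ x' := by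
    rw [specializes_iff_mem_closure, hgen.def]
    exact hxt
  have hzx' : W.ι z ⤳ W.ι x' := hzx.map W.ι.continuous
  have := eq_of_coheight_eq_one hx1 hzx' hzη
  refine ⟨t, ht, ?_⟩
  simp only [f, dif_pos (hSi t ht)]
  exact this

theorem locallyFinite_secOrdAt_ne_zero (X : Scheme.{u}) [IsIntegral X] [IsLocallyNoetherian X]
    (L : X.Modules) (hL : PicF.IsInvertible L) (s : Cyc.secFibre L (genericPoint ↥X))
    (hs : s ≠ 0) :
    LocallyFinite (fun x : {x : ↥X // ringKrullDim ↑(X.presheaf.stalk x) = 1 ∧
        Cyc.secOrdAt L (genericPoint ↥X) x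
          ((genericPoint_spec ↥X).specializes (Set.mem_univ x)) s ≠ 0} =>
      closure ({x.1} : Set ↥X)) := by
  intro y
  have hL1 := (isInvertible_iff_isFinLocFreeOfRank_one L).1 hL
  haveI : L.IsQuasicoherent :=
    isQuasicoherent_of_isFinLocFree L (isFinLocFree_of_isFinLocFreeOfRank hL1)
  obtain ⟨W, hW, hyW, -, ⟨e⟩⟩ := exists_affine_free_sections_of_isFinLocFreeOfRank L hL1 y
  let t : Fin 1 → Γ(L, W) := fun _ => e.symm (fun _ => 1)
  have ht : Submodule.span Γ(X, W) (Set.range t) = ⊤ := by
    rw [eq_top_iff]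
    intro m _
    have hm : m = (e m 0) • t 0 := by
      apply e.injective
      rw [map_smul]
      simp only [t, LinearEquiv.apply_symm_apply]
      funext i
      fin_cases i
      simp
    rw [hm]
    exact Submodule.smul_mem _ _ (Submodule.subset_span ⟨0, rfl⟩)
  have hgen : ∀ (x : X) (hx : x ∈ W), Submodule.span (X.presheaf.stalk x)
      {(L.presheaf.germ W x hx).hom (t 0)} = ⊤ := by
    intro x hx
    have h1 := span_germ_eq_top L hW t ht x hx
    rwa [Set.range_unique] at h1
  have hηW : genericPoint X ∈ W := (genericPoint_specializes y).mem_open W.isOpen hyW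
  obtain ⟨s', hs'⟩ := Submodule.Quotient.mk_surjective _ s
  obtain ⟨c₀, hc₀⟩ : ∃ c₀ : X.presheaf.stalk (genericPoint X),
      c₀ • (L.presheaf.germ W (genericPoint X) hηW).hom (t 0) = s' :=
    Submodule.mem_span_singleton.1 (hgen (genericPoint X) hηW ▸ Submodule.mem_top)
  have hc₀ne : c₀ ≠ 0 := by
    rintro rfl
    apply hs
    rw [← hs', ← hc₀, zero_smul]
    rfl
  obtain ⟨U₀, hU₀, a₁, hne, hgerm, hunit⟩ := exists_isUnit_germ_eq (X := X) c₀ hc₀ne
  have hηU₀ : genericPoint X ∈ U₀ :=
    ((genericPoint_spec X).mem_open_set_iff U₀.isOpen).mpr (by simpa using hne)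
  have key : ∀ (x : X) (hxW : x ∈ W) (hxU : x ∈ U₀) (h : genericPoint X ⤳ x),
      Cyc.secOrdAt L (genericPoint X) x h s = 0 := by
    intro x hxW hxU h
    refine secOrdAt_eq_zero_of_unit L x h _ hs ((L.presheaf.germ W x hxW).hom (t 0)) (hgen x hxW)
      ((X.presheaf.germ U₀ x hxU).hom a₁) (hunit.map _) ?_
    have e1 : (X.presheaf.stalkSpecializes h).hom ((X.presheaf.germ U₀ x hxU).hom a₁) = c₀ := by
      rw [← hgerm]
      exact ConcreteCategory.congr_hom (TopCat.Presheaf.germ_stalkSpecializes X.presheaf hxU h) a₁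
    have e2 : L.presheaf.stalkSpecializes h ((L.presheaf.germ W x hxW).hom (t 0)) =
        (L.presheaf.germ W (genericPoint X) hηW).hom (t 0) :=
      ConcreteCategory.congr_hom (TopCat.Presheaf.germ_stalkSpecializes L.presheaf hxW h) (t 0)
    rw [e1, e2, ← hs', ← hc₀]
    rfl
  have hT := finite_codim_one_compl hW U₀ hηU₀
  refine ⟨W, W.isOpen.mem_nhds hyW, ?_⟩
  apply (hT.preimage Subtype.val_injective.injOn).subset
  rintro ⟨x, hdim, hord⟩ ⟨z, hz1, hz2⟩
  have hxz : x ⤳ z := specializes_iff_mem_closure.2 hz1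
  have hxW : x ∈ W := hxz.mem_open W.isOpen hz2
  refine ⟨hxW, fun hxU => hord (key x hxW hxU _), ?_⟩
  have h1 := ringKrullDim_stalk_eq_coheight x
  rw [hdim] at h1
  exact_mod_cast h1.symm

end Groth.Agent.Lib.helper16.SecOrd
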