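import Groth.Agent.Lib.Helper16.CycOpen2
import Groth.Agent.Lib.Helper16.SecOrd

/-!
# Principal divisors have locally finite support (helper16)

* `finite_immediate_compl`: finitely many immediate specializations of `ξ` in an affine open `W`
  outside an open neighbourhood `U₀` of `ξ` (locally Noetherian case).
* `exists_open_ordAt_eq_zero`: a nonzero `f ∈ κ(ξ)` has order zero along `ξ ⤳ x` for `x` in an open
  neighbourhood of `ξ`.
* `finite_divFun_ne_zero`: the principal divisor of `f ∈ κ(ξ)^*` has finite support in every affine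
  open.
-/

set_option autoImplicit false
universe u
open CategoryTheory CategoryTheory.Limits AlgebraicGeometry TopologicalSpace Opposite

namespace Groth.Agent.Lib.helper16.CycOpen

open Groth.Agent.Lib.helper16.SecOrd

variable {X : Scheme.{u}}

theorem finite_immediate_compl [IsLocallyNoetherian X] {W : X.Opens} (hW : IsAffineOpen W)
    (ξ : X) (U₀ : X.Opens) (hξ : ξ ∈ U₀) :
    {x : X | x ∈ W ∧ x ∉ U₀ ∧ ξ ⤳ x ∧ ∀ z, ξ ⤳ z → z ⤳ x → z = ξ ∨ z = x}.Finite := by
  haveI : IsNoetherianRing Γ(X, W) := IsLocallyNoetherian.component_noetherian ⟨W, hW⟩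
  haveI : NoetherianSpace W := noetherianSpace_of_isAffineOpen W hW
  have hZ : IsClosed (W.ι ⁻¹' (closure {ξ} ∩ (U₀ : Set X)ᶜ) : Set (W : Scheme.{u})) :=
    (isClosed_closure.inter U₀.isOpen.isClosed_compl).preimage W.ι.continuous
  obtain ⟨S, hSf, hSc, hSi, hSU⟩ := NoetherianSpace.exists_finite_set_isClosed_irreducible hZ
  classical
  let f : Set (W : Scheme.{u}) → X := fun t =>
    if h : IsIrreducible t then W.ι (h.genericPoint) else ξ
  refine (hSf.image f).subset ?_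
  rintro x ⟨hxW, hxU, hξx, himm⟩
  obtain ⟨x', rfl⟩ : x ∈ Set.range W.ι := by
    rw [Scheme.Opens.range_ι]; exact hxW
  have hxZ : x' ∈ (W.ι ⁻¹' (closure {ξ} ∩ (U₀ : Set X)ᶜ) : Set (W : Scheme.{u})) :=
    ⟨specializes_iff_mem_closure.1 hξx, hxU⟩
  rw [hSU] at hxZ
  obtain ⟨t, ht, hxt⟩ := hxZ
  have hgen := (hSi t ht).isGenericPoint_genericPoint (hSc t ht)
  set z : (W : Scheme.{u}) := (hSi t ht).genericPoint with hz_def
  have hzt : z ∈ t := hgen.mem
  have hzZ : z ∈ (W.ι ⁻¹' (closure {ξ} ∩ (U₀ : Set X)ᶜ) : Set (W : Scheme.{u})) := by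
    rw [hSU]; exact ⟨t, ht, hzt⟩
  have hzξ : W.ι z ≠ ξ := fun h => hzZ.2 (h ▸ hξ)
  have hξz : ξ ⤳ W.ι z := specializes_iff_mem_closure.2 hzZ.1
  have hzx : z ⤳ x' := by
    rw [specializes_iff_mem_closure, hgen.def]
    exact hxt
  have hzx' : W.ι z ⤳ W.ι x' := hzx.map W.ι.continuous
  have := (himm _ hξz hzx').resolve_left hzξ
  refine ⟨t, ht, ?_⟩
  simp only [f, dif_pos (hSi t ht)]
  exact this

theorem exists_open_ordAt_eq_zero (ξ : X) (f : X.residueField ξ) (hf : f ≠ 0) :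
    ∃ U₀ : X.Opens, ξ ∈ U₀ ∧ ∀ (x : X) (h : ξ ⤳ x), x ∈ U₀ → Cyc.ordAt x ξ h f = 0 := by
  obtain ⟨φ, rfl⟩ := X.residue_surjective ξ f
  obtain ⟨U₁, hξU₁, a, rfl⟩ := TopCat.Presheaf.exists_germ_eq _ φ
  refine ⟨X.basicOpen a, ?_, ?_⟩
  · rw [Scheme.mem_basicOpen X a ξ hξU₁]
    by_contra hnu
    apply hf
    exact (IsLocalRing.residue_eq_zero_iff _).2 ((IsLocalRing.mem_maximalIdeal _).2 hnu)
  · intro x h hx
    have hxU₁ : x ∈ U₁ := X.basicOpen_le a hx
    have hu : IsUnit ((X.presheaf.germ U₁ x hxU₁).hom a) :=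
      (Scheme.mem_basicOpen X a x hxU₁).1 hx
    have h1 : (X.residue ξ) ((X.presheaf.germ U₁ ξ hξU₁).hom a) =
        algebraMap (Cyc.LocQuot x ξ h) (X.residueField ξ)
          (Ideal.Quotient.mk _ ((X.presheaf.germ U₁ x hxU₁).hom a)) := by
      change _ = Cyc.specMap x ξ h ((X.presheaf.germ U₁ x hxU₁).hom a)
      unfold Cyc.specMap
      have := ConcreteCategory.congr_hom
        (TopCat.Presheaf.germ_stalkSpecializes X.presheaf hxU₁ h) a
      simp only [CommRingCat.hom_comp, RingHom.coe_comp, Function.comp_apply] at this ⊢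
      erw [this]
    unfold Cyc.ordAt
    erw [h1]
    exact ordFrac_algebraMap_of_isUnit _ _ (hu.map _)

theorem finite_divFun_ne_zero [IsLocallyNoetherian X] (δ : X → ℤ) (hδ : Cyc.IsDimFun X δ)
    {W : X.Opens} (hW : IsAffineOpen W) (ξ : X) (f : X.residueField ξ) (hf : f ≠ 0) :
    {x : X | x ∈ W ∧ Cyc.divFun δ ξ f x ≠ 0}.Finite := by
  obtain ⟨U₀, hξU₀, hU₀⟩ := exists_open_ordAt_eq_zero ξ f hf
  refine (finite_immediate_compl hW ξ U₀ hξU₀).subset ?_
  rintro x ⟨hxW, hx⟩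
  unfold Cyc.divFun at hx
  split_ifs at hx with h
  · refine ⟨hxW, fun hxU => hx (hU₀ x h.1 hxU), h.1, ?_⟩
    intro z hξz hzx
    by_contra hne
    rw [not_or] at hne
    have h1 := (hδ ξ z hξz (Ne.symm hne.1)).1
    have h2 := (hδ z x hzx hne.2).1
    omega
  · exact absurd rfl hx

end Groth.Agent.Lib.helper16.CycOpen
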