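import Mathlib

/-!
# Faithfully flat descent of modules: effectiveness, coaction form

Adapted from the proof of `Groth.Agent.S19547.result` (helper8): the descent datum is given by its
"coaction" `φ₁ : N → B ⊗ N` (so that `φ (u ⊗ b) = (1 ⊗ b) • φ₁ u`), and only the coassociativity
`(id ⊗ φ₁) ∘ φ₁ = (id ⊗ η) ∘ φ₁` is required.
-/

set_option autoImplicit false
universe u
open TensorProduct

namespace Groth.Agent.Lib.helper16.Desc1

variable (R B N : Type u) [CommRing R] [CommRing B] [Algebra R B]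
  [AddCommGroup N] [Module R N] [Module B N] [IsScalarTower R B N]

/-- `L_b = id ⊗ (b • ·)` on `B ⊗ N`. -/
noncomputable def Lb : B →ₗ[R] (B ⊗[R] N →ₗ[R] B ⊗[R] N) :=
  (LinearMap.lTensorHom B) ∘ₗ (Algebra.lsmul R R N).toLinearMap

@[simp] lemma Lb_tmul (b c : B) (n : N) : Lb R B N b (c ⊗ₜ[R] n) = c ⊗ₜ[R] (b • n) := by
  simp [Lb]

variable {R B N}

theorem core [Module.FaithfullyFlat R B] (φ₁ : N →ₗ[R] B ⊗[R] N)
    (φ : N ⊗[R] B →ₗ[R] B ⊗[R] N) (hφ : Function.Bijective φ)
    (hφ₁ : ∀ (u : N) (b : B), φ (u ⊗ₜ[R] b) = Lb R B N b (φ₁ u))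
    (hco : ∀ u : N, LinearMap.lTensor B φ₁ (φ₁ u) =
      LinearMap.lTensor B (TensorProduct.mk R B N 1) (φ₁ u))
    (M : Submodule R N) (hM : ∀ u : N, u ∈ M ↔ φ₁ u = (1 : B) ⊗ₜ[R] u) :
    Function.Bijective
      ((TensorProduct.lift (Algebra.lsmul R R N).toLinearMap) ∘ₗ (LinearMap.lTensor B M.subtype)) := by
  classical
  set D2 : N →ₗ[R] B ⊗[R] N := TensorProduct.mk R B N 1 with hD2
  have hMker : M = LinearMap.ker (φ₁ - D2) := by
    ext u
    rw [hM, LinearMap.mem_ker, LinearMap.sub_apply, sub_eq_zero]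
    simp [hD2]
  have step1 : ∀ (u : M) (a : B), φ ((u : N) ⊗ₜ[R] a) = (1 : B) ⊗ₜ[R] (a • (u : N)) := by
    intro u a
    rw [hφ₁, (hM _).mp u.2, Lb_tmul]
  set lam' : M ⊗[R] B →ₗ[R] N :=
    TensorProduct.lift ((Algebra.lsmul R R N).toLinearMap.flip ∘ₗ M.subtype) with hlam'
  have hlam'_tmul : ∀ (u : M) (a : B), lam' (u ⊗ₜ a) = a • (u : N) := by
    intro u a; simp [hlam']
  set θ : M ⊗[R] B →ₗ[R] B ⊗[R] N := φ ∘ₗ LinearMap.rTensor B M.subtype with hθ
  have hθ_eq : θ = D2 ∘ₗ lam' := by
    apply TensorProduct.ext'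
    intro u a
    simp only [hθ, LinearMap.comp_apply, LinearMap.rTensor_tmul, Submodule.subtype_apply, step1,
      hlam'_tmul, hD2, TensorProduct.mk_apply]
  have hθ_inj : Function.Injective θ := by
    rw [hθ, LinearMap.coe_comp]
    exact hφ.1.comp (Module.Flat.rTensor_preserves_injective_linearMap _ M.subtype_injective)
  have hD2_inj : Function.Injective D2 := Module.FaithfullyFlat.tensorProduct_mk_injective N
  have hlam'_inj : Function.Injective lam' := by
    have : Function.Injective (D2 ∘ lam') := by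
      rw [← LinearMap.coe_comp, ← hθ_eq]; exact hθ_inj
    exact this.of_comp
  have hlam'_surj : Function.Surjective lam' := by
    intro w
    obtain ⟨y, hy⟩ := hφ.2 ((1 : B) ⊗ₜ[R] w)
    set Φ : (B ⊗[R] N) ⊗[R] B →ₗ[R] B ⊗[R] (B ⊗[R] N) :=
      LinearMap.lTensor B φ ∘ₗ (TensorProduct.assoc R B N B).toLinearMap with hΦ
    have hΦ_inj : Function.Injective Φ := by
      rw [hΦ, LinearMap.coe_comp]
      exact (Module.Flat.lTensor_preserves_injective_linearMap _ hφ.1).comp
        (TensorProduct.assoc R B N B).injective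
    -- key: Φ (x ⊗ b) = (id ⊗ L_b) ((id ⊗ φ₁) x)
    have hΦx : ∀ (x : B ⊗[R] N) (b : B), Φ (x ⊗ₜ[R] b) =
        LinearMap.lTensor B (Lb R B N b) (LinearMap.lTensor B φ₁ x) := by
      intro x b
      induction x using TensorProduct.induction_on with
      | zero => simp
      | tmul c n => simp [hΦ, hφ₁]
      | add x y hx hy => rw [TensorProduct.add_tmul, map_add, hx, hy, map_add, map_add]
    have e1 : Φ ∘ₗ LinearMap.rTensor B φ₁ =
        LinearMap.lTensor B (TensorProduct.mk R B N 1) ∘ₗ φ := by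
      apply TensorProduct.ext'
      intro u b
      simp only [LinearMap.comp_apply, LinearMap.rTensor_tmul]
      rw [hΦx, hco, hφ₁]
      generalize φ₁ u = x
      induction x using TensorProduct.induction_on with
      | zero => simp
      | tmul c n => simp [hD2]
      | add x y hx hy => simp only [map_add, hx, hy]
    have e2 : Φ ∘ₗ LinearMap.rTensor B D2 = TensorProduct.mk R B (B ⊗[R] N) 1 ∘ₗ φ := by
      apply TensorProduct.ext'
      intro u b
      simp [hΦ, hD2]
    have hker : LinearMap.rTensor B (φ₁ - D2) y = 0 := by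
      rw [LinearMap.rTensor_sub]
      show LinearMap.rTensor B φ₁ y - LinearMap.rTensor B D2 y = 0
      rw [sub_eq_zero]
      apply hΦ_inj
      have a1 := congrArg (fun f => f y) e1
      have a2 := congrArg (fun f => f y) e2
      simp only [LinearMap.comp_apply] at a1 a2
      rw [a1, a2, hy]
      simp
    have hex : Function.Exact (LinearMap.rTensor B M.subtype) (LinearMap.rTensor B (φ₁ - D2)) := by
      apply Module.Flat.rTensor_exact
      rw [hMker]
      exact LinearMap.exact_subtype_ker_map _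
    obtain ⟨y', hy'⟩ := (hex y).mp hker
    refine ⟨y', hD2_inj ?_⟩
    have := congrArg (fun f => f y') hθ_eq
    simp only [LinearMap.comp_apply] at this
    rw [← this, hθ, LinearMap.comp_apply, hy', hy]
    rfl
  have hcomp : ((TensorProduct.lift (Algebra.lsmul R R N).toLinearMap) ∘ₗ (LinearMap.lTensor B M.subtype))
      = lam' ∘ₗ (TensorProduct.comm R B M).toLinearMap := by
    apply TensorProduct.ext'
    intro a u
    simp [hlam'_tmul]
  rw [hcomp, LinearMap.coe_comp]
  exact ⟨hlam'_inj.comp (TensorProduct.comm R B M).injective,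
    hlam'_surj.comp (TensorProduct.comm R B M).surjective⟩

end Groth.Agent.Lib.helper16.Desc1
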