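import Mathlib
import Groth.Prelude.Def_Desc

/-!
# Element-level description of `Desc.ringModPF`
-/

set_option autoImplicit false
set_option backward.isDefEq.respectTransparency false
set_option backward.isDefEq.respectTransparency.types false
universe u
open CategoryTheory Opposite TensorProduct ModuleCat ChangeOfRings

namespace Groth.Agent.Lib.helper16.Desc2

variable {A C C' : CommRingCat.{u}} (f : A ⟶ C) (g : C ⟶ C')

theorem map_eq : (Desc.ringModPF.{u}.map f.op.op.toLoc).toFunctor = ModuleCat.extendScalars f.hom := rfl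

theorem mc_iso : Desc.ringModPF.{u}.mapComp (f.op.op.toLoc) (g.op.op.toLoc) =
    CommRingCat.moduleCatExtendScalarsPseudofunctor.{u}.map₂Iso (Iso.refl (f.toLoc ≫ g.toLoc)) ≪≫
      CommRingCat.moduleCatExtendScalarsPseudofunctor.{u}.mapComp f.toLoc g.toLoc := rfl

theorem mc_eq (M : ModuleCat.{u} A) :
   ((Desc.ringModPF.{u}.mapComp (f.op.op.toLoc) (g.op.op.toLoc)).hom.toNatTrans.app M) =
     (ModuleCat.extendScalarsComp f.hom g.hom).hom.app M := by
  rw [mc_iso]
  simp
  erw [Category.id_comp]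
  rfl

/-- The component of `mapComp'` of `Desc.ringModPF`, as a morphism of modules. -/
noncomputable def mcHom (fg : A ⟶ C') (h : f ≫ g = fg) (M : ModuleCat.{u} A) :
    (extendScalars fg.hom).obj M ⟶ (extendScalars g.hom).obj ((extendScalars f.hom).obj M) :=
  (Desc.ringModPF.{u}.mapComp' (f.op.op.toLoc) (g.op.op.toLoc) (fg.op.op.toLoc)
    (by subst h; rfl)).hom.toNatTrans.app M

/-- The inverse component of `mapComp'` of `Desc.ringModPF`, as a morphism of modules. -/
noncomputable def mcInv (fg : A ⟶ C') (h : f ≫ g = fg) (M : ModuleCat.{u} A) :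
    (extendScalars g.hom).obj ((extendScalars f.hom).obj M) ⟶ (extendScalars fg.hom).obj M :=
  (Desc.ringModPF.{u}.mapComp' (f.op.op.toLoc) (g.op.op.toLoc) (fg.op.op.toLoc)
    (by subst h; rfl)).inv.toNatTrans.app M

variable {f g}

@[reassoc (attr := simp)]
theorem mcHom_mcInv (fg : A ⟶ C') (h : f ≫ g = fg) (M : ModuleCat.{u} A) :
    mcHom f g fg h M ≫ mcInv f g fg h M = 𝟙 _ :=
  Cat.Hom.hom_inv_id_toNatTrans_app _ _

@[reassoc (attr := simp)]
theorem mcInv_mcHom (fg : A ⟶ C') (h : f ≫ g = fg) (M : ModuleCat.{u} A) :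
    mcInv f g fg h M ≫ mcHom f g fg h M = 𝟙 _ :=
  Cat.Hom.inv_hom_id_toNatTrans_app _ _

theorem mcHom_one_tmul (fg : A ⟶ C') (h : f ≫ g = fg) (M : ModuleCat.{u} A) (m : M) :
    mcHom f g fg h M ((1 : C') ⊗ₜ[A, fg.hom] m) =
      (1 : C') ⊗ₜ[C, g.hom] ((1 : C) ⊗ₜ[A, f.hom] m) := by
  subst h
  unfold mcHom
  have := Pseudofunctor.mapComp'_eq_mapComp Desc.ringModPF.{u} (f.op.op.toLoc) (g.op.op.toLoc)
  erw [this]
  rw [mc_eq]
  exact ModuleCat.extendScalarsComp_hom_app_one_tmul f.hom g.hom M m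


/-- Pure tensors in `(extendScalars f).obj M`. -/
noncomputable def tm (f : A ⟶ C) (M : ModuleCat.{u} A) (t : C) (m : M) : (extendScalars f.hom).obj M :=
  t ⊗ₜ[A, f.hom] m

section tm
variable (f : A ⟶ C) (M : ModuleCat.{u} A)

@[simp] theorem smul_tm (s t : C) (m : M) : s • tm f M t m = tm f M (s * t) m := rfl

theorem tm_add_left (t t' : C) (m : M) : tm f M (t + t') m = tm f M t m + tm f M t' m := by
  let _ := Module.compHom C f.hom
  exact TensorProduct.add_tmul (R := A) t t' m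

theorem tm_add_right (t : C) (m m' : M) : tm f M t (m + m') = tm f M t m + tm f M t m' := by
  let _ := Module.compHom C f.hom
  exact TensorProduct.tmul_add (R := A) t m m'

@[simp] theorem tm_zero_left (m : M) : tm f M 0 m = 0 := by
  let _ := Module.compHom C f.hom
  exact TensorProduct.zero_tmul (R := A) _ m

@[simp] theorem tm_zero_right (t : C) : tm f M t 0 = 0 := by
  let _ := Module.compHom C f.hom
  exact TensorProduct.tmul_zero (R := A) _ t

theorem tm_balanced (t : C) (a : A) (m : M) : tm f M (t * f.hom a) m = tm f M t (a • m) := by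
  let _ := Module.compHom C f.hom
  have := TensorProduct.smul_tmul (R := A) (R' := A) (M := C) (N := M) a t m
  rw [mul_comm]
  exact this

theorem tm_balanced' (t : C) (a : A) (m : M) : tm f M (f.hom a * t) m = tm f M t (a • m) := by
  rw [mul_comm, tm_balanced]

theorem tm_eq_smul_one (t : C) (m : M) : tm f M t m = t • tm f M 1 m := by
  rw [smul_tm, mul_one]

@[elab_as_elim]
theorem E_induction {motive : (extendScalars f.hom).obj M → Prop}
    (zero : motive 0) (tm : ∀ t m, motive (tm f M t m))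
    (add : ∀ x y, motive x → motive y → motive (x + y)) (x : (extendScalars f.hom).obj M) :
    motive x := by
  let _ := Module.compHom C f.hom
  exact TensorProduct.induction_on (R := A) (M := C) (N := M) x zero tm add

theorem map_tm {M M' : ModuleCat.{u} A} (φ : M ⟶ M') (t : C) (m : M) :
    (extendScalars f.hom).map φ (tm f M t m) = tm f M' t (φ m) := rfl

/-- Additive maps out of `(extendScalars f).obj M` from balanced biadditive maps. -/
noncomputable def liftE {P : Type*} [AddCommMonoid P] (F : C →+ M →+ P)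
    (hF : ∀ (a : A) (t : C) (m : M), F (f.hom a * t) m = F t (a • m)) :
    (extendScalars f.hom).obj M →+ P :=
  letI := Module.compHom C f.hom
  TensorProduct.liftAddHom (R := A) (M := C) (N := M) F hF

@[simp] theorem liftE_tm {P : Type*} [AddCommMonoid P] (F : C →+ M →+ P)
    (hF : ∀ (a : A) (t : C) (m : M), F (f.hom a * t) m = F t (a • m)) (t : C) (m : M) :
    liftE f M F hF (tm f M t m) = F t m := by
  let _ := Module.compHom C f.hom
  exact TensorProduct.liftAddHom_tmul (R := A) (M := C) (N := M) F hF t m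

/-- `tm` as a biadditive map. -/
noncomputable def tmHom : C →+ M →+ (extendScalars f.hom).obj M :=
  AddMonoidHom.mk' (fun t => AddMonoidHom.mk' (fun m => tm f M t m) (tm_add_right f M t))
    (by intro t t'; ext m; exact tm_add_left f M t t' m)

@[simp] theorem tmHom_apply (t : C) (m : M) : tmHom f M t m = tm f M t m := rfl

theorem E_addHom_ext {P : Type*} [AddCommMonoid P] {F G : (extendScalars f.hom).obj M →+ P}
    (h : ∀ t m, F (tm f M t m) = G (tm f M t m)) : F = G := by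
  ext x
  induction x using E_induction f M with
  | zero => simp
  | tm t m => exact h t m
  | add x y hx hy => rw [map_add, map_add, hx, hy]

end tm

theorem mcHom_tm (fg : A ⟶ C') (h : f ≫ g = fg) (M : ModuleCat.{u} A) (t : C') (m : M) :
    mcHom f g fg h M (tm fg M t m) = tm g _ t (tm f M 1 m) := by
  rw [tm_eq_smul_one, map_smul]
  erw [mcHom_one_tmul]
  exact (tm_eq_smul_one g _ t (tm f M 1 m)).symm

theorem mcInv_tm (fg : A ⟶ C') (h : f ≫ g = fg) (M : ModuleCat.{u} A) (t : C') (c : C) (m : M) :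
    mcInv f g fg h M (tm g _ t (tm f M c m)) = tm fg M (t * g.hom c) m := by
  have h1 : mcHom f g fg h M (tm fg M (t * g.hom c) m) = tm g _ t (tm f M c m) := by
    rw [mcHom_tm, tm_balanced, smul_tm, mul_one]
  rw [← h1]
  have := ModuleCat.hom_ext_iff.mp (mcHom_mcInv (f := f) (g := g) fg h M)
  exact LinearMap.congr_fun this (tm fg M (t * g.hom c) m)


open Pseudofunctor LocallyDiscreteOpToCat in
theorem pullHom_eq {X₁ X₂ Y Y' : CommRingCat.{u}} (M₁ : ModuleCat.{u} X₁) (M₂ : ModuleCat.{u} X₂)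
    (f₁ : X₁ ⟶ Y) (f₂ : X₂ ⟶ Y)
    (φ : (extendScalars f₁.hom).obj M₁ ⟶ (extendScalars f₂.hom).obj M₂) (l : Y ⟶ Y')
    (gf₁ : X₁ ⟶ Y') (gf₂ : X₂ ⟶ Y') (h₁ : f₁ ≫ l = gf₁) (h₂ : f₂ ≫ l = gf₂) :
    (pullHom (F := Desc.ringModPF.{u}) (X₁ := op X₁) (X₂ := op X₂) (M₁ := M₁) (M₂ := M₂)
      (Y := op Y) (f₁ := f₁.op) (f₂ := f₂.op) φ (Y' := op Y') l.op gf₁.op gf₂.op
      (by subst h₁; rfl) (by subst h₂; rfl)) =
    mcHom f₁ l gf₁ h₁ M₁ ≫ (extendScalars l.hom).map φ ≫ mcInv f₂ l gf₂ h₂ M₂ := rfl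

theorem pullHom_tm {X₁ X₂ Y Y' : CommRingCat.{u}} (M₁ : ModuleCat.{u} X₁) (M₂ : ModuleCat.{u} X₂)
    (f₁ : X₁ ⟶ Y) (f₂ : X₂ ⟶ Y)
    (φ : (extendScalars f₁.hom).obj M₁ ⟶ (extendScalars f₂.hom).obj M₂) (l : Y ⟶ Y')
    (gf₁ : X₁ ⟶ Y') (gf₂ : X₂ ⟶ Y') (h₁ : f₁ ≫ l = gf₁) (h₂ : f₂ ≫ l = gf₂) (t : Y') (m : M₁) :
    (mcHom f₁ l gf₁ h₁ M₁ ≫ (extendScalars l.hom).map φ ≫ mcInv f₂ l gf₂ h₂ M₂) (tm gf₁ M₁ t m) =
      mcInv f₂ l gf₂ h₂ M₂ (tm l _ t (φ (tm f₁ M₁ 1 m))) := by
  simp only [ModuleCat.hom_comp, LinearMap.comp_apply]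
  rw [mcHom_tm, map_tm]


open Pseudofunctor in
theorem ofObj_hom_eq {ι : Type*} {R' B' W : CommRingCat.{u}} (f : R' ⟶ B') (g₁ g₂ : B' ⟶ W)
    (q : R' ⟶ W) (h₁ : f ≫ g₁ = q) (h₂ : f ≫ g₂ = q) (M : ModuleCat.{u} R') (i j : ι) :
    (DescentData.ofObj (F := Desc.ringModPF.{u}) (S := op R') (X := fun _ : ι => op B')
      (f := fun _ : ι => f.op) M).hom (Y := op W) q.op (i₁ := i) (i₂ := j) g₁.op g₂.op
      (by subst h₁; rfl) (by subst h₂; rfl) =
    mcInv f g₁ q h₁ M ≫ mcHom f g₂ q h₂ M := rfl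


theorem hom_ext_tm {f : A ⟶ C} {M : ModuleCat.{u} A} {N : ModuleCat.{u} C}
    {α β : (extendScalars f.hom).obj M ⟶ N}
    (h : ∀ m : M, α (tm f M 1 m) = β (tm f M 1 m)) : α = β :=
  ExtendScalars.hom_ext h

end Groth.Agent.Lib.helper16.Desc2
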