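import Mathlib
import Groth.Prelude.Def_Desc
import Groth.Agent.Lib.Helper16.Desc1
import Groth.Agent.Lib.Helper16.Desc2

/-!
# Bridges between `extendScalars` objects along `B → B ⊗ B`, `B → B ⊗ B ⊗ B` and classical tensors
-/

set_option autoImplicit false
set_option backward.isDefEq.respectTransparency false
set_option backward.isDefEq.respectTransparency.types false
universe u
open CategoryTheory Opposite TensorProduct ModuleCat

namespace Groth.Agent.Lib.helper16.Desc3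

open Desc2

variable (R B : Type u) [CommRing R] [CommRing B] [Algebra R B]

/-- `B` as an object of `CommRingCat`. -/
abbrev cB : CommRingCat.{u} := CommRingCat.of B
/-- `R` as an object of `CommRingCat`. -/
abbrev cR : CommRingCat.{u} := CommRingCat.of R
/-- `B ⊗ B`. -/
abbrev cT₂ : CommRingCat.{u} := CommRingCat.of (B ⊗[R] B)
/-- `B ⊗ (B ⊗ B)`. -/
abbrev cT₃ : CommRingCat.{u} := CommRingCat.of (B ⊗[R] (B ⊗[R] B))

/-- structure map -/
noncomputable abbrev fRB : cR R ⟶ cB B := CommRingCat.ofHom (algebraMap R B)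
/-- `b ↦ b ⊗ 1` -/
noncomputable abbrev p₁ : cB B ⟶ cT₂ R B :=
  CommRingCat.ofHom (S := B ⊗[R] B) (Algebra.TensorProduct.includeLeftRingHom (A := B))
/-- `b ↦ 1 ⊗ b` -/
noncomputable abbrev p₂ : cB B ⟶ cT₂ R B :=
  CommRingCat.ofHom (S := B ⊗[R] B) (Algebra.TensorProduct.includeRight.toRingHom (A := B))

variable (N : Type u) [AddCommGroup N] [Module R N] [Module B N] [IsScalarTower R B N]

/-- the bilinear map `(x ⊗ y, n) ↦ x ⊗ y • n` -/
noncomputable def bil₂ : (B ⊗[R] B) →ₗ[R] N →ₗ[R] B ⊗[R] N :=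
  (LinearMap.lTensorHom B ∘ₗ (Algebra.lsmul R R N).toLinearMap.flip).flip

@[simp] lemma bil₂_tmul (x y : B) (n : N) : bil₂ R B N (x ⊗ₜ y) n = x ⊗ₜ (y • n) := by
  simp [bil₂]

/-- `β₂ : (B ⊗ B) ⊗_{B, p₂} N → B ⊗ N`, `(x ⊗ y) ⊗ n ↦ x ⊗ y n`. -/
noncomputable def β₂ : (extendScalars (p₂ R B).hom).obj (ModuleCat.of B N) →+ B ⊗[R] N :=
  liftE (p₂ R B) (ModuleCat.of B N) (LinearMap.toAddMonoidHom'.comp (bil₂ R B N).toAddMonoidHom)
    (by
      intro a t m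
      induction t using TensorProduct.induction_on with
      | zero => simp
      | tmul x y =>
        show bil₂ R B N ((1 ⊗ₜ a) * (x ⊗ₜ y)) m = bil₂ R B N (x ⊗ₜ y) (a • m)
        simp [mul_smul, smul_comm a y m]
      | add t t' h h' =>
        rw [mul_add, map_add, map_add, AddMonoidHom.add_apply, AddMonoidHom.add_apply, h, h'])

@[simp] lemma β₂_tm (x y : B) (n : N) :
    β₂ R B N (tm (p₂ R B) (ModuleCat.of B N) (x ⊗ₜ y) n) = x ⊗ₜ (y • n) := by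
  unfold β₂
  rw [liftE_tm]
  exact bil₂_tmul R B N x y n


/-- `β₂⁻¹ : B ⊗ N → (B ⊗ B) ⊗_{B, p₂} N`, `x ⊗ n ↦ (x ⊗ 1) ⊗ n`. -/
noncomputable def β₂inv : B ⊗[R] N →+ (extendScalars (p₂ R B).hom).obj (ModuleCat.of B N) :=
  TensorProduct.liftAddHom
    ((tmHom (p₂ R B) (ModuleCat.of B N)).comp
      (Algebra.TensorProduct.includeLeftRingHom : B →+* B ⊗[R] B).toAddMonoidHom)
    (by
      intro r x n
      show tm (p₂ R B) (ModuleCat.of B N) ((r • x) ⊗ₜ 1) n = tm (p₂ R B) (ModuleCat.of B N) (x ⊗ₜ 1) (r • n)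
      rw [← algebraMap_smul B r n]
      erw [← tm_balanced (p₂ R B) (ModuleCat.of B N) (x ⊗ₜ 1) (algebraMap R B r) n]
      congr 1
      show (r • x) ⊗ₜ[R] (1 : B) = (x ⊗ₜ[R] (1 : B)) * ((1 : B) ⊗ₜ[R] algebraMap R B r)
      rw [Algebra.TensorProduct.tmul_mul_tmul, mul_one, one_mul, Algebra.algebraMap_eq_smul_one,
        TensorProduct.smul_tmul])

@[simp] lemma β₂inv_tmul (x : B) (n : N) :
    β₂inv R B N (x ⊗ₜ n) = tm (p₂ R B) (ModuleCat.of B N) (x ⊗ₜ 1) n := by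
  unfold β₂inv
  rw [TensorProduct.liftAddHom_tmul]
  rfl

lemma β₂_β₂inv (x : B ⊗[R] N) : β₂ R B N (β₂inv R B N x) = x := by
  induction x using TensorProduct.induction_on with
  | zero => rw [map_zero, map_zero]
  | tmul x n => rw [β₂inv_tmul, β₂_tm, one_smul]
  | add x y hx hy => rw [map_add, map_add, hx, hy]

lemma β₂inv_β₂ (w : (extendScalars (p₂ R B).hom).obj (ModuleCat.of B N)) :
    β₂inv R B N (β₂ R B N w) = w := by
  induction w using E_induction (p₂ R B) (ModuleCat.of B N) with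
  | zero => rw [map_zero, map_zero]
  | tm t n =>
    induction t using TensorProduct.induction_on with
    | zero => rw [tm_zero_left, map_zero, map_zero]
    | tmul x y =>
      rw [β₂_tm, β₂inv_tmul]
      erw [← tm_balanced (p₂ R B) (ModuleCat.of B N) (x ⊗ₜ 1) y n]
      congr 1
      show (x ⊗ₜ[R] (1 : B)) * ((1 : B) ⊗ₜ[R] y) = x ⊗ₜ[R] y
      rw [Algebra.TensorProduct.tmul_mul_tmul, mul_one, one_mul]
    | add t t' h h' => rw [tm_add_left, map_add, map_add, h, h']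
  | add x y hx hy => rw [map_add, map_add, hx, hy]


/-- the bilinear map `(x ⊗ y, n) ↦ x • n ⊗ y` -/
noncomputable def bil₁ : (B ⊗[R] B) →ₗ[R] N →ₗ[R] N ⊗[R] B :=
  (LinearMap.rTensorHom B ∘ₗ (Algebra.lsmul R R N).toLinearMap.flip).flip

@[simp] lemma bil₁_tmul (x y : B) (n : N) : bil₁ R B N (x ⊗ₜ y) n = (x • n) ⊗ₜ y := by
  simp [bil₁]

/-- `α₁⁻¹ : (B ⊗ B) ⊗_{B, p₁} N → N ⊗ B`, `(x ⊗ y) ⊗ n ↦ x n ⊗ y`. -/
noncomputable def α₁inv : (extendScalars (p₁ R B).hom).obj (ModuleCat.of B N) →+ N ⊗[R] B :=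
  liftE (p₁ R B) (ModuleCat.of B N) (LinearMap.toAddMonoidHom'.comp (bil₁ R B N).toAddMonoidHom)
    (by
      intro a t m
      induction t using TensorProduct.induction_on with
      | zero => simp
      | tmul x y =>
        show bil₁ R B N ((a ⊗ₜ 1) * (x ⊗ₜ y)) m = bil₁ R B N (x ⊗ₜ y) (a • m)
        simp [mul_smul, smul_comm a x m]
      | add t t' h h' =>
        rw [mul_add, map_add, map_add, AddMonoidHom.add_apply, AddMonoidHom.add_apply, h, h'])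

@[simp] lemma α₁inv_tm (x y : B) (n : N) :
    α₁inv R B N (tm (p₁ R B) (ModuleCat.of B N) (x ⊗ₜ y) n) = (x • n) ⊗ₜ y := by
  unfold α₁inv
  rw [liftE_tm]
  exact bil₁_tmul R B N x y n

/-- `α₁ : N ⊗ B → (B ⊗ B) ⊗_{B, p₁} N`, `n ⊗ b ↦ (1 ⊗ b) ⊗ n`. -/
noncomputable def α₁ : N ⊗[R] B →+ (extendScalars (p₁ R B).hom).obj (ModuleCat.of B N) :=
  TensorProduct.liftAddHom
    (((tmHom (p₁ R B) (ModuleCat.of B N)).comp
      ((Algebra.TensorProduct.includeRight : B →ₐ[R] B ⊗[R] B) : B →+* B ⊗[R] B).toAddMonoidHom).flip)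
    (by
      intro r n x
      show tm (p₁ R B) (ModuleCat.of B N) (1 ⊗ₜ x) (r • n) = tm (p₁ R B) (ModuleCat.of B N) (1 ⊗ₜ (r • x)) n
      rw [← algebraMap_smul B r n]
      erw [← tm_balanced (p₁ R B) (ModuleCat.of B N) (1 ⊗ₜ x) (algebraMap R B r) n]
      congr 1
      show ((1 : B) ⊗ₜ[R] x) * (algebraMap R B r ⊗ₜ[R] (1 : B)) = (1 : B) ⊗ₜ[R] (r • x)
      rw [Algebra.TensorProduct.tmul_mul_tmul, mul_one, one_mul, Algebra.algebraMap_eq_smul_one,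
        TensorProduct.smul_tmul])

@[simp] lemma α₁_tmul (n : N) (x : B) :
    α₁ R B N (n ⊗ₜ x) = tm (p₁ R B) (ModuleCat.of B N) (1 ⊗ₜ x) n := by
  unfold α₁
  rw [TensorProduct.liftAddHom_tmul]
  rfl

lemma α₁inv_α₁ (x : N ⊗[R] B) : α₁inv R B N (α₁ R B N x) = x := by
  induction x using TensorProduct.induction_on with
  | zero => rw [map_zero, map_zero]
  | tmul n x => rw [α₁_tmul, α₁inv_tm, one_smul]
  | add x y hx hy => rw [map_add, map_add, hx, hy]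

lemma α₁_α₁inv (w : (extendScalars (p₁ R B).hom).obj (ModuleCat.of B N)) :
    α₁ R B N (α₁inv R B N w) = w := by
  induction w using E_induction (p₁ R B) (ModuleCat.of B N) with
  | zero => rw [map_zero, map_zero]
  | tm t n =>
    induction t using TensorProduct.induction_on with
    | zero => rw [tm_zero_left, map_zero, map_zero]
    | tmul x y =>
      rw [α₁inv_tm, α₁_tmul]
      erw [← tm_balanced (p₁ R B) (ModuleCat.of B N) (1 ⊗ₜ y) x n]
      congr 1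
      show ((1 : B) ⊗ₜ[R] y) * (x ⊗ₜ[R] (1 : B)) = x ⊗ₜ[R] y
      rw [Algebra.TensorProduct.tmul_mul_tmul, mul_one, one_mul]
    | add t t' h h' => rw [tm_add_left, map_add, map_add, h, h']
  | add x y hx hy => rw [map_add, map_add, hx, hy]


lemma β₂_smul_right (b : B) (w : (extendScalars (p₂ R B).hom).obj (ModuleCat.of B N)) :
    β₂ R B N ((((1 : B) ⊗ₜ[R] b : B ⊗[R] B) : cT₂ R B) • w) = Desc1.Lb R B N b (β₂ R B N w) := by
  induction w using E_induction (p₂ R B) (ModuleCat.of B N) with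
  | zero => rw [smul_zero, map_zero, map_zero]
  | tm t n =>
    erw [smul_tm]
    induction t using TensorProduct.induction_on with
    | zero => rw [mul_zero, tm_zero_left, map_zero, map_zero]
    | tmul x y =>
      erw [Algebra.TensorProduct.tmul_mul_tmul]
      rw [β₂_tm, β₂_tm, Desc1.Lb_tmul, one_mul, mul_smul]
    | add t t' h h' => rw [mul_add, tm_add_left, tm_add_left, map_add, map_add, map_add, h, h']
  | add x y hx hy => rw [smul_add, map_add, map_add, map_add, hx, hy]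

section coaction

variable {R B N}
variable (hom : (extendScalars (p₁ R B).hom).obj (ModuleCat.of B N) ⟶
  (extendScalars (p₂ R B).hom).obj (ModuleCat.of B N))

/-- The coaction `N → B ⊗ N` attached to a gluing morphism. -/
noncomputable def φ₁ : N →ₗ[R] B ⊗[R] N where
  toFun u := β₂ R B N (hom (tm (p₁ R B) (ModuleCat.of B N) 1 u))
  map_add' u v := by rw [tm_add_right, map_add, map_add]
  map_smul' r u := by
    simp only [RingHom.id_apply]
    have h1 : tm (p₁ R B) (ModuleCat.of B N) 1 (r • u) =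
        ((((1 : B) ⊗ₜ[R] algebraMap R B r : B ⊗[R] B) : cT₂ R B)) •
          tm (p₁ R B) (ModuleCat.of B N) 1 u := by
      erw [smul_tm]
      rw [← algebraMap_smul B r u]
      erw [← tm_balanced (p₁ R B) (ModuleCat.of B N) 1 (algebraMap R B r) u]
      congr 1
      show (1 : B ⊗[R] B) * (algebraMap R B r ⊗ₜ[R] (1 : B)) = ((1 : B) ⊗ₜ[R] algebraMap R B r) * 1
      rw [one_mul, mul_one, Algebra.algebraMap_eq_smul_one, TensorProduct.smul_tmul]
    have : Desc1.Lb R B N 1 = LinearMap.id := by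
      apply TensorProduct.ext'
      intro c n
      simp
    rw [h1, map_smul, β₂_smul_right, Algebra.algebraMap_eq_smul_one, map_smul, this]
    rfl

lemma φ₁_apply (u : N) : φ₁ hom u = β₂ R B N (hom (tm (p₁ R B) (ModuleCat.of B N) 1 u)) := rfl

/-- The classical gluing map `N ⊗ B → B ⊗ N`. -/
noncomputable def φ : N ⊗[R] B →ₗ[R] B ⊗[R] N :=
  TensorProduct.lift ((Desc1.Lb R B N).flip ∘ₗ φ₁ hom)

lemma φ_tmul (u : N) (b : B) : φ hom (u ⊗ₜ b) = Desc1.Lb R B N b (φ₁ hom u) := by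
  simp [φ]

lemma φ_eq (y : N ⊗[R] B) : φ hom y = β₂ R B N (hom (α₁ R B N y)) := by
  induction y using TensorProduct.induction_on with
  | zero => rw [map_zero, map_zero, map_zero, map_zero]
  | tmul u b =>
    rw [φ_tmul, α₁_tmul, tm_eq_smul_one, map_smul, β₂_smul_right, φ₁_apply]
  | add x y hx hy => rw [map_add, map_add, map_add, map_add, hx, hy]

lemma φ_bijective [IsIso hom] : Function.Bijective (φ hom) := by
  have h1 : Function.Bijective (α₁ R B N) :=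
    Function.bijective_iff_has_inverse.mpr ⟨α₁inv R B N, α₁inv_α₁ R B N, α₁_α₁inv R B N⟩
  have h2 : Function.Bijective (β₂ R B N) :=
    Function.bijective_iff_has_inverse.mpr ⟨β₂inv R B N, β₂inv_β₂ R B N, β₂_β₂inv R B N⟩
  have h3 : Function.Bijective hom := ConcreteCategory.bijective_of_isIso hom
  have : (φ hom : N ⊗[R] B → B ⊗[R] N) = (β₂ R B N) ∘ hom ∘ (α₁ R B N) := by
    funext y; exact φ_eq hom y
  rw [this]
  exact h2.comp (h3.comp h1)

lemma hom_tm_one (u : N) : hom (tm (p₁ R B) (ModuleCat.of B N) 1 u) = β₂inv R B N (φ₁ hom u) := by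
  rw [φ₁_apply, β₂inv_β₂]

end coaction


/-- `x ⊗ y ↦ x ⊗ (y ⊗ 1)` -/
noncomputable abbrev q₁₂ : cT₂ R B ⟶ cT₃ R B :=
  CommRingCat.ofHom ((Algebra.TensorProduct.map (AlgHom.id R B)
    (Algebra.TensorProduct.includeLeft : B →ₐ[R] B ⊗[R] B) : B ⊗[R] B →ₐ[R] B ⊗[R] (B ⊗[R] B)) :
      B ⊗[R] B →+* B ⊗[R] (B ⊗[R] B))
/-- `t ↦ 1 ⊗ t` -/
noncomputable abbrev q₂₃ : cT₂ R B ⟶ cT₃ R B :=
  CommRingCat.ofHom ((Algebra.TensorProduct.includeRight :
    B ⊗[R] B →ₐ[R] B ⊗[R] (B ⊗[R] B)) : B ⊗[R] B →+* B ⊗[R] (B ⊗[R] B))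
/-- `x ⊗ z ↦ x ⊗ (1 ⊗ z)` -/
noncomputable abbrev q₁₃ : cT₂ R B ⟶ cT₃ R B :=
  CommRingCat.ofHom ((Algebra.TensorProduct.map (AlgHom.id R B)
    (Algebra.TensorProduct.includeRight : B →ₐ[R] B ⊗[R] B) : B ⊗[R] B →ₐ[R] B ⊗[R] (B ⊗[R] B)) :
      B ⊗[R] B →+* B ⊗[R] (B ⊗[R] B))
/-- `b ↦ b ⊗ (1 ⊗ 1)` -/
noncomputable abbrev q₁ : cB B ⟶ cT₃ R B := p₁ R B ≫ q₁₂ R B
/-- `b ↦ 1 ⊗ (b ⊗ 1)` -/
noncomputable abbrev q₂ : cB B ⟶ cT₃ R B := p₂ R B ≫ q₁₂ R B
/-- `b ↦ 1 ⊗ (1 ⊗ b)` -/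
noncomputable abbrev q₃ : cB B ⟶ cT₃ R B := p₂ R B ≫ q₂₃ R B

lemma q₁₂_tmul (x y : B) : (q₁₂ R B).hom (x ⊗ₜ y) = x ⊗ₜ (y ⊗ₜ 1) := by simp
lemma q₂₃_apply (t : B ⊗[R] B) : (q₂₃ R B).hom t = 1 ⊗ₜ t := by simp
lemma q₁₃_tmul (x y : B) : (q₁₃ R B).hom (x ⊗ₜ y) = x ⊗ₜ (1 ⊗ₜ y) := by simp
lemma q₃_apply (b : B) : (q₃ R B).hom b = 1 ⊗ₜ (1 ⊗ₜ b) := by simp

lemma p₁_q₂₃ : p₁ R B ≫ q₂₃ R B = q₂ R B := by
  ext b
  simp
lemma p₁_q₁₃ : p₁ R B ≫ q₁₃ R B = q₁ R B := by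
  ext b
  simp
lemma p₂_q₁₃ : p₂ R B ≫ q₁₃ R B = q₃ R B := by
  ext b
  simp


/-- the bilinear map `(x ⊗ (y ⊗ z), n) ↦ x ⊗ (y ⊗ z • n)` -/
noncomputable def bil₃ : (B ⊗[R] (B ⊗[R] B)) →ₗ[R] N →ₗ[R] B ⊗[R] (B ⊗[R] N) :=
  (LinearMap.lTensorHom B ∘ₗ LinearMap.lTensorHom B ∘ₗ (Algebra.lsmul R R N).toLinearMap.flip).flip

@[simp] lemma bil₃_tmul (x y z : B) (n : N) :
    bil₃ R B N (x ⊗ₜ (y ⊗ₜ z)) n = x ⊗ₜ (y ⊗ₜ (z • n)) := by
  simp [bil₃]

/-- `γ : T₃ ⊗_{B, q₃} N → B ⊗ (B ⊗ N)`, `(x ⊗ (y ⊗ z)) ⊗ n ↦ x ⊗ (y ⊗ z n)`. -/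
noncomputable def γ : (extendScalars (q₃ R B).hom).obj (ModuleCat.of B N) →+ B ⊗[R] (B ⊗[R] N) :=
  liftE (q₃ R B) (ModuleCat.of B N) (LinearMap.toAddMonoidHom'.comp (bil₃ R B N).toAddMonoidHom)
    (by
      intro a t m
      show bil₃ R B N ((q₃ R B).hom a * t) m = bil₃ R B N t (a • m)
      rw [q₃_apply]
      induction t using TensorProduct.induction_on with
      | zero => simp
      | tmul x s =>
        induction s using TensorProduct.induction_on with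
        | zero => simp
        | tmul y z => simp [mul_smul, smul_comm a z m]
        | add s s' h h' =>
          rw [TensorProduct.tmul_add, mul_add, map_add, map_add, LinearMap.add_apply,
            LinearMap.add_apply, h, h']
      | add t t' h h' =>
        rw [mul_add, map_add, map_add, LinearMap.add_apply, LinearMap.add_apply, h, h'])

@[simp] lemma γ_tm (x y z : B) (n : N) :
    γ R B N (tm (q₃ R B) (ModuleCat.of B N) (x ⊗ₜ (y ⊗ₜ z)) n) = x ⊗ₜ (y ⊗ₜ (z • n)) := by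
  unfold γ
  rw [liftE_tm]
  exact bil₃_tmul R B N x y z n

/-- `x ↦ mcInv (1 ⊗ β₂⁻¹ x)`: the pullback of `β₂⁻¹ x` along `l`. -/
noncomputable def Ψ (l : cT₂ R B ⟶ cT₃ R B) (j : cB B ⟶ cT₃ R B) (h : p₂ R B ≫ l = j) :
    B ⊗[R] N →+ (extendScalars j.hom).obj (ModuleCat.of B N) :=
  ((mcInv (p₂ R B) l j h (ModuleCat.of B N)).hom.toAddMonoidHom.comp
    (tmHom l ((extendScalars (p₂ R B).hom).obj (ModuleCat.of B N)) 1)).comp (β₂inv R B N)

lemma Ψ_apply (l : cT₂ R B ⟶ cT₃ R B) (j : cB B ⟶ cT₃ R B) (h : p₂ R B ≫ l = j) (x : B ⊗[R] N) :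
    Ψ R B N l j h x = mcInv (p₂ R B) l j h (ModuleCat.of B N)
      (tm l ((extendScalars (p₂ R B).hom).obj (ModuleCat.of B N)) 1 (β₂inv R B N x)) := rfl

lemma Ψ_tmul (l : cT₂ R B ⟶ cT₃ R B) (j : cB B ⟶ cT₃ R B) (h : p₂ R B ≫ l = j) (c : B) (n : N) :
    Ψ R B N l j h (c ⊗ₜ n) = tm j (ModuleCat.of B N) (l.hom (c ⊗ₜ 1)) n := by
  rw [Ψ_apply, β₂inv_tmul, mcInv_tm, one_mul]


section cocycle

variable {R B N}
variable (hom : (extendScalars (p₁ R B).hom).obj (ModuleCat.of B N) ⟶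
  (extendScalars (p₂ R B).hom).obj (ModuleCat.of B N))

/-- The pullback of `hom` along `l : B ⊗ B → B ⊗ B ⊗ B`. -/
noncomputable def pull (l : cT₂ R B ⟶ cT₃ R B) (i j : cB B ⟶ cT₃ R B)
    (h₁ : p₁ R B ≫ l = i) (h₂ : p₂ R B ≫ l = j) :
    (extendScalars i.hom).obj (ModuleCat.of B N) ⟶ (extendScalars j.hom).obj (ModuleCat.of B N) :=
  mcHom (p₁ R B) l i h₁ (ModuleCat.of B N) ≫ (extendScalars l.hom).map hom ≫
    mcInv (p₂ R B) l j h₂ (ModuleCat.of B N)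

lemma pull_tm_one (l : cT₂ R B ⟶ cT₃ R B) (i j : cB B ⟶ cT₃ R B)
    (h₁ : p₁ R B ≫ l = i) (h₂ : p₂ R B ≫ l = j) (u : N) :
    pull hom l i j h₁ h₂ (tm i (ModuleCat.of B N) 1 u) = Ψ R B N l j h₂ (φ₁ hom u) := by
  unfold pull
  rw [pullHom_tm, hom_tm_one, Ψ_apply]

lemma γ_Ψ₁₃ (x : B ⊗[R] N) :
    γ R B N (Ψ R B N (q₁₃ R B) (q₃ R B) (p₂_q₁₃ R B) x) =
      LinearMap.lTensor B (TensorProduct.mk R B N 1) x := by
  induction x using TensorProduct.induction_on with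
  | zero => rw [map_zero, map_zero, map_zero]
  | tmul c n =>
    rw [Ψ_tmul, q₁₃_tmul, γ_tm, one_smul]
    simp
  | add x y hx hy => rw [map_add, map_add, map_add, hx, hy]

lemma γ_smul_Ψ₂₃ (c : B) (y : B ⊗[R] N) :
    γ R B N ((((c ⊗ₜ[R] ((1 : B) ⊗ₜ[R] (1 : B)) : B ⊗[R] (B ⊗[R] B)) : cT₃ R B)) •
      Ψ R B N (q₂₃ R B) (q₃ R B) rfl y) = c ⊗ₜ[R] y := by
  induction y using TensorProduct.induction_on with
  | zero => rw [map_zero, smul_zero, map_zero, TensorProduct.tmul_zero]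
  | tmul c' n =>
    rw [Ψ_tmul, q₂₃_apply]
    erw [smul_tm, Algebra.TensorProduct.tmul_mul_tmul]
    rw [mul_one, Algebra.TensorProduct.tmul_mul_tmul, one_mul, one_mul, γ_tm, one_smul]
  | add x y hx hy => rw [map_add, smul_add, map_add, hx, hy, TensorProduct.tmul_add]

theorem hco_of_cocycle
    (Φ₂₃ : (extendScalars (q₂ R B).hom).obj (ModuleCat.of B N) ⟶
      (extendScalars (q₃ R B).hom).obj (ModuleCat.of B N))
    (h₂₃ : Φ₂₃ = pull hom (q₂₃ R B) (q₂ R B) (q₃ R B) (p₁_q₂₃ R B) rfl)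
    (hcomp : pull hom (q₁₂ R B) (q₁ R B) (q₂ R B) rfl rfl ≫ Φ₂₃ =
      pull hom (q₁₃ R B) (q₁ R B) (q₃ R B) (p₁_q₁₃ R B) (p₂_q₁₃ R B)) (u : N) :
    LinearMap.lTensor B (φ₁ hom) (φ₁ hom u) =
      LinearMap.lTensor B (TensorProduct.mk R B N 1) (φ₁ hom u) := by
  have key : ∀ x : B ⊗[R] N,
      γ R B N (Φ₂₃ (Ψ R B N (q₁₂ R B) (q₂ R B) rfl x)) = LinearMap.lTensor B (φ₁ hom) x := by
    intro x
    induction x using TensorProduct.induction_on with
    | zero => rw [map_zero, map_zero, map_zero, map_zero]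
    | tmul c n =>
      rw [Ψ_tmul, q₁₂_tmul, tm_eq_smul_one, map_smul, h₂₃, pull_tm_one, γ_smul_Ψ₂₃]
      simp
    | add x y hx hy => rw [map_add, map_add, map_add, map_add, hx, hy]
  have e := congrArg (fun ψ => γ R B N (ψ (tm (q₁ R B) (ModuleCat.of B N) 1 u))) hcomp
  simp only [ModuleCat.hom_comp, LinearMap.comp_apply] at e
  rw [pull_tm_one, pull_tm_one, key, γ_Ψ₁₃] at e
  exact e

end cocycle

end Groth.Agent.Lib.helper16.Desc3
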