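import Mathlib
import Groth.Prelude.Def_Desc
import Groth.Agent.Lib.Helper16.Desc1
import Groth.Agent.Lib.Helper16.Desc2
import Groth.Agent.Lib.Helper16.Desc3

/-!
# Effectiveness of faithfully flat descent for modules, in Mathlib's `DescentData` form
-/

set_option autoImplicit false
set_option backward.isDefEq.respectTransparency false
set_option backward.isDefEq.respectTransparency.types false
universe u
open CategoryTheory Opposite TensorProduct ModuleCat Pseudofunctor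

namespace Groth.Agent.Lib.helper16.Desc4

open Desc2 Desc3

section nat
variable {A C C' : CommRingCat.{u}} {f : A ⟶ C} {g : C ⟶ C'}

theorem mcHom_naturality (fg : A ⟶ C') (h : f ≫ g = fg) {M M' : ModuleCat.{u} A} (a : M ⟶ M') :
    (extendScalars fg.hom).map a ≫ mcHom f g fg h M' =
      mcHom f g fg h M ≫ (extendScalars g.hom).map ((extendScalars f.hom).map a) :=
  Pseudofunctor.mapComp'_hom_naturality (F := Desc.ringModPF.{u}) (f := f.op.op.toLoc)
    (g := g.op.op.toLoc) (fg := fg.op.op.toLoc) (hfg := by subst h; rfl) a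

theorem mcInv_naturality (fg : A ⟶ C') (h : f ≫ g = fg) {M M' : ModuleCat.{u} A} (a : M ⟶ M') :
    (extendScalars g.hom).map ((extendScalars f.hom).map a) ≫ mcInv f g fg h M' =
      mcInv f g fg h M ≫ (extendScalars fg.hom).map a :=
  Pseudofunctor.mapComp'_inv_naturality (F := Desc.ringModPF.{u}) (f := f.op.op.toLoc)
    (g := g.op.op.toLoc) (fg := fg.op.op.toLoc) (hfg := by subst h; rfl) a

theorem comm_generic {T : CommRingCat.{u}} (f : A ⟶ C) (g₁ g₂ : C ⟶ T) (q : A ⟶ T)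
    (h₁ : f ≫ g₁ = q) (h₂ : f ≫ g₂ = q) (M : ModuleCat.{u} A) (N : ModuleCat.{u} C)
    (ε : (extendScalars f.hom).obj M ⟶ N)
    (hom : (extendScalars g₁.hom).obj N ⟶ (extendScalars g₂.hom).obj N)
    (H : ∀ m : M, hom (tm g₁ N 1 (ε (tm f M 1 m))) = tm g₂ N 1 (ε (tm f M 1 m))) :
    (extendScalars g₁.hom).map ε ≫ hom =
      (mcInv f g₁ q h₁ M ≫ mcHom f g₂ q h₂ M) ≫ (extendScalars g₂.hom).map ε := by
  apply hom_ext_tm
  intro w
  induction w using E_induction f M with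
  | zero => rw [tm_zero_right, map_zero, map_zero]
  | tm c m =>
    simp only [ModuleCat.hom_comp, LinearMap.comp_apply]
    rw [map_tm, mcInv_tm, mcHom_tm, map_tm, one_mul]
    rw [tm_eq_smul_one f M c m, map_smul]
    erw [← tm_balanced g₁ N 1 c (ε (tm f M 1 m))]
    rw [one_mul, tm_eq_smul_one g₁ N, map_smul, H, ← tm_eq_smul_one]
  | add x y hx hy => rw [tm_add_right, map_add, map_add, hx, hy]


/-- The gluing morphism of a descent datum at `(T, g₁, g₂)`, between `extendScalars` objects. -/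
noncomputable def ghom {T : CommRingCat.{u}} (f : A ⟶ C) (g₁ g₂ : C ⟶ T) (q : A ⟶ T)
    (h₁ : f ≫ g₁ = q) (h₂ : f ≫ g₂ = q)
    (D : Desc.ringModPF.{u}.DescentData (fun _ : PUnit.{u + 1} => f.op)) :
    (extendScalars g₁.hom).obj (D.obj PUnit.unit) ⟶ (extendScalars g₂.hom).obj (D.obj PUnit.unit) :=
  D.hom (Y := op T) q.op (i₁ := PUnit.unit) (i₂ := PUnit.unit) g₁.op g₂.op
    (by subst h₁; rfl) (by subst h₂; rfl)

theorem ghom_toDescentData {T : CommRingCat.{u}} (f : A ⟶ C) (g₁ g₂ : C ⟶ T) (q : A ⟶ T)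
    (h₁ : f ≫ g₁ = q) (h₂ : f ≫ g₂ = q) (M : ModuleCat.{u} A) :
    ghom f g₁ g₂ q h₁ h₂
      ((Desc.ringModPF.{u}.toDescentData (fun _ : PUnit.{u + 1} => f.op)).obj M) =
      mcInv f g₁ q h₁ M ≫ mcHom f g₂ q h₂ M := rfl


theorem ghom_isIso {T : CommRingCat.{u}} (f : A ⟶ C) (g₁ g₂ : C ⟶ T) (q : A ⟶ T)
    (h₁ : f ≫ g₁ = q) (h₂ : f ≫ g₂ = q)
    (D : Desc.ringModPF.{u}.DescentData (fun _ : PUnit.{u + 1} => f.op)) :
    IsIso (ghom f g₁ g₂ q h₁ h₂ D) :=
  (D.iso (Y := op T) q.op (i₁ := PUnit.unit) (i₂ := PUnit.unit) g₁.op g₂.op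
    (by subst h₁; rfl) (by subst h₂; rfl)).isIso_hom

end nat

variable (R B : Type u) [CommRing R] [CommRing B] [Algebra R B]

lemma fRB_p₁ : fRB R B ≫ p₁ R B = fRB R B ≫ p₂ R B :=
  (CommRingCat.isPushout_tensorProduct R B B).w

/-- the structure map `R → B ⊗ B` -/
noncomputable abbrev q₀ : cR R ⟶ cT₂ R B := fRB R B ≫ p₁ R B

variable {R B}

/-- The gluing morphism of a descent datum at the universal pair `(B ⊗ B, p₁, p₂)`. -/
noncomputable def uhom (D : Desc.ringModPF.{u}.DescentData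
      (fun _ : PUnit.{u + 1} => (fRB R B).op)) :
    (extendScalars (p₁ R B).hom).obj (D.obj PUnit.unit) ⟶
      (extendScalars (p₂ R B).hom).obj (D.obj PUnit.unit) :=
  D.hom (Y := op (cT₂ R B)) (q₀ R B).op (i₁ := PUnit.unit) (i₂ := PUnit.unit)
    (p₁ R B).op (p₂ R B).op rfl (by rw [← op_comp, ← fRB_p₁])

theorem iso_of_universal (D₁ D₂ : Desc.ringModPF.{u}.DescentData
      (fun _ : PUnit.{u + 1} => (fRB R B).op))
    (e : (D₁.obj PUnit.unit : ModuleCat.{u} B) ≅ D₂.obj PUnit.unit)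
    (h : (extendScalars (p₁ R B).hom).map e.hom ≫ uhom D₂ =
      uhom D₁ ≫ (extendScalars (p₂ R B).hom).map e.hom) :
    Nonempty (D₁ ≅ D₂) := by
  refine ⟨DescentData.isoMk (fun _ => e) ?_⟩
  intro Y q i₁ i₂ f₁ f₂ hf₁ hf₂
  obtain ⟨⟩ := i₁
  obtain ⟨⟩ := i₂
  have hw : fRB R B ≫ f₁.unop = fRB R B ≫ f₂.unop := by
    have := hf₁.trans hf₂.symm
    exact congrArg Quiver.Hom.unop this
  let l : cT₂ R B ⟶ Y.unop := (CommRingCat.isPushout_tensorProduct R B B).desc f₁.unop f₂.unop hw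
  have hl₁ : p₁ R B ≫ l = f₁.unop := (CommRingCat.isPushout_tensorProduct R B B).inl_desc _ _ _
  have hl₂ : p₂ R B ≫ l = f₂.unop := (CommRingCat.isPushout_tensorProduct R B B).inr_desc _ _ _
  have hq : l.op ≫ (q₀ R B).op = q := by
    rw [← hf₁, ← op_comp]
    show ((fRB R B ≫ p₁ R B) ≫ l).op = _
    rw [Category.assoc, hl₁]
    rfl
  have e₁ := D₁.pullHom_hom l.op (q₀ R B).op q hq (i₁ := PUnit.unit) (i₂ := PUnit.unit)
    (p₁ R B).op (p₂ R B).op rfl (by rw [← op_comp, ← fRB_p₁]) f₁ f₂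
    (by rw [← op_comp, hl₁]; rfl) (by rw [← op_comp, hl₂]; rfl)
  have e₂ := D₂.pullHom_hom l.op (q₀ R B).op q hq (i₁ := PUnit.unit) (i₂ := PUnit.unit)
    (p₁ R B).op (p₂ R B).op rfl (by rw [← op_comp, ← fRB_p₁]) f₁ f₂
    (by rw [← op_comp, hl₁]; rfl) (by rw [← op_comp, hl₂]; rfl)
  rw [← e₁, ← e₂]
  have k₁ := pullHom_eq (D₁.obj PUnit.unit) (D₁.obj PUnit.unit) (p₁ R B) (p₂ R B) (uhom D₁) l
    f₁.unop f₂.unop hl₁ hl₂
  have k₂ := pullHom_eq (D₂.obj PUnit.unit) (D₂.obj PUnit.unit) (p₁ R B) (p₂ R B) (uhom D₂) l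
    f₁.unop f₂.unop hl₁ hl₂
  erw [k₁, k₂]
  have n₁ := mcHom_naturality (f := p₁ R B) (g := l) f₁.unop hl₁ e.hom
  have n₂ := mcInv_naturality (f := p₂ R B) (g := l) f₂.unop hl₂ e.hom
  show (extendScalars f₁.unop.hom).map e.hom ≫ _ = _ ≫ (extendScalars f₂.unop.hom).map e.hom
  rw [reassoc_of% n₁, ← Functor.map_comp_assoc, h, Functor.map_comp_assoc, n₂]
  simp only [Category.assoc]


section eps

variable (R B)

variable (N : Type u) [AddCommGroup N] [Module R N] [Module B N] [IsScalarTower R B N]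
  (M : Submodule R N)

/-- `B ⊗ M → B ⊗_{R, alg} M`, identity on pure tensors. -/
noncomputable def κ : B ⊗[R] M →+ (extendScalars (fRB R B).hom).obj (ModuleCat.of R M) :=
  TensorProduct.liftAddHom (tmHom (fRB R B) (ModuleCat.of R M))
    (by
      intro r b m
      show tm (fRB R B) (ModuleCat.of R M) (r • b) m = tm (fRB R B) (ModuleCat.of R M) b (r • m)
      rw [Algebra.smul_def]
      exact tm_balanced' (fRB R B) (ModuleCat.of R M) b r m)

lemma κ_tmul (b : B) (m : M) : κ R B N M (b ⊗ₜ m) = tm (fRB R B) (ModuleCat.of R M) b m := by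
  unfold κ
  rw [TensorProduct.liftAddHom_tmul]
  rfl

lemma κ_surjective : Function.Surjective (κ R B N M) := by
  intro w
  induction w using E_induction (fRB R B) (ModuleCat.of R M) with
  | zero => exact ⟨0, map_zero _⟩
  | tm t m => exact ⟨t ⊗ₜ m, κ_tmul R B N M t m⟩
  | add x y hx hy =>
    obtain ⟨x', rfl⟩ := hx
    obtain ⟨y', rfl⟩ := hy
    exact ⟨x' + y', map_add _ _ _⟩

/-- the additive map `b ⊗ m ↦ b • m` -/
noncomputable def εadd : (extendScalars (fRB R B).hom).obj (ModuleCat.of R M) →+ N :=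
  liftE (fRB R B) (ModuleCat.of R M)
    (LinearMap.toAddMonoidHom'.comp
      (((Algebra.lsmul R R N).toLinearMap).compl₂ M.subtype).toAddMonoidHom)
    (by
      intro a t m
      show (algebraMap R B a * t) • (m : N) = t • ((a • m : M) : N)
      rw [mul_smul, algebraMap_smul, smul_comm]
      rfl)

lemma εadd_tm (b : B) (m : M) :
    εadd R B N M (tm (fRB R B) (ModuleCat.of R M) b m) = b • (m : N) := by
  unfold εadd
  rw [liftE_tm]
  rfl

/-- the `B`-linear map `B ⊗ M → N`, `b ⊗ m ↦ b • m` -/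
noncomputable def ε : (extendScalars (fRB R B).hom).obj (ModuleCat.of R M) ⟶ ModuleCat.of B N :=
  ModuleCat.ofHom
    { toFun := εadd R B N M
      map_add' := map_add _
      map_smul' := by
        intro c w
        simp only [RingHom.id_apply]
        induction w using E_induction (fRB R B) (ModuleCat.of R M) with
        | zero => rw [smul_zero, map_zero, smul_zero]
        | tm t m =>
          erw [smul_tm]
          rw [εadd_tm, εadd_tm, mul_smul]
        | add x y hx hy => rw [smul_add, map_add, map_add, hx, hy, smul_add] }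

lemma ε_tm (b : B) (m : M) :
    ε R B N M (tm (fRB R B) (ModuleCat.of R M) b m) = b • (m : N) := εadd_tm R B N M b m

lemma ε_κ (z : B ⊗[R] M) :
    ε R B N M (κ R B N M z) = ((TensorProduct.lift (Algebra.lsmul R R N).toLinearMap) ∘ₗ
      (LinearMap.lTensor B M.subtype)) z := by
  induction z using TensorProduct.induction_on with
  | zero => rw [map_zero, map_zero, map_zero]
  | tmul b m =>
    rw [κ_tmul, ε_tm]
    simp
  | add x y hx hy => rw [map_add, map_add, map_add, hx, hy]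

lemma ε_bijective (hb : Function.Bijective ((TensorProduct.lift (Algebra.lsmul R R N).toLinearMap) ∘ₗ
      (LinearMap.lTensor B M.subtype))) : Function.Bijective (ε R B N M) := by
  constructor
  · intro x y hxy
    obtain ⟨x', rfl⟩ := κ_surjective R B N M x
    obtain ⟨y', rfl⟩ := κ_surjective R B N M y
    rw [ε_κ, ε_κ] at hxy
    rw [hb.1 hxy]
  · intro n
    obtain ⟨z, hz⟩ := hb.2 n
    exact ⟨κ R B N M z, by rw [ε_κ, hz]⟩

end eps


section comm

variable (R B)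
variable (N : Type u) [AddCommGroup N] [Module R N] [Module B N] [IsScalarTower R B N]
  (M : Submodule R N)
  (hom : (extendScalars (p₁ R B).hom).obj (ModuleCat.of B N) ⟶
    (extendScalars (p₂ R B).hom).obj (ModuleCat.of B N))

theorem comm_universal (hM : ∀ u : N, u ∈ M → φ₁ hom u = (1 : B) ⊗ₜ[R] u) :
    (extendScalars (p₁ R B).hom).map (ε R B N M) ≫ hom =
      (mcInv (fRB R B) (p₁ R B) (q₀ R B) rfl (ModuleCat.of R M) ≫
        mcHom (fRB R B) (p₂ R B) (q₀ R B) (fRB_p₁ R B).symm (ModuleCat.of R M)) ≫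
        (extendScalars (p₂ R B).hom).map (ε R B N M) := by
  refine comm_generic (fRB R B) (p₁ R B) (p₂ R B) (q₀ R B) rfl (fRB_p₁ R B).symm
    (ModuleCat.of R M) (ModuleCat.of B N) (ε R B N M) hom ?_
  intro m
  rw [ε_tm, one_smul, hom_tm_one, hM _ m.2, β₂inv_tmul]
  rfl

end comm


section main

variable (R B)

lemma fRB_q₂ : fRB R B ≫ q₂ R B = fRB R B ≫ q₁ R B := by
  show fRB R B ≫ p₂ R B ≫ q₁₂ R B = fRB R B ≫ p₁ R B ≫ q₁₂ R B
  rw [← Category.assoc, ← fRB_p₁, Category.assoc]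

lemma fRB_q₃ : fRB R B ≫ q₃ R B = fRB R B ≫ q₁ R B := by
  rw [← fRB_q₂, ← p₁_q₂₃]
  show fRB R B ≫ p₂ R B ≫ q₂₃ R B = fRB R B ≫ p₁ R B ≫ q₂₃ R B
  rw [← Category.assoc, ← fRB_p₁, Category.assoc]

lemma q₀_q₁₂ : q₀ R B ≫ q₁₂ R B = fRB R B ≫ q₁ R B := Category.assoc _ _ _

lemma q₀_q₂₃ : q₀ R B ≫ q₂₃ R B = fRB R B ≫ q₁ R B := by
  rw [Category.assoc, p₁_q₂₃, fRB_q₂]

lemma q₀_q₁₃ : q₀ R B ≫ q₁₃ R B = fRB R B ≫ q₁ R B := by
  rw [Category.assoc, p₁_q₁₃]

variable {R B}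

theorem hom_eq_pull (D : Desc.ringModPF.{u}.DescentData (fun _ : PUnit.{u + 1} => (fRB R B).op))
    {W : CommRingCat.{u}} (l : cT₂ R B ⟶ W) (i j : cB B ⟶ W) (c : cR R ⟶ W)
    (h₁ : p₁ R B ≫ l = i) (h₂ : p₂ R B ≫ l = j) (hc : q₀ R B ≫ l = c)
    (hi : i.op ≫ (fRB R B).op = c.op) (hj : j.op ≫ (fRB R B).op = c.op) :
    D.hom (Y := op W) c.op (i₁ := PUnit.unit) (i₂ := PUnit.unit) i.op j.op hi hj =
      mcHom (p₁ R B) l i h₁ (D.obj PUnit.unit) ≫ (extendScalars l.hom).map (uhom D) ≫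
        mcInv (p₂ R B) l j h₂ (D.obj PUnit.unit) := by
  have e := D.pullHom_hom l.op (q₀ R B).op c.op (by rw [← op_comp, hc])
    (i₁ := PUnit.unit) (i₂ := PUnit.unit)
    (p₁ R B).op (p₂ R B).op rfl (by rw [← op_comp, ← fRB_p₁]) i.op j.op
    (by rw [← op_comp, h₁]) (by rw [← op_comp, h₂])
  rw [← e]
  exact pullHom_eq (D.obj PUnit.unit) (D.obj PUnit.unit) (p₁ R B) (p₂ R B) (uhom D) l i j h₁ h₂


theorem exists_descended [Module.FaithfullyFlat R B]
    (N : Type u) [AddCommGroup N] [Module R N] [Module B N] [IsScalarTower R B N]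
    (hom : (extendScalars (p₁ R B).hom).obj (ModuleCat.of B N) ⟶
      (extendScalars (p₂ R B).hom).obj (ModuleCat.of B N)) [IsIso hom]
    (hco : ∀ u : N, LinearMap.lTensor B (φ₁ hom) (φ₁ hom u) =
      LinearMap.lTensor B (TensorProduct.mk R B N 1) (φ₁ hom u)) :
    ∃ (M : ModuleCat.{u} R) (e : (extendScalars (fRB R B).hom).obj M ≅ ModuleCat.of B N),
      (extendScalars (p₁ R B).hom).map e.hom ≫ hom =
        (mcInv (fRB R B) (p₁ R B) (q₀ R B) rfl M ≫
          mcHom (fRB R B) (p₂ R B) (q₀ R B) (fRB_p₁ R B).symm M) ≫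
          (extendScalars (p₂ R B).hom).map e.hom := by
  let M : Submodule R N := LinearMap.ker (φ₁ hom - TensorProduct.mk R B N 1)
  have hM : ∀ u : N, u ∈ M ↔ φ₁ hom u = (1 : B) ⊗ₜ[R] u := by
    intro u
    rw [LinearMap.mem_ker, LinearMap.sub_apply, sub_eq_zero]
    rfl
  have hb := Desc1.core (φ₁ hom) (φ hom) (φ_bijective hom) (φ_tmul hom) hco M hM
  have hε := ε_bijective R B N M hb
  haveI : IsIso (ε R B N M) := (ConcreteCategory.isIso_iff_bijective _).mpr hε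
  exact ⟨ModuleCat.of R M, asIso (ε R B N M),
    comm_universal R B N M hom (fun u hu => (hM u).mp hu)⟩


/-- the underlying `B`-module of a descent datum -/
abbrev objN (D : Desc.ringModPF.{u}.DescentData (fun _ : PUnit.{u + 1} => (fRB R B).op)) :
    ModuleCat.{u} B := D.obj PUnit.unit

theorem cocycle_of_descentData
    (D : Desc.ringModPF.{u}.DescentData (fun _ : PUnit.{u + 1} => (fRB R B).op))
    [Module R (objN D)] [IsScalarTower R B (objN D)]
    (u : objN D) :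
    LinearMap.lTensor B (φ₁ (N := objN D) (uhom D))
        (φ₁ (N := objN D) (uhom D) u) =
      LinearMap.lTensor B (TensorProduct.mk R B (objN D) 1)
        (φ₁ (N := objN D) (uhom D) u) := by
  have hc₂ : (q₂ R B).op ≫ (fRB R B).op = (fRB R B ≫ q₁ R B).op := by rw [← op_comp, fRB_q₂]
  have hc₃ : (q₃ R B).op ≫ (fRB R B).op = (fRB R B ≫ q₁ R B).op := by rw [← op_comp, fRB_q₃]
  have h₂₃ := hom_eq_pull D (q₂₃ R B) (q₂ R B) (q₃ R B) (fRB R B ≫ q₁ R B)
    (p₁_q₂₃ R B) rfl (q₀_q₂₃ R B) hc₂ hc₃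
  have h₁₂ := hom_eq_pull D (q₁₂ R B) (q₁ R B) (q₂ R B) (fRB R B ≫ q₁ R B)
    rfl rfl (q₀_q₁₂ R B) rfl hc₂
  have h₁₃ := hom_eq_pull D (q₁₃ R B) (q₁ R B) (q₃ R B) (fRB R B ≫ q₁ R B)
    (p₁_q₁₃ R B) (p₂_q₁₃ R B) (q₀_q₁₃ R B) rfl hc₃
  have hcomp := D.hom_comp (fRB R B ≫ q₁ R B).op (i₁ := PUnit.unit) (i₂ := PUnit.unit)
    (i₃ := PUnit.unit) (q₁ R B).op (q₂ R B).op (q₃ R B).op rfl hc₂ hc₃
  rw [h₁₂, h₁₃] at hcomp
  exact hco_of_cocycle (N := objN D) (uhom D) _ h₂₃ hcomp u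


variable (R B)

theorem uhom_eq_ghom (D : Desc.ringModPF.{u}.DescentData (fun _ : PUnit.{u + 1} => (fRB R B).op)) :
    uhom D = ghom (fRB R B) (p₁ R B) (p₂ R B) (q₀ R B) rfl (fRB_p₁ R B).symm D := rfl

theorem uhom_toDescentData (M : ModuleCat.{u} R) :
    uhom ((Desc.ringModPF.{u}.toDescentData
      (fun _ : PUnit.{u + 1} => (fRB R B).op)).obj M) =
    mcInv (fRB R B) (p₁ R B) (q₀ R B) rfl M ≫
      mcHom (fRB R B) (p₂ R B) (q₀ R B) (fRB_p₁ R B).symm M :=
  (uhom_eq_ghom R B _).trans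
    (ghom_toDescentData (fRB R B) (p₁ R B) (p₂ R B) (q₀ R B) rfl (fRB_p₁ R B).symm M)


theorem main [Module.FaithfullyFlat R B]
    (D : Desc.ringModPF.{u}.DescentData (fun _ : PUnit.{u + 1} => (fRB R B).op)) :
    ∃ M : ModuleCat.{u} R, Nonempty ((Desc.ringModPF.{u}.toDescentData
      (fun _ : PUnit.{u + 1} => (fRB R B).op)).obj M ≅ D) := by
  letI : Module R (objN D) := Module.compHom (objN D) (algebraMap R B)
  haveI : IsScalarTower R B (objN D) := ⟨fun r b n => by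
    show (r • b) • n = algebraMap R B r • (b • n)
    rw [Algebra.smul_def, mul_smul]⟩
  haveI : IsIso (uhom D) := by
    rw [uhom_eq_ghom]
    exact ghom_isIso _ _ _ _ _ _ D
  obtain ⟨M, e, he⟩ := exists_descended (N := objN D) (uhom D) (cocycle_of_descentData D)
  refine ⟨M, iso_of_universal _ D e ?_⟩
  rw [uhom_toDescentData]
  exact he

end main

end Groth.Agent.Lib.helper16.Desc4
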