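import Mathlib
import Groth.Prelude.Def_Pi1
import Groth.Agent.Lib.Helper4.PureDescent
import Groth.Agent.Lib.Helper16.Desc1

set_option autoImplicit false
universe u
open TensorProduct

namespace Groth.Agent.Lib.helper16.Desc5

section API
variable {R : Type*} [CommRing R] {A A' B : Type*} [AddCommGroup A] [AddCommGroup A'] [AddCommGroup B]
  [Module R A] [Module R A'] [Module R B]

theorem homEquiv_tmul (c : A →ₗ[R] CharacterModule B) (a : A) (b : B) :
    CharacterModule.homEquiv c (a ⊗ₜ[R] b) = c a b := by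
  show CharacterModule.uncurry c (a ⊗ₜ[R] b) = _
  rw [CharacterModule.uncurry_apply]
  exact TensorProduct.liftAddHom_tmul _ _ a b

theorem homEquiv_symm_apply (ψ : CharacterModule (A ⊗[R] B)) (a : A) (b : B) :
    CharacterModule.homEquiv.symm ψ a b = ψ (a ⊗ₜ[R] b) := rfl

theorem dual_apply' (f : A →ₗ[R] A') (c : CharacterModule A') (x : A) :
    CharacterModule.dual f c x = c (f x) := rfl

/-- characters of a tensor product are determined by pure tensors -/
theorem char_ext_tmul {ψ ψ' : CharacterModule (A ⊗[R] B)}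
    (h : ∀ a b, ψ (a ⊗ₜ[R] b) = ψ' (a ⊗ₜ[R] b)) : ψ = ψ' := by
  apply CharacterModule.ext
  intro z
  induction z using TensorProduct.induction_on with
  | zero => rw [map_zero, map_zero]
  | tmul a b => exact h a b
  | add x y hx hy => rw [map_add, map_add, hx, hy]

end API

variable {R B : Type u} [CommRing R] [CommRing B] [Algebra R B]

/-- purity gives an `R`-linear section `σ` of `C(B) → C(R)` -/
theorem exists_sigma (hp : Pi1.UnivInjective R B) :
    ∃ σ : CharacterModule R →ₗ[R] CharacterModule B,
      ∀ (χ : CharacterModule R) (r : R), σ χ (algebraMap R B r) = χ r := by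
  have hinj := hp (CharacterModule R)
  have hsurj := CharacterModule.dual_surjective_of_injective _ hinj
  obtain ⟨ψ, hψ⟩ := hsurj (CharacterModule.homEquiv (LinearMap.id : CharacterModule R →ₗ[R] CharacterModule R))
  refine ⟨CharacterModule.homEquiv.symm ψ, ?_⟩
  intro χ r
  have := congrArg (fun c : CharacterModule (CharacterModule R ⊗[R] R) => c (χ ⊗ₜ[R] r)) hψ
  simp only [dual_apply', LinearMap.lTensor_tmul, Algebra.linearMap_apply, homEquiv_tmul,
    LinearMap.id_apply] at this
  rw [homEquiv_symm_apply]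
  exact this


section Sg

variable (σ : CharacterModule R →ₗ[R] CharacterModule B)
  (hσ : ∀ (χ : CharacterModule R) (r : R), σ χ (algebraMap R B r) = χ r)
  (X : Type*) [AddCommGroup X] [Module R X]

/-- `χ ↦ (x ↦ (r ↦ χ (r • x)))` -/
noncomputable def toCR : CharacterModule X →ₗ[R] (X →ₗ[R] CharacterModule R) :=
  CharacterModule.curry ∘ₗ CharacterModule.dual (TensorProduct.rid R X).toLinearMap

theorem toCR_apply (χ : CharacterModule X) (x : X) (r : R) : toCR X χ x r = χ (r • x) := by
  show χ ((TensorProduct.rid R X) (x ⊗ₜ[R] r)) = _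
  rw [TensorProduct.rid_tmul]

/-- The natural section `Σ_X : C(X) → C(B ⊗ X)` of `C(x ↦ 1 ⊗ x)` attached to `σ`. -/
noncomputable def Sg : CharacterModule X →ₗ[R] CharacterModule (B ⊗[R] X) :=
  CharacterModule.dual (TensorProduct.comm R B X).toLinearMap ∘ₗ
    CharacterModule.homEquiv.toLinearMap ∘ₗ (LinearMap.compRight R σ) ∘ₗ toCR X

theorem Sg_tmul (χ : CharacterModule X) (b : B) (x : X) :
    Sg σ X χ (b ⊗ₜ[R] x) = σ (toCR X χ x) b := by
  show CharacterModule.homEquiv ((LinearMap.compRight R σ) (toCR X χ))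
    ((TensorProduct.comm R B X) (b ⊗ₜ[R] x)) = _
  rw [TensorProduct.comm_tmul, homEquiv_tmul]
  rfl

include hσ in
theorem Sg_one (χ : CharacterModule X) (x : X) : Sg σ X χ ((1 : B) ⊗ₜ[R] x) = χ x := by
  rw [Sg_tmul, ← map_one (algebraMap R B), hσ, toCR_apply, one_smul]

variable {X}

theorem Sg_nat {Y : Type*} [AddCommGroup Y] [Module R Y] (u : X →ₗ[R] Y) (χ : CharacterModule Y) :
    Sg σ X (CharacterModule.dual u χ) = CharacterModule.dual (LinearMap.lTensor B u) (Sg σ Y χ) := by
  apply char_ext_tmul
  intro b x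
  rw [Sg_tmul, dual_apply', LinearMap.lTensor_tmul, Sg_tmul]
  congr 2
  apply CharacterModule.ext
  intro r
  rw [toCR_apply, toCR_apply, dual_apply', map_smul]

end Sg


section Core

variable {N : Type u} [AddCommGroup N] [Module R N] [Module B N] [IsScalarTower R B N]
  (σ : CharacterModule R →ₗ[R] CharacterModule B)
  (hσ : ∀ (χ : CharacterModule R) (r : R), σ χ (algebraMap R B r) = χ r)
  (θ : N →ₗ[R] B ⊗[R] N)
  (hco : ∀ u : N, LinearMap.lTensor B θ (θ u) =
    LinearMap.lTensor B (TensorProduct.mk R B N 1) (θ u))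
  (M : Submodule R N) (hM : ∀ u : N, u ∈ M ↔ θ u = (1 : B) ⊗ₜ[R] u)

/-- the idempotent `e = C(θ) ∘ Σ_N` on `C(N)` -/
noncomputable def ee : CharacterModule N →ₗ[R] CharacterModule N :=
  CharacterModule.dual θ ∘ₗ Sg σ N

theorem ee_apply (χ : CharacterModule N) (n : N) : ee σ θ χ n = Sg σ N χ (θ n) := rfl

include hco in
theorem ee_dual_theta (ω : CharacterModule (B ⊗[R] N)) :
    ee σ θ (CharacterModule.dual θ ω) =
      ee σ θ (CharacterModule.dual (TensorProduct.mk R B N 1) ω) := by
  apply CharacterModule.ext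
  intro n
  rw [ee_apply, ee_apply, Sg_nat, Sg_nat, dual_apply', dual_apply', hco]

include hσ in
theorem sub_ee (χ : CharacterModule N) :
    χ - ee σ θ χ = - CharacterModule.dual (θ - TensorProduct.mk R B N 1) (Sg σ N χ) := by
  apply CharacterModule.ext
  intro n
  have h1 : Sg σ N χ ((TensorProduct.mk R B N 1) n) = χ n := Sg_one σ hσ N χ n
  show χ n - ee σ θ χ n = - (Sg σ N χ ((θ - TensorProduct.mk R B N 1) n))
  rw [ee_apply, LinearMap.sub_apply, map_sub, h1]
  abel

include hM in
theorem mem_M_iff (u : N) : u ∈ M ↔ (θ - TensorProduct.mk R B N 1) u = 0 := by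
  rw [hM, LinearMap.sub_apply, sub_eq_zero]
  rfl

include hM in
/-- a character of `N` vanishing on `M = ker δ` factors through `δ = θ - η` -/
theorem exists_of_dual_subtype_eq_zero (χ : CharacterModule N)
    (h : CharacterModule.dual M.subtype χ = 0) :
    ∃ ω : CharacterModule (B ⊗[R] N),
      χ = CharacterModule.dual (θ - TensorProduct.mk R B N 1) ω := by
  set δ : N →ₗ[R] B ⊗[R] N := θ - TensorProduct.mk R B N 1 with hδ
  let f : N →+ LinearMap.range δ := δ.rangeRestrict.toAddMonoidHom
  have hsurj : Function.Surjective f := δ.surjective_rangeRestrict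
  have hker : f.ker ≤ AddMonoidHom.ker (χ : N →+ AddCircle (1 : ℚ)) := by
    intro n hn
    have h0 : δ n = 0 := by
      have := congrArg Subtype.val (AddMonoidHom.mem_ker.mp hn)
      exact this
    have hnM : n ∈ M := (mem_M_iff θ M hM n).mpr h0
    have := congrArg (fun c : CharacterModule M => c ⟨n, hnM⟩) h
    exact AddMonoidHom.mem_ker.mpr this
  let χbar : CharacterModule (LinearMap.range δ) :=
    AddMonoidHom.liftOfRightInverse f (Function.surjInv hsurj) (Function.rightInverse_surjInv hsurj)
      ⟨χ, hker⟩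
  obtain ⟨ω, hω⟩ := CharacterModule.dual_surjective_of_injective (LinearMap.range δ).subtype
    Subtype.val_injective χbar
  refine ⟨ω, ?_⟩
  apply CharacterModule.ext
  intro n
  have h1 := congrArg (fun c : CharacterModule (LinearMap.range δ) => c (f n)) hω
  have h2 : χbar (f n) = χ n :=
    AddMonoidHom.liftOfRightInverse_comp_apply f (Function.surjInv hsurj)
      (Function.rightInverse_surjInv hsurj) ⟨χ, hker⟩ n
  rw [dual_apply']
  exact (h1.trans h2).symm

include hco hM in
theorem ee_eq_zero_of (χ : CharacterModule N) (h : CharacterModule.dual M.subtype χ = 0) :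
    ee σ θ χ = 0 := by
  obtain ⟨ω, rfl⟩ := exists_of_dual_subtype_eq_zero θ M hM χ h
  have : CharacterModule.dual (θ - TensorProduct.mk R B N 1) ω =
      CharacterModule.dual θ ω - CharacterModule.dual (TensorProduct.mk R B N 1) ω := by
    apply CharacterModule.ext
    intro n
    show ω ((θ - TensorProduct.mk R B N 1) n) = ω (θ n) - ω ((TensorProduct.mk R B N 1) n)
    rw [LinearMap.sub_apply, map_sub]
  rw [this, map_sub, ee_dual_theta σ θ hco, sub_self]

end Core


section Split

variable {N : Type u} [AddCommGroup N] [Module R N] [Module B N] [IsScalarTower R B N]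
  (σ : CharacterModule R →ₗ[R] CharacterModule B)
  (hσ : ∀ (χ : CharacterModule R) (r : R), σ χ (algebraMap R B r) = χ r)
  (θ : N →ₗ[R] B ⊗[R] N)
  (hco : ∀ u : N, LinearMap.lTensor B θ (θ u) =
    LinearMap.lTensor B (TensorProduct.mk R B N 1) (θ u))
  (M : Submodule R N) (hM : ∀ u : N, u ∈ M ↔ θ u = (1 : B) ⊗ₜ[R] u)

theorem dual_subtype_surjective :
    Function.Surjective (CharacterModule.dual (R := R) M.subtype) :=
  CharacterModule.dual_surjective_of_injective _ M.subtype_injective

include hco hM in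
theorem ker_le_ker_ee :
    LinearMap.ker (CharacterModule.dual (R := R) M.subtype) ≤ LinearMap.ker (ee σ θ) := by
  intro χ hχ
  exact LinearMap.mem_ker.mpr (ee_eq_zero_of σ θ hco M hM χ (LinearMap.mem_ker.mp hχ))

/-- the section `s : C(M) → C(N)` of the split coequalizer -/
noncomputable def ss : CharacterModule M →ₗ[R] CharacterModule N :=
  (LinearMap.ker (CharacterModule.dual (R := R) M.subtype)).liftQ (ee σ θ)
      (ker_le_ker_ee σ θ hco M hM) ∘ₗ
    ((CharacterModule.dual (R := R) M.subtype).quotKerEquivOfSurjective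
      (dual_subtype_surjective M)).symm.toLinearMap

theorem ss_dual (χ : CharacterModule N) :
    ss σ θ hco M hM (CharacterModule.dual M.subtype χ) = ee σ θ χ := by
  have : ((CharacterModule.dual (R := R) M.subtype).quotKerEquivOfSurjective
      (dual_subtype_surjective M)).symm (CharacterModule.dual M.subtype χ) =
      Submodule.Quotient.mk χ := by
    rw [LinearEquiv.symm_apply_eq]
    rfl
  simp only [ss, LinearMap.comp_apply, LinearEquiv.coe_coe, this, Submodule.liftQ_apply]

include hσ in
theorem dual_ss (ξ : CharacterModule M) :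
    CharacterModule.dual M.subtype (ss σ θ hco M hM ξ) = ξ := by
  obtain ⟨χ, rfl⟩ := dual_subtype_surjective (R := R) M ξ
  rw [ss_dual]
  apply CharacterModule.ext
  intro m
  rw [dual_apply', dual_apply', ee_apply, Submodule.subtype_apply, (hM _).mp m.2,
    Sg_one σ hσ]

include hσ hco hM in
/-- (i') `B ⊗ M → B ⊗ N` is injective -/
theorem lTensor_subtype_injective :
    Function.Injective (LinearMap.lTensor B M.subtype) := by
  rw [injective_iff_map_eq_zero]
  intro z hz
  apply CharacterModule.eq_zero_of_character_apply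
  intro ψ
  set g : B →ₗ[R] CharacterModule M := CharacterModule.homEquiv.symm ψ with hg
  set ψ' : CharacterModule (B ⊗[R] N) :=
    CharacterModule.homEquiv ((ss σ θ hco M hM) ∘ₗ g) with hψ'
  have hres : CharacterModule.dual (LinearMap.lTensor B M.subtype) ψ' = ψ := by
    apply char_ext_tmul
    intro b m
    rw [dual_apply', LinearMap.lTensor_tmul, hψ', homEquiv_tmul, LinearMap.comp_apply,
      ← dual_apply' M.subtype, dual_ss σ hσ θ hco M hM, hg, homEquiv_symm_apply]
  rw [← hres, dual_apply', hz, map_zero]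

include hσ hco hM in
/-- (ii') exactness of `B ⊗ M → B ⊗ N → B ⊗ (B ⊗ N)` -/
theorem mem_range_lTensor_subtype (y : B ⊗[R] N)
    (hy : LinearMap.lTensor B (θ - TensorProduct.mk R B N 1) y = 0) :
    y ∈ LinearMap.range (LinearMap.lTensor B M.subtype) := by
  by_contra hne
  set P := LinearMap.range (LinearMap.lTensor B M.subtype) with hP
  have hq : P.mkQ y ≠ 0 := by
    intro h0
    exact hne ((Submodule.Quotient.mk_eq_zero P).mp h0)
  obtain ⟨κ, hκ⟩ := CharacterModule.exists_character_apply_ne_zero_of_ne_zero hq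
  set ψ : CharacterModule (B ⊗[R] N) := CharacterModule.dual P.mkQ κ with hψ
  set g : B →ₗ[R] CharacterModule N := CharacterModule.homEquiv.symm ψ with hg
  have hgi : ∀ b, CharacterModule.dual M.subtype (g b) = 0 := by
    intro b
    apply CharacterModule.ext
    intro m
    rw [dual_apply', hg, homEquiv_symm_apply, hψ, dual_apply']
    have : P.mkQ (b ⊗ₜ[R] M.subtype m) = 0 := by
      rw [Submodule.mkQ_apply, Submodule.Quotient.mk_eq_zero]
      exact ⟨b ⊗ₜ[R] m, LinearMap.lTensor_tmul _ _ _ _⟩
    rw [this, map_zero]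
    rfl
  have hgb : ∀ b, g b = CharacterModule.dual (θ - TensorProduct.mk R B N 1)
      (- Sg σ N (g b)) := by
    intro b
    have h1 := sub_ee σ hσ θ (g b)
    rw [ee_eq_zero_of σ θ hco M hM (g b) (hgi b), sub_zero] at h1
    rw [map_neg]
    exact h1
  set h : B →ₗ[R] CharacterModule (B ⊗[R] N) := - ((Sg σ N) ∘ₗ g) with hh
  have hψ2 : ψ = CharacterModule.dual (LinearMap.lTensor B (θ - TensorProduct.mk R B N 1))
      (CharacterModule.homEquiv h) := by
    apply char_ext_tmul
    intro b n
    have e1 : ψ (b ⊗ₜ[R] n) = g b n := rfl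
    have e2 : g b n = (- Sg σ N (g b)) ((θ - TensorProduct.mk R B N 1) n) := by
      conv_lhs => rw [hgb b]
      rfl
    have e3 : (CharacterModule.dual (LinearMap.lTensor B (θ - TensorProduct.mk R B N 1))
        (CharacterModule.homEquiv h)) (b ⊗ₜ[R] n) =
        h b ((θ - TensorProduct.mk R B N 1) n) := by
      rw [dual_apply', LinearMap.lTensor_tmul, homEquiv_tmul]
    rw [e1, e2, e3]
    rfl
  apply hκ
  have : κ (P.mkQ y) = ψ y := rfl
  rw [this, hψ2, dual_apply', hy, map_zero]

end Split


section CorePure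

variable {N : Type u} [AddCommGroup N] [Module R N] [Module B N] [IsScalarTower R B N]

theorem rTensor_eq_comm_lTensor {X Y : Type*} [AddCommGroup X] [AddCommGroup Y] [Module R X]
    [Module R Y] (f : X →ₗ[R] Y) :
    LinearMap.rTensor B f = (TensorProduct.comm R B Y).toLinearMap ∘ₗ LinearMap.lTensor B f ∘ₗ
      (TensorProduct.comm R X B).toLinearMap := by
  apply TensorProduct.ext'
  intro x b
  simp

open Desc1 in
/-- **Effectiveness of descent along a universally injective ring map**, coaction form. -/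
theorem core_pure (hp : Pi1.UnivInjective R B) (φ₁ : N →ₗ[R] B ⊗[R] N)
    (φ : N ⊗[R] B →ₗ[R] B ⊗[R] N) (hφ : Function.Bijective φ)
    (hφ₁ : ∀ (u : N) (b : B), φ (u ⊗ₜ[R] b) = Lb R B N b (φ₁ u))
    (hco : ∀ u : N, LinearMap.lTensor B φ₁ (φ₁ u) =
      LinearMap.lTensor B (TensorProduct.mk R B N 1) (φ₁ u))
    (M : Submodule R N) (hM : ∀ u : N, u ∈ M ↔ φ₁ u = (1 : B) ⊗ₜ[R] u) :
    Function.Bijective
      ((TensorProduct.lift (Algebra.lsmul R R N).toLinearMap) ∘ₗ (LinearMap.lTensor B M.subtype)) := by
  classical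
  obtain ⟨σ, hσ⟩ := exists_sigma hp
  have hI := lTensor_subtype_injective σ hσ φ₁ hco M hM
  have hII := mem_range_lTensor_subtype σ hσ φ₁ hco M hM
  set D2 : N →ₗ[R] B ⊗[R] N := TensorProduct.mk R B N 1 with hD2
  have step1 : ∀ (u : M) (a : B), φ ((u : N) ⊗ₜ[R] a) = (1 : B) ⊗ₜ[R] (a • (u : N)) := by
    intro u a
    rw [hφ₁, (hM _).mp u.2, Lb_tmul]
  set lam' : M ⊗[R] B →ₗ[R] N :=
    TensorProduct.lift ((Algebra.lsmul R R N).toLinearMap.flip ∘ₗ M.subtype) with hlam'
  have hlam'_tmul : ∀ (u : M) (a : B), lam' (u ⊗ₜ a) = a • (u : N) := by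
    intro u a; simp [hlam']
  set θ : M ⊗[R] B →ₗ[R] B ⊗[R] N := φ ∘ₗ LinearMap.rTensor B M.subtype with hθ
  have hθ_eq : θ = D2 ∘ₗ lam' := by
    apply TensorProduct.ext'
    intro u a
    simp only [hθ, LinearMap.comp_apply, LinearMap.rTensor_tmul, Submodule.subtype_apply, step1,
      hlam'_tmul, hD2, TensorProduct.mk_apply]
  have hr_inj : Function.Injective (LinearMap.rTensor B M.subtype) := by
    rw [rTensor_eq_comm_lTensor, LinearMap.coe_comp, LinearMap.coe_comp]
    exact (TensorProduct.comm R B N).injective.comp (hI.comp (TensorProduct.comm R M B).injective)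
  have hθ_inj : Function.Injective θ := by
    rw [hθ, LinearMap.coe_comp]
    exact hφ.1.comp hr_inj
  have hD2_inj : Function.Injective D2 := Groth.Agent.Lib.helper4.pure_one_tmul_injective hp N
  have hlam'_inj : Function.Injective lam' := by
    have : Function.Injective (D2 ∘ lam') := by
      rw [← LinearMap.coe_comp, ← hθ_eq]; exact hθ_inj
    exact this.of_comp
  have hlam'_surj : Function.Surjective lam' := by
    intro w
    obtain ⟨y, hy⟩ := hφ.2 ((1 : B) ⊗ₜ[R] w)
    set Φ : (B ⊗[R] N) ⊗[R] B →ₗ[R] B ⊗[R] (B ⊗[R] N) :=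
      LinearMap.lTensor B φ ∘ₗ (TensorProduct.assoc R B N B).toLinearMap with hΦ
    have hΦ_inj : Function.Injective Φ := by
      rw [hΦ, LinearMap.coe_comp]
      have : Function.Injective (LinearMap.lTensor B φ) := by
        have := ((LinearEquiv.ofBijective φ hφ).lTensor B).injective
        rwa [← LinearEquiv.coe_coe, LinearEquiv.coe_lTensor] at this
      exact this.comp (TensorProduct.assoc R B N B).injective
    have hΦx : ∀ (x : B ⊗[R] N) (b : B), Φ (x ⊗ₜ[R] b) =
        LinearMap.lTensor B (Lb R B N b) (LinearMap.lTensor B φ₁ x) := by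
      intro x b
      induction x using TensorProduct.induction_on with
      | zero => simp
      | tmul c n => simp [hΦ, hφ₁]
      | add x y hx hy => rw [TensorProduct.add_tmul, map_add, hx, hy, map_add, map_add]
    have e1 : Φ ∘ₗ LinearMap.rTensor B φ₁ =
        LinearMap.lTensor B (TensorProduct.mk R B N 1) ∘ₗ φ := by
      apply TensorProduct.ext'
      intro u b
      simp only [LinearMap.comp_apply, LinearMap.rTensor_tmul]
      rw [hΦx, hco, hφ₁]
      generalize φ₁ u = x
      induction x using TensorProduct.induction_on with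
      | zero => simp
      | tmul c n => simp [hD2]
      | add x y hx hy => simp only [map_add, hx, hy]
    have e2 : Φ ∘ₗ LinearMap.rTensor B D2 = TensorProduct.mk R B (B ⊗[R] N) 1 ∘ₗ φ := by
      apply TensorProduct.ext'
      intro u b
      simp [hΦ, hD2, hφ₁]
    have hker : LinearMap.rTensor B (φ₁ - D2) y = 0 := by
      rw [LinearMap.rTensor_sub]
      show LinearMap.rTensor B φ₁ y - LinearMap.rTensor B D2 y = 0
      rw [sub_eq_zero]
      apply hΦ_inj
      have a1 := congrArg (fun f => f y) e1
      have a2 := congrArg (fun f => f y) e2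
      simp only [LinearMap.comp_apply] at a1 a2
      rw [a1, a2, hy]
      simp
    have hz : LinearMap.lTensor B (φ₁ - D2) ((TensorProduct.comm R N B) y) = 0 := by
      rw [rTensor_eq_comm_lTensor] at hker
      simp only [LinearMap.comp_apply, LinearEquiv.coe_coe] at hker
      exact (TensorProduct.comm R B (B ⊗[R] N)).injective (hker.trans (map_zero _).symm)
    obtain ⟨z', hz'⟩ := hII _ hz
    refine ⟨(TensorProduct.comm R B M) z', hD2_inj ?_⟩
    have := congrArg (fun f => f ((TensorProduct.comm R B M) z')) hθ_eq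
    simp only [LinearMap.comp_apply] at this
    rw [← this, hθ, LinearMap.comp_apply]
    show φ _ = (1 : B) ⊗ₜ[R] w
    rw [← hy]
    congr 1
    rw [rTensor_eq_comm_lTensor]
    simp only [LinearMap.comp_apply, LinearEquiv.coe_coe]
    have hc : (TensorProduct.comm R M B) ((TensorProduct.comm R B M) z') = z' :=
      (TensorProduct.comm R B M).symm_apply_apply z'
    rw [hc, hz']
    exact (TensorProduct.comm R N B).symm_apply_apply y
  have hcomp : ((TensorProduct.lift (Algebra.lsmul R R N).toLinearMap) ∘ₗ (LinearMap.lTensor B M.subtype))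
      = lam' ∘ₗ (TensorProduct.comm R B M).toLinearMap := by
    apply TensorProduct.ext'
    intro a u
    simp [hlam'_tmul]
  rw [hcomp, LinearMap.coe_comp]
  exact ⟨hlam'_inj.comp (TensorProduct.comm R B M).injective,
    hlam'_surj.comp (TensorProduct.comm R B M).surjective⟩

end CorePure

end Groth.Agent.Lib.helper16.Desc5
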