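import Mathlib
import Groth.Prelude.Def_Desc
import Groth.Prelude.Def_Pi1
import Groth.Agent.Lib.Helper4.PureDescent
import Groth.Agent.Lib.Helper16.Desc4
import Groth.Agent.Lib.Helper16.Desc5

/-!
# Descent of modules along universally injective ring maps, in Mathlib's `DescentData` form
-/

set_option autoImplicit false
set_option backward.isDefEq.respectTransparency false
set_option backward.isDefEq.respectTransparency.types false
universe u
open CategoryTheory Opposite TensorProduct ModuleCat Pseudofunctor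

namespace Groth.Agent.Lib.helper16.Desc6

open Desc2 Desc3 Desc4

section generic
variable {A C T : CommRingCat.{u}}

theorem mcInv_mcHom_tm (f : A ⟶ C) (g₁ g₂ : C ⟶ T) (q : A ⟶ T)
    (h₁ : f ≫ g₁ = q) (h₂ : f ≫ g₂ = q) (M : ModuleCat.{u} A) (t : T) (c : C) (m : M) :
    (mcInv f g₁ q h₁ M ≫ mcHom f g₂ q h₂ M) (tm g₁ _ t (tm f M c m)) =
      tm g₂ _ (t * g₁.hom c) (tm f M 1 m) := by
  simp only [ModuleCat.hom_comp, LinearMap.comp_apply]
  rw [mcInv_tm, mcHom_tm]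

/-- the component of a morphism of descent data, as a morphism of modules -/
noncomputable def comp₀ (f : A ⟶ C) (M M' : ModuleCat.{u} A)
    (Ψ : (Desc.ringModPF.{u}.toDescentData (fun _ : PUnit.{u + 1} => f.op)).obj M ⟶
      (Desc.ringModPF.{u}.toDescentData (fun _ : PUnit.{u + 1} => f.op)).obj M') :
    (extendScalars f.hom).obj M ⟶ (extendScalars f.hom).obj M' := Ψ.hom PUnit.unit

theorem comm_of_hom (f : A ⟶ C) (g₁ g₂ : C ⟶ T) (q : A ⟶ T)
    (h₁ : f ≫ g₁ = q) (h₂ : f ≫ g₂ = q) (M M' : ModuleCat.{u} A)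
    (Ψ : (Desc.ringModPF.{u}.toDescentData (fun _ : PUnit.{u + 1} => f.op)).obj M ⟶
      (Desc.ringModPF.{u}.toDescentData (fun _ : PUnit.{u + 1} => f.op)).obj M') :
    (extendScalars g₁.hom).map (comp₀ f M M' Ψ) ≫ (mcInv f g₁ q h₁ M' ≫ mcHom f g₂ q h₂ M') =
      (mcInv f g₁ q h₁ M ≫ mcHom f g₂ q h₂ M) ≫ (extendScalars g₂.hom).map (comp₀ f M M' Ψ) :=
  Ψ.comm (Y := op T) q.op (i₁ := PUnit.unit) (i₂ := PUnit.unit) g₁.op g₂.op
    (by subst h₁; rfl) (by subst h₂; rfl)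

theorem hom_fixed (f : A ⟶ C) (g₁ g₂ : C ⟶ T) (q : A ⟶ T)
    (h₁ : f ≫ g₁ = q) (h₂ : f ≫ g₂ = q) (M M' : ModuleCat.{u} A)
    (Ψ : (Desc.ringModPF.{u}.toDescentData (fun _ : PUnit.{u + 1} => f.op)).obj M ⟶
      (Desc.ringModPF.{u}.toDescentData (fun _ : PUnit.{u + 1} => f.op)).obj M') (m : M) :
    (mcInv f g₁ q h₁ M' ≫ mcHom f g₂ q h₂ M')
        (tm g₁ _ 1 (comp₀ f M M' Ψ (tm f M 1 m))) =
      tm g₂ _ 1 (comp₀ f M M' Ψ (tm f M 1 m)) := by
  have e := congrArg (fun a => a (tm g₁ _ 1 (tm f M 1 m))) (comm_of_hom f g₁ g₂ q h₁ h₂ M M' Ψ)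
  have k := mcInv_mcHom_tm f g₁ g₂ q h₁ h₂ M 1 1 m
  have e' : (mcInv f g₁ q h₁ M' ≫ mcHom f g₂ q h₂ M')
      ((extendScalars g₁.hom).map (comp₀ f M M' Ψ) (tm g₁ _ 1 (tm f M 1 m))) =
      (extendScalars g₂.hom).map (comp₀ f M M' Ψ)
        ((mcInv f g₁ q h₁ M ≫ mcHom f g₂ q h₂ M) (tm g₁ _ 1 (tm f M 1 m))) := e
  rw [k, map_tm, map_one, mul_one, map_tm] at e'
  exact e'

/-- `hom` acts on pure tensors like the canonical gluing morphism -/
def IsCanon (f : A ⟶ C) (g₁ g₂ : C ⟶ T) (M : ModuleCat.{u} A)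
    (hom : (extendScalars g₁.hom).obj ((extendScalars f.hom).obj M) ⟶
      (extendScalars g₂.hom).obj ((extendScalars f.hom).obj M)) : Prop :=
  ∀ (c : C) (m : M), hom (tm g₁ _ 1 (tm f M c m)) = tm g₂ _ (g₁.hom c) (tm f M 1 m)

/-- `w` is fixed by the gluing morphism -/
def IsFixed (g₁ g₂ : C ⟶ T) (N : ModuleCat.{u} C)
    (hom : (extendScalars g₁.hom).obj N ⟶ (extendScalars g₂.hom).obj N) (w : N) : Prop :=
  hom (tm g₁ N 1 w) = tm g₂ N 1 w

theorem isCanon_canonical (f : A ⟶ C) (g₁ g₂ : C ⟶ T) (q : A ⟶ T)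
    (h₁ : f ≫ g₁ = q) (h₂ : f ≫ g₂ = q) (M : ModuleCat.{u} A) :
    IsCanon f g₁ g₂ M (mcInv f g₁ q h₁ M ≫ mcHom f g₂ q h₂ M) := by
  intro c m
  rw [mcInv_mcHom_tm, one_mul]

theorem isFixed_of_hom (f : A ⟶ C) (g₁ g₂ : C ⟶ T) (q : A ⟶ T)
    (h₁ : f ≫ g₁ = q) (h₂ : f ≫ g₂ = q) (M M' : ModuleCat.{u} A)
    (Ψ : (Desc.ringModPF.{u}.toDescentData (fun _ : PUnit.{u + 1} => f.op)).obj M ⟶
      (Desc.ringModPF.{u}.toDescentData (fun _ : PUnit.{u + 1} => f.op)).obj M') (m : M) :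
    IsFixed g₁ g₂ ((extendScalars f.hom).obj M') (mcInv f g₁ q h₁ M' ≫ mcHom f g₂ q h₂ M')
      (comp₀ f M M' Ψ (tm f M 1 m)) :=
  hom_fixed f g₁ g₂ q h₁ h₂ M M' Ψ m

end generic

variable {R B : Type u} [CommRing R] [CommRing B] [Algebra R B]

section effective

theorem exists_descended_pure (hp : Pi1.UnivInjective R B)
    (N : Type u) [AddCommGroup N] [Module R N] [Module B N] [IsScalarTower R B N]
    (hom : (extendScalars (p₁ R B).hom).obj (ModuleCat.of B N) ⟶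
      (extendScalars (p₂ R B).hom).obj (ModuleCat.of B N)) [IsIso hom]
    (hco : ∀ u : N, LinearMap.lTensor B (φ₁ hom) (φ₁ hom u) =
      LinearMap.lTensor B (TensorProduct.mk R B N 1) (φ₁ hom u)) :
    ∃ (M : ModuleCat.{u} R) (e : (extendScalars (fRB R B).hom).obj M ≅ ModuleCat.of B N),
      (extendScalars (p₁ R B).hom).map e.hom ≫ hom =
        (mcInv (fRB R B) (p₁ R B) (q₀ R B) rfl M ≫
          mcHom (fRB R B) (p₂ R B) (q₀ R B) (fRB_p₁ R B).symm M) ≫
          (extendScalars (p₂ R B).hom).map e.hom := by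
  let M : Submodule R N := LinearMap.ker (φ₁ hom - TensorProduct.mk R B N 1)
  have hM : ∀ u : N, u ∈ M ↔ φ₁ hom u = (1 : B) ⊗ₜ[R] u := by
    intro u
    rw [LinearMap.mem_ker, LinearMap.sub_apply, sub_eq_zero]
    rfl
  have hb := Desc5.core_pure hp (φ₁ hom) (φ hom) (φ_bijective hom) (φ_tmul hom) hco M hM
  have hε := ε_bijective R B N M hb
  haveI : IsIso (ε R B N M) := (ConcreteCategory.isIso_iff_bijective _).mpr hε
  exact ⟨ModuleCat.of R M, asIso (ε R B N M),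
    comm_universal R B N M hom (fun u hu => (hM u).mp hu)⟩

theorem main_pure (hp : Pi1.UnivInjective R B)
    (D : Desc.ringModPF.{u}.DescentData (fun _ : PUnit.{u + 1} => (fRB R B).op)) :
    ∃ M : ModuleCat.{u} R, Nonempty ((Desc.ringModPF.{u}.toDescentData
      (fun _ : PUnit.{u + 1} => (fRB R B).op)).obj M ≅ D) := by
  letI : Module R (objN D) := Module.compHom (objN D) (algebraMap R B)
  haveI : IsScalarTower R B (objN D) := ⟨fun r b n => by
    show (r • b) • n = algebraMap R B r • (b • n)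
    rw [Algebra.smul_def, mul_smul]⟩
  haveI : IsIso (uhom D) := by
    rw [uhom_eq_ghom]
    exact ghom_isIso _ _ _ _ _ _ D
  obtain ⟨M, e, he⟩ := exists_descended_pure hp (N := objN D) (uhom D) (cocycle_of_descentData D)
  refine ⟨M, iso_of_universal _ D e ?_⟩
  rw [uhom_toDescentData]
  exact he

end effective

section inj

variable (R B)

/-- the additive comparison `B ⊗_{R,alg} M' → B ⊗[R] M'` -/
noncomputable def toTP (M' : ModuleCat.{u} R) :
    (extendScalars (fRB R B).hom).obj M' →+ B ⊗[R] M' :=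
  liftE (fRB R B) M'
    (LinearMap.toAddMonoidHom'.comp (TensorProduct.mk R B M').toAddMonoidHom)
    (by
      intro a t m
      show (algebraMap R B a * t) ⊗ₜ[R] m = t ⊗ₜ[R] (a • m)
      rw [← Algebra.smul_def, TensorProduct.smul_tmul])

lemma toTP_tm (M' : ModuleCat.{u} R) (b : B) (m : M') :
    toTP R B M' (tm (fRB R B) M' b m) = b ⊗ₜ[R] m := by
  unfold toTP
  rw [liftE_tm]
  rfl

variable {R B}

theorem tm_one_injective (hp : Pi1.UnivInjective R B) (M' : ModuleCat.{u} R) :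
    Function.Injective (fun m : M' => tm (fRB R B) M' 1 m) := by
  intro m m' h
  have h' := congrArg (toTP R B M') h
  simp only [toTP_tm] at h'
  exact Groth.Agent.Lib.helper4.pure_one_tmul_injective hp M' h'

end inj


section amitsur

variable (R B)
variable (M' : ModuleCat.{u} R)

/-- `B ⊗_{R,alg} M'` -/
noncomputable abbrev EE : ModuleCat.{u} B := (extendScalars (fRB R B).hom).obj M'

variable [Module R (EE R B M')] [IsScalarTower R B (EE R B M')]

/-- `m ↦ 1 ⊗ m` -/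
noncomputable def ι : M' →ₗ[R] EE R B M' where
  toFun m := tm (fRB R B) M' 1 m
  map_add' x y := tm_add_right (fRB R B) M' 1 x y
  map_smul' r m := by
    simp only [RingHom.id_apply]
    rw [← algebraMap_smul B r (tm (fRB R B) M' 1 m)]
    erw [smul_tm]
    have := tm_balanced' (fRB R B) M' 1 r m
    exact this.symm

lemma ι_apply (m : M') : ι R B M' m = tm (fRB R B) M' 1 m := rfl

variable {R B M'}
variable (hom : (extendScalars (p₁ R B).hom).obj (EE R B M') ⟶
    (extendScalars (p₂ R B).hom).obj (EE R B M'))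
  (hcan : IsCanon (fRB R B) (p₁ R B) (p₂ R B) M' hom)

include hcan in
lemma hhom_of_isCanon (c : B) (m : M') :
    hom (tm (p₁ R B) (EE R B M') 1 (tm (fRB R B) M' c m)) =
      tm (p₂ R B) (EE R B M') (c ⊗ₜ[R] (1 : B)) (tm (fRB R B) M' 1 m) := hcan c m

include hcan in
lemma φ₁_chom_tm (c : B) (m : M') :
    φ₁ (N := EE R B M') hom (tm (fRB R B) M' c m) =
      c ⊗ₜ[R] tm (fRB R B) M' 1 m := by
  rw [φ₁_apply]
  erw [hhom_of_isCanon hom hcan]
  show β₂ R B (EE R B M') (tm (p₂ R B) (ModuleCat.of B (EE R B M')) (c ⊗ₜ[R] (1 : B))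
    (tm (fRB R B) M' 1 m)) = _
  rw [β₂_tm, one_smul]

lemma hw_of_isFixed (w : EE R B M') (hw : IsFixed (p₁ R B) (p₂ R B) (EE R B M') hom w) :
    hom (tm (p₁ R B) (EE R B M') 1 w) =
      tm (p₂ R B) (EE R B M') ((1 : B) ⊗ₜ[R] (1 : B)) w := hw

include hcan in
theorem amitsur (hp : Pi1.UnivInjective R B) (w : EE R B M')
    (hw : IsFixed (p₁ R B) (p₂ R B) (EE R B M') hom w) :
    ∃ m : M', w = tm (fRB R B) M' 1 m := by
  have h1 : φ₁ (N := EE R B M') hom w = (1 : B) ⊗ₜ[R] w := by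
    rw [φ₁_apply]
    erw [hw_of_isFixed hom w hw]
    show β₂ R B (EE R B M') (tm (p₂ R B) (ModuleCat.of B (EE R B M')) ((1 : B) ⊗ₜ[R] (1 : B)) w) = _
    rw [β₂_tm, one_smul]
  let P : Submodule R (EE R B M') := LinearMap.range (ι R B M')
  have h2 : ∀ w : EE R B M', LinearMap.lTensor B P.mkQ
      (φ₁ (N := EE R B M') hom w) = 0 := by
    intro w
    induction w using E_induction (fRB R B) M' with
    | zero => rw [map_zero, map_zero]
    | tm c m =>
      rw [φ₁_chom_tm hom hcan, LinearMap.lTensor_tmul]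
      have : P.mkQ (tm (fRB R B) M' 1 m) = 0 :=
        (Submodule.Quotient.mk_eq_zero P).mpr ⟨m, rfl⟩
      rw [this, TensorProduct.tmul_zero]
    | add x y hx hy => rw [map_add, map_add, hx, hy, add_zero]
  have h3 : (1 : B) ⊗ₜ[R] P.mkQ w = 0 := by
    rw [← LinearMap.lTensor_tmul, ← h1]
    exact h2 w
  have h4 := Groth.Agent.Lib.helper4.pure_one_tmul_injective hp (EE R B M' ⧸ P)
    (h3.trans (TensorProduct.tmul_zero _ _).symm)
  obtain ⟨m, hm⟩ := (Submodule.Quotient.mk_eq_zero P).mp h4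
  exact ⟨m, hm.symm⟩

end amitsur


end Groth.Agent.Lib.helper16.Desc6
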