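import Mathlib
import Groth.Prelude.Def_Desc
import Groth.Prelude.Def_Pi1
import Groth.Agent.Lib.Helper4.PureDescent
import Groth.Agent.Lib.Helper16.Desc6

/-!
# Descent of modules along universally injective ring maps: fully faithfulness and converse
-/

set_option autoImplicit false
set_option backward.isDefEq.respectTransparency false
set_option backward.isDefEq.respectTransparency.types false
universe u
open CategoryTheory Opposite TensorProduct ModuleCat Pseudofunctor

namespace Groth.Agent.Lib.helper16.Desc7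

open Desc2 Desc3 Desc4 Desc6

variable {R B : Type u} [CommRing R] [CommRing B] [Algebra R B]

section ff

theorem exists_preimage_elt (hp : Pi1.UnivInjective R B) (M M' : ModuleCat.{u} R)
    (Ψ : (Desc.ringModPF.{u}.toDescentData (fun _ : PUnit.{u + 1} => (fRB R B).op)).obj M ⟶
      (Desc.ringModPF.{u}.toDescentData (fun _ : PUnit.{u + 1} => (fRB R B).op)).obj M') (m : M) :
    ∃ m' : M', comp₀ (fRB R B) M M' Ψ (tm (fRB R B) M 1 m) = tm (fRB R B) M' 1 m' := by
  letI : Module R (EE R B M') := Module.compHom (EE R B M') (algebraMap R B)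
  haveI : IsScalarTower R B (EE R B M') := ⟨fun r b n => by
    show (r • b) • n = algebraMap R B r • (b • n)
    rw [Algebra.smul_def, mul_smul]⟩
  exact amitsur _ (isCanon_canonical (fRB R B) (p₁ R B) (p₂ R B) (q₀ R B) rfl (fRB_p₁ R B).symm M')
    hp _ (isFixed_of_hom (fRB R B) (p₁ R B) (p₂ R B) (q₀ R B) rfl (fRB_p₁ R B).symm M M' Ψ m)

theorem full (hp : Pi1.UnivInjective R B) (M M' : ModuleCat.{u} R)
    (Ψ : (Desc.ringModPF.{u}.toDescentData (fun _ : PUnit.{u + 1} => (fRB R B).op)).obj M ⟶
      (Desc.ringModPF.{u}.toDescentData (fun _ : PUnit.{u + 1} => (fRB R B).op)).obj M') :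
    ∃ φ : M ⟶ M',
      (Desc.ringModPF.{u}.toDescentData (fun _ : PUnit.{u + 1} => (fRB R B).op)).map φ = Ψ := by
  choose φ₀ hφ₀ using exists_preimage_elt hp M M' Ψ
  have hinj := tm_one_injective hp M'
  let φ : M →ₗ[R] M' :=
    { toFun := φ₀
      map_add' := fun x y => hinj (by
        show tm (fRB R B) M' 1 (φ₀ (x + y)) = tm (fRB R B) M' 1 (φ₀ x + φ₀ y)
        rw [← hφ₀, tm_add_right, map_add, hφ₀, hφ₀, tm_add_right])
      map_smul' := fun r x => hinj (by
        show tm (fRB R B) M' 1 (φ₀ (r • x)) = tm (fRB R B) M' 1 (r • φ₀ x)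
        rw [← hφ₀, ← tm_balanced' (fRB R B) M 1 r x, tm_eq_smul_one, map_smul, hφ₀,
          ← tm_eq_smul_one, tm_balanced']) }
  refine ⟨ModuleCat.ofHom φ, ?_⟩
  apply DescentData.hom_ext
  intro i
  show (extendScalars (fRB R B).hom).map (ModuleCat.ofHom φ) = comp₀ (fRB R B) M M' Ψ
  apply hom_ext_tm
  intro m
  rw [map_tm]
  exact (hφ₀ m).symm

theorem map_inj (hp : Pi1.UnivInjective R B) (M M' : ModuleCat.{u} R) (a b : M ⟶ M')
    (h : (Desc.ringModPF.{u}.toDescentData (fun _ : PUnit.{u + 1} => (fRB R B).op)).map a =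
      (Desc.ringModPF.{u}.toDescentData (fun _ : PUnit.{u + 1} => (fRB R B).op)).map b) :
    a = b := by
  have h' : (extendScalars (fRB R B).hom).map a = (extendScalars (fRB R B).hom).map b :=
    congrArg (fun Ψ => comp₀ (fRB R B) M M' Ψ) h
  apply ModuleCat.hom_ext
  apply LinearMap.ext
  intro m
  apply tm_one_injective hp M'
  have := congrArg (fun α => α (tm (fRB R B) M 1 m)) h'
  exact this

theorem faithful (hp : Pi1.UnivInjective R B) :
    (Desc.ringModPF.{u}.toDescentData (fun _ : PUnit.{u + 1} => (fRB R B).op)).Faithful :=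
  ⟨fun {M M'} a b h => map_inj hp M M' a b h⟩

theorem isEquivalence (hp : Pi1.UnivInjective R B) :
    (Desc.ringModPF.{u}.toDescentData (fun _ : PUnit.{u + 1} => (fRB R B).op)).IsEquivalence where
  faithful := faithful hp
  full := ⟨fun {M M'} Ψ => full hp M M' Ψ⟩
  essSurj := ⟨fun D => by
    obtain ⟨M, hM⟩ := main_pure hp D
    exact ⟨M, hM⟩⟩

end ff

section converse

variable (R B)

/-- `P ⊗[R] B → B ⊗_{R,alg} P`, `p ⊗ b ↦ b ⊗ p` -/
noncomputable def κc (P : ModuleCat.{u} R) :
    P ⊗[R] B →+ (extendScalars (fRB R B).hom).obj P :=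
  TensorProduct.liftAddHom (tmHom (fRB R B) P).flip
    (by
      intro r p b
      show tm (fRB R B) P b (r • p) = tm (fRB R B) P (r • b) p
      rw [Algebra.smul_def]
      exact (tm_balanced' (fRB R B) P b r p).symm)

lemma κc_tmul (P : ModuleCat.{u} R) (p : P) (b : B) :
    κc R B P (p ⊗ₜ[R] b) = tm (fRB R B) P b p := by
  unfold κc
  rw [TensorProduct.liftAddHom_tmul]
  rfl

variable {R B}

theorem univInjective_of_faithful
    [(Desc.ringModPF.{u}.toDescentData (fun _ : PUnit.{u + 1} => (fRB R B).op)).Faithful] :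
    Pi1.UnivInjective R B := by
  intro P _ _
  rw [injective_iff_map_eq_zero]
  intro z hz
  have hzp : z = (TensorProduct.rid R P z) ⊗ₜ[R] (1 : R) := by
    rw [← TensorProduct.rid_symm_apply, LinearEquiv.symm_apply_apply]
  set p := TensorProduct.rid R P z with hp
  rw [hzp] at hz ⊢
  rw [LinearMap.lTensor_tmul, Algebra.linearMap_apply, map_one] at hz
  have h0 : tm (fRB R B) (ModuleCat.of R P) 1 p = 0 := by
    have := congrArg (κc R B (ModuleCat.of R P)) hz
    rw [κc_tmul, map_zero] at this
    exact this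
  let φp : ModuleCat.of R R ⟶ ModuleCat.of R P :=
    ModuleCat.ofHom (LinearMap.toSpanSingleton R P p)
  let φz : ModuleCat.of R R ⟶ ModuleCat.of R P := 0
  have hmap : (Desc.ringModPF.{u}.toDescentData (fun _ : PUnit.{u + 1} => (fRB R B).op)).map φp =
      (Desc.ringModPF.{u}.toDescentData (fun _ : PUnit.{u + 1} => (fRB R B).op)).map φz := by
    apply DescentData.hom_ext
    intro i
    show (extendScalars (fRB R B).hom).map φp = (extendScalars (fRB R B).hom).map φz
    apply hom_ext_tm
    intro r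
    rw [map_tm, map_tm]
    show tm (fRB R B) (ModuleCat.of R P) 1 ((r : R) • p) = tm (fRB R B) (ModuleCat.of R P) 1 0
    rw [tm_zero_right, ← tm_balanced', tm_eq_smul_one, h0, smul_zero]
  have hφ := (Desc.ringModPF.{u}.toDescentData
    (fun _ : PUnit.{u + 1} => (fRB R B).op)).map_injective hmap
  have h1 := congrArg (fun α : ModuleCat.of R R ⟶ ModuleCat.of R P => α (1 : R)) hφ
  have h2 : p = 0 := by
    have : (1 : R) • p = 0 := h1
    rwa [one_smul] at this
  rw [h2, TensorProduct.zero_tmul]

end converse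


end Groth.Agent.Lib.helper16.Desc7
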