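import Mathlib

/-!
# Auxiliary operators on the exterior algebra (for the trace map on differentials, S7357)

For an `R`-module `M` and `m₀ : M` we let `E' ⊆ ExteriorAlgebra R M` be the kernel of left
multiplication by `ι m₀`, `Q = E' × E'`, and define a linear map `A : M × R → End_R(Q)` with
`A n * A n = 0` and `A (m₀, 0) = 0`.
-/

namespace Groth.Agent.Lib.helper16.DiffTrace

open ExteriorAlgebra

variable {R : Type*} [CommRing R] {M : Type*} [AddCommGroup M] [Module R M] (m₀ : M)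

/-- The kernel of left multiplication by `ι m₀`. -/
noncomputable def E' : Submodule R (ExteriorAlgebra R M) :=
  LinearMap.ker (LinearMap.mulLeft R (ι R m₀))

lemma mem_E' (y : ExteriorAlgebra R M) : y ∈ E' (R := R) m₀ ↔ ι R m₀ * y = 0 := by
  simp [E', LinearMap.mem_ker]

lemma ι_mem_E' : ι R m₀ ∈ E' (R := R) m₀ := by
  rw [mem_E']; exact ι_sq_zero m₀

lemma ι_mul_mem_E' (m : M) {y : ExteriorAlgebra R M} (hy : y ∈ E' (R := R) m₀) :
    ι R m * y ∈ E' (R := R) m₀ := by
  rw [mem_E'] at hy ⊢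
  have h := ι_add_mul_swap (R := R) m₀ m
  have : ι R m₀ * ι R m = - (ι R m * ι R m₀) := eq_neg_of_add_eq_zero_left h
  rw [← mul_assoc, this, neg_mul, mul_assoc, hy, mul_zero, neg_zero]

/-- Left multiplication by `ι m` on `E'`. -/
noncomputable def L (m : M) : E' (R := R) m₀ →ₗ[R] E' (R := R) m₀ :=
  (LinearMap.mulLeft R (ι R m)).restrict (fun _ hy => ι_mul_mem_E' m₀ m hy)

@[simp] lemma L_coe (m : M) (y : E' (R := R) m₀) : ((L m₀ m y : E' (R := R) m₀) : ExteriorAlgebra R M) = ι R m * y := rfl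

lemma L_add (m m' : M) : L (R := R) m₀ (m + m') = L m₀ m + L m₀ m' := by
  ext y; simp [add_mul]

lemma L_smul (r : R) (m : M) : L (R := R) m₀ (r • m) = r • L m₀ m := by
  ext y; simp

lemma L_self : L (R := R) m₀ m₀ = 0 := by
  ext y
  have := (mem_E' m₀ (y : ExteriorAlgebra R M)).1 y.2
  simpa using this

lemma L_sq (m : M) (y : E' (R := R) m₀) : L m₀ m (L m₀ m y) = 0 := by
  ext
  simp [← mul_assoc, ι_sq_zero]

/-- `L` as a linear map in `m`. -/
noncomputable def Llin : M →ₗ[R] Module.End R (E' (R := R) m₀) where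
  toFun m := L m₀ m
  map_add' := L_add m₀
  map_smul' := L_smul m₀

@[simp] lemma Llin_apply (m : M) : Llin (R := R) m₀ m = L m₀ m := rfl

/-- The operator `A (m, c) (y₀, y₁) = (m y₀, - m y₁ + c y₀)` on `Q = E' × E'`. -/
noncomputable def A : (M × R) →ₗ[R] Module.End R (E' (R := R) m₀ × E' (R := R) m₀) where
  toFun n :=
    LinearMap.prod ((L m₀ n.1).comp (LinearMap.fst R _ _))
      (- (L m₀ n.1).comp (LinearMap.snd R _ _) + n.2 • LinearMap.fst R _ _)
  map_add' n n' := by
    apply LinearMap.ext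
    rintro ⟨y₀, y₁⟩
    simp [L_add, add_smul]
    abel
  map_smul' r n := by
    apply LinearMap.ext
    rintro ⟨y₀, y₁⟩
    simp [L_smul, mul_smul]

lemma A_apply (n : M × R) (y : E' (R := R) m₀ × E' (R := R) m₀) :
    A m₀ n y = (L m₀ n.1 y.1, - L m₀ n.1 y.2 + n.2 • y.1) := by
  simp [A]

lemma A_sq (n : M × R) : A (R := R) m₀ n * A m₀ n = 0 := by
  apply LinearMap.ext
  rintro ⟨y₀, y₁⟩
  simp only [Module.End.mul_apply, A_apply, LinearMap.zero_apply, Prod.mk_eq_zero]
  refine ⟨L_sq m₀ _ _, ?_⟩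
  simp [L_sq, map_add, map_neg, map_smul]

lemma A_m₀ : A (R := R) m₀ (m₀, 0) = 0 := by
  apply LinearMap.ext
  rintro ⟨y₀, y₁⟩
  simp [A_apply, L_self]

lemma A_anticomm (n n' : M × R) : A (R := R) m₀ n * A m₀ n' + A m₀ n' * A m₀ n = 0 := by
  have h := A_sq m₀ (n + n')
  rw [map_add, add_mul, mul_add, mul_add, A_sq, A_sq, zero_add, add_zero] at h
  exact h

end Groth.Agent.Lib.helper16.DiffTrace
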