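import Groth.Agent.Lib.Helper16.DiffTrace1

/-!
# Products of the operators `A (η, 0)` (S7357)
-/

namespace Groth.Agent.Lib.helper16.DiffTrace

open ExteriorAlgebra

variable {R : Type*} [CommRing R] {M : Type*} [AddCommGroup M] [Module R M] (m₀ : M)

lemma prodA_pure (l : List M) (q : E' (R := R) m₀) :
    (((l.map (fun η => A (R := R) m₀ (η, 0))).prod (q, 0)).1 : ExteriorAlgebra R M) =
        (l.map (ι R)).prod * q ∧
      ((l.map (fun η => A (R := R) m₀ (η, 0))).prod (q, 0)).2 = 0 := by
  induction l with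
  | nil => simp
  | cons η l ih =>
    obtain ⟨h1, h2⟩ := ih
    simp only [List.map_cons, List.prod_cons, Module.End.mul_apply, A_apply]
    refine ⟨?_, ?_⟩
    · simp [h1, mul_assoc]
    · simp [h2]

lemma prodA_snd (l : List M) (y : E' (R := R) m₀) :
    ((l.map (fun η => A (R := R) m₀ (η, 0))).prod (0, y)).1 = 0 ∧
      (((l.map (fun η => A (R := R) m₀ (η, 0))).prod (0, y)).2 : ExteriorAlgebra R M) =
        (-1 : R) ^ l.length • ((l.map (ι R)).prod * y) := by
  induction l with
  | nil => simp
  | cons η l ih =>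
    obtain ⟨h1, h2⟩ := ih
    simp only [List.map_cons, List.prod_cons, Module.End.mul_apply, A_apply]
    refine ⟨?_, ?_⟩
    · simp [h1]
    · simp [h1, h2, mul_assoc, pow_succ]

lemma A_e_apply (q : E' (R := R) m₀) : A (R := R) m₀ (0, 1) (q, 0) = (0, q) := by
  simp [A_apply]
  ext; simp

end Groth.Agent.Lib.helper16.DiffTrace
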