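import Groth.Agent.Lib.Helper16.DiffTrace2

/-!
# The derivation `R[X]/(X^p - a) → S ⊗ End(Q)` (S7357)
-/

namespace Groth.Agent.Lib.helper16.DiffTrace

open ExteriorAlgebra Polynomial TensorProduct

universe u

variable (p : ℕ) [Fact p.Prime] (Λ R : Type u) [CommRing Λ] [CommRing R] [Algebra Λ R]
  [CharP R p] (a : R)

/-- `da`. -/
noncomputable abbrev m₀ : Ω[R⁄Λ] := KaehlerDifferential.D Λ R a

/-- `Q = E' × E'`. -/
abbrev Q : Type u := E' (R := R) (m₀ Λ R a) × E' (R := R) (m₀ Λ R a)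

/-- `B₀ = End_R(Q)`. -/
abbrev B₀ : Type u := Module.End R (Q Λ R a)

/-- `S = R[X]/(X^p - a)`. -/
abbrev S : Type u := AdjoinRoot (X ^ p - C a : R[X])

/-- `P = S ⊗ B₀`. -/
abbrev P : Type u := S p R a ⊗[R] B₀ Λ R a

/-- `a₁ r = A (dr, 0)`. -/
noncomputable def a₁ : R →+ B₀ Λ R a where
  toFun r := A (m₀ Λ R a) (KaehlerDifferential.D Λ R r, 0)
  map_zero' := by
    rw [map_zero, show ((0 : Ω[R⁄Λ]), (0 : R)) = 0 from rfl, map_zero]
  map_add' r r' := by
    rw [← map_add]; congr 1; simp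

lemma a₁_mul (r r' : R) : a₁ Λ R a (r * r') = r • a₁ Λ R a r' + r' • a₁ Λ R a r := by
  simp only [a₁, AddMonoidHom.coe_mk, ZeroHom.coe_mk, Derivation.leibniz]
  have : ((r • KaehlerDifferential.D Λ R r' + r' • KaehlerDifferential.D Λ R r, (0 : R)) :
      Ω[R⁄Λ] × R) = r • (KaehlerDifferential.D Λ R r', (0 : R)) +
        r' • (KaehlerDifferential.D Λ R r, (0 : R)) := by simp
  rw [this, map_add, map_smul, map_smul]

lemma a₁_a : a₁ Λ R a a = 0 := A_m₀ _

lemma a₁_algebraMap (c : Λ) : a₁ Λ R a (algebraMap Λ R c) = 0 := by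
  simp only [a₁, AddMonoidHom.coe_mk, ZeroHom.coe_mk, Derivation.map_algebraMap]
  rw [show ((0 : Ω[R⁄Λ]), (0 : R)) = 0 from rfl, map_zero]

/-- `A₂ = A (0, 1)`. -/
noncomputable def A₂ : B₀ Λ R a := A (m₀ Λ R a) (0, 1)

/-- The coefficientwise part of the derivation on `R[X]`. -/
noncomputable def D₁ (f : R[X]) : P p Λ R a :=
  f.sum (fun n r => (AdjoinRoot.mk (X ^ p - C a) (X ^ n)) ⊗ₜ[R] a₁ Λ R a r)

/-- The `∂/∂x` part. -/
noncomputable def D₂ (f : R[X]) : P p Λ R a :=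
  (AdjoinRoot.mk (X ^ p - C a) (derivative f)) ⊗ₜ[R] A₂ Λ R a

lemma D₁_add (f h : R[X]) : D₁ p Λ R a (f + h) = D₁ p Λ R a f + D₁ p Λ R a h := by
  unfold D₁
  rw [Polynomial.sum_add_index]
  · intro i; simp
  · intro n r r'; simp [tmul_add]

lemma D₁_monomial (n : ℕ) (r : R) :
    D₁ p Λ R a (monomial n r) = (AdjoinRoot.mk (X ^ p - C a) (X ^ n)) ⊗ₜ[R] a₁ Λ R a r := by
  unfold D₁
  rw [Polynomial.sum_monomial_index]
  simp

lemma D₁_mul (f h : R[X]) :
    D₁ p Λ R a (f * h) = AdjoinRoot.mk (X ^ p - C a) f • D₁ p Λ R a h +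
      AdjoinRoot.mk (X ^ p - C a) h • D₁ p Λ R a f := by
  induction f using Polynomial.induction_on' with
  | add f₁ f₂ h₁ h₂ =>
    simp only [add_mul, D₁_add, map_add, add_smul, smul_add, h₁, h₂]
    abel
  | monomial n r =>
    induction h using Polynomial.induction_on' with
    | add f₁ f₂ h₁ h₂ =>
      simp only [mul_add, D₁_add, map_add, add_smul, smul_add, h₁, h₂]
      abel
    | monomial m r' =>
      rw [Polynomial.monomial_mul_monomial, D₁_monomial, D₁_monomial, D₁_monomial, a₁_mul,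
        tmul_add, smul_tmul', smul_tmul']
      congr 1
      · rw [← smul_tmul, smul_eq_mul, ← map_mul]
        congr 2
        rw [← C_mul_X_pow_eq_monomial]
        simp only [Algebra.smul_def, map_mul, map_pow, AdjoinRoot.mk_X, AdjoinRoot.mk_C]
        rw [AdjoinRoot.algebraMap_eq, pow_add]
        ring
      · rw [← smul_tmul, smul_eq_mul, ← map_mul]
        congr 2
        rw [← C_mul_X_pow_eq_monomial]
        simp only [Algebra.smul_def, map_mul, map_pow, AdjoinRoot.mk_X, AdjoinRoot.mk_C]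
        rw [AdjoinRoot.algebraMap_eq, pow_add]
        ring

lemma D₂_add (f h : R[X]) : D₂ p Λ R a (f + h) = D₂ p Λ R a f + D₂ p Λ R a h := by
  simp [D₂, add_tmul]

lemma D₂_mul (f h : R[X]) :
    D₂ p Λ R a (f * h) = AdjoinRoot.mk (X ^ p - C a) f • D₂ p Λ R a h +
      AdjoinRoot.mk (X ^ p - C a) h • D₂ p Λ R a f := by
  simp only [D₂, derivative_mul, map_add, map_mul, add_tmul, smul_tmul', smul_eq_mul]
  rw [add_comm, mul_comm (AdjoinRoot.mk (X ^ p - C a) (derivative f))]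

/-- The derivation on `R[X]`. -/
noncomputable def D₀ (f : R[X]) : P p Λ R a := D₁ p Λ R a f + D₂ p Λ R a f

lemma D₀_add (f h : R[X]) : D₀ p Λ R a (f + h) = D₀ p Λ R a f + D₀ p Λ R a h := by
  simp only [D₀, D₁_add, D₂_add]; abel

lemma D₀_mul (f h : R[X]) :
    D₀ p Λ R a (f * h) = AdjoinRoot.mk (X ^ p - C a) f • D₀ p Λ R a h +
      AdjoinRoot.mk (X ^ p - C a) h • D₀ p Λ R a f := by
  simp only [D₀, D₁_mul, D₂_mul, smul_add]; abel

lemma D₀_zero : D₀ p Λ R a 0 = 0 := by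
  have := D₀_add p Λ R a 0 0
  simpa using this

lemma D₀_neg (f : R[X]) : D₀ p Λ R a (-f) = - D₀ p Λ R a f := by
  have := D₀_add p Λ R a f (-f)
  rw [add_neg_cancel, D₀_zero] at this
  exact eq_neg_of_add_eq_zero_right this.symm

lemma D₀_sub (f h : R[X]) : D₀ p Λ R a (f - h) = D₀ p Λ R a f - D₀ p Λ R a h := by
  have h1 : f - h = f + -h := sub_eq_add_neg f h
  rw [h1, D₀_add, D₀_neg]
  exact (sub_eq_add_neg _ _).symm

lemma D₀_C (r : R) : D₀ p Λ R a (C r) = (1 : S p R a) ⊗ₜ[R] a₁ Λ R a r := by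
  simp only [D₀, D₂, derivative_C, map_zero, zero_tmul, add_zero]
  rw [← monomial_zero_left, D₁_monomial]
  simp

lemma D₀_X_pow (n : ℕ) : D₀ p Λ R a (X ^ n) =
    ((n : S p R a) * AdjoinRoot.root (X ^ p - C a) ^ (n - 1)) ⊗ₜ[R] A₂ Λ R a := by
  have h1 : D₁ p Λ R a (X ^ n) = 0 := by
    have : a₁ Λ R a 1 = 0 := by
      have := a₁_algebraMap Λ R a 1
      simpa using this
    rw [show (X ^ n : R[X]) = monomial n 1 from (monomial_one_right_eq_X_pow n).symm,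
      D₁_monomial, this, tmul_zero]
  simp only [D₀, h1, zero_add, D₂, derivative_X_pow, map_mul, map_pow, AdjoinRoot.mk_X,
    AdjoinRoot.mk_C]
  congr 2

lemma D₀_g : D₀ p Λ R a (X ^ p - C a) = 0 := by
  rw [D₀_sub, D₀_X_pow, D₀_C, a₁_a, tmul_zero, sub_zero]
  have : ((p : ℕ) : S p R a) = 0 := by
    have h : ((p : ℕ) : R) = 0 := CharP.cast_eq_zero R p
    have h2 : ((p : ℕ) : S p R a) = algebraMap R (S p R a) ((p : ℕ) : R) := by
      rw [map_natCast]
    rw [h2, h, map_zero]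
  rw [this, zero_mul, zero_tmul]

lemma D₀_mul_g (q : R[X]) : D₀ p Λ R a ((X ^ p - C a) * q) = 0 := by
  rw [D₀_mul, D₀_g, smul_zero, add_zero, AdjoinRoot.mk_self, zero_smul]

lemma monic_g : (X ^ p - C a : R[X]).Monic :=
  monic_X_pow_sub_C a (Fact.out : p.Prime).ne_zero

lemma D₀_modByMonic (f : R[X]) :
    D₀ p Λ R a (f %ₘ (X ^ p - C a)) = D₀ p Λ R a f := by
  have h := Polynomial.modByMonic_add_div f (X ^ p - C a)
  conv_rhs => rw [← h]
  rw [D₀_add, D₀_mul_g, add_zero]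

/-- The derivation on `S`, as a function. -/
noncomputable def δfun (s : S p R a) : P p Λ R a :=
  D₀ p Λ R a (AdjoinRoot.modByMonicHom (monic_g p R a) s)

lemma δfun_mk (f : R[X]) : δfun p Λ R a (AdjoinRoot.mk _ f) = D₀ p Λ R a f := by
  rw [δfun, AdjoinRoot.modByMonicHom_mk, D₀_modByMonic]

lemma δfun_add (s s' : S p R a) : δfun p Λ R a (s + s') = δfun p Λ R a s + δfun p Λ R a s' := by
  obtain ⟨f, rfl⟩ := AdjoinRoot.mk_surjective s
  obtain ⟨h, rfl⟩ := AdjoinRoot.mk_surjective s'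
  rw [← map_add, δfun_mk, δfun_mk, δfun_mk, D₀_add]

lemma δfun_mul (s s' : S p R a) :
    δfun p Λ R a (s * s') = s • δfun p Λ R a s' + s' • δfun p Λ R a s := by
  obtain ⟨f, rfl⟩ := AdjoinRoot.mk_surjective s
  obtain ⟨h, rfl⟩ := AdjoinRoot.mk_surjective s'
  rw [← map_mul, δfun_mk, δfun_mk, δfun_mk, D₀_mul]

lemma δfun_algebraMap (r : R) :
    δfun p Λ R a (algebraMap R (S p R a) r) = (1 : S p R a) ⊗ₜ[R] a₁ Λ R a r := by
  rw [AdjoinRoot.algebraMap_eq, ← AdjoinRoot.mk_C, δfun_mk, D₀_C]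

lemma δfun_root : δfun p Λ R a (AdjoinRoot.root _) = (1 : S p R a) ⊗ₜ[R] A₂ Λ R a := by
  rw [← AdjoinRoot.mk_X, δfun_mk]
  have := D₀_X_pow p Λ R a 1
  simpa using this

end Groth.Agent.Lib.helper16.DiffTrace
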