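import Groth.Agent.Lib.Helper16.DiffTrace3

/-!
# The map `Ω[S⁄Λ] → S ⊗ End(Q)` and its extension to the exterior algebra (S7357)
-/

namespace Groth.Agent.Lib.helper16.DiffTrace

open ExteriorAlgebra Polynomial TensorProduct

universe u

variable (p : ℕ) [Fact p.Prime] (Λ R : Type u) [CommRing Λ] [CommRing R] [Algebra Λ R]
  [CharP R p] (a : R)

lemma δfun_smul (c : Λ) (s : S p R a) : δfun p Λ R a (c • s) = c • δfun p Λ R a s := by
  rw [Algebra.smul_def, δfun_mul, IsScalarTower.algebraMap_apply Λ R (S p R a), δfun_algebraMap,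
    a₁_algebraMap, tmul_zero, smul_zero, add_zero, ← IsScalarTower.algebraMap_apply,
    algebraMap_smul]

/-- The derivation `δ : S → P`. -/
noncomputable def δ : Derivation Λ (S p R a) (P p Λ R a) :=
  Derivation.mk'
    { toFun := δfun p Λ R a
      map_add' := δfun_add p Λ R a
      map_smul' := δfun_smul p Λ R a }
    (δfun_mul p Λ R a)

@[simp] lemma δ_apply (s : S p R a) : δ p Λ R a s = δfun p Λ R a s := rfl

/-- The `S`-linear map `Ω[S⁄Λ] → P`. -/
noncomputable def fΩ : Ω[S p R a⁄Λ] →ₗ[S p R a] P p Λ R a :=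
  (δ p Λ R a).liftKaehlerDifferential

lemma fΩ_D (s : S p R a) : fΩ p Λ R a (KaehlerDifferential.D Λ _ s) = δfun p Λ R a s := by
  simp [fΩ]

/-- The `S`-span of the elements `1 ⊗ A n`. -/
noncomputable def K : Submodule (S p R a) (P p Λ R a) :=
  Submodule.span (S p R a) (Set.range fun n : Ω[R⁄Λ] × R => (1 : S p R a) ⊗ₜ[R] A (m₀ Λ R a) n)

lemma tmul_mem_K (s : S p R a) (n : Ω[R⁄Λ] × R) : s ⊗ₜ[R] A (m₀ Λ R a) n ∈ K p Λ R a := by
  have : s ⊗ₜ[R] A (m₀ Λ R a) n = s • ((1 : S p R a) ⊗ₜ[R] A (m₀ Λ R a) n) := by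
    rw [smul_tmul', smul_eq_mul, mul_one]
  rw [this]
  exact Submodule.smul_mem _ _ (Submodule.subset_span ⟨n, rfl⟩)

lemma D₀_mem_K (f : R[X]) : D₀ p Λ R a f ∈ K p Λ R a := by
  refine Submodule.add_mem _ ?_ ?_
  · rw [D₁, Polynomial.sum_def]
    refine Submodule.sum_mem _ fun n _ => ?_
    exact tmul_mem_K p Λ R a _ _
  · exact tmul_mem_K p Λ R a _ _

lemma δfun_mem_K (s : S p R a) : δfun p Λ R a s ∈ K p Λ R a := D₀_mem_K p Λ R a _

lemma fΩ_mem_K (ω : Ω[S p R a⁄Λ]) : fΩ p Λ R a ω ∈ K p Λ R a := by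
  have h : ω ∈ Submodule.span (S p R a) (Set.range (KaehlerDifferential.D Λ (S p R a))) := by
    rw [KaehlerDifferential.span_range_derivation]; trivial
  induction h using Submodule.span_induction with
  | mem x hx =>
    obtain ⟨s, rfl⟩ := hx
    rw [fΩ_D]; exact δfun_mem_K p Λ R a s
  | zero => rw [map_zero]; exact Submodule.zero_mem _
  | add x y _ _ hx hy => rw [map_add]; exact Submodule.add_mem _ hx hy
  | smul s x _ hx => rw [map_smul]; exact Submodule.smul_mem _ _ hx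

lemma K_anticomm {y y' : P p Λ R a} (hy : y ∈ K p Λ R a) (hy' : y' ∈ K p Λ R a) :
    y * y' + y' * y = 0 := by
  induction hy using Submodule.span_induction with
  | mem x hx =>
    obtain ⟨n, rfl⟩ := hx
    induction hy' using Submodule.span_induction with
    | mem x' hx' =>
      obtain ⟨n', rfl⟩ := hx'
      rw [Algebra.TensorProduct.tmul_mul_tmul, Algebra.TensorProduct.tmul_mul_tmul, ← tmul_add,
        A_anticomm, tmul_zero]
    | zero => simp
    | add x' y' _ _ hx' hy' =>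
      rw [mul_add, add_mul]
      calc _ = ((1 : S p R a) ⊗ₜ[R] A (m₀ Λ R a) n * x' + x' * (1 : S p R a) ⊗ₜ[R] A (m₀ Λ R a) n) +
            ((1 : S p R a) ⊗ₜ[R] A (m₀ Λ R a) n * y' + y' * (1 : S p R a) ⊗ₜ[R] A (m₀ Λ R a) n) := by
            abel
        _ = 0 := by rw [hx', hy', add_zero]
    | smul s x' _ hx' =>
      rw [mul_smul_comm, smul_mul_assoc, ← smul_add, hx', smul_zero]
  | zero => simp
  | add x y _ _ hx hy =>
    rw [mul_add, add_mul]
    calc _ = (x * y' + y' * x) + (y * y' + y' * y) := by abel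
      _ = 0 := by rw [hx, hy, add_zero]
  | smul s x _ hx =>
    rw [mul_smul_comm, smul_mul_assoc, ← smul_add, hx, smul_zero]

lemma K_sq {y : P p Λ R a} (hy : y ∈ K p Λ R a) : y * y = 0 := by
  induction hy using Submodule.span_induction with
  | mem x hx =>
    obtain ⟨n, rfl⟩ := hx
    rw [Algebra.TensorProduct.tmul_mul_tmul, A_sq, tmul_zero]
  | zero => simp
  | add x y hx' hy' hx hy =>
    rw [mul_add, add_mul, add_mul, hx, hy, zero_add, add_zero, add_comm]
    exact K_anticomm p Λ R a hx' hy'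
  | smul s x _ hx =>
    rw [mul_smul_comm, smul_mul_assoc, hx, smul_zero, smul_zero]

lemma fΩ_sq (ω : Ω[S p R a⁄Λ]) : fΩ p Λ R a ω * fΩ p Λ R a ω = 0 :=
  K_sq p Λ R a (fΩ_mem_K p Λ R a ω)

/-- The algebra map from the exterior algebra. -/
noncomputable def Φ : ExteriorAlgebra (S p R a) (Ω[S p R a⁄Λ]) →ₐ[S p R a] P p Λ R a :=
  ExteriorAlgebra.lift (S p R a) ⟨fΩ p Λ R a, fΩ_sq p Λ R a⟩

lemma Φ_ι (ω : Ω[S p R a⁄Λ]) : Φ p Λ R a (ι (S p R a) ω) = fΩ p Λ R a ω := by
  simp [Φ]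

end Groth.Agent.Lib.helper16.DiffTrace
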