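import Groth.Agent.Lib.Helper16.DiffTrace4

/-!
# The trace map (S7357)
-/

namespace Groth.Agent.Lib.helper16.DiffTrace

open ExteriorAlgebra Polynomial TensorProduct

universe u

variable (p : ℕ) [Fact p.Prime] (Λ R : Type u) [CommRing Λ] [CommRing R] [Algebra Λ R]
  [CharP R p] (a : R)

/-- The coefficient of `x^(p-1)`. -/
noncomputable def cS : S p R a →ₗ[R] R :=
  (Polynomial.lcoeff R (p - 1)).comp (AdjoinRoot.modByMonicHom (monic_g p R a))

lemma cS_root_pow (i : ℕ) (hi : i < p) :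
    cS p R a (AdjoinRoot.root (X ^ p - C a) ^ i) = if i = p - 1 then 1 else 0 := by
  have hp : 0 < p := (Fact.out : p.Prime).pos
  have h1 : (X ^ i : R[X]) %ₘ (X ^ p - C a) = X ^ i := by
    nontriviality R
    rw [Polynomial.modByMonic_eq_self_iff (monic_g p R a), degree_X_pow_sub_C hp, degree_X_pow]
    exact_mod_cast hi
  rw [cS, LinearMap.comp_apply, ← AdjoinRoot.mk_X, ← map_pow, AdjoinRoot.modByMonicHom_mk, h1,
    Polynomial.lcoeff_apply, coeff_X_pow]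
  simp [eq_comm]

/-- The base point `(da, 0)` of `Q`. -/
noncomputable def q₀ : Q Λ R a := (⟨ι R (m₀ Λ R a), ι_mem_E' _⟩, 0)

/-- Evaluation `P → ExteriorAlgebra R Ω[R/Λ]`. -/
noncomputable def ev : P p Λ R a →ₗ[R] ExteriorAlgebra R (Ω[R⁄Λ]) :=
  (E' (R := R) (m₀ Λ R a)).subtype ∘ₗ LinearMap.snd R _ _ ∘ₗ (LinearMap.applyₗ (q₀ Λ R a)) ∘ₗ
    (TensorProduct.lid R (B₀ Λ R a)).toLinearMap ∘ₗ (cS p R a).rTensor (B₀ Λ R a)

lemma ev_tmul (s : S p R a) (b : B₀ Λ R a) :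
    ev p Λ R a (s ⊗ₜ[R] b) = cS p R a s • (((b (q₀ Λ R a)).2 : E' (R := R) (m₀ Λ R a)) :
      ExteriorAlgebra R (Ω[R⁄Λ])) := by
  simp [ev]

end Groth.Agent.Lib.helper16.DiffTrace
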