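import Groth.Agent.Lib.Helper16.DiffTrace5

/-!
# Computing `Φ` on decomposable elements (S7357)
-/

namespace Groth.Agent.Lib.helper16.DiffTrace

open ExteriorAlgebra Polynomial TensorProduct

universe u

variable (p : ℕ) [Fact p.Prime] (Λ R : Type u) [CommRing Λ] [CommRing R] [Algebra Λ R]
  [CharP R p] (a : R)

lemma fΩ_map (η : Ω[R⁄Λ]) :
    fΩ p Λ R a (KaehlerDifferential.map Λ Λ R (S p R a) η) =
      (1 : S p R a) ⊗ₜ[R] A (m₀ Λ R a) (η, 0) := by
  have h : η ∈ Submodule.span R (Set.range (KaehlerDifferential.D Λ R)) := by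
    rw [KaehlerDifferential.span_range_derivation]; trivial
  induction h using Submodule.span_induction with
  | mem x hx =>
    obtain ⟨r, rfl⟩ := hx
    rw [KaehlerDifferential.map_D, fΩ_D, δfun_algebraMap]
    rfl
  | zero =>
    rw [map_zero, map_zero, show ((0 : Ω[R⁄Λ]), (0 : R)) = 0 from rfl, map_zero, tmul_zero]
  | add x y _ _ hx hy =>
    rw [map_add, map_add, hx, hy, ← tmul_add, ← map_add]
    congr 2
    simp
  | smul r x _ hx =>
    rw [map_smul, ← algebraMap_smul (S p R a) r, map_smul, hx, smul_tmul']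
    have h1 : (algebraMap R (S p R a) r • (1 : S p R a)) = r • (1 : S p R a) := by
      rw [algebraMap_smul]
    have h2 : ((r • x, (0 : R)) : Ω[R⁄Λ] × R) = r • (x, (0 : R)) := by simp
    rw [h1, smul_tmul, h2, map_smul]

lemma fΩ_root_pow (i : ℕ) :
    fΩ p Λ R a (AdjoinRoot.root (X ^ p - C a) ^ i •
      KaehlerDifferential.D Λ (S p R a) (AdjoinRoot.root (X ^ p - C a))) =
      (AdjoinRoot.root (X ^ p - C a) ^ i) ⊗ₜ[R] A₂ Λ R a := by
  rw [map_smul, fΩ_D, δfun_root, smul_tmul', smul_eq_mul, mul_one]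

lemma Φ_ιMulti (n : ℕ) (v : Fin n → Ω[S p R a⁄Λ]) :
    Φ p Λ R a (ExteriorAlgebra.ιMulti (S p R a) n v) = (List.ofFn fun i => fΩ p Λ R a (v i)).prod := by
  rw [ExteriorAlgebra.ιMulti_apply, map_list_prod, List.map_ofFn]
  congr 2
  funext i
  exact Φ_ι p Λ R a (v i)

lemma prod_one_tmul (l : List (B₀ Λ R a)) :
    (l.map (fun b => (1 : S p R a) ⊗ₜ[R] b)).prod = (1 : S p R a) ⊗ₜ[R] l.prod := by
  induction l with
  | nil => simp [Algebra.TensorProduct.one_def]
  | cons b l ih =>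
    rw [List.map_cons, List.prod_cons, ih, Algebra.TensorProduct.tmul_mul_tmul, one_mul,
      List.prod_cons]

/-- `Φ` on `η₁ ∧ … ∧ η_t ∧ s dx`-type elements. -/
lemma Φ_snoc (t : ℕ) (η : Fin t → Ω[R⁄Λ]) (i : ℕ) :
    Φ p Λ R a (ExteriorAlgebra.ιMulti (S p R a) (t + 1)
      (Fin.snoc (fun j => KaehlerDifferential.map Λ Λ R (S p R a) (η j))
        (AdjoinRoot.root (X ^ p - C a) ^ i •
          KaehlerDifferential.D Λ (S p R a) (AdjoinRoot.root (X ^ p - C a))))) =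
      (AdjoinRoot.root (X ^ p - C a) ^ i) ⊗ₜ[R]
        (((List.ofFn η).map (fun η => A (m₀ Λ R a) (η, 0))).prod * A₂ Λ R a) := by
  rw [Φ_ιMulti, List.ofFn_succ', List.concat_eq_append, List.prod_append, List.prod_singleton]
  simp only [Fin.snoc_castSucc, Fin.snoc_last, fΩ_map, fΩ_root_pow]
  have h : (List.ofFn fun j => (1 : S p R a) ⊗ₜ[R] A (R := R) (m₀ Λ R a) (η j, (0 : R))) =
      ((List.ofFn η).map (fun η => A (R := R) (m₀ Λ R a) (η, (0 : R)))).map
        (fun b => (1 : S p R a) ⊗ₜ[R] b) := by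
    rw [List.map_ofFn, List.map_ofFn]; rfl
  rw [h, prod_one_tmul, Algebra.TensorProduct.tmul_mul_tmul, one_mul]

/-- `Φ` on pure elements. -/
lemma Φ_pure (n : ℕ) (η : Fin n → Ω[R⁄Λ]) (s : S p R a) :
    Φ p Λ R a (s • ExteriorAlgebra.ιMulti (S p R a) n
      (fun j => KaehlerDifferential.map Λ Λ R (S p R a) (η j))) =
      s ⊗ₜ[R] ((List.ofFn η).map (fun η => A (m₀ Λ R a) (η, 0))).prod := by
  rw [map_smul, Φ_ιMulti]
  simp only [fΩ_map]
  have h : (List.ofFn fun j => (1 : S p R a) ⊗ₜ[R] A (R := R) (m₀ Λ R a) (η j, (0 : R))) =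
      ((List.ofFn η).map (fun η => A (R := R) (m₀ Λ R a) (η, (0 : R)))).map
        (fun b => (1 : S p R a) ⊗ₜ[R] b) := by
    rw [List.map_ofFn, List.map_ofFn]; rfl
  rw [h, prod_one_tmul, smul_tmul', smul_eq_mul, mul_one]

end Groth.Agent.Lib.helper16.DiffTrace
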