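import Groth.Agent.Lib.Helper16.DiffTrace6

/-!
# The trace map on differential forms for `R[x]/(x^p - a)` (S7357)
-/

namespace Groth.Agent.Lib.helper16.DiffTrace

open ExteriorAlgebra Polynomial TensorProduct

universe u

variable (p : ℕ) [Fact p.Prime] (Λ R : Type u) [CommRing Λ] [CommRing R] [Algebra Λ R]
  [CharP R p] (a : R)

/-- Projection to the graded piece. -/
noncomputable def projAdd (n : ℕ) : ExteriorAlgebra R (Ω[R⁄Λ]) →+ ⋀[R]^n (Ω[R⁄Λ]) where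
  toFun x := DirectSum.decompose (fun i : ℕ => ⋀[R]^i (Ω[R⁄Λ])) x n
  map_zero' := by simp
  map_add' x y := by simp

lemma projAdd_of_mem (n : ℕ) (x : ExteriorAlgebra R (Ω[R⁄Λ])) (hx : x ∈ ⋀[R]^n (Ω[R⁄Λ])) :
    projAdd Λ R n x = ⟨x, hx⟩ := by
  apply Subtype.ext
  exact DirectSum.decompose_of_mem_same _ hx

lemma projAdd_smul (n : ℕ) (r : R) (x : ExteriorAlgebra R (Ω[R⁄Λ])) :
    projAdd Λ R n (r • x) = r • projAdd Λ R n x := by
  simp only [projAdd, AddMonoidHom.coe_mk, ZeroHom.coe_mk, DirectSum.decompose_smul]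
  rfl

/-- The trace map. -/
noncomputable def Tr (t : ℕ) :
    (⋀[S p R a]^(t + 1) (Ω[S p R a⁄Λ])) →+ (⋀[R]^(t + 1) (Ω[R⁄Λ])) where
  toFun ω := projAdd Λ R (t + 1) ((-1 : R) ^ t • ev p Λ R a (Φ p Λ R a ω.1))
  map_zero' := by simp
  map_add' x y := by simp

lemma Tr_apply (t : ℕ) (ω : ⋀[S p R a]^(t + 1) (Ω[S p R a⁄Λ])) :
    Tr p Λ R a t ω = projAdd Λ R (t + 1) ((-1 : R) ^ t • ev p Λ R a (Φ p Λ R a ω.1)) := rfl

lemma Tr_smul (t : ℕ) (r : R) (ω : ⋀[S p R a]^(t + 1) (Ω[S p R a⁄Λ])) :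
    Tr p Λ R a t (algebraMap R (S p R a) r • ω) = r • Tr p Λ R a t ω := by
  rw [Tr_apply, Tr_apply]
  have h1 : ((algebraMap R (S p R a) r • ω : ⋀[S p R a]^(t + 1) (Ω[S p R a⁄Λ])) :
      ExteriorAlgebra (S p R a) (Ω[S p R a⁄Λ])) = algebraMap R (S p R a) r • ω.1 := rfl
  have h2 : Φ p Λ R a (algebraMap R (S p R a) r • ω.1) = r • Φ p Λ R a ω.1 := by
    rw [map_smul, algebraMap_smul]
  rw [h1, h2, (ev p Λ R a).map_smul, smul_comm, projAdd_smul]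

lemma ιMulti_snoc (t : ℕ) (η : Fin t → Ω[R⁄Λ]) (m : Ω[R⁄Λ]) :
    ExteriorAlgebra.ιMulti R (t + 1) (Fin.snoc η m) = ((List.ofFn η).map (ι R)).prod * ι R m := by
  rw [ExteriorAlgebra.ιMulti_apply, List.ofFn_succ', List.concat_eq_append, List.prod_append,
    List.prod_singleton]
  simp only [Fin.snoc_castSucc, Fin.snoc_last, List.map_ofFn]
  rfl

lemma ev_Φ_snoc (t : ℕ) (η : Fin t → Ω[R⁄Λ]) (i : ℕ) :
    (-1 : R) ^ t • ev p Λ R a (Φ p Λ R a (ExteriorAlgebra.ιMulti (S p R a) (t + 1)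
      (Fin.snoc (fun j => KaehlerDifferential.map Λ Λ R (S p R a) (η j))
        (AdjoinRoot.root (X ^ p - C a) ^ i •
          KaehlerDifferential.D Λ (S p R a) (AdjoinRoot.root (X ^ p - C a)))))) =
      cS p R a (AdjoinRoot.root (X ^ p - C a) ^ i) •
        ExteriorAlgebra.ιMulti R (t + 1) (Fin.snoc η (m₀ Λ R a)) := by
  have h : ((-1 : R) ^ t * (-1) ^ t) = 1 := by rw [← mul_pow]; simp
  rw [Φ_snoc, ev_tmul, Module.End.mul_apply, q₀, A₂, A_e_apply,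
    (prodA_snd (m₀ Λ R a) (List.ofFn η) _).2, List.length_ofFn, ιMulti_snoc,
    smul_comm ((-1 : R) ^ t) (cS p R a _), smul_smul ((-1 : R) ^ t), h, one_smul]

lemma ev_Φ_pure (t : ℕ) (η : Fin (t + 1) → Ω[R⁄Λ]) (s : S p R a) :
    ev p Λ R a (Φ p Λ R a (s • ExteriorAlgebra.ιMulti (S p R a) (t + 1)
      (fun j => KaehlerDifferential.map Λ Λ R (S p R a) (η j)))) = 0 := by
  rw [Φ_pure, ev_tmul, q₀, (prodA_pure (m₀ Λ R a) (List.ofFn η) _).2]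
  simp

theorem main (t : ℕ) :
    ∃ Tr : (⋀[AdjoinRoot (X ^ p - C a : R[X])]^(t + 1) (Ω[AdjoinRoot (X ^ p - C a : R[X])⁄Λ])) →+ (⋀[R]^(t + 1) (Ω[R⁄Λ])),
      (∀ (r : R) (ω : ⋀[AdjoinRoot (X ^ p - C a : R[X])]^(t + 1) (Ω[AdjoinRoot (X ^ p - C a : R[X])⁄Λ])),
        Tr (algebraMap R (AdjoinRoot (X ^ p - C a : R[X])) r • ω) = r • Tr ω) ∧
      (∀ (η : Fin t → Ω[R⁄Λ]) (i : ℕ), i + 2 ≤ p →
        Tr (exteriorPower.ιMulti _ (t + 1) (Fin.snoc (fun j => KaehlerDifferential.map Λ Λ R (AdjoinRoot (X ^ p - C a : R[X])) (η j))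
          (AdjoinRoot.root (X ^ p - C a) ^ i • KaehlerDifferential.D Λ _ (AdjoinRoot.root (X ^ p - C a))))) = 0) ∧
      (∀ (η : Fin t → Ω[R⁄Λ]),
        Tr (exteriorPower.ιMulti _ (t + 1) (Fin.snoc (fun j => KaehlerDifferential.map Λ Λ R (AdjoinRoot (X ^ p - C a : R[X])) (η j))
          (AdjoinRoot.root (X ^ p - C a) ^ (p - 1) • KaehlerDifferential.D Λ _ (AdjoinRoot.root (X ^ p - C a))))) =
          exteriorPower.ιMulti R (t + 1) (Fin.snoc η (KaehlerDifferential.D Λ R a))) ∧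
      (∀ (s : AdjoinRoot (X ^ p - C a : R[X])) (η : Fin (t + 1) → Ω[R⁄Λ]),
        Tr (s • exteriorPower.ιMulti _ (t + 1) (fun j => KaehlerDifferential.map Λ Λ R (AdjoinRoot (X ^ p - C a : R[X])) (η j))) = 0) := by
  have hp : 0 < p := (Fact.out : p.Prime).pos
  refine ⟨Tr p Λ R a t, Tr_smul p Λ R a t, ?_, ?_, ?_⟩
  · intro η i hi
    rw [Tr_apply, exteriorPower.ιMulti_apply_coe, ev_Φ_snoc, cS_root_pow p R a i (by omega),
      if_neg (by omega), zero_smul, map_zero]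
  · intro η
    rw [Tr_apply, exteriorPower.ιMulti_apply_coe, ev_Φ_snoc, cS_root_pow p R a (p - 1) (by omega),
      if_pos rfl, one_smul]
    exact projAdd_of_mem Λ R (t + 1) _ (exteriorPower.ιMulti R (t + 1) (Fin.snoc η (m₀ Λ R a))).2
  · intro s η
    rw [Tr_apply, Submodule.coe_smul, exteriorPower.ιMulti_apply_coe, ev_Φ_pure, smul_zero,
      map_zero]

end Groth.Agent.Lib.helper16.DiffTrace
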