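import Mathlib
import Groth.Agent.Lib.Helper16.PosetCat3

namespace Groth.Agent.Lib.helper16.PosetCat

variable {P : Type*} [PartialOrder P]

/-- integer-valued codimension -/
noncomputable def cI (a b : P) : ℤ := ((cd a b).toNat : ℤ)

theorem cI_add (hP : IsCat P) {a b c : P} (hab : a ≤ b) (hbc : b ≤ c) :
    cI a c = cI a b + cI b c := by
  obtain ⟨h1, h2⟩ := isCat_iff.mp hP
  unfold cI
  rw [h2 a b c hab hbc, ENat.toNat_add (h1 a b hab) (h1 b c hbc)]
  push_cast; rfl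

theorem cI_pos (hP : IsCat P) {a b : P} (hab : a < b) : 1 ≤ cI a b := by
  obtain ⟨h1, -⟩ := isCat_iff.mp hP
  let t : LTSeries P := (RelSeries.singleton _ a).snoc b (by simpa using hab)
  have h2 : ((1 : ℕ) : ℕ∞) ≤ cd a b := by
    have := le_cd t (a := a) (b := b) (by simp [t]) (by simp [t])
    simpa [t] using this
  unfold cI
  have h3 : (1 : ℕ) ≤ (cd a b).toNat := by
    rw [← ENat.natCast_toNat (h1 a b hab.le)] at h2
    exact_mod_cast h2
  exact_mod_cast h3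

theorem cI_covBy {a b : P} (hab : a ⋖ b) : cI a b = 1 := by
  unfold cI
  rw [cd_of_covBy hab]
  rfl

/-- Local existence of a rank function on a catenary poset (order-theoretic core of Stacks 02IC). -/
theorem exists_rank_of_local (hP : IsCat P) (V M : Set P) (s : P)
    (ha : ∀ y ∈ V, ∃ p ∈ M, p ≤ y)
    (hb : ∀ y ∈ V, ∀ p ∈ M, ∀ p' ∈ M, p ≤ y → p' ≤ y →
      ∃ η, p ≤ η ∧ p' ≤ η ∧ η ≤ y ∧ η ≤ s) :
    ∃ δ : P → ℤ, ∀ y ∈ V, ∀ z ∈ V, y ≤ z → δ y - δ z = cI y z := by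
  classical
  let pt : ∀ y, y ∈ V → P := fun y h => (ha y h).choose
  have hpt : ∀ y (h : y ∈ V), pt y h ∈ M ∧ pt y h ≤ y := fun y h => (ha y h).choose_spec
  let δ : P → ℤ := fun y => if h : y ∈ V then cI (pt y h) s - cI (pt y h) y else 0
  have key : ∀ y (h : y ∈ V), ∀ p ∈ M, p ≤ y → δ y = cI p s - cI p y := by
    intro y h p hpM hpy
    obtain ⟨η, h1, h2, h3, h4⟩ := hb y h (pt y h) (hpt y h).1 p hpM (hpt y h).2 hpy
    have e1 : δ y = cI (pt y h) s - cI (pt y h) y := by simp only [δ, dif_pos h]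
    rw [e1, cI_add hP h1 h4, cI_add hP h1 h3, cI_add hP h2 h4, cI_add hP h2 h3]
    ring
  refine ⟨δ, fun y hy z hz hyz => ?_⟩
  obtain ⟨hpM, hpy⟩ := hpt y hy
  rw [key y hy _ hpM hpy, key z hz _ hpM (hpy.trans hyz), cI_add hP hpy hyz]
  ring

end Groth.Agent.Lib.helper16.PosetCat
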