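import Mathlib
import Groth.Prelude.Def_W4stktopologysheavesDim
import Groth.Prelude.Def_Found
import Groth.Agent.Lib.Helper16.PosetCat4
import Groth.Agent.Lib.Helper16.CatSch

/-!
# Local existence of dimension functions on the spectrum of a Noetherian catenary ring (helper16)
-/

universe u

namespace Groth.Agent.Lib.helper16.DimFun

open Groth.Agent.Lib.helper16.PosetCat TopologicalSpace

theorem isCat_primeSpectrum {A : Type u} [CommRing A] (hA : CAlg.IsCatenary A) :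
    IsCat (PrimeSpectrum A) := isCat_iff_isCat'.mpr hA

/-- transfer of dimension functions along a specialization-preserving bijection -/
theorem isDimensionFunction_comp {Y Z : Type*} [TopologicalSpace Y] [TopologicalSpace Z]
    (g : Y ≃ Z) (hg : ∀ a b : Y, g a ⤳ g b ↔ a ⤳ b) (δ : Z → ℤ)
    (hδ : PtTop.IsDimensionFunction δ) : PtTop.IsDimensionFunction (δ ∘ g) := by
  refine ⟨fun x y hxy hne => ?_, fun x y ⟨h1, h2, h3⟩ => ?_⟩
  · exact hδ.1 (g x) (g y) ((hg x y).mpr hxy) (fun e => hne (g.injective e))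
  · refine hδ.2 (g x) (g y) ⟨(hg x y).mpr h1, fun e => h2 (g.injective e), fun z hz1 hz2 => ?_⟩
    obtain ⟨w, rfl⟩ := g.surjective z
    rcases h3 w ((hg x w).mp hz1) ((hg w y).mp hz2) with e | e
    · left; rw [e]
    · right; rw [e]

theorem exists_dimensionFunction_primeSpectrum {A : Type u} [CommRing A] [IsNoetherianRing A]
    (hA : CAlg.IsCatenary A) (s : PrimeSpectrum A) :
    ∃ V : Set (PrimeSpectrum A), IsOpen V ∧ s ∈ V ∧
      ∃ δ : ↥V → ℤ, PtTop.IsDimensionFunction δ := by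
  classical
  have hP := isCat_primeSpectrum hA
  let H : Set (Ideal A) :=
    ⋃ p ∈ minimalPrimes A, ⋃ p' ∈ minimalPrimes A, (p ⊔ p').minimalPrimes
  have hHfin : H.Finite :=
    (minimalPrimes.finite_of_isNoetherianRing A).biUnion (fun p _ =>
      (minimalPrimes.finite_of_isNoetherianRing A).biUnion (fun p' _ =>
        Ideal.finite_minimalPrimes_of_isNoetherianRing A (p ⊔ p')))
  let Bad : Set (Ideal A) := {I | I ∈ H ∧ ¬ I ≤ s.asIdeal}
  have hBadfin : Bad.Finite := hHfin.subset (fun I hI => hI.1)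
  let F : Set (PrimeSpectrum A) := ⋃ I ∈ Bad, PrimeSpectrum.zeroLocus (I : Set A)
  have hF : IsClosed F := hBadfin.isClosed_biUnion (fun I _ => PrimeSpectrum.isClosed_zeroLocus _)
  have hsF : s ∉ F := by
    intro hs
    simp only [F, Set.mem_iUnion] at hs
    obtain ⟨I, hI, hsI⟩ := hs
    exact hI.2 ((PrimeSpectrum.mem_zeroLocus _ _).mp hsI)
  let M : Set (PrimeSpectrum A) := {p | p.asIdeal ∈ minimalPrimes A}
  have ha : ∀ y ∈ Fᶜ, ∃ p ∈ M, p ≤ y := by
    intro y _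
    obtain ⟨p, hp, hpy⟩ := Ideal.exists_minimalPrimes_le (bot_le : (⊥ : Ideal A) ≤ y.asIdeal)
    exact ⟨⟨p, hp.1.1⟩, hp, hpy⟩
  have hb : ∀ y ∈ Fᶜ, ∀ p ∈ M, ∀ p' ∈ M, p ≤ y → p' ≤ y →
      ∃ η, p ≤ η ∧ p' ≤ η ∧ η ≤ y ∧ η ≤ s := by
    intro y hy p hp p' hp' hpy hp'y
    obtain ⟨η, hη, hηy⟩ := Ideal.exists_minimalPrimes_le
      (sup_le hpy hp'y : p.asIdeal ⊔ p'.asIdeal ≤ y.asIdeal)
    have hηH : η ∈ H := by
      simp only [H, Set.mem_iUnion]
      exact ⟨p.asIdeal, hp, p'.asIdeal, hp', hη⟩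
    refine ⟨⟨η, hη.1.1⟩, le_sup_left.trans hη.1.2, le_sup_right.trans hη.1.2, hηy, ?_⟩
    by_contra hηs
    apply hy
    simp only [F, Set.mem_iUnion]
    exact ⟨η, ⟨hηH, hηs⟩, (PrimeSpectrum.mem_zeroLocus _ _).mpr hηy⟩
  obtain ⟨δ, hδ⟩ := exists_rank_of_local hP Fᶜ M s ha hb
  refine ⟨Fᶜ, hF.isOpen_compl, hsF, fun y => δ y.1, ?_, ?_⟩
  · intro x y hxy hne
    have hxy' : x.1 ⤳ y.1 := (Topology.IsInducing.subtypeVal.specializes_iff).mpr hxy
    have hle : x.1 ≤ y.1 := (PrimeSpectrum.le_iff_specializes _ _).mpr hxy'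
    have hlt : x.1 < y.1 := lt_of_le_of_ne hle (fun e => hne (Subtype.ext e))
    have := hδ x.1 x.2 y.1 y.2 hle
    have h1 := cI_pos hP hlt
    show δ y.1 < δ x.1
    omega
  · rintro x y ⟨h1, h2, h3⟩
    have hxy' : x.1 ⤳ y.1 := (Topology.IsInducing.subtypeVal.specializes_iff).mpr h1
    have hle : x.1 ≤ y.1 := (PrimeSpectrum.le_iff_specializes _ _).mpr hxy'
    have hlt : x.1 < y.1 := lt_of_le_of_ne hle (fun e => h2 (Subtype.ext e))
    have hcov : x.1 ⋖ y.1 := by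
      refine ⟨hlt, fun q hq1 hq2 => ?_⟩
      have hqs : q ⤳ y.1 := (PrimeSpectrum.le_iff_specializes _ _).mp hq2.le
      have hqV : q ∈ Fᶜ := hqs.mem_open hF.isOpen_compl y.2
      have e1 : x ⤳ (⟨q, hqV⟩ : ↥Fᶜ) :=
        (Topology.IsInducing.subtypeVal.specializes_iff).mp
          ((PrimeSpectrum.le_iff_specializes _ _).mp hq1.le)
      have e2 : (⟨q, hqV⟩ : ↥Fᶜ) ⤳ y :=
        (Topology.IsInducing.subtypeVal.specializes_iff).mp hqs
      rcases h3 ⟨q, hqV⟩ e1 e2 with e | e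
      · exact hq1.ne (congrArg Subtype.val e).symm
      · exact hq2.ne (congrArg Subtype.val e)
    have := hδ x.1 x.2 y.1 y.2 hle
    rw [cI_covBy hcov] at this
    show δ x.1 = δ y.1 + 1
    omega

end Groth.Agent.Lib.helper16.DimFun
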