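import Groth.Agent.S1833

/-!
# Length of `B/cB` as a sum over the non-maximal primes (helper16)

For a Noetherian local ring `B` of dimension `≤ 1` and a nonzerodivisor `c`:
`length(B/cB) = Σ_{𝔭 ≠ 𝔪} ord_{B/𝔭}(c) · length(B_𝔭)` (from `S1833`).
-/

set_option autoImplicit false
universe u
open Pointwise

namespace Groth.Agent.Lib.helper16.DivSum

theorem smul_top_eq_span {B : Type u} [CommRing B] (c : B) :
    (c • (⊤ : Submodule B B)) = Ideal.span {c} := by
  ext y
  rw [Submodule.mem_smul_pointwise_iff_exists, Ideal.mem_span_singleton']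
  constructor
  · rintro ⟨b, -, rfl⟩
    exact ⟨b, by rw [smul_eq_mul, mul_comm]⟩
  · rintro ⟨b, rfl⟩
    exact ⟨b, trivial, by rw [smul_eq_mul, mul_comm]⟩

theorem length_localizedModule_self {B : Type u} [CommRing B] (p : Ideal B) [p.IsPrime] :
    Module.length (Localization.AtPrime p) (LocalizedModule p.primeCompl B) =
      Module.length (Localization.AtPrime p) (Localization.AtPrime p) := by
  let e : LocalizedModule p.primeCompl B ≃ₗ[B] Localization.AtPrime p :=
    IsLocalizedModule.linearEquiv p.primeCompl (LocalizedModule.mkLinearMap p.primeCompl B)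
      (Algebra.linearMap B (Localization.AtPrime p))
  exact (LinearEquiv.extendScalarsOfIsLocalization p.primeCompl (Localization.AtPrime p)
    e).length_eq

open Classical in
theorem length_quot_eq_finsum (B : Type u) [CommRing B] [IsNoetherianRing B] [IsLocalRing B]
    [Ring.KrullDimLE 1 B] (c : B) (hc : c ∈ nonZeroDivisors B) :
    Module.length B (B ⧸ Ideal.span {c}) =
      ∑ᶠ (p : PrimeSpectrum B) (_ : p.asIdeal ≠ IsLocalRing.maximalIdeal B),
        Ring.ord (B ⧸ p.asIdeal) (Ideal.Quotient.mk p.asIdeal c) *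
          Module.length (Localization.AtPrime p.asIdeal) (Localization.AtPrime p.asIdeal) := by
  have h1 : Module.supportDim B B ≤ 1 := by
    rw [Module.supportDim_self_eq_ringKrullDim]
    exact Ring.krullDimLE_iff.mp inferInstance
  have hq : ringKrullDim (B ⧸ Ideal.span {c}) ≤ 0 := by
    have h2 := ringKrullDim_quotient_succ_le_of_nonZeroDivisor hc
    have h3 : ringKrullDim B ≤ 1 := Ring.krullDimLE_iff.mp inferInstance
    have h4 := h2.trans h3
    induction hdim : ringKrullDim (B ⧸ Ideal.span {c}) using WithBot.recBotCoe with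
    | bot => exact bot_le
    | coe d =>
      rw [hdim] at h4
      have h6 : d + 1 ≤ 1 := by exact_mod_cast h4
      have h7 : d ≤ 0 := by
        cases d using ENat.recTopCoe with
        | top => simp at h6
        | coe n =>
          have : n + 1 ≤ 1 := by exact_mod_cast h6
          have : n = 0 := by omega
          simp [this]
      exact_mod_cast h7
  have h0 : Module.supportDim B (B ⧸ c • (⊤ : Submodule B B)) ≤ 0 := by
    rw [smul_top_eq_span]
    rw [Module.supportDim_quotient_eq_ringKrullDim]
    exact hq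
  have key := Groth.Agent.S1833.result B B c h1 h0
  have hker : Module.length B (LinearMap.ker (LinearMap.lsmul B B c)) = 0 := by
    rw [Module.length_eq_zero_iff]
    refine ⟨fun a b => Subtype.ext ?_⟩
    have ha : c * (a : B) = 0 := a.2
    have hb : c * (b : B) = 0 := b.2
    rw [(mem_nonZeroDivisors_iff.mp hc).1 _ ha, (mem_nonZeroDivisors_iff.mp hc).1 _ hb]
  rw [hker, zero_add] at key
  have e1 : Module.length B (B ⧸ c • (⊤ : Submodule B B)) =
      Module.length B (B ⧸ Ideal.span {c}) := by
    rw [smul_top_eq_span]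
  rw [← e1, key]
  refine finsum_congr fun p => ?_
  have hsupp : p ∈ Module.support B B := by
    rw [Module.support_of_algebra, PrimeSpectrum.mem_zeroLocus]
    intro y hy
    have hy' : y = 0 := by simpa using hy
    rw [hy']
    exact zero_mem _
  by_cases hp : p.asIdeal = IsLocalRing.maximalIdeal B
  · rw [finsum_eq_if, finsum_eq_if, if_neg (fun h => h.2 hp), if_neg (fun h => h hp)]
  · haveI := p.isPrime
    rw [finsum_eq_if, finsum_eq_if, if_pos ⟨hsupp, hp⟩, if_pos hp,
      length_localizedModule_self]


section fin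

variable (B : Type u) [CommRing B] [IsNoetherianRing B] [IsLocalRing B] [Ring.KrullDimLE 1 B]

theorem mem_minimalPrimes_of_ne_maximalIdeal (p : Ideal B) [p.IsPrime]
    (hp : p ≠ IsLocalRing.maximalIdeal B) : p ∈ minimalPrimes B := by
  rcases (Ring.krullDimLE_one_iff.mp (inferInstance : Ring.KrullDimLE 1 B)) p inferInstance with
    h | h
  · exact h
  · exact absurd (IsLocalRing.eq_maximalIdeal h) hp

theorem finite_ne_maximalIdeal :
    {p : PrimeSpectrum B | p.asIdeal ≠ IsLocalRing.maximalIdeal B}.Finite := by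
  have hfin : (minimalPrimes B).Finite := minimalPrimes.finite_of_isNoetherianRing B
  refine (hfin.preimage (f := PrimeSpectrum.asIdeal) ?_).subset ?_
  · intro a _ b _ hab
    exact PrimeSpectrum.ext hab
  · intro p hp
    haveI := p.isPrime
    exact mem_minimalPrimes_of_ne_maximalIdeal B p.asIdeal hp

theorem notMem_of_ne_maximalIdeal (p : Ideal B) [p.IsPrime]
    (hp : p ≠ IsLocalRing.maximalIdeal B) {c : B} (hc : c ∈ nonZeroDivisors B) : c ∉ p := by
  have h := mem_minimalPrimes_of_ne_maximalIdeal B p hp
  exact fun hcp => (Set.disjoint_left.mp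
    (Ideal.disjoint_nonZeroDivisors_of_mem_minimalPrimes h) hcp) hc

theorem ord_quot_ne_top (p : Ideal B) [p.IsPrime] {c : B} (hc : c ∉ p) :
    Ring.ord (B ⧸ p) (Ideal.Quotient.mk p c) ≠ ⊤ := by
  haveI : Ring.KrullDimLE 1 (B ⧸ p) := by
    rw [Ring.krullDimLE_iff]
    exact (ringKrullDim_quotient_le p).trans (Ring.krullDimLE_iff.mp inferInstance)
  apply Ring.ord_ne_top
  rw [mem_nonZeroDivisors_iff_ne_zero, Ne, Ideal.Quotient.eq_zero_iff_mem]
  exact hc

theorem length_localization_ne_top (p : Ideal B) [p.IsPrime]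
    (hp : p ≠ IsLocalRing.maximalIdeal B) :
    Module.length (Localization.AtPrime p) (Localization.AtPrime p) ≠ ⊤ := by
  have h := mem_minimalPrimes_of_ne_maximalIdeal B p hp
  haveI : Ring.KrullDimLE 0 (Localization.AtPrime p) := by
    rw [Ring.krullDimLE_iff, IsLocalization.AtPrime.ringKrullDim_eq_height p,
      Ideal.height_eq_zero_iff.mpr h]
    rfl
  haveI : IsArtinianRing (Localization.AtPrime p) :=
    isArtinianRing_iff_krullDimLE_zero.mpr inferInstance
  rw [Module.length_ne_top_iff, isFiniteLength_iff_isNoetherian_isArtinian]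
  exact ⟨inferInstance, inferInstance⟩

/-- the natural number version. -/
theorem toNat_length_quot_eq_finsum (c : B) (hc : c ∈ nonZeroDivisors B) :
    (Module.length B (B ⧸ Ideal.span {c})).toNat =
      ∑ᶠ (p : PrimeSpectrum B) (_ : p.asIdeal ≠ IsLocalRing.maximalIdeal B),
        (Ring.ord (B ⧸ p.asIdeal) (Ideal.Quotient.mk p.asIdeal c)).toNat *
          (Module.length (Localization.AtPrime p.asIdeal)
            (Localization.AtPrime p.asIdeal)).toNat := by
  rw [length_quot_eq_finsum B c hc]
  have hfin := finite_ne_maximalIdeal B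
  have hterm : ∀ p : PrimeSpectrum B, p.asIdeal ≠ IsLocalRing.maximalIdeal B →
      Ring.ord (B ⧸ p.asIdeal) (Ideal.Quotient.mk p.asIdeal c) *
          Module.length (Localization.AtPrime p.asIdeal) (Localization.AtPrime p.asIdeal) =
        (((Ring.ord (B ⧸ p.asIdeal) (Ideal.Quotient.mk p.asIdeal c)).toNat *
          (Module.length (Localization.AtPrime p.asIdeal)
            (Localization.AtPrime p.asIdeal)).toNat : ℕ) : ℕ∞) := by
    intro p hp
    haveI := p.isPrime
    have h1 := ord_quot_ne_top B p.asIdeal (notMem_of_ne_maximalIdeal B p.asIdeal hp hc)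
    have h2 := length_localization_ne_top B p.asIdeal hp
    obtain ⟨n, hn⟩ := ENat.ne_top_iff_exists.mp h1
    obtain ⟨m, hm⟩ := ENat.ne_top_iff_exists.mp h2
    rw [← hn, ← hm]
    simp
  have e1 : (∑ᶠ (p : PrimeSpectrum B) (_ : p.asIdeal ≠ IsLocalRing.maximalIdeal B),
        Ring.ord (B ⧸ p.asIdeal) (Ideal.Quotient.mk p.asIdeal c) *
          Module.length (Localization.AtPrime p.asIdeal) (Localization.AtPrime p.asIdeal)) =
      ∑ᶠ p ∈ {p : PrimeSpectrum B | p.asIdeal ≠ IsLocalRing.maximalIdeal B},
        (Nat.castAddMonoidHom ℕ∞) ((Ring.ord (B ⧸ p.asIdeal)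
          (Ideal.Quotient.mk p.asIdeal c)).toNat *
          (Module.length (Localization.AtPrime p.asIdeal)
            (Localization.AtPrime p.asIdeal)).toNat) :=
    finsum_mem_congr rfl (fun p hp => hterm p hp)
  rw [e1, ← AddMonoidHom.map_finsum_mem _ _ hfin]
  simp

end fin

end Groth.Agent.Lib.helper16.DivSum
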