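import Groth.Agent.Lib.Helper17.FibreStalk
import Groth.Prelude.Def_Cyc

/-!
# Generic points of fibres and the fibre ring (helper16)

For `p : X' ⟶ X` and `w : X'`: the primes of `O_{X',w}` containing `𝔪_{p w} O_{X',w}` are the
generizations of `w` inside the fibre of `p` through `w`.

* `exists_generic_generization`: every point has a generization in its fibre which is generic there.
* `isFiniteLength_fibRing_of_generic`: if `w` is generic in its fibre (and `X'` is locally
  Noetherian) then `O_{X',w}/𝔪_{p w} O_{X',w}` has finite length.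
* `delta_le_of_generic`, `isGeneric_of_delta_eq`: consequences for dimension functions.
-/

set_option autoImplicit false
universe u
open CategoryTheory CategoryTheory.Limits AlgebraicGeometry TopologicalSpace Opposite

namespace Groth.Agent.Lib.helper16.GenFib

open Function IsLocalRing Groth.Agent.Lib.helper17.FibreStalk

variable {X' X : Scheme.{u}} (p : X' ⟶ X)

theorem apply_fromSpecStalk (w : X') (P : ↥(Spec (X'.presheaf.stalk w))) :
    p (X'.fromSpecStalk w P) = X.fromSpecStalk (p w) (Spec.map (p.stalkMap w) P) := by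
  have := congrArg (fun φ => φ.base P) (Scheme.SpecMap_stalkMap_fromSpecStalk (f := p) (x := w))
  exact this.symm

theorem fromSpecStalk_injective (v : X) : Injective (X.fromSpecStalk v) :=
  (X.fromSpecStalk v).isEmbedding.injective

theorem fromSpecStalk_eq_self_iff (v : X) (Q : ↥(Spec (X.presheaf.stalk v))) :
    X.fromSpecStalk v Q = v ↔ Q = closedPoint (X.presheaf.stalk v) := by
  constructor
  · intro h
    apply fromSpecStalk_injective v
    rw [h, Scheme.fromSpecStalk_closedPoint]
  · rintro rfl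
    exact Scheme.fromSpecStalk_closedPoint

/-- a generization of `w` lies in the fibre of `w` iff its prime contains `𝔪_{p w} O_w`. -/
theorem apply_fromSpecStalk_eq_iff (w : X') (P : ↥(Spec (X'.presheaf.stalk w))) :
    p (X'.fromSpecStalk w P) = p w ↔
      (maximalIdeal (X.presheaf.stalk (p w))).map (p.stalkMap w).hom ≤ P.asIdeal := by
  rw [apply_fromSpecStalk, fromSpecStalk_eq_self_iff, Ideal.map_le_iff_le_comap]
  constructor
  · intro h
    have h1 := congrArg PrimeSpectrum.asIdeal h
    change Ideal.comap (p.stalkMap w).hom P.asIdeal = maximalIdeal _ at h1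
    rw [h1]
  · intro h
    apply PrimeSpectrum.ext
    change Ideal.comap (p.stalkMap w).hom P.asIdeal = maximalIdeal _
    exact ((maximalIdeal.isMaximal _).eq_of_le (Ideal.comap_ne_top _ P.isPrime.ne_top) h).symm

/-- `w` is generic in its fibre -/
def IsGenFib (w : X') : Prop := ∀ z : X', p z = p w → z ⤳ w → z = w

theorem exists_generic_generization (w : X') :
    ∃ w₀ : X', w₀ ⤳ w ∧ p w₀ = p w ∧ IsGenFib p w₀ := by
  set I : Ideal (X'.presheaf.stalk w) :=
    (maximalIdeal (X.presheaf.stalk (p w))).map (p.stalkMap w).hom with hI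
  have hIle : I ≤ maximalIdeal (X'.presheaf.stalk w) :=
    ((IsLocalRing.local_hom_TFAE (p.stalkMap w).hom).out 0 2 rfl rfl).mp inferInstance
  obtain ⟨P, hPmin, -⟩ := Ideal.exists_minimalPrimes_le hIle
  haveI : P.IsPrime := hPmin.1.1
  have hIP : I ≤ P := hPmin.1.2
  let P' : ↥(Spec (X'.presheaf.stalk w)) := ⟨P, inferInstance⟩
  refine ⟨X'.fromSpecStalk w P', ?_, ?_, ?_⟩
  · have : X'.fromSpecStalk w P' ∈ Set.range (X'.fromSpecStalk w) := ⟨P', rfl⟩
    rw [Scheme.range_fromSpecStalk] at this
    exact this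
  · exact (apply_fromSpecStalk_eq_iff p w P').mpr hIP
  · intro z hz hzw
    have hpw : p (X'.fromSpecStalk w P') = p w := (apply_fromSpecStalk_eq_iff p w P').mpr hIP
    have hzw' : z ⤳ w := by
      have h1 : X'.fromSpecStalk w P' ∈ Set.range (X'.fromSpecStalk w) := ⟨P', rfl⟩
      rw [Scheme.range_fromSpecStalk] at h1
      exact hzw.trans h1
    have hz' : z ∈ Set.range (X'.fromSpecStalk w) := by
      rw [Scheme.range_fromSpecStalk]; exact hzw'
    obtain ⟨Q, rfl⟩ := hz'
    have hIQ : I ≤ Q.asIdeal := (apply_fromSpecStalk_eq_iff p w Q).mp (hz.trans hpw)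
    have hQP : Q.asIdeal ≤ P := by
      have h2 : Q ⤳ P' := (X'.fromSpecStalk w).isEmbedding.isInducing.specializes_iff.mp hzw
      exact (PrimeSpectrum.le_iff_specializes Q P').mpr h2
    have hPQ : P ≤ Q.asIdeal := hPmin.2 ⟨Q.isPrime, hIQ⟩ hQP
    congr 1
    exact PrimeSpectrum.ext (le_antisymm hQP hPQ)

theorem krullDimLE_zero_fibRing_of_generic (w : X') (hw : IsGenFib p w) :
    Ring.KrullDimLE 0 (FibRing p w) := by
  refine Ring.KrullDimLE.mk₀ fun 𝔮 h𝔮 => ?_
  haveI := h𝔮
  set I : Ideal (X'.presheaf.stalk w) :=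
    (maximalIdeal (X.presheaf.stalk (p w))).map (p.stalkMap w).hom with hI
  let Q : ↥(Spec (X'.presheaf.stalk w)) := ⟨𝔮.comap (Ideal.Quotient.mk I), inferInstance⟩
  have hIQ : I ≤ Q.asIdeal := by
    intro a ha
    change Ideal.Quotient.mk I a ∈ 𝔮
    rw [Ideal.Quotient.eq_zero_iff_mem.mpr ha]
    exact 𝔮.zero_mem
  have h1 : p (X'.fromSpecStalk w Q) = p w := (apply_fromSpecStalk_eq_iff p w Q).mpr hIQ
  have h2 : X'.fromSpecStalk w Q ⤳ w := by
    have : X'.fromSpecStalk w Q ∈ Set.range (X'.fromSpecStalk w) := ⟨Q, rfl⟩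
    rw [Scheme.range_fromSpecStalk] at this
    exact this
  have h3 : Q = closedPoint (X'.presheaf.stalk w) :=
    (fromSpecStalk_eq_self_iff w Q).mp (hw _ h1 h2)
  have h4 : 𝔮.comap (Ideal.Quotient.mk I) = maximalIdeal (X'.presheaf.stalk w) :=
    congrArg PrimeSpectrum.asIdeal h3
  have h5 : 𝔮 = (maximalIdeal (X'.presheaf.stalk w)).map (Ideal.Quotient.mk I) := by
    rw [← h4, Ideal.map_comap_of_surjective _ Ideal.Quotient.mk_surjective]
  have h6 := Ideal.map_eq_top_or_isMaximal_of_surjective (Ideal.Quotient.mk I)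
    Ideal.Quotient.mk_surjective (maximalIdeal.isMaximal (X'.presheaf.stalk w))
  rw [← h5] at h6
  exact h6.resolve_left h𝔮.ne_top

theorem isFiniteLength_fibRing_of_generic [IsLocallyNoetherian X'] (w : X')
    (hw : IsGenFib p w) : IsFiniteLength (X'.presheaf.stalk w) (FibRing p w) := by
  haveI := krullDimLE_zero_fibRing_of_generic p w hw
  haveI : IsNoetherianRing (FibRing p w) := inferInstance
  haveI : IsArtinianRing (FibRing p w) := isArtinianRing_iff_krullDimLE_zero.mpr inferInstance
  rw [isFiniteLength_iff_isNoetherian_isArtinian]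
  refine ⟨inferInstance, ?_⟩
  exact isArtinian_of_surjective_algebraMap (R := FibRing p w) (S := X'.presheaf.stalk w)
    Ideal.Quotient.mk_surjective

variable (δ' : X' → ℤ) (δ : X → ℤ) (c : ℤ)

theorem delta_le_of_generic (hδ' : Cyc.IsDimFun X' δ')
    (hc : ∀ x' : X', (∀ y, p y = p x' → y ⤳ x' → y = x') → δ' x' = δ (p x') + c) (w : X') :
    δ' w ≤ δ (p w) + c := by
  obtain ⟨w₀, h1, h2, h3⟩ := exists_generic_generization p w
  have h4 := hc w₀ h3
  rw [h2] at h4
  by_cases he : w₀ = w
  · subst he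
    exact h4.le
  · have := (hδ' w₀ w h1 he).1
    omega

theorem isGenFib_of_delta_eq (hδ' : Cyc.IsDimFun X' δ')
    (hc : ∀ x' : X', (∀ y, p y = p x' → y ⤳ x' → y = x') → δ' x' = δ (p x') + c) (w : X')
    (hw : δ' w = δ (p w) + c) : IsGenFib p w := by
  obtain ⟨w₀, h1, h2, h3⟩ := exists_generic_generization p w
  have h4 := hc w₀ h3
  rw [h2] at h4
  by_cases he : w₀ = w
  · rw [← he]; exact h3
  · have := (hδ' w₀ w h1 he).1
    omega

end Groth.Agent.Lib.helper16.GenFib
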