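import Groth.Agent.Lib.Helper16.OrdGen
import Groth.Agent.Lib.Helper16.DivSum1
import Groth.Agent.Lib.Helper16.GenFib
import Groth.Agent.Lib.Helper16.FinDeg1

/-!
# Generizations of a point and primes of its local ring; `length(O_x/c)` as a sum over
generizations (helper16)
-/

set_option autoImplicit false
universe u
open CategoryTheory CategoryTheory.Limits AlgebraicGeometry TopologicalSpace Opposite IsLocalRing

namespace Groth.Agent.Lib.helper16.DivSum

open Groth.Agent.Lib.helper16.OrdGen Groth.Agent.Lib.helper16.GenFib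
  Groth.Agent.Lib.helper16.FinDeg

variable {X : Scheme.{u}}

theorem fromSpecStalk_pOf {x ξ : X} (h : ξ ⤳ x) :
    X.fromSpecStalk x (⟨pOf h, inferInstance⟩ : PrimeSpectrum (X.presheaf.stalk x)) = ξ := by
  have h1 := congrArg (fun φ => φ.base (closedPoint (X.presheaf.stalk ξ)))
    (Scheme.SpecMap_stalkSpecializes_fromSpecStalk h)
  simp only [Scheme.Hom.comp_base, TopCat.hom_comp, ContinuousMap.comp_apply] at h1
  rw [Scheme.fromSpecStalk_closedPoint] at h1
  refine Eq.trans ?_ h1
  congr 1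
  apply PrimeSpectrum.ext
  ext b
  change b ∈ pOf h ↔ b ∈ Ideal.comap (X.presheaf.stalkSpecializes h).hom (maximalIdeal _)
  rw [mem_pOf_iff, Ideal.mem_comap]

theorem specializes_fromSpecStalk (x : X) (p : PrimeSpectrum (X.presheaf.stalk x)) :
    X.fromSpecStalk x p ⤳ x := by
  have : X.fromSpecStalk x p ∈ Set.range (X.fromSpecStalk x) := ⟨p, rfl⟩
  rwa [Scheme.range_fromSpecStalk] at this

theorem pOf_fromSpecStalk (x : X) (p : PrimeSpectrum (X.presheaf.stalk x))
    (h : X.fromSpecStalk x p ⤳ x) : pOf h = p.asIdeal := by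
  have h1 := fromSpecStalk_pOf h
  have h2 := fromSpecStalk_injective x h1
  exact congrArg PrimeSpectrum.asIdeal h2

theorem pOf_eq_maximalIdeal_iff {x ξ : X} (h : ξ ⤳ x) :
    pOf h = maximalIdeal (X.presheaf.stalk x) ↔ ξ = x := by
  constructor
  · intro he
    have h1 := fromSpecStalk_pOf h
    rw [← h1]
    rw [fromSpecStalk_eq_self_iff]
    exact PrimeSpectrum.ext he
  · intro he
    have h1 := fromSpecStalk_pOf h
    have h2 := (fromSpecStalk_eq_self_iff x _).mp (h1.trans he)
    exact congrArg PrimeSpectrum.asIdeal h2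

theorem length_stalk_eq {x ξ : X} (h : ξ ⤳ x) :
    Module.length (X.presheaf.stalk ξ) (X.presheaf.stalk ξ) =
      Module.length (Localization.AtPrime (pOf h)) (Localization.AtPrime (pOf h)) := by
  letI := (X.presheaf.stalkSpecializes h).hom.toAlgebra
  haveI := isLocalization_stalkSpecializes h
  exact length_self_ringEquiv
    (IsLocalization.algEquiv (pOf h).primeCompl (X.presheaf.stalk ξ)
      (Localization.AtPrime (pOf h))).toRingEquiv

/-- proper generizations of `x` to non-maximal primes of `O_{X,x}`. -/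
noncomputable def genToPrime (x : X) : {ξ : X // ξ ⤳ x ∧ ξ ≠ x} →
    ↥{p : PrimeSpectrum (X.presheaf.stalk x) | p.asIdeal ≠ maximalIdeal (X.presheaf.stalk x)} :=
  fun ξ => ⟨⟨pOf ξ.2.1, inferInstance⟩, fun he => ξ.2.2 ((pOf_eq_maximalIdeal_iff ξ.2.1).mp he)⟩

theorem genToPrime_bijective (x : X) : Function.Bijective (genToPrime x) := by
  constructor
  · intro ξ ξ' hξ
    have h1 : pOf ξ.2.1 = pOf ξ'.2.1 := congrArg (fun q => q.1.asIdeal) hξ
    apply Subtype.ext
    rw [← fromSpecStalk_pOf ξ.2.1, ← fromSpecStalk_pOf ξ'.2.1]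
    congr 1
    exact PrimeSpectrum.ext h1
  · rintro ⟨p, hp⟩
    have hsp := specializes_fromSpecStalk x p
    have hpof := pOf_fromSpecStalk x p hsp
    refine ⟨⟨X.fromSpecStalk x p, hsp, fun heq => hp ?_⟩, ?_⟩
    · rw [← hpof]
      exact (pOf_eq_maximalIdeal_iff hsp).mpr heq
    · apply Subtype.ext
      apply PrimeSpectrum.ext
      exact hpof

theorem finite_generizations [IsLocallyNoetherian X] (x : X)
    [Ring.KrullDimLE 1 (X.presheaf.stalk x)] : Finite {ξ : X // ξ ⤳ x ∧ ξ ≠ x} := by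
  haveI : Finite ↥{p : PrimeSpectrum (X.presheaf.stalk x) |
      p.asIdeal ≠ maximalIdeal (X.presheaf.stalk x)} :=
    (finite_ne_maximalIdeal (X.presheaf.stalk x)).to_subtype
  exact Finite.of_injective _ (genToPrime_bijective x).1

open Classical in
/-- `length(O_x/c)` as a sum over the proper generizations of `x`, for `O_x` of dimension `≤ 1`
and `c` a nonzerodivisor. -/
theorem toNat_length_quot_eq_finsum_points [IsLocallyNoetherian X] (x : X)
    [Ring.KrullDimLE 1 (X.presheaf.stalk x)] (c : X.presheaf.stalk x)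
    (hc : c ∈ nonZeroDivisors (X.presheaf.stalk x)) :
    ((Module.length (X.presheaf.stalk x) (X.presheaf.stalk x ⧸ Ideal.span {c})).toNat : ℤ) =
      ∑ᶠ ξ : {ξ : X // ξ ⤳ x ∧ ξ ≠ x},
        ((Module.length (X.presheaf.stalk ξ.1) (X.presheaf.stalk ξ.1)).toNat : ℤ) *
          ((Ring.ord (Cyc.LocQuot x ξ.1 ξ.2.1) (Ideal.Quotient.mk (pOf ξ.2.1) c)).toNat : ℤ) := by
  rw [toNat_length_quot_eq_finsum _ c hc]
  have hfin := finite_ne_maximalIdeal (X.presheaf.stalk x)
  change ((Nat.castAddMonoidHom ℤ) (∑ᶠ p ∈ {p : PrimeSpectrum (X.presheaf.stalk x) |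
    p.asIdeal ≠ maximalIdeal (X.presheaf.stalk x)}, _)) = _
  rw [AddMonoidHom.map_finsum_mem _ _ hfin, ← finsum_set_coe_eq_finsum_mem]
  symm
  refine finsum_eq_of_bijective (genToPrime x) (genToPrime_bijective x) fun ξ => ?_
  rw [length_stalk_eq ξ.2.1]
  simp only [Nat.coe_castAddMonoidHom, Nat.cast_mul, genToPrime]
  exact mul_comm _ _

end Groth.Agent.Lib.helper16.DivSum
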