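import Groth.Agent.Lib.Helper16.DivSum2

/-!
# The divisor of a quotient of nonzerodivisors at a point of codimension one (helper16)

`finsum_mul_ordAt_eq`: for `x` with `dim O_{X,x} ≤ 1` and nonzerodivisors `a, b` of `O_{X,x}`:
`Σ_ξ length(O_ξ) · ord_{x,ξ}(a/b) = length(O_x/a) − length(O_x/b)`, the sum over the proper
generizations `ξ` of `x`.
-/

set_option autoImplicit false
universe u
open CategoryTheory CategoryTheory.Limits AlgebraicGeometry TopologicalSpace Opposite IsLocalRing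

namespace Groth.Agent.Lib.helper16.DivSum

open Groth.Agent.Lib.helper16.OrdGen Groth.Agent.Lib.helper16.GenFib

variable {X : Scheme.{u}}

theorem krullDimLE_locQuot {x ξ : X} (h : ξ ⤳ x) [Ring.KrullDimLE 1 (X.presheaf.stalk x)] :
    Ring.KrullDimLE 1 (Cyc.LocQuot x ξ h) := by
  rw [Ring.krullDimLE_iff]
  exact (ringKrullDim_quotient_le _).trans (Ring.krullDimLE_iff.mp inferInstance)

theorem notMem_pOf [IsLocallyNoetherian X] {x ξ : X} (h : ξ ⤳ x) (hne : ξ ≠ x)
    [Ring.KrullDimLE 1 (X.presheaf.stalk x)] {c : X.presheaf.stalk x}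
    (hc : c ∈ nonZeroDivisors (X.presheaf.stalk x)) : c ∉ pOf h :=
  notMem_of_ne_maximalIdeal _ (pOf h) (fun he => hne ((pOf_eq_maximalIdeal_iff h).mp he)) hc

theorem finsum_mul_ordAt_eq [IsLocallyNoetherian X] (x : X)
    [Ring.KrullDimLE 1 (X.presheaf.stalk x)] (a b : X.presheaf.stalk x)
    (ha : a ∈ nonZeroDivisors (X.presheaf.stalk x))
    (hb : b ∈ nonZeroDivisors (X.presheaf.stalk x)) :
    ∑ᶠ ξ : {ξ : X // ξ ⤳ x ∧ ξ ≠ x},
      ((Module.length (X.presheaf.stalk ξ.1) (X.presheaf.stalk ξ.1)).toNat : ℤ) *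
        Cyc.ordAt x ξ.1 ξ.2.1 (Cyc.specMap x ξ.1 ξ.2.1 a / Cyc.specMap x ξ.1 ξ.2.1 b) =
      ((Module.length (X.presheaf.stalk x) (X.presheaf.stalk x ⧸ Ideal.span {a})).toNat : ℤ) -
        ((Module.length (X.presheaf.stalk x) (X.presheaf.stalk x ⧸ Ideal.span {b})).toNat : ℤ) := by
  haveI := finite_generizations x
  rw [toNat_length_quot_eq_finsum_points x a ha, toNat_length_quot_eq_finsum_points x b hb,
    ← finsum_sub_distrib (Set.toFinite _) (Set.toFinite _)]
  refine finsum_congr fun ξ => ?_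
  haveI := krullDimLE_locQuot ξ.2.1
  rw [ordAt_div ξ.2.1 inferInstance a b (notMem_pOf ξ.2.1 ξ.2.2 ha) (notMem_pOf ξ.2.1 ξ.2.2 hb),
    mul_sub]

end Groth.Agent.Lib.helper16.DivSum
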