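import Groth.Agent.Lib.Helper16.DivSum1
import Groth.Agent.Lib.Helper16.CycOpen1
import Groth.Agent.Lib.Helper16.FinDeg1
import Groth.Agent.Lib.Helper26.QFinFlat1

/-!
# Relative version of `DivSum1`: the quotient `B/I` (helper16)

For a Noetherian local ring `B`, an ideal `I` with `dim B/I ≤ 1` and `c` a nonzerodivisor on `B/I`:
`length(B/(I + cB)) = Σ_{I ≤ 𝔮 ≠ 𝔪} ord_{B/𝔮}(c) · length(B_𝔮/I B_𝔮)`.
-/

set_option autoImplicit false
universe u
open IsLocalRing

namespace Groth.Agent.Lib.helper16.DivSum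

open Groth.Agent.Lib.helper16.CycOpen Groth.Agent.Lib.helper16.FinDeg

variable (B : Type u) [CommRing B] [IsNoetherianRing B] [IsLocalRing B] (I : Ideal B)

/-- the quotient `(B/I)/(𝔮/I) ≅ B/𝔮`. -/
noncomputable def quotQuotEquiv (Q : Ideal (B ⧸ I)) :
    (B ⧸ Q.comap (Ideal.Quotient.mk I)) ≃+* ((B ⧸ I) ⧸ Q) :=
  (Ideal.quotEquivOfEq (by
    rw [← RingHom.comap_ker, Ideal.mk_ker])).trans
    (RingHom.quotientKerEquivOfSurjective
      (f := (Ideal.Quotient.mk Q).comp (Ideal.Quotient.mk I))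
      (Ideal.Quotient.mk_surjective.comp Ideal.Quotient.mk_surjective))

theorem quotQuotEquiv_mk (Q : Ideal (B ⧸ I)) (c : B) :
    quotQuotEquiv B I Q (Ideal.Quotient.mk _ c) =
      Ideal.Quotient.mk Q (Ideal.Quotient.mk I c) := rfl

theorem ord_quotQuot (Q : Ideal (B ⧸ I)) (c : B) :
    Ring.ord ((B ⧸ I) ⧸ Q) (Ideal.Quotient.mk Q (Ideal.Quotient.mk I c)) =
      Ring.ord (B ⧸ Q.comap (Ideal.Quotient.mk I)) (Ideal.Quotient.mk _ c) := by
  rw [ord_ringEquiv (quotQuotEquiv B I Q), quotQuotEquiv_mk]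

theorem length_loc_quot (Q : Ideal (B ⧸ I)) [Q.IsPrime] :
    Module.length (Localization.AtPrime Q) (Localization.AtPrime Q) =
      Module.length
        (Localization.AtPrime (Q.comap (Ideal.Quotient.mk I)) ⧸ I.map (algebraMap B
          (Localization.AtPrime (Q.comap (Ideal.Quotient.mk I)))))
        (Localization.AtPrime (Q.comap (Ideal.Quotient.mk I)) ⧸ I.map (algebraMap B
          (Localization.AtPrime (Q.comap (Ideal.Quotient.mk I))))) := by
  set q := Q.comap (Ideal.Quotient.mk I) with hq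
  have hIq : I ≤ q := by
    intro a ha
    rw [hq, Ideal.mem_comap, Ideal.Quotient.eq_zero_iff_mem.mpr ha]
    exact zero_mem _
  have hQ : q.map (Ideal.Quotient.mk I) = Q :=
    Ideal.map_comap_of_surjective _ Ideal.Quotient.mk_surjective Q
  haveI : (q.map (Ideal.Quotient.mk I)).IsPrime := by rw [hQ]; infer_instance
  obtain ⟨e⟩ := Groth.Agent.Lib.helper26.QFinFlat.nonempty_quotLocEquiv' I q hIq
  rw [← length_self_ringEquiv e]
  have hcongr : ∀ (Q₁ Q₂ : Ideal (B ⧸ I)) [Q₁.IsPrime] [Q₂.IsPrime], Q₁ = Q₂ →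
      Module.length (Localization.AtPrime Q₁) (Localization.AtPrime Q₁) =
        Module.length (Localization.AtPrime Q₂) (Localization.AtPrime Q₂) := by
    intro Q₁ Q₂ _ _ h
    subst h
    rfl
  exact hcongr _ _ hQ.symm

theorem maximalIdeal_quot (hI : I ≠ ⊤) :
    haveI : Nontrivial (B ⧸ I) := Ideal.Quotient.nontrivial_iff.mpr hI
    maximalIdeal (B ⧸ I) = (maximalIdeal B).map (Ideal.Quotient.mk I) := by
  haveI : Nontrivial (B ⧸ I) := Ideal.Quotient.nontrivial_iff.mpr hI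
  symm
  apply IsLocalRing.eq_maximalIdeal
  refine Ideal.IsMaximal.map_of_surjective_of_ker_le Ideal.Quotient.mk_surjective ?_
  rw [Ideal.mk_ker]
  exact IsLocalRing.le_maximalIdeal hI

theorem bijOn_comap (hI : I ≠ ⊤) :
    haveI : Nontrivial (B ⧸ I) := Ideal.Quotient.nontrivial_iff.mpr hI
    Set.BijOn (fun Q : PrimeSpectrum (B ⧸ I) =>
      (⟨Q.asIdeal.comap (Ideal.Quotient.mk I), inferInstance⟩ : PrimeSpectrum B))
      {Q | Q.asIdeal ≠ maximalIdeal (B ⧸ I)}
      {q | I ≤ q.asIdeal ∧ q.asIdeal ≠ maximalIdeal B} := by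
  haveI : Nontrivial (B ⧸ I) := Ideal.Quotient.nontrivial_iff.mpr hI
  have hmax := maximalIdeal_quot B I hI
  refine ⟨?_, ?_, ?_⟩
  · intro Q hQ
    refine ⟨?_, ?_⟩
    · intro a ha
      show a ∈ Q.asIdeal.comap (Ideal.Quotient.mk I)
      rw [Ideal.mem_comap, Ideal.Quotient.eq_zero_iff_mem.mpr ha]
      exact zero_mem _
    · intro he
      apply hQ
      have h1 : (Q.asIdeal.comap (Ideal.Quotient.mk I)).map (Ideal.Quotient.mk I) =
          Q.asIdeal := Ideal.map_comap_of_surjective _ Ideal.Quotient.mk_surjective _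
      have he' : Q.asIdeal.comap (Ideal.Quotient.mk I) = maximalIdeal B := he
      rw [← h1, he', hmax]
  · intro Q _ Q' _ h
    have h1 : Q.asIdeal.comap (Ideal.Quotient.mk I) = Q'.asIdeal.comap (Ideal.Quotient.mk I) :=
      congrArg PrimeSpectrum.asIdeal h
    apply PrimeSpectrum.ext
    rw [← Ideal.map_comap_of_surjective _ Ideal.Quotient.mk_surjective Q.asIdeal, h1,
      Ideal.map_comap_of_surjective _ Ideal.Quotient.mk_surjective]
  · rintro q ⟨hIq, hqm⟩
    haveI := q.isPrime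
    have hcm : (q.asIdeal.map (Ideal.Quotient.mk I)).comap (Ideal.Quotient.mk I) =
        q.asIdeal := by
      rw [Ideal.comap_map_of_surjective _ Ideal.Quotient.mk_surjective,
        ← RingHom.ker_eq_comap_bot, Ideal.mk_ker]
      exact sup_eq_left.mpr hIq
    haveI hp : (q.asIdeal.map (Ideal.Quotient.mk I)).IsPrime := by
      apply Ideal.map_isPrime_of_surjective Ideal.Quotient.mk_surjective
      rw [Ideal.mk_ker]; exact hIq
    refine ⟨⟨q.asIdeal.map (Ideal.Quotient.mk I), hp⟩, ?_, ?_⟩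
    · intro he
      apply hqm
      have he' : q.asIdeal.map (Ideal.Quotient.mk I) = maximalIdeal (B ⧸ I) := he
      rw [← hcm, he', hmax, Ideal.comap_map_of_surjective _ Ideal.Quotient.mk_surjective,
        ← RingHom.ker_eq_comap_bot, Ideal.mk_ker]
      exact sup_eq_left.mpr (IsLocalRing.le_maximalIdeal hI)
    · exact PrimeSpectrum.ext hcm

theorem finite_rel (hI : I ≠ ⊤) [Ring.KrullDimLE 1 (B ⧸ I)] :
    {q : PrimeSpectrum B | I ≤ q.asIdeal ∧ q.asIdeal ≠ maximalIdeal B}.Finite := by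
  haveI : Nontrivial (B ⧸ I) := Ideal.Quotient.nontrivial_iff.mpr hI
  rw [← (bijOn_comap B I hI).image_eq]
  exact (finite_ne_maximalIdeal (B ⧸ I)).image _

open Classical in
theorem toNat_length_quot_eq_finsum_rel (hI : I ≠ ⊤) [Ring.KrullDimLE 1 (B ⧸ I)] (c : B)
    (hc : Ideal.Quotient.mk I c ∈ nonZeroDivisors (B ⧸ I)) :
    (Module.length (B ⧸ I) ((B ⧸ I) ⧸ Ideal.span {Ideal.Quotient.mk I c})).toNat =
      ∑ᶠ (q : PrimeSpectrum B) (_ : I ≤ q.asIdeal ∧ q.asIdeal ≠ maximalIdeal B),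
        (Ring.ord (B ⧸ q.asIdeal) (Ideal.Quotient.mk q.asIdeal c)).toNat *
          (Module.length
            (Localization.AtPrime q.asIdeal ⧸ I.map (algebraMap B
              (Localization.AtPrime q.asIdeal)))
            (Localization.AtPrime q.asIdeal ⧸ I.map (algebraMap B
              (Localization.AtPrime q.asIdeal)))).toNat := by
  haveI : Nontrivial (B ⧸ I) := Ideal.Quotient.nontrivial_iff.mpr hI
  rw [toNat_length_quot_eq_finsum (B ⧸ I) _ hc]
  refine finsum_mem_eq_of_bijOn _ (bijOn_comap B I hI) ?_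
  intro Q _
  haveI := Q.isPrime
  show _ = (Ring.ord (B ⧸ Q.asIdeal.comap (Ideal.Quotient.mk I))
    (Ideal.Quotient.mk _ c)).toNat * _
  rw [ord_quotQuot B I Q.asIdeal c, length_loc_quot B I Q.asIdeal]

end Groth.Agent.Lib.helper16.DivSum
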