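import Groth.Agent.Lib.Helper16.DivSum3
import Groth.Agent.Lib.Helper16.DivSum4

/-!
# Relative version of `DivSum2/3` at a point of a scheme (helper16)

* `specializes_fromSpecStalk_iff`: the order on generizations of `x` and on primes of `O_{X,x}`;
* `krullDimLE_locQuot_of_immediate`: for a dimension function `δ` and `ξ ⤳ y` with
  `δ y + 1 = δ ξ`, the ring `O_{X,y}/𝔭_ξ` has dimension `≤ 1`;
* `toNat_length_quot_eq_finsum_points_rel`: `length((O_x/I)/c)` as a sum over the proper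
  generizations `ξ` of `x` with `I ⊆ 𝔭_ξ`.
-/

set_option autoImplicit false
universe u
open CategoryTheory CategoryTheory.Limits AlgebraicGeometry TopologicalSpace Opposite IsLocalRing

namespace Groth.Agent.Lib.helper16.DivSum

open Groth.Agent.Lib.helper16.OrdGen Groth.Agent.Lib.helper16.GenFib
  Groth.Agent.Lib.helper16.FinDeg

variable {X : Scheme.{u}}

theorem specializes_iff_pOf_le {x ξ ζ : X} (hξ : ξ ⤳ x) (hζ : ζ ⤳ x) :
    ξ ⤳ ζ ↔ pOf hξ ≤ pOf hζ := by
  have e1 := fromSpecStalk_pOf hξ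
  have e2 := fromSpecStalk_pOf hζ
  have key : (X.fromSpecStalk x (⟨pOf hξ, inferInstance⟩ : PrimeSpectrum (X.presheaf.stalk x)) ⤳
      X.fromSpecStalk x (⟨pOf hζ, inferInstance⟩ : PrimeSpectrum (X.presheaf.stalk x))) ↔
      pOf hξ ≤ pOf hζ := by
    rw [(X.fromSpecStalk x).isEmbedding.isInducing.specializes_iff]
    exact (PrimeSpectrum.le_iff_specializes
      (⟨pOf hξ, inferInstance⟩ : PrimeSpectrum (X.presheaf.stalk x))
      (⟨pOf hζ, inferInstance⟩ : PrimeSpectrum (X.presheaf.stalk x))).symm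
  rw [e1, e2] at key
  exact key

theorem pOf_congr {x ξ ξ' : X} (e : ξ = ξ') (h : ξ ⤳ x) (h' : ξ' ⤳ x) : pOf h = pOf h' := by
  subst e
  rfl

theorem krullDimLE_locQuot_of_immediate (δ : X → ℤ) (hδ : Cyc.IsDimFun X δ) {y ξ : X}
    (h : ξ ⤳ y) (hi : δ y + 1 = δ ξ) : Ring.KrullDimLE 1 (Cyc.LocQuot y ξ h) := by
  haveI : IsDomain (Cyc.LocQuot y ξ h) := Ideal.Quotient.isDomain (pOf h)
  refine Ring.KrullDimLE.mk₁ fun Q hQ => ?_
  haveI := hQ
  set q : Ideal (X.presheaf.stalk y) := Q.comap (Ideal.Quotient.mk (pOf h)) with hq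
  haveI : q.IsPrime := Ideal.comap_isPrime _ _
  have hPq : pOf h ≤ q := by
    intro a ha
    rw [hq, Ideal.mem_comap, Ideal.Quotient.eq_zero_iff_mem.mpr ha]
    exact zero_mem _
  have hQq : q.map (Ideal.Quotient.mk (pOf h)) = Q :=
    Ideal.map_comap_of_surjective _ Ideal.Quotient.mk_surjective Q
  set z : X := X.fromSpecStalk y ⟨q, inferInstance⟩ with hz
  have hzy : z ⤳ y := specializes_fromSpecStalk y _
  have hpz : pOf hzy = q := pOf_fromSpecStalk y ⟨q, inferInstance⟩ hzy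
  have hξz : ξ ⤳ z := (specializes_iff_pOf_le h hzy).mpr (by rw [hpz]; exact hPq)
  by_cases hzξ : z = ξ
  · left
    have : q = pOf h := by
      rw [← hpz]
      exact pOf_congr hzξ hzy h
    have hQbot : Q = ⊥ := by
      rw [← hQq, this, Ideal.map_quotient_self]
    rw [hQbot, IsDomain.minimalPrimes_eq_singleton_bot]
    exact Set.mem_singleton _
  · right
    have h1 := (hδ ξ z hξz (Ne.symm hzξ)).1
    have hzy' : z = y := by
      by_contra hne
      have h2 := (hδ z y hzy hne).1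
      omega
    have hqm : q = maximalIdeal (X.presheaf.stalk y) := by
      rw [← hpz]
      exact (pOf_eq_maximalIdeal_iff hzy).mpr hzy'
    rw [← hQq, hqm]
    refine Ideal.IsMaximal.map_of_surjective_of_ker_le Ideal.Quotient.mk_surjective ?_
    rw [Ideal.mk_ker]
    exact IsLocalRing.le_maximalIdeal (Ideal.IsPrime.ne_top inferInstance)

/-- the length of `O_ξ/I O_ξ` computed on the localization of `O_x`. -/
theorem length_stalk_quot_eq {x ξ : X} (h : ξ ⤳ x) (I : Ideal (X.presheaf.stalk x)) :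
    Module.length
      (X.presheaf.stalk ξ ⧸ I.map (X.presheaf.stalkSpecializes h).hom)
      (X.presheaf.stalk ξ ⧸ I.map (X.presheaf.stalkSpecializes h).hom) =
    Module.length
      (Localization.AtPrime (pOf h) ⧸ I.map (algebraMap _ (Localization.AtPrime (pOf h))))
      (Localization.AtPrime (pOf h) ⧸ I.map (algebraMap _ (Localization.AtPrime (pOf h)))) := by
  letI := (X.presheaf.stalkSpecializes h).hom.toAlgebra
  haveI := isLocalization_stalkSpecializes h
  let e : X.presheaf.stalk ξ ≃ₐ[X.presheaf.stalk x] Localization.AtPrime (pOf h) :=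
    IsLocalization.algEquiv (pOf h).primeCompl (X.presheaf.stalk ξ)
      (Localization.AtPrime (pOf h))
  have hcomp : (e.toRingEquiv : X.presheaf.stalk ξ →+* Localization.AtPrime (pOf h)).comp
      (X.presheaf.stalkSpecializes h).hom =
      algebraMap (X.presheaf.stalk x) (Localization.AtPrime (pOf h)) := by
    ext a
    exact e.commutes a
  refine length_self_ringEquiv (Ideal.quotientEquiv _ _ e.toRingEquiv ?_)
  rw [Ideal.map_map, hcomp]

open Classical in
theorem toNat_length_quot_eq_finsum_points_rel [IsLocallyNoetherian X] (x : X)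
    (I : Ideal (X.presheaf.stalk x)) (hI : I ≠ ⊤)
    [Ring.KrullDimLE 1 (X.presheaf.stalk x ⧸ I)] (c : X.presheaf.stalk x)
    (hc : Ideal.Quotient.mk I c ∈ nonZeroDivisors (X.presheaf.stalk x ⧸ I)) :
    ((Module.length (X.presheaf.stalk x ⧸ I)
      ((X.presheaf.stalk x ⧸ I) ⧸ Ideal.span {Ideal.Quotient.mk I c})).toNat : ℤ) =
      ∑ᶠ ξ : {ξ : {ξ : X // ξ ⤳ x ∧ ξ ≠ x} // I ≤ pOf ξ.2.1},
        ((Module.length
          (X.presheaf.stalk ξ.1.1 ⧸ I.map (X.presheaf.stalkSpecializes ξ.1.2.1).hom)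
          (X.presheaf.stalk ξ.1.1 ⧸ I.map (X.presheaf.stalkSpecializes ξ.1.2.1).hom)).toNat : ℤ) *
          ((Ring.ord (Cyc.LocQuot x ξ.1.1 ξ.1.2.1)
            (Ideal.Quotient.mk (pOf ξ.1.2.1) c)).toNat : ℤ) := by
  rw [toNat_length_quot_eq_finsum_rel _ I hI c hc]
  have hfin := finite_rel (X.presheaf.stalk x) I hI
  change ((Nat.castAddMonoidHom ℤ) (∑ᶠ q ∈ {q : PrimeSpectrum (X.presheaf.stalk x) |
    I ≤ q.asIdeal ∧ q.asIdeal ≠ maximalIdeal (X.presheaf.stalk x)}, _)) = _
  rw [AddMonoidHom.map_finsum_mem _ _ hfin, ← finsum_set_coe_eq_finsum_mem]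
  symm
  let e : {ξ : {ξ : X // ξ ⤳ x ∧ ξ ≠ x} // I ≤ pOf ξ.2.1} →
      ↥{q : PrimeSpectrum (X.presheaf.stalk x) |
        I ≤ q.asIdeal ∧ q.asIdeal ≠ maximalIdeal (X.presheaf.stalk x)} := fun ξ =>
    ⟨(genToPrime x ξ.1).1, ξ.2, (genToPrime x ξ.1).2⟩
  have he : Function.Bijective e := by
    constructor
    · intro ξ ξ' hξ
      apply Subtype.ext
      apply (genToPrime_bijective x).1
      apply Subtype.ext
      exact congrArg (fun q => q.1) hξ
    · rintro ⟨q, hq1, hq2⟩
      obtain ⟨ξ, hξ⟩ := (genToPrime_bijective x).2 ⟨q, hq2⟩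
      have hq : (genToPrime x ξ).1 = q := congrArg (fun q => q.1) hξ
      refine ⟨⟨ξ, ?_⟩, ?_⟩
      · have : pOf ξ.2.1 = q.asIdeal := congrArg PrimeSpectrum.asIdeal hq
        rw [this]
        exact hq1
      · apply Subtype.ext
        exact hq
  refine finsum_eq_of_bijective e he fun ξ => ?_
  rw [length_stalk_quot_eq ξ.1.2.1 I]
  simp only [Nat.coe_castAddMonoidHom, Nat.cast_mul, genToPrime, e]
  exact mul_comm _ _

end Groth.Agent.Lib.helper16.DivSum
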