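import Groth.Agent.Lib.Helper16.DivSum5
import Groth.Agent.Lib.Helper16.CycFlat1
import Groth.Agent.Lib.Helper24.FlatQuot

/-!
# Flat base change of the order function, relative version (helper16)

For a flat local homomorphism `A → B` of Noetherian local rings, a prime `P₀` of `A` with
`dim A/P₀ ≤ 1`, `I = P₀ B` and `c ∉ P₀`:
`length_{B/I}((B/I)/c) = ord_{A/P₀}(c) · length_B(B/𝔪_A B)`.
-/

set_option autoImplicit false
universe u
open IsLocalRing

namespace Groth.Agent.Lib.helper16.DivSum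

open Groth.Agent.Lib.helper16.CycFlat Groth.Agent.Lib.helper16.FinDeg
  Groth.Agent.Lib.Helper24.FlatQuot

section alg

variable (A B : Type u) [CommRing A] [CommRing B] [Algebra A B] [IsLocalRing A] [IsLocalRing B]
  [IsNoetherianRing A] [IsNoetherianRing B] [IsLocalHom (algebraMap A B)] [Module.Flat A B]
  (P₀ : Ideal A) [P₀.IsPrime]

theorem krullDimLE_quot_map [Ring.KrullDimLE 1 (A ⧸ P₀)]
    [Ring.KrullDimLE 0 (B ⧸ (maximalIdeal A).map (algebraMap A B))] :
    Ring.KrullDimLE 1 (B ⧸ P₀.map (algebraMap A B)) := by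
  rw [Ring.krullDimLE_iff, ringKrullDim_quotient_map_eq_add A B P₀ (Ideal.IsPrime.ne_top inferInstance)]
  have h1 : ringKrullDim (A ⧸ P₀) ≤ 1 := Ring.krullDimLE_iff.mp inferInstance
  have h2 : ringKrullDim (B ⧸ (maximalIdeal A).map (algebraMap A B)) ≤ 0 :=
    Ring.krullDimLE_iff.mp inferInstance
  calc _ ≤ (1 : WithBot ℕ∞) + 0 := add_le_add h1 h2
    _ = 1 := add_zero _

theorem mk_map_mem_nonZeroDivisors {c : A} (hc : c ∉ P₀) :
    Ideal.Quotient.mk (P₀.map (algebraMap A B)) (algebraMap A B c) ∈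
      nonZeroDivisors (B ⧸ P₀.map (algebraMap A B)) := by
  haveI := flat_quotient A B P₀
  have hne : Ideal.Quotient.mk P₀ c ≠ 0 := fun h => hc (Ideal.Quotient.eq_zero_iff_mem.mp h)
  have hreg : IsSMulRegular (B ⧸ P₀.map (algebraMap A B)) (Ideal.Quotient.mk P₀ c) :=
    Module.Flat.isSMulRegular_of_nonZeroDivisors (mem_nonZeroDivisors_iff_ne_zero.mpr hne)
  rw [mem_nonZeroDivisors_iff_right]
  intro z hz
  apply hreg
  change (Ideal.Quotient.mk P₀ c) • z = (Ideal.Quotient.mk P₀ c) • (0 : B ⧸ P₀.map (algebraMap A B))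
  rw [smul_zero, Algebra.smul_def, mul_comm]
  exact hz

theorem length_quot_map_rel [Ring.KrullDimLE 1 (A ⧸ P₀)] {c : A} (hc : c ∉ P₀) :
    Module.length (B ⧸ P₀.map (algebraMap A B))
      ((B ⧸ P₀.map (algebraMap A B)) ⧸
        Ideal.span {Ideal.Quotient.mk (P₀.map (algebraMap A B)) (algebraMap A B c)}) =
      Ring.ord (A ⧸ P₀) (Ideal.Quotient.mk P₀ c) *
        Module.length B (B ⧸ (maximalIdeal A).map (algebraMap A B)) := by
  have hP : P₀ ≠ ⊤ := Ideal.IsPrime.ne_top inferInstance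
  letI : Nontrivial (A ⧸ P₀) := Ideal.Quotient.nontrivial_iff.mpr hP
  letI : IsLocalRing (A ⧸ P₀) := .of_surjective' _ Ideal.Quotient.mk_surjective
  haveI := flat_quotient A B P₀
  have hne : Ideal.Quotient.mk P₀ c ≠ 0 := fun h => hc (Ideal.Quotient.eq_zero_iff_mem.mp h)
  have hfl : IsFiniteLength (A ⧸ P₀) ((A ⧸ P₀) ⧸ Ideal.span {Ideal.Quotient.mk P₀ c}) :=
    isFiniteLength_quotient_span_singleton _ (mem_nonZeroDivisors_iff_ne_zero.mpr hne)
  have e1 := length_quot_span_map (A := A ⧸ P₀) (B := B ⧸ P₀.map (algebraMap A B))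
    (Ideal.Quotient.mk P₀ c) hfl
  have e1' : Module.length (B ⧸ P₀.map (algebraMap A B))
      ((B ⧸ P₀.map (algebraMap A B)) ⧸
        Ideal.span {Ideal.Quotient.mk (P₀.map (algebraMap A B)) (algebraMap A B c)}) = _ := e1
  rw [e1']
  congr 1
  -- the closed fibres agree
  have hm : maximalIdeal (A ⧸ P₀) = (maximalIdeal A).map (Ideal.Quotient.mk P₀) := by
    symm
    apply IsLocalRing.eq_maximalIdeal
    refine Ideal.IsMaximal.map_of_surjective_of_ker_le Ideal.Quotient.mk_surjective ?_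
    rw [Ideal.mk_ker]
    exact IsLocalRing.le_maximalIdeal hP
  have hmap : (maximalIdeal (A ⧸ P₀)).map
      (algebraMap (A ⧸ P₀) (B ⧸ P₀.map (algebraMap A B))) =
      ((maximalIdeal A).map (algebraMap A B)).map
        (Ideal.Quotient.mk (P₀.map (algebraMap A B))) := by
    rw [hm, Ideal.map_map, Ideal.map_map]
    rfl
  rw [hmap]
  have hle : P₀.map (algebraMap A B) ≤ (maximalIdeal A).map (algebraMap A B) :=
    Ideal.map_mono (IsLocalRing.le_maximalIdeal hP)
  rw [length_quotient_self, length_quotient_self,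
    length_self_ringEquiv (DoubleQuot.quotQuotEquivQuotOfLE hle)]

end alg

section sch

open AlgebraicGeometry CategoryTheory Groth.Agent.Lib.helper16.OrdGen
  Groth.Agent.Lib.helper16.CycOpen

variable {X' X : Scheme.{u}} (p : X' ⟶ X)

theorem comap_pOf {x' ξ' : X'} (h' : ξ' ⤳ x') (h : p ξ' ⤳ p x') :
    (pOf h').comap (p.stalkMap x').hom = pOf h := by
  ext a
  rw [Ideal.mem_comap, RingHom.mem_ker, RingHom.mem_ker]
  have := specMap_stalkMap p x' ξ' h' h a
  rw [show (p.stalkMap x').hom a = p.stalkMap x' a from rfl, this]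
  exact map_eq_zero_iff _ (RingHom.injective _)

theorem map_map_pOf_eq {x' ξ' : X'} (h' : ξ' ⤳ x') (h : p ξ' ⤳ p x') :
    ((pOf h).map (p.stalkMap x').hom).map (X'.presheaf.stalkSpecializes h').hom =
      (maximalIdeal (X.presheaf.stalk (p ξ'))).map (p.stalkMap ξ').hom := by
  rw [Ideal.map_map]
  have hcomm : (X'.presheaf.stalkSpecializes h').hom.comp (p.stalkMap x').hom =
      (p.stalkMap ξ').hom.comp (X.presheaf.stalkSpecializes h).hom := by
    have := Scheme.Hom.stalkSpecializes_stalkMap p ξ' x' h'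
    ext a
    exact (Scheme.Hom.stalkSpecializes_stalkMap_apply p ξ' x' h' a).symm
  rw [hcomm, ← Ideal.map_map]
  congr 1
  letI := (X.presheaf.stalkSpecializes h).hom.toAlgebra
  haveI := isLocalization_stalkSpecializes h
  exact IsLocalization.AtPrime.map_eq_maximalIdeal (pOf h) (X.presheaf.stalk (p ξ'))

end sch

end Groth.Agent.Lib.helper16.DivSum
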