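import Groth.Agent.Lib.Helper16.CycFlat4
import Groth.Agent.Lib.Helper16.GenFib

/-!
# Flat pullback of cycles with a dimension shift at generic points of fibres (helper16)

* `HasShift p δ' δ c`: `δ'(x') = δ(p x') + c` whenever `x'` is generic in its fibre;
* `hasShift_comp`, `pullFun_comp_shift`: composition;
* `hasShift_of_hasRelDim`: a morphism locally of finite type of relative dimension `r` with the
  induced dimension function has shift `r`.
-/

set_option autoImplicit false
universe u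
open CategoryTheory CategoryTheory.Limits AlgebraicGeometry TopologicalSpace Opposite IsLocalRing

namespace Groth.Agent.Lib.helper16.ShiftPull

open Groth.Agent.Lib.helper16.GenFib Groth.Agent.Lib.helper16.CycFlat
  Groth.Agent.Lib.helper17.FibreStalk

variable {X X' X'' : Scheme.{u}} (p : X' ⟶ X) (p' : X'' ⟶ X')

/-- the dimension functions differ by `c` at the points generic in their fibres. -/
def HasShift (δ' : X' → ℤ) (δ : X → ℤ) (c : ℤ) : Prop :=
  ∀ x' : X', (∀ y, p y = p x' → y ⤳ x' → y = x') → δ' x' = δ (p x') + c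

variable {p p'} {δ : X → ℤ} {δ' : X' → ℤ} {δ'' : X'' → ℤ} {c c' : ℤ}

theorem hasShift_comp [Flat p'] (hc : HasShift p δ' δ c) (hc' : HasShift p' δ'' δ' c') :
    HasShift (p' ≫ p) δ'' δ (c + c') := by
  intro x'' hx''
  have hcomp : ∀ x'' : X'', (p' ≫ p) x'' = p (p' x'') := fun _ => rfl
  have h1 : ∀ y, p' y = p' x'' → y ⤳ x'' → y = x'' := by
    intro y hy hyx
    exact hx'' y (by rw [hcomp, hcomp, hy]) hyx
  have h2 : ∀ z, p z = p (p' x'') → z ⤳ p' x'' → z = p' x'' := by
    intro z hz hzx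
    have hgen : GeneralizingMap p' := Flat.generalizingMap p'
    obtain ⟨y, hy1, hy2⟩ := hgen hzx
    have : y = x'' := hx'' y (by rw [hcomp, hcomp, hy2, hz]) hy1
    rw [← hy2, this]
  rw [hc' x'' h1, hc (p' x'') h2, hcomp]
  ring

theorem pullFun_comp_shift [Flat p'] [IsLocallyNoetherian X'] (hδ' : Cyc.IsDimFun X' δ')
    (hδ'' : Cyc.IsDimFun X'' δ'') (hc : HasShift p δ' δ c) (hc' : HasShift p' δ'' δ' c')
    (α : X → ℤ) :
    Cyc.pullFun (p' ≫ p) δ'' δ (c + c') α =
      Cyc.pullFun p' δ'' δ' c' (Cyc.pullFun p δ' δ c α) := by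
  have hle' : ∀ x'' : X'', δ'' x'' ≤ δ' (p' x'') + c' :=
    fun x'' => delta_le_of_generic p' δ'' δ' c' hδ'' hc' x''
  have hle : ∀ x' : X', δ' x' ≤ δ (p x') + c :=
    fun x' => delta_le_of_generic p δ' δ c hδ' hc x'
  have hcomp : ∀ x'' : X'', (p' ≫ p) x'' = p (p' x'') := fun _ => rfl
  funext x''
  have hflat : (p'.stalkMap x'').hom.Flat :=
    (Flat.iff_flat_stalkMap (f := p')).1 inferInstance x''
  show (if δ'' x'' = δ ((p' ≫ p) x'') + (c + c') then α ((p' ≫ p) x'') *
      ((Module.length (X''.presheaf.stalk x'') (FibRing (p' ≫ p) x'')).toNat : ℤ) else 0) =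
    (if δ'' x'' = δ' (p' x'') + c' then
      (if δ' (p' x'') = δ (p (p' x'')) + c then α (p (p' x'')) *
        ((Module.length (X'.presheaf.stalk (p' x'')) (FibRing p (p' x''))).toNat : ℤ) else 0) *
        ((Module.length (X''.presheaf.stalk x'') (FibRing p' x'')).toNat : ℤ) else 0)
  have e1 := hle' x''
  have e2 := hle (p' x'')
  by_cases hA : δ'' x'' = δ' (p' x'') + c'
  · rw [if_pos hA]
    by_cases hB : δ' (p' x'') = δ (p (p' x'')) + c
    · rw [if_pos hB, if_pos (by rw [hcomp]; omega)]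
      have hgen := isGenFib_of_delta_eq p δ' δ c hδ' hc (p' x'') hB
      have hfin := isFiniteLength_fibRing_of_generic p (p' x'') hgen
      rw [length_fibRing_comp p' p x'' hflat hfin, ENat.toNat_mul]
      push_cast
      rw [hcomp]
      ring
    · rw [if_neg hB, zero_mul, if_neg (by rw [hcomp]; omega)]
  · rw [if_neg hA, if_neg (by rw [hcomp]; omega)]

theorem hasShift_of_hasRelDim {X Y : Scheme.{u}} (f : X ⟶ Y) [LocallyOfFiniteType f]
    (δX : X → ℤ) (δY : Y → ℤ) (r : ℕ) (hr : Cyc.HasRelDim f r) (hδ : Cyc.DeltaCompat f δX δY) :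
    HasShift f δX δY r := by
  intro x hx
  obtain ⟨n, b, h1, h2, h3⟩ := deltaCompat_fibre f δX δY r hr hδ x
  haveI := krullDimLE_zero_fibRing_of_generic f x hx
  have h0 : ringKrullDim (FibRing f x) ≤ 0 := Ring.krullDimLE_iff.mp inferInstance
  rw [h3] at h0
  have hb0 : b = 0 := by
    have : ((b : ℕ∞) : WithBot ℕ∞) ≤ ((0 : ℕ∞) : WithBot ℕ∞) := by exact_mod_cast h0
    have := WithBot.coe_le_coe.mp this
    have h3 : b ≤ 0 := by exact_mod_cast this
    omega
  rw [h1]
  have : (n : ℤ) = r := by omega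
  rw [this]

end Groth.Agent.Lib.helper16.ShiftPull
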