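import Groth.Agent.Lib.Helper16.DivSum6
import Groth.Agent.Lib.Helper16.ShiftPull

/-!
# The divisor of a quotient along `O_x/I` of dimension one (helper16)

`finsum_mul_ordAt_eq_rel`: for an ideal `I` of `O_{X,x}` with `dim O_{X,x}/I ≤ 1` and `a, b`
nonzerodivisors on `O_{X,x}/I`:
`Σ_ξ length(O_ξ/I O_ξ) · ord_{x,ξ}(a/b) = length((O_x/I)/a) − length((O_x/I)/b)`, the sum over the
proper generizations `ξ` of `x` with `I ⊆ 𝔭_ξ`.
-/

set_option autoImplicit false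
universe u
open CategoryTheory CategoryTheory.Limits AlgebraicGeometry TopologicalSpace Opposite IsLocalRing

namespace Groth.Agent.Lib.helper16.DivSum

open Groth.Agent.Lib.helper16.OrdGen Groth.Agent.Lib.helper16.GenFib
  Groth.Agent.Lib.helper16.FinDeg

section alg

variable (B : Type u) [CommRing B] [IsNoetherianRing B] [IsLocalRing B] (I : Ideal B)

theorem notMem_of_rel (hI : I ≠ ⊤) [Ring.KrullDimLE 1 (B ⧸ I)] (q : Ideal B) [q.IsPrime]
    (hIq : I ≤ q) (hq : q ≠ maximalIdeal B) {c : B}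
    (hc : Ideal.Quotient.mk I c ∈ nonZeroDivisors (B ⧸ I)) : c ∉ q := by
  haveI : Nontrivial (B ⧸ I) := Ideal.Quotient.nontrivial_iff.mpr hI
  obtain ⟨Q, hQ, hQq⟩ := (bijOn_comap B I hI).surjOn
    (show (⟨q, inferInstance⟩ : PrimeSpectrum B) ∈
      {q : PrimeSpectrum B | I ≤ q.asIdeal ∧ q.asIdeal ≠ maximalIdeal B} from ⟨hIq, hq⟩)
  have hq' : Q.asIdeal.comap (Ideal.Quotient.mk I) = q := congrArg PrimeSpectrum.asIdeal hQq
  haveI := Q.isPrime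
  intro hcq
  rw [← hq'] at hcq
  exact notMem_of_ne_maximalIdeal (B ⧸ I) Q.asIdeal hQ hc hcq

theorem krullDimLE_quot_of_le [Ring.KrullDimLE 1 (B ⧸ I)] (q : Ideal B) (hIq : I ≤ q) :
    Ring.KrullDimLE 1 (B ⧸ q) := by
  rw [Ring.krullDimLE_iff]
  exact (ringKrullDim_le_of_surjective (Ideal.Quotient.factor hIq)
    (Ideal.Quotient.factor_surjective hIq)).trans (Ring.krullDimLE_iff.mp inferInstance)

end alg

variable {X : Scheme.{u}}

theorem finite_points_rel [IsLocallyNoetherian X] (x : X)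
    (I : Ideal (X.presheaf.stalk x)) (hI : I ≠ ⊤)
    [Ring.KrullDimLE 1 (X.presheaf.stalk x ⧸ I)] :
    Finite {ξ : {ξ : X // ξ ⤳ x ∧ ξ ≠ x} // I ≤ pOf ξ.2.1} := by
  haveI : Finite ↥{q : PrimeSpectrum (X.presheaf.stalk x) |
      I ≤ q.asIdeal ∧ q.asIdeal ≠ maximalIdeal (X.presheaf.stalk x)} :=
    (finite_rel (X.presheaf.stalk x) I hI).to_subtype
  let e : {ξ : {ξ : X // ξ ⤳ x ∧ ξ ≠ x} // I ≤ pOf ξ.2.1} →
      ↥{q : PrimeSpectrum (X.presheaf.stalk x) |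
        I ≤ q.asIdeal ∧ q.asIdeal ≠ maximalIdeal (X.presheaf.stalk x)} := fun ξ =>
    ⟨(genToPrime x ξ.1).1, ξ.2, (genToPrime x ξ.1).2⟩
  refine Finite.of_injective e ?_
  intro ξ ξ' hξ
  apply Subtype.ext
  apply (genToPrime_bijective x).1
  apply Subtype.ext
  exact congrArg (fun q => q.1) hξ

theorem finsum_mul_ordAt_eq_rel [IsLocallyNoetherian X] (x : X)
    (I : Ideal (X.presheaf.stalk x)) (hI : I ≠ ⊤)
    [Ring.KrullDimLE 1 (X.presheaf.stalk x ⧸ I)] (a b : X.presheaf.stalk x)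
    (ha : Ideal.Quotient.mk I a ∈ nonZeroDivisors (X.presheaf.stalk x ⧸ I))
    (hb : Ideal.Quotient.mk I b ∈ nonZeroDivisors (X.presheaf.stalk x ⧸ I)) :
    ∑ᶠ ξ : {ξ : {ξ : X // ξ ⤳ x ∧ ξ ≠ x} // I ≤ pOf ξ.2.1},
      ((Module.length
          (X.presheaf.stalk ξ.1.1 ⧸ I.map (X.presheaf.stalkSpecializes ξ.1.2.1).hom)
          (X.presheaf.stalk ξ.1.1 ⧸ I.map (X.presheaf.stalkSpecializes ξ.1.2.1).hom)).toNat : ℤ) *
        Cyc.ordAt x ξ.1.1 ξ.1.2.1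
          (Cyc.specMap x ξ.1.1 ξ.1.2.1 a / Cyc.specMap x ξ.1.1 ξ.1.2.1 b) =
      ((Module.length (X.presheaf.stalk x ⧸ I)
        ((X.presheaf.stalk x ⧸ I) ⧸ Ideal.span {Ideal.Quotient.mk I a})).toNat : ℤ) -
      ((Module.length (X.presheaf.stalk x ⧸ I)
        ((X.presheaf.stalk x ⧸ I) ⧸ Ideal.span {Ideal.Quotient.mk I b})).toNat : ℤ) := by
  haveI := finite_points_rel x I hI
  rw [toNat_length_quot_eq_finsum_points_rel x I hI a ha,
    toNat_length_quot_eq_finsum_points_rel x I hI b hb,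
    ← finsum_sub_distrib (Set.toFinite _) (Set.toFinite _)]
  refine finsum_congr fun ξ => ?_
  have hne : pOf ξ.1.2.1 ≠ maximalIdeal (X.presheaf.stalk x) :=
    fun he => ξ.1.2.2 ((pOf_eq_maximalIdeal_iff ξ.1.2.1).mp he)
  have hd : Ring.KrullDimLE 1 (Cyc.LocQuot x ξ.1.1 ξ.1.2.1) :=
    krullDimLE_quot_of_le (X.presheaf.stalk x) I (pOf ξ.1.2.1) ξ.2
  rw [ordAt_div ξ.1.2.1 hd a b
    (notMem_of_rel (X.presheaf.stalk x) I hI (pOf ξ.1.2.1) ξ.2 hne ha)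
    (notMem_of_rel (X.presheaf.stalk x) I hI (pOf ξ.1.2.1) ξ.2 hne hb), mul_sub]

end Groth.Agent.Lib.helper16.DivSum
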