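import Groth.Agent.Lib.Helper16.DivSum7

/-!
# Flat pullback of a principal divisor (helper16)

`pullFun_divFun_shift`: for `p : X' ⟶ X` flat with a dimension shift `c` at the generic points of
the fibres, `ξ₀ ∈ X` and `g ∈ κ(ξ₀)^*`:
`p^* div(g) = Σ_{ξ'} length(O_{ξ'}/𝔪_{ξ₀} O_{ξ'}) · div(g|_{ξ'})`, the sum over the generic points
`ξ'` of the fibre of `p` over `ξ₀`.
-/

set_option autoImplicit false
universe u
open CategoryTheory CategoryTheory.Limits AlgebraicGeometry TopologicalSpace Opposite IsLocalRing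

namespace Groth.Agent.Lib.helper16.DivSum

open Groth.Agent.Lib.helper16.OrdGen Groth.Agent.Lib.helper16.GenFib
  Groth.Agent.Lib.helper16.FinDeg Groth.Agent.Lib.helper16.ShiftPull
  Groth.Agent.Lib.helper16.CycOpen Groth.Agent.Lib.helper17.FibreStalk

variable {X' X : Scheme.{u}} (p : X' ⟶ X)

theorem residueFieldMap_congr_div {x ξ : X'} (h : ξ ⤳ x)
    (η' : X) (e : p ξ = η') (hη : η' ⤳ p x) (a' b' : X.presheaf.stalk (p x)) :
    p.residueFieldMap ξ ((X.residueFieldCongr e.symm).hom
      (Cyc.specMap (p x) η' hη a' / Cyc.specMap (p x) η' hη b')) =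
    Cyc.specMap x ξ h (p.stalkMap x a') / Cyc.specMap x ξ h (p.stalkMap x b') := by
  subst e
  rw [show (X.residueFieldCongr (Eq.refl (p ξ)).symm) = Iso.refl _ from
    Scheme.residueFieldCongr_refl]
  simp only [Iso.refl_hom, CommRingCat.hom_id, RingHom.id_apply]
  rw [specMap_stalkMap p x ξ h hη a', specMap_stalkMap p x ξ h hη b']
  exact map_div₀ _ _ _

theorem length_self_congr {R : Type u} [CommRing R] {J J' : Ideal R} (h : J = J') :
    Module.length (R ⧸ J) (R ⧸ J) = Module.length (R ⧸ J') (R ⧸ J') := by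
  subst h
  rfl

/-- the multiplicity `length(O_{ξ'}/I O_{ξ'})` is the length of the fibre ring at `ξ'`. -/
theorem length_fibRing_eq {x' ξ' : X'} (h' : ξ' ⤳ x') {ξ₀ : X} (e : p ξ' = ξ₀)
    (hη : ξ₀ ⤳ p x') :
    Module.length
      (X'.presheaf.stalk ξ' ⧸ ((pOf hη).map (p.stalkMap x').hom).map
        (X'.presheaf.stalkSpecializes h').hom)
      (X'.presheaf.stalk ξ' ⧸ ((pOf hη).map (p.stalkMap x').hom).map
        (X'.presheaf.stalkSpecializes h').hom) =
    Module.length (X'.presheaf.stalk ξ') (FibRing p ξ') := by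
  have h : p ξ' ⤳ p x' := e ▸ hη
  rw [length_quotient_self]
  apply length_self_congr
  rw [← pOf_congr e h hη]
  exact map_map_pOf_eq p h' h

open Classical in
/-- flat pullback of a principal divisor. -/
theorem pullFun_divFun_shift [Flat p] {δ' : X' → ℤ} {δ : X → ℤ} [IsLocallyNoetherian X]
    [IsLocallyNoetherian X'] (hδ : Cyc.IsDimFun X δ) (hδ' : Cyc.IsDimFun X' δ') {c : ℤ}
    (hc : HasShift p δ' δ c) (ξ₀ : X) (g : X.residueField ξ₀) (hg : g ≠ 0) (x' : X') :
    Cyc.pullFun p δ' δ c (Cyc.divFun δ ξ₀ g) x' =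
      ∑ᶠ ξ' : {ξ' : X' // p ξ' = ξ₀ ∧ IsGenFib p ξ'},
        ((Module.length (X'.presheaf.stalk ξ'.1) (FibRing p ξ'.1)).toNat : ℤ) *
          Cyc.divFun δ' ξ'.1
            (p.residueFieldMap ξ'.1 ((X.residueFieldCongr ξ'.2.1.symm).hom g)) x' := by
  have hle : ∀ w : X', δ' w ≤ δ (p w) + c := fun w => delta_le_of_generic p δ' δ c hδ' hc w
  have hgenδ : ∀ ξ' : {ξ' : X' // p ξ' = ξ₀ ∧ IsGenFib p ξ'}, δ' ξ'.1 = δ ξ₀ + c := by
    intro ξ'
    rw [hc ξ'.1 ξ'.2.2, ξ'.2.1]
  have hmapsp : ∀ {z w : X'}, z ⤳ w → p z ⤳ p w := fun h => p.base.hom.map_specializes h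
  show (if δ' x' = δ (p x') + c then
      (if h : ξ₀ ⤳ p x' ∧ δ (p x') + 1 = δ ξ₀ then Cyc.ordAt (p x') ξ₀ h.1 g else 0) *
        ((Module.length (X'.presheaf.stalk x') (FibRing p x')).toNat : ℤ) else 0) =
    ∑ᶠ ξ' : {ξ' : X' // p ξ' = ξ₀ ∧ IsGenFib p ξ'},
      ((Module.length (X'.presheaf.stalk ξ'.1) (FibRing p ξ'.1)).toNat : ℤ) *
        (if h : ξ'.1 ⤳ x' ∧ δ' x' + 1 = δ' ξ'.1 then Cyc.ordAt x' ξ'.1 h.1
          (p.residueFieldMap ξ'.1 ((X.residueFieldCongr ξ'.2.1.symm).hom g)) else 0)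
  by_cases hA : δ' x' + 1 = δ ξ₀ + c
  · by_cases hB : δ' x' = δ (p x') + c
    · by_cases hC : ξ₀ ⤳ p x'
      · -- main case
        have hyk : δ (p x') + 1 = δ ξ₀ := by omega
        rw [if_pos hB, dif_pos ⟨hC, hyk⟩]
        have hflat : (p.stalkMap x').hom.Flat :=
          (Flat.iff_flat_stalkMap (f := p)).1 inferInstance x'
        letI := (p.stalkMap x').hom.toAlgebra
        haveI : Module.Flat (X.presheaf.stalk (p x')) (X'.presheaf.stalk x') := hflat
        haveI : IsLocalHom (algebraMap (X.presheaf.stalk (p x')) (X'.presheaf.stalk x')) :=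
          inferInstanceAs (IsLocalHom (p.stalkMap x').hom)
        haveI hd1 : Ring.KrullDimLE 1 (X.presheaf.stalk (p x') ⧸ pOf hC) :=
          krullDimLE_locQuot_of_immediate δ hδ hC hyk
        have hgen : IsGenFib p x' := isGenFib_of_delta_eq p δ' δ c hδ' hc x' hB
        haveI hd0 : Ring.KrullDimLE 0 (X'.presheaf.stalk x' ⧸
            (maximalIdeal (X.presheaf.stalk (p x'))).map
              (algebraMap (X.presheaf.stalk (p x')) (X'.presheaf.stalk x'))) :=
          krullDimLE_zero_fibRing_of_generic p x' hgen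
        set I : Ideal (X'.presheaf.stalk x') := (pOf hC).map (p.stalkMap x').hom with hI
        haveI hd1' : Ring.KrullDimLE 1 (X'.presheaf.stalk x' ⧸ I) :=
          krullDimLE_quot_map (X.presheaf.stalk (p x')) (X'.presheaf.stalk x') (pOf hC)
        have hItop : I ≠ ⊤ :=
          Groth.Agent.Lib.Helper24.FlatQuot.map_ne_top (X.presheaf.stalk (p x'))
            (X'.presheaf.stalk x') (pOf hC) (Ideal.IsPrime.ne_top inferInstance)
        obtain ⟨a, b, ha, hb, hg'⟩ := exists_div_eq hC g hg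
        rw [hg', ordAt_div hC hd1 a b ha hb]
        have hnza : Ideal.Quotient.mk I ((p.stalkMap x').hom a) ∈
            nonZeroDivisors (X'.presheaf.stalk x' ⧸ I) :=
          mk_map_mem_nonZeroDivisors (X.presheaf.stalk (p x')) (X'.presheaf.stalk x') (pOf hC) ha
        have hnzb : Ideal.Quotient.mk I ((p.stalkMap x').hom b) ∈
            nonZeroDivisors (X'.presheaf.stalk x' ⧸ I) :=
          mk_map_mem_nonZeroDivisors (X.presheaf.stalk (p x')) (X'.presheaf.stalk x') (pOf hC) hb
        -- the reindexing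
        have key : ∀ ξ : {ξ : {ξ : X' // ξ ⤳ x' ∧ ξ ≠ x'} // I ≤ pOf ξ.2.1},
            p ξ.1.1 = ξ₀ ∧ IsGenFib p ξ.1.1 := by
          intro ξ
          have h' : ξ.1.1 ⤳ x' := ξ.1.2.1
          have h : p ξ.1.1 ⤳ p x' := hmapsp h'
          have h1 : pOf hC ≤ pOf h := by
            rw [← comap_pOf p h' h, ← Ideal.map_le_iff_le_comap]
            exact ξ.2
          have h2 : ξ₀ ⤳ p ξ.1.1 := (specializes_iff_pOf_le hC h).mpr h1
          have h3 := (hδ' _ _ h' ξ.1.2.2).1
          have h4 := hle ξ.1.1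
          have h5 : p ξ.1.1 = ξ₀ := by
            by_contra hne
            have := (hδ _ _ h2 (Ne.symm hne)).1
            omega
          refine ⟨h5, isGenFib_of_delta_eq p δ' δ c hδ' hc ξ.1.1 ?_⟩
          rw [h5] at h4 ⊢
          omega
        let ι : {ξ : {ξ : X' // ξ ⤳ x' ∧ ξ ≠ x'} // I ≤ pOf ξ.2.1} →
            {ξ' : X' // p ξ' = ξ₀ ∧ IsGenFib p ξ'} := fun ξ => ⟨ξ.1.1, key ξ⟩
        have hι : Function.Injective ι := fun ξ ξ' h =>
          Subtype.ext (Subtype.ext (congrArg (fun z => z.1) h))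
        rw [← finsum_mem_univ, finsum_mem_inter_support_eq' _ Set.univ (Set.range ι) (by
          intro ξ' hξ'
          simp only [Set.mem_univ, true_iff]
          by_cases h : ξ'.1 ⤳ x' ∧ δ' x' + 1 = δ' ξ'.1
          · have hne : ξ'.1 ≠ x' := by
              intro he
              have := h.2
              rw [he] at this
              omega
            refine ⟨⟨⟨ξ'.1, h.1, hne⟩, ?_⟩, Subtype.ext rfl⟩
            have hp : p ξ'.1 ⤳ p x' := hmapsp h.1
            rw [hI, Ideal.map_le_iff_le_comap, comap_pOf p h.1 hp, pOf_congr ξ'.2.1 hp hC]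
          · exfalso
            apply hξ'
            show _ * _ = (0 : ℤ)
            rw [dif_neg h, mul_zero]), finsum_mem_range hι]
        have hterm : ∀ j : {ξ : {ξ : X' // ξ ⤳ x' ∧ ξ ≠ x'} // I ≤ pOf ξ.2.1},
            ((Module.length (X'.presheaf.stalk (ι j).1) (FibRing p (ι j).1)).toNat : ℤ) *
              (if h : (ι j).1 ⤳ x' ∧ δ' x' + 1 = δ' (ι j).1 then Cyc.ordAt x' (ι j).1 h.1
                (p.residueFieldMap (ι j).1 ((X.residueFieldCongr (ι j).2.1.symm).hom
                  (Cyc.specMap (p x') ξ₀ hC a / Cyc.specMap (p x') ξ₀ hC b))) else 0) =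
            ((Module.length
              (X'.presheaf.stalk j.1.1 ⧸ I.map (X'.presheaf.stalkSpecializes j.1.2.1).hom)
              (X'.presheaf.stalk j.1.1 ⧸
                I.map (X'.presheaf.stalkSpecializes j.1.2.1).hom)).toNat : ℤ) *
              Cyc.ordAt x' j.1.1 j.1.2.1 (Cyc.specMap x' j.1.1 j.1.2.1 ((p.stalkMap x').hom a) /
                Cyc.specMap x' j.1.1 j.1.2.1 ((p.stalkMap x').hom b)) := by
          intro j
          have hδj : δ' x' + 1 = δ' j.1.1 := by
            rw [hgenδ (ι j)]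
            exact hA
          rw [dif_pos (⟨j.1.2.1, hδj⟩ : (ι j).1 ⤳ x' ∧ δ' x' + 1 = δ' (ι j).1),
            residueFieldMap_congr_div p j.1.2.1 ξ₀ (ι j).2.1 hC a b,
            length_fibRing_eq p j.1.2.1 (ι j).2.1 hC]
        rw [finsum_congr hterm, finsum_mul_ordAt_eq_rel x' I hItop _ _ hnza hnzb]
        have e1 := length_quot_map_rel (X.presheaf.stalk (p x')) (X'.presheaf.stalk x')
          (pOf hC) ha
        have e2 := length_quot_map_rel (X.presheaf.stalk (p x')) (X'.presheaf.stalk x')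
          (pOf hC) hb
        have e1' : Module.length (X'.presheaf.stalk x' ⧸ I)
          ((X'.presheaf.stalk x' ⧸ I) ⧸
            Ideal.span {Ideal.Quotient.mk I ((p.stalkMap x').hom a)}) = _ := e1
        have e2' : Module.length (X'.presheaf.stalk x' ⧸ I)
          ((X'.presheaf.stalk x' ⧸ I) ⧸
            Ideal.span {Ideal.Quotient.mk I ((p.stalkMap x').hom b)}) = _ := e2
        rw [e1', e2', ENat.toNat_mul, ENat.toNat_mul]
        push_cast
        have e3 : (algebraMap (X.presheaf.stalk (p x')) (X'.presheaf.stalk x')) =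
          (p.stalkMap x').hom := rfl
        rw [e3]
        ring
      · -- both zero
        rw [if_pos hB, dif_neg (fun h => hC h.1), zero_mul]
        symm
        apply finsum_eq_zero_of_forall_eq_zero
        intro ξ'
        rw [dif_neg, mul_zero]
        intro h
        apply hC
        rw [← ξ'.2.1]
        exact hmapsp h.1
    · -- `p x' = ξ₀` and `g` is a unit there
      rw [if_neg hB]
      symm
      apply finsum_eq_zero_of_forall_eq_zero
      intro ξ'
      by_cases h : ξ'.1 ⤳ x' ∧ δ' x' + 1 = δ' ξ'.1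
      · rw [dif_pos h]
        have hη : ξ₀ ⤳ p x' := by rw [← ξ'.2.1]; exact hmapsp h.1
        have hyξ : ξ₀ = p x' := by
          by_contra hne
          have h1 := (hδ _ _ hη hne).1
          have h2 := hle x'
          omega
        obtain ⟨a, b, ha, hb, hg'⟩ := exists_div_eq hη g hg
        have hunit : ∀ a : X.presheaf.stalk (p x'), a ∉ pOf hη → IsUnit a := by
          intro a ha
          have hm : pOf hη = maximalIdeal _ := (pOf_eq_maximalIdeal_iff hη).mpr hyξ
          rw [hm] at ha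
          exact IsLocalRing.notMem_maximalIdeal.mp ha
        have hua := hunit a ha
        have hub := hunit b hb
        rw [hg', residueFieldMap_congr_div p h.1 ξ₀ ξ'.2.1 hη a b]
        have hub' : IsUnit ((p.stalkMap x').hom b) := hub.map _
        obtain ⟨v, hv⟩ := hub'
        have e : Cyc.specMap x' ξ'.1 h.1 ((p.stalkMap x').hom a) /
            Cyc.specMap x' ξ'.1 h.1 ((p.stalkMap x').hom b) =
            Cyc.specMap x' ξ'.1 h.1 ((p.stalkMap x').hom a * ((v⁻¹ : (X'.presheaf.stalk x')ˣ) :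
              X'.presheaf.stalk x')) := by
          rw [map_mul, div_eq_mul_inv]
          congr 1
          rw [← hv]
          symm
          apply eq_inv_of_mul_eq_one_left
          rw [← map_mul]
          simp
        erw [e, ordAt_specMap_of_isUnit h.1 _ ((hua.map _).mul (Units.isUnit _)), mul_zero]
      · rw [dif_neg h, mul_zero]
  · -- both sides vanish
    have hL : (if δ' x' = δ (p x') + c then
        (if h : ξ₀ ⤳ p x' ∧ δ (p x') + 1 = δ ξ₀ then Cyc.ordAt (p x') ξ₀ h.1 g else 0) *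
          ((Module.length (X'.presheaf.stalk x') (FibRing p x')).toNat : ℤ) else 0) = 0 := by
      by_cases h1 : δ' x' = δ (p x') + c
      · rw [if_pos h1, dif_neg (fun h => hA (by have := h.2; omega)), zero_mul]
      · rw [if_neg h1]
    rw [hL]
    symm
    apply finsum_eq_zero_of_forall_eq_zero
    intro ξ'
    rw [dif_neg (fun h => hA (by rw [← hgenδ ξ']; exact h.2)), mul_zero]

end Groth.Agent.Lib.helper16.DivSum
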