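import Mathlib

/-!
# `RingHom.EssFiniteType`: composition, cancellation, localizations, and the affine-local
transport step for morphisms of schemes "locally essentially of finite type" (cover form).
-/

open CategoryTheory AlgebraicGeometry TopologicalSpace

namespace Groth.Agent.Lib.helper16.EssFT

universe u

section Ring

variable {R S T : Type*} [CommRing R] [CommRing S] [CommRing T]

lemma comp {f : R →+* S} {g : S →+* T} (hf : f.EssFiniteType) (hg : g.EssFiniteType) :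
    (g.comp f).EssFiniteType := by
  algebraize [f, g, g.comp f]
  exact Algebra.EssFiniteType.comp R S T

lemma of_comp {f : R →+* S} {g : S →+* T} (h : (g.comp f).EssFiniteType) :
    g.EssFiniteType := by
  algebraize [f, g, g.comp f]
  exact Algebra.EssFiniteType.of_comp R S T

lemma of_isLocalization (f : R →+* S) (M : Submonoid R)
    (h : @IsLocalization R _ M S _ f.toAlgebra) : f.EssFiniteType := by
  algebraize [f]
  exact Algebra.EssFiniteType.of_isLocalization S M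

end Ring

section Scheme

variable {X Y : Scheme.{u}} (f : X ⟶ Y)

/-- transport of an essentially-finite-type chart to a common basic open -/
lemma key {U U' : Y.Opens} (hU : IsAffineOpen U) (hU' : IsAffineOpen U')
    (a : Γ(Y, U)) (a' : Γ(Y, U')) (hD : Y.basicOpen a = Y.basicOpen a')
    {V : X.Opens} (hV : IsAffineOpen V) (e' : V ≤ f ⁻¹ᵁ U')
    (h : (f.appLE U' V e').hom.EssFiniteType) :
    ∃ e : X.basicOpen (f.appLE U' V e' a') ≤ f ⁻¹ᵁ U,
      (f.appLE U (X.basicOpen (f.appLE U' V e' a')) e).hom.EssFiniteType := by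
  set V' := X.basicOpen (f.appLE U' V e' a') with hV'
  have hV'eq : V' = V ⊓ f ⁻¹ᵁ (Y.basicOpen a') := Scheme.basicOpen_appLE f V U' e' a'
  have hV'D : V' ≤ f ⁻¹ᵁ (Y.basicOpen a) := by
    rw [hD, hV'eq]; exact inf_le_right
  have hDU : Y.basicOpen a ≤ U := Y.basicOpen_le a
  have hDU' : Y.basicOpen a ≤ U' := hD ▸ Y.basicOpen_le a'
  have hV'V : V' ≤ V := X.basicOpen_le _
  have e : V' ≤ f ⁻¹ᵁ U := hV'D.trans (f.preimage_mono hDU)
  refine ⟨e, ?_⟩
  -- the three maps
  let φ := f.appLE (Y.basicOpen a) V' hV'D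
  have h1 : f.appLE U V' e = Y.presheaf.map (homOfLE hDU).op ≫ φ :=
    (Scheme.Hom.map_appLE f hV'D (homOfLE hDU).op).symm
  have h2 : f.appLE U' V' (hV'V.trans e') = Y.presheaf.map (homOfLE hDU').op ≫ φ :=
    (Scheme.Hom.map_appLE f hV'D (homOfLE hDU').op).symm
  have h3 : f.appLE U' V' (hV'V.trans e') = f.appLE U' V e' ≫ X.presheaf.map (homOfLE hV'V).op :=
    (Scheme.Hom.appLE_map f e' (homOfLE hV'V).op).symm
  -- localizations
  have l1 : (Y.presheaf.map (homOfLE hDU).op).hom.EssFiniteType :=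
    of_isLocalization _ (Submonoid.powers a) (hU.isLocalization_of_eq_basicOpen a (homOfLE hDU) rfl)
  have l2 : (Y.presheaf.map (homOfLE hDU').op).hom.EssFiniteType :=
    of_isLocalization _ (Submonoid.powers a') (hU'.isLocalization_of_eq_basicOpen a' (homOfLE hDU') hD)
  have l3 : (X.presheaf.map (homOfLE hV'V).op).hom.EssFiniteType :=
    of_isLocalization _ (Submonoid.powers (f.appLE U' V e' a'))
      (hV.isLocalization_of_eq_basicOpen _ (homOfLE hV'V) rfl)
  have hφ : φ.hom.EssFiniteType := by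
    have : (f.appLE U' V' (hV'V.trans e')).hom.EssFiniteType := by
      rw [h3, CommRingCat.hom_comp]; exact comp h l3
    rw [h2, CommRingCat.hom_comp] at this
    exact of_comp this
  rw [h1, CommRingCat.hom_comp]
  exact comp l1 hφ

/-- the cover form of "locally essentially of finite type" over one affine open of the target -/
def LocEssAt (U : Y.affineOpens) : Prop :=
  ∃ T : Set X.affineOpens, (⋃ V ∈ T, ((V : X.Opens) : Set ↥X)) = ((f ⁻¹ᵁ (U : Y.Opens)) : Set ↥X) ∧
    ∀ V ∈ T, ∃ e : (V : X.Opens) ≤ f ⁻¹ᵁ (U : Y.Opens),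
      (f.appLE (U : Y.Opens) (V : X.Opens) e).hom.EssFiniteType

lemma locEssAt_of_cover (S : Set Y.affineOpens)
    (hS : (⋃ U ∈ S, ((U : Y.Opens) : Set ↥Y)) = Set.univ)
    (hT : ∀ U ∈ S, LocEssAt f U) (U : Y.affineOpens) : LocEssAt f U := by
  classical
  refine ⟨{W : X.affineOpens | ∃ (U' : Y.affineOpens) (_ : U' ∈ S) (V : X.affineOpens)
      (a : Γ(Y, (U : Y.Opens))) (a' : Γ(Y, (U' : Y.Opens)))
      (_ : Y.basicOpen a = Y.basicOpen a') (e' : (V : X.Opens) ≤ f ⁻¹ᵁ (U' : Y.Opens))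
      (_ : (f.appLE (U' : Y.Opens) (V : X.Opens) e').hom.EssFiniteType),
      (W : X.Opens) = X.basicOpen (f.appLE (U' : Y.Opens) (V : X.Opens) e' a')}, ?_, ?_⟩
  · apply Set.Subset.antisymm
    · intro x hx
      obtain ⟨W, ⟨U', _, V, a, a', hD, e', h, hW⟩, hxW⟩ := Set.mem_iUnion₂.mp hx
      obtain ⟨e, -⟩ := key f U.2 U'.2 a a' hD V.2 e' h
      exact e (hW ▸ hxW)
    · intro x hx
      have hy : f.base x ∈ (U : Y.Opens) := hx
      have hy' : f.base x ∈ (⋃ U ∈ S, ((U : Y.Opens) : Set ↥Y)) := hS ▸ Set.mem_univ _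
      obtain ⟨U', hU', hyU'⟩ := Set.mem_iUnion₂.mp hy'
      obtain ⟨a, a', hD, hya⟩ := exists_basicOpen_le_affine_inter U.2 U'.2 (f.base x) ⟨hy, hyU'⟩
      obtain ⟨T, hTc, hTe⟩ := hT U' hU'
      have hx' : x ∈ ((f ⁻¹ᵁ (U' : Y.Opens)) : Set ↥X) := hyU'
      rw [← hTc] at hx'
      obtain ⟨V, hV, hxV⟩ := Set.mem_iUnion₂.mp hx'
      obtain ⟨e', h⟩ := hTe V hV
      refine Set.mem_iUnion₂.mpr ⟨⟨X.basicOpen (f.appLE (U' : Y.Opens) (V : X.Opens) e' a'),
        V.2.basicOpen _⟩, ⟨U', hU', V, a, a', hD, e', h, rfl⟩, ?_⟩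
      change x ∈ X.basicOpen (f.appLE (U' : Y.Opens) (V : X.Opens) e' a')
      rw [Scheme.basicOpen_appLE]
      exact ⟨hxV, by rw [← hD]; exact hya⟩
  · rintro W ⟨U', _, V, a, a', hD, e', h, hW⟩
    obtain ⟨e, he⟩ := key f U.2 U'.2 a a' hD V.2 e' h
    have hW' : W = ⟨X.basicOpen (f.appLE (U' : Y.Opens) (V : X.Opens) e' a'), V.2.basicOpen _⟩ :=
      Subtype.ext hW
    subst hW'
    exact ⟨e, he⟩

end Scheme

end Groth.Agent.Lib.helper16.EssFT
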