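import Mathlib
import Groth.Prelude.Def_EssFT
import Groth.Agent.Lib.Helper16.EssFT

/-!
# Pointwise form of "locally essentially of finite type" vs. the every-affine-open cover form,
and base change (helper16).
-/

open CategoryTheory AlgebraicGeometry TopologicalSpace CategoryTheory.Limits

namespace Groth.Agent.Lib.helper16.EssFT

universe u

variable {X Y : Scheme.{u}} (f : X ⟶ Y)

lemma locEssAt_of_pointwise
    (hp : ∀ x : X, ∃ (U' : Y.affineOpens) (V : X.affineOpens) (_ : x ∈ V.1)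
      (e' : V.1 ≤ f ⁻¹ᵁ U'.1), (f.appLE U'.1 V.1 e').hom.EssFiniteType)
    (U : Y.affineOpens) : LocEssAt f U := by
  classical
  refine ⟨{W : X.affineOpens | ∃ (U' : Y.affineOpens) (V : X.affineOpens)
      (a : Γ(Y, (U : Y.Opens))) (a' : Γ(Y, (U' : Y.Opens)))
      (_ : Y.basicOpen a = Y.basicOpen a') (e' : (V : X.Opens) ≤ f ⁻¹ᵁ (U' : Y.Opens))
      (_ : (f.appLE (U' : Y.Opens) (V : X.Opens) e').hom.EssFiniteType),
      (W : X.Opens) = X.basicOpen (f.appLE (U' : Y.Opens) (V : X.Opens) e' a')}, ?_, ?_⟩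
  · apply Set.Subset.antisymm
    · intro x hx
      obtain ⟨W, ⟨U', V, a, a', hD, e', h, hW⟩, hxW⟩ := Set.mem_iUnion₂.mp hx
      obtain ⟨e, -⟩ := key f U.2 U'.2 a a' hD V.2 e' h
      exact e (hW ▸ hxW)
    · intro x hx
      have hy : f.base x ∈ (U : Y.Opens) := hx
      obtain ⟨U', V, hxV, e', h⟩ := hp x
      have hyU' : f.base x ∈ (U' : Y.Opens) := e' hxV
      obtain ⟨a, a', hD, hya⟩ := exists_basicOpen_le_affine_inter U.2 U'.2 (f.base x) ⟨hy, hyU'⟩
      refine Set.mem_iUnion₂.mpr ⟨⟨X.basicOpen (f.appLE (U' : Y.Opens) (V : X.Opens) e' a'),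
        V.2.basicOpen _⟩, ⟨U', V, a, a', hD, e', h, rfl⟩, ?_⟩
      change x ∈ X.basicOpen (f.appLE (U' : Y.Opens) (V : X.Opens) e' a')
      rw [Scheme.basicOpen_appLE]
      exact ⟨hxV, by rw [← hD]; exact hya⟩
  · rintro W ⟨U', V, a, a', hD, e', h, hW⟩
    obtain ⟨e, he⟩ := key f U.2 U'.2 a a' hD V.2 e' h
    have hW' : W = ⟨X.basicOpen (f.appLE (U' : Y.Opens) (V : X.Opens) e' a'), V.2.basicOpen _⟩ :=
      Subtype.ext hW
    subst hW'
    exact ⟨e, he⟩

/-- The every-affine-open cover form is equivalent to the prelude class. -/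
lemma locallyEssFiniteType_iff_forall_locEssAt :
    _root_.EssFT.LocallyEssFiniteType f ↔ ∀ U : Y.affineOpens, LocEssAt f U := by
  constructor
  · intro h U
    exact locEssAt_of_pointwise f h.exists_appLE_essFiniteType U
  · intro h
    constructor
    intro x
    obtain ⟨_, ⟨U, hU, rfl⟩, hyU, -⟩ :=
      Y.isBasis_affineOpens.exists_subset_of_mem_open (Set.mem_univ (f.base x)) isOpen_univ
    obtain ⟨T, hTc, hTe⟩ := h ⟨U, hU⟩
    have hx' : x ∈ ((f ⁻¹ᵁ U) : Set ↥X) := hyU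
    rw [← hTc] at hx'
    obtain ⟨V, hV, hxV⟩ := Set.mem_iUnion₂.mp hx'
    obtain ⟨e', h'⟩ := hTe V hV
    exact ⟨⟨U, hU⟩, V, hxV, e', h'⟩

instance : MorphismProperty.IsStableUnderBaseChange @_root_.EssFT.LocallyEssFiniteType :=
  HasRingHomProperty.isStableUnderBaseChange
    (RingHom.locally_isStableUnderBaseChange RingHom.EssFiniteType.respectsIso
      RingHom.EssFiniteType.isStableUnderBaseChange)

lemma locEssAt_pullback_snd {Y' : Scheme.{u}} (g : Y' ⟶ Y) (hf : ∀ U : Y.affineOpens, LocEssAt f U)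
    (U : Y'.affineOpens) : LocEssAt (pullback.snd f g) U := by
  have h1 : _root_.EssFT.LocallyEssFiniteType f := (locallyEssFiniteType_iff_forall_locEssAt f).mpr hf
  have h2 : _root_.EssFT.LocallyEssFiniteType (pullback.snd f g) :=
    MorphismProperty.pullback_snd _ _ h1
  exact (locallyEssFiniteType_iff_forall_locEssAt _).mp h2 U

end Groth.Agent.Lib.helper16.EssFT
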