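import Groth.Agent.Lib.Helper12.InvDual2
import Groth.Agent.Lib.Helper21.LocFreeBridge

/-!
# The evaluation map of a locally free module of positive rank is an epimorphism (helper16)

`epi_evMod_of_pos`: `evMod L : ℋom(L, O) ⊗ L ⟶ O` (helper12) is an epimorphism when every point has a
neighbourhood on which `L` is free of positive rank (adaptation of helper12's `epi_evMod`).
-/

set_option autoImplicit false
set_option linter.style.haveILetI false
universe u

open CategoryTheory CategoryTheory.Limits Opposite AlgebraicGeometry TopologicalSpace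
open Scheme.Modules

namespace Groth.Agent.Lib.helper16.EvEpi

open Groth.Agent.Lib.helper21.LocFreeBridge Groth.Agent.Lib.helper11.InvMod
  Groth.Agent.Lib.helper11.IsoLocus Groth.Agent.Lib.helper11.GenLocus
  Groth.Agent.Lib.helper11.InvHom Groth.Agent.Lib.helper12.InvDual

variable {X : Scheme.{u}}

/-- The evaluation map `ℋom(L, O) ⊗ L ⟶ O` is an epimorphism when `L` is locally free of positive
rank. -/
theorem epi_evMod_of_pos {L : X.Modules}
    (hL : ∀ x : X, ∃ (U : X.Opens) (n : ℕ), x ∈ U ∧ 0 < n ∧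
      Nonempty (L.restrict U.ι ≅ FlatMod.freeMod (↑U) n)) :
    Epi (evMod L) := by
  refine ⟨fun {N} g g' h => ?_⟩
  rw [← sub_eq_zero]
  refine eq_zero_of_forall_exists_isZeroOn (g - g') fun x => ?_
  obtain ⟨U, n, hxU, hn, ⟨e⟩⟩ := hL x
  refine ⟨U, hxU, fun W hW => ?_⟩
  let e' : (ModSite.restr X.sheaf U).obj L ≅ ∐ fun _ : Fin n => ModSite.unit (X.sheaf.over U) :=
    restrIsoFree L U n e
  classical
  let pr : (∐ fun _ : Fin n => ModSite.unit (X.sheaf.over U)) ⟶ ModSite.unit (X.sheaf.over U) :=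
    Sigma.desc (fun i => if i = ⟨0, hn⟩ then 𝟙 _ else 0)
  haveI : IsSplitEpi pr :=
    ⟨⟨Sigma.ι (fun _ : Fin n => ModSite.unit (X.sheaf.over U)) ⟨0, hn⟩, by simp [pr]⟩⟩
  let φ : (ModSite.restr X.sheaf U).obj L ⟶
      (ModSite.restr X.sheaf U).obj (ModSite.unit X.sheaf) :=
    e'.hom ≫ pr ≫ (restrUnit U).inv
  haveI : Epi φ := by
    dsimp only [φ]
    infer_instance
  have key := restr_map_eq_of_ev_comp_eq X.sheaf L g g' h U φ
  have h2 := congrArg (fun m => m.val.app (op (Over.mk (homOfLE hW)))) key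
  rw [Hom.sub_app, sub_eq_zero]
  exact congrArg (fun m => (forget₂ _ _).map m) h2

end Groth.Agent.Lib.helper16.EvEpi
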