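import Groth.Agent.Lib.Helper16.Satur9

/-!
# Extending morphisms of coherent modules from an open: algebra + affine step on `Spec R` (helper16)

Artin–Rees consequence: for a finite module `M` over a Noetherian ring, an ideal `I` and a submodule
`T ⊆ M` which is `I`-power torsion, `I ^ n • ⊤ ⊓ T = ⊥` for some `n`.
-/

set_option autoImplicit false
universe u
open CategoryTheory CategoryTheory.Limits AlgebraicGeometry TopologicalSpace Opposite
open Scheme.Modules

namespace Groth.Agent.Lib.helper16.ExtHom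

section Alg

variable {R M : Type*} [CommRing R] [IsNoetherianRing R] [AddCommGroup M] [Module R M]
  [Module.Finite R M]

theorem le_radical_annihilator (S₀ : Set R) (T : Submodule R M)
    (hT : ∀ t ∈ T, ∀ f ∈ S₀, ∃ k : ℕ, f ^ k • t = 0) :
    Ideal.span S₀ ≤ (Module.annihilator R T).radical := by
  classical
  refine Ideal.span_le.mpr ?_
  intro f hf
  haveI : IsNoetherian R M := isNoetherian_of_isNoetherianRing_of_finite R M
  obtain ⟨S, hS⟩ : T.FG := IsNoetherian.noetherian T
  have hk : ∀ t : M, ∃ k : ℕ, t ∈ T → f ^ k • t = 0 := by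
    intro t
    by_cases ht : t ∈ T
    · obtain ⟨k, hk⟩ := hT t ht f hf
      exact ⟨k, fun _ => hk⟩
    · exact ⟨0, fun h => absurd h ht⟩
  choose k hk using hk
  refine ⟨S.sup k, ?_⟩
  rw [Module.mem_annihilator]
  rintro ⟨t, ht⟩
  apply Subtype.ext
  change f ^ S.sup k • t = 0
  rw [← hS] at ht
  induction ht using Submodule.span_induction with
  | mem x hx =>
    have hxT : x ∈ T := by rw [← hS]; exact Submodule.subset_span hx
    have hle : k x ≤ S.sup k := Finset.le_sup (f := k) hx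
    obtain ⟨d, hd⟩ := Nat.exists_eq_add_of_le hle
    rw [hd, pow_add, mul_comm, mul_smul, hk x hxT, smul_zero]
  | zero => exact smul_zero _
  | add x y _ _ hx hy => rw [smul_add, hx, hy, add_zero]
  | smul a x _ hx => rw [smul_comm, hx, smul_zero]

theorem exists_pow_smul_top_inf_eq_bot (S₀ : Set R) (T : Submodule R M)
    (hT : ∀ t ∈ T, ∀ f ∈ S₀, ∃ k : ℕ, f ^ k • t = 0) :
    ∃ n : ℕ, ((Ideal.span S₀) ^ n • (⊤ : Submodule R M)) ⊓ T = ⊥ := by
  obtain ⟨m, hm⟩ := Ideal.exists_pow_le_of_le_radical_of_fg (le_radical_annihilator S₀ T hT)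
    (IsNoetherian.noetherian (Ideal.span S₀))
  obtain ⟨k, hk⟩ := Ideal.exists_pow_inf_eq_pow_smul (Ideal.span S₀) T (M := M)
  refine ⟨k + m, ?_⟩
  rw [hk (k + m) (Nat.le_add_right k m), Nat.add_sub_cancel_left, eq_bot_iff]
  refine Submodule.smul_le.mpr (fun r hr t ht => ?_)
  have hann := hm hr
  rw [Module.mem_annihilator] at hann
  have := hann ⟨t, ht.2⟩
  exact congrArg Subtype.val this

end Alg

open Groth.Agent.Lib.helper16.Satur Groth.Agent.Lib.helper16.CohFinite Groth.Agent.Lib.helper7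

section Spec

variable {R : CommRingCat.{u}}

/-- The `R`-linear map on sections induced by a morphism of modules on `Spec R`. -/
noncomputable def appLin {N M : (Spec R).Modules} (φ : N ⟶ M) (U : (Spec R).Opens) :
    Γ(N, U) →ₗ[R] Γ(M, U) :=
  ((modulesSpecToSheaf.map φ).hom.app (op U)).hom

theorem appLin_apply {N M : (Spec R).Modules} (φ : N ⟶ M) (U : (Spec R).Opens) (x : Γ(N, U)) :
    appLin φ U x = φ.app U x := rfl

/-- The `R`-linear restriction map. -/
noncomputable def resLinR (M : (Spec R).Modules) {U V : (Spec R).Opens} (h : V ≤ U) :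
    Γ(M, U) →ₗ[R] Γ(M, V) :=
  ((modulesSpecToSheaf.obj M).obj.map (homOfLE h).op).hom

theorem resLinR_apply (M : (Spec R).Modules) {U V : (Spec R).Opens} (h : V ≤ U) (x : Γ(M, U)) :
    resLinR M h x = M.presheaf.map (homOfLE h).op x := rfl

variable (M : (Spec R).Modules) [M.IsQuasicoherent]
  (N₀ : Submodule R ((modulesSpecToSheaf.obj M).presheaf.obj (.op ⊤)))

omit [M.IsQuasicoherent] in
/-- The value of `subTildeι` on the section given by an element of `N₀`. -/
theorem subTildeι_app_toOpen (U : (Spec R).Opens) (n : N₀) :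
    (subTildeι M N₀).app U
      (show Γ(subTilde M N₀, U) from (tilde.toOpen (ModuleCat.of R N₀) U).hom n) =
    M.presheaf.map (homOfLE (le_top : U ≤ ⊤)).op (show Γ(M, ⊤) from n.1) := by
  have h1 := tilde.toOpen_map_app (ModuleCat.ofHom N₀.subtype) U
  have h2 := Scheme.Modules.toOpen_fromTildeΓ_app M U
  have h1' := congr_arg (fun φ => φ.hom n) h1
  have h2' := congr_arg (fun φ => φ.hom n.1) h2
  simp only [ModuleCat.hom_comp, LinearMap.comp_apply] at h1' h2'
  change (M.fromTildeΓ.app U) ((tilde.map (ModuleCat.ofHom N₀.subtype)).app U _) = _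
  refine Eq.trans ?_ h2'
  exact congr_arg (fun z => ((modulesSpecToSheaf.map M.fromTildeΓ).hom.app (op U)).hom z) h1'

theorem isLocalizing : IsLocalizing (modulesSpecToSheaf.obj M) :=
  (isIso_fromTildeΓ_iff_isLocalizing M).mp (Scheme.Modules.isIso_fromTildeΓ_of_isQuasicoherent M)

omit [M.IsQuasicoherent] in
theorem exists_pow_smul_eq_zero_aux (F : TopCat.Sheaf (ModuleCat R) (Spec R)) (hF : IsLocalizing F)
    (f : R) (t : F.obj.obj (op ⊤))
    (h : (F.obj.map (PrimeSpectrum.basicOpen f).leTop.op).hom t = 0) :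
    ∃ k : ℕ, f ^ k • t = 0 := by
  have hl := hF f
  obtain ⟨⟨_, k, rfl⟩, hk⟩ := (IsLocalizedModule.eq_zero_iff (Submonoid.powers f)
    (F.obj.map (PrimeSpectrum.basicOpen f).leTop.op).hom).mp h
  exact ⟨k, hk⟩

omit [M.IsQuasicoherent] in
theorem exists_smul_eq_res_aux (F : TopCat.Sheaf (ModuleCat R) (Spec R)) (hF : IsLocalizing F)
    (f : R) (y : F.obj.obj (op (PrimeSpectrum.basicOpen f))) :
    ∃ (k : ℕ) (m : F.obj.obj (op ⊤)),
      f ^ k • y = (F.obj.map (PrimeSpectrum.basicOpen f).leTop.op).hom m := by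
  have hl := hF f
  obtain ⟨⟨m, ⟨_, k, rfl⟩⟩, hm⟩ := IsLocalizedModule.surj (Submonoid.powers f)
    (F.obj.map (PrimeSpectrum.basicOpen f).leTop.op).hom y
  exact ⟨k, m, hm⟩

theorem exists_pow_smul_eq_zero (f : R) (t : (modulesSpecToSheaf.obj M).presheaf.obj (op ⊤))
    (h : ((modulesSpecToSheaf.obj M).obj.map (PrimeSpectrum.basicOpen f).leTop.op).hom t = 0) :
    ∃ k : ℕ, f ^ k • t = 0 :=
  exists_pow_smul_eq_zero_aux (modulesSpecToSheaf.obj M) (isLocalizing M) f t h

/-- The basic open `D(f)` as an open of the scheme `Spec R`. -/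
abbrev DD (f : R) : (Spec R).Opens := PrimeSpectrum.basicOpen f

theorem isAffineOpen_DD (f : R) : IsAffineOpen (DD f) := by
  have h : DD f = (Spec R).basicOpen ((Scheme.ΓSpecIso R).inv f) := (basicOpen_eq_of_affine f).symm
  rw [h]
  exact (isAffineOpen_top (Spec R)).basicOpen _

/-- **Affine step on `Spec R` with injectivity.** -/
theorem exists_sub_spec_inj [IsNoetherianRing R]
    [Module.Finite R ((modulesSpecToSheaf.obj M).presheaf.obj (.op ⊤))]
    {A : (Spec R).Modules} [A.IsQuasicoherent] (a : M ⟶ A) (s : Finset R)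
    (hs : ∀ f ∈ s, Function.Injective (a.app (DD f))) :
    ∃ (N : (Spec R).Modules) (i : N ⟶ M), Mono i ∧ N.IsQuasicoherent ∧ CohB1.IsFT N ∧
      (∀ f ∈ s, IsoOn i (DD f)) ∧ Mono (i ≫ a) := by
  classical
  let T : Submodule R ((modulesSpecToSheaf.obj M).presheaf.obj (.op ⊤)) :=
    LinearMap.ker (appLin a ⊤)
  have hloc := isLocalizing M
  have hT : ∀ t ∈ T, ∀ f ∈ (s : Set R), ∃ k : ℕ, f ^ k • t = 0 := by
    intro t ht f hf
    have ht0 : a.app ⊤ t = 0 := ht
    haveI := hloc f
    have h1 : a.app (DD f)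
        (M.presheaf.map (homOfLE (le_top : DD f ≤ ⊤)).op t) = 0 := by
      have hnat := a.mapPresheaf.naturality (homOfLE (le_top : DD f ≤ ⊤)).op
      have hnat' := congrArg (fun ψ => (ConcreteCategory.hom ψ) t) hnat
      refine hnat'.trans ?_
      change A.presheaf.map _ (a.app ⊤ t) = 0
      rw [ht0, map_zero]
    have h2 : M.presheaf.map (homOfLE (le_top : DD f ≤ ⊤)).op t = 0 := by
      apply hs f hf
      rw [h1, map_zero]
    have h2' : ((modulesSpecToSheaf.obj M).obj.map (PrimeSpectrum.basicOpen f).leTop.op).hom t = 0 :=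
      h2
    exact exists_pow_smul_eq_zero M f t h2'
  obtain ⟨n, hn⟩ := exists_pow_smul_top_inf_eq_bot (s : Set R) T hT
  let N₀ : Submodule R ((modulesSpecToSheaf.obj M).presheaf.obj (.op ⊤)) :=
    (Ideal.span (s : Set R)) ^ n • ⊤
  have : IsNoetherian R ((modulesSpecToSheaf.obj M).presheaf.obj (.op ⊤)) :=
    isNoetherian_of_isNoetherianRing_of_finite R _
  have : Module.Finite R N₀ := Module.IsNoetherian.finite R N₀
  refine ⟨subTilde M N₀, subTildeι M N₀, inferInstance, inferInstance, isFT_subTilde M N₀, ?_, ?_⟩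
  · intro f hf
    refine isoOn_of_bijective_affine _ _ (isAffineOpen_DD f) ?_
    refine ⟨injective_app_of_mono _ _, fun y => ?_⟩
    obtain ⟨k, m, hm⟩ := exists_smul_eq_res_aux (modulesSpecToSheaf.obj M) (isLocalizing M) f y
    have hmem : f ^ n • m ∈ N₀ :=
      Submodule.smul_mem_smul (Ideal.pow_mem_pow (Ideal.subset_span hf) n) Submodule.mem_top
    have hx0 := subTildeι_app_toOpen M N₀ (DD f) ⟨_, hmem⟩
    generalize (show Γ(subTilde M N₀, DD f) from
      (tilde.toOpen (ModuleCat.of R N₀) (DD f)).hom ⟨_, hmem⟩) = x0 at hx0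
    have hu := ((subTilde M N₀).isUnit_algebraMap_end_of_le_basicOpen (U := DD f) f le_rfl).pow
      (n + k)
    rw [← map_pow, Module.End.isUnit_iff] at hu
    obtain ⟨x', hx'⟩ := hu.2 x0
    have hx'' : f ^ (n + k) • x' = x0 := hx'
    refine ⟨x', ?_⟩
    have hreg := (M.isSMulRegular_of_le_basicOpen (U := DD f) (f := f) le_rfl).pow (n + k)
    apply hreg
    change f ^ (n + k) • (appLin (subTildeι M N₀) (DD f) x') = f ^ (n + k) • y
    rw [← LinearMap.map_smul, hx'', appLin_apply, hx0]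
    have e1 : resLinR M (le_top : DD f ≤ ⊤) (f ^ n • m) = f ^ n • resLinR M le_top m :=
      (resLinR M le_top).map_smul _ _
    have e2 : resLinR M (le_top : DD f ≤ ⊤) m = f ^ k • y := hm.symm
    refine e1.trans ?_
    rw [e2, pow_add, mul_smul]
  · refine KerSections.mono_of_injective_cover (subTildeι M N₀ ≫ a)
      (fun _ : Unit => (⊤ : (Spec R).Opens)) (fun _ => isAffineOpen_top _)
      (fun _ => ⟨(), trivial⟩) (fun _ => ?_)
    rw [injective_iff_map_eq_zero]
    intro x hx
    obtain ⟨nn, rfl⟩ :=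
      (ConcreteCategory.bijective_of_isIso (tilde.toOpen (ModuleCat.of R N₀) ⊤)).2 x
    have h1 := subTildeι_app_toOpen M N₀ ⊤ nn
    have h0 : M.presheaf.map (homOfLE (le_top : (⊤ : (Spec R).Opens) ≤ ⊤)).op
        (show Γ(M, ⊤) from nn.1) = nn.1 := by
      have : (homOfLE (le_top : (⊤ : (Spec R).Opens) ≤ ⊤)).op = 𝟙 _ := Subsingleton.elim _ _
      rw [this, M.presheaf.map_id]
      rfl
    rw [h0] at h1
    have h2 : a.app ⊤ (show Γ(M, ⊤) from nn.1) = 0 := by
      rw [← h1]
      exact hx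
    have h3 : nn.1 ∈ N₀ ⊓ T := ⟨nn.2, h2⟩
    rw [hn, Submodule.mem_bot] at h3
    have h4 : nn = 0 := Subtype.ext h3
    rw [h4, map_zero]
    rfl

end Spec

end Groth.Agent.Lib.helper16.ExtHom
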