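import Groth.Agent.Lib.Helper16.ExtHom1

/-!
# Extending morphisms of coherent modules from an open: the affine step on a scheme (helper16)
-/

set_option autoImplicit false
universe u
open CategoryTheory CategoryTheory.Limits AlgebraicGeometry TopologicalSpace Opposite
open Scheme.Modules

namespace Groth.Agent.Lib.helper16.ExtHom

open Groth.Agent.Lib.helper16.Satur Groth.Agent.Lib.helper16.CohFinite Groth.Agent.Lib.helper7

section Fin

variable {R : CommRingCat.{u}}

theorem finite_top_of_finite (M : (Spec R).Modules)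
    (h : Module.Finite Γ(Spec R, ⊤) Γ(M, ⊤)) :
    Module.Finite R ((modulesSpecToSheaf.obj M).presheaf.obj (.op ⊤)) := by
  let σ : Γ(Spec R, ⊤) →+* R := (Scheme.ΓSpecIso R).hom.hom
  haveI : RingHomSurjective σ :=
    ⟨(ConcreteCategory.bijective_of_isIso (Scheme.ΓSpecIso R).hom).2⟩
  let f : Γ(M, ⊤) →ₛₗ[σ] ((modulesSpecToSheaf.obj M).presheaf.obj (.op ⊤)) :=
    { toFun := fun x => x
      map_add' := fun _ _ => rfl
      map_smul' := fun r x => by
        change r • x = ((Spec R).presheaf.map (⊤ : (Spec R).Opens).leTop.op)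
          ((Scheme.ΓSpecIso R).inv ((Scheme.ΓSpecIso R).hom r)) • x
        have : (⊤ : (Spec R).Opens).leTop.op = 𝟙 _ := Subsingleton.elim _ _
        rw [this, (Spec R).presheaf.map_id]
        simp }
  exact Module.Finite.of_surjective f Function.surjective_id

end Fin

variable {X : Scheme.{u}}

/-- Sections of a restriction along an open immersion: injectivity transfers. -/
theorem injective_app_of_mono_restrict {Y : Scheme.{u}} (j : Y ⟶ X) [IsOpenImmersion j]
    {K A : X.Modules} (ψ : K ⟶ A) [Mono ((restrictFunctor j).map ψ)] (W' : X.Opens)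
    (hW' : W' ≤ j.opensRange) : Function.Injective (ψ.app W') := by
  have e : j ''ᵁ (j ⁻¹ᵁ W') = W' := by
    rw [Scheme.Hom.image_preimage_eq_opensRange_inf]
    exact inf_eq_right.mpr hW'
  have h := injective_app_of_mono ((restrictFunctor j).map ψ) (j ⁻¹ᵁ W')
  have key : ∀ D' : X.Opens, D' = W' → Function.Injective (ψ.app D') := by
    rintro _ rfl
    exact e ▸ h
  exact key _ rfl

/-- **Affine step with injectivity.** -/
theorem affine_step_inj (V : X.Opens) (hV : IsAffineOpen V) [QuasiCompact hV.fromSpec]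
    [IsNoetherianRing Γ(X, V)] (K A : X.Modules) [K.IsQuasicoherent] [A.IsQuasicoherent]
    (a : K ⟶ A) (W : X.Opens) (hVW : IsCompact ((V ⊓ W : X.Opens) : Set X)) (hK : FTOn K V)
    (hinj : ∀ W' : X.Opens, W' ≤ V ⊓ W → Function.Injective (a.app W')) :
    ∃ (H : X.Modules) (h : H ⟶ K), Mono h ∧ H.IsQuasicoherent ∧ IsoOn h W ∧
      (∀ (W' W'' : X.Opens) (hle : W'' ≤ W') (_ : W' ⊓ V ≤ W'') (s : Γ(K, W')),
        K.presheaf.map (homOfLE hle).op s ∈ Set.range (h.app W'') → s ∈ Set.range (h.app W')) ∧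
      ∀ W' : X.Opens, W' ≤ V → Function.Injective ((h ≫ a).app W') := by
  classical
  let j := hV.fromSpec
  have : (K.restrict j).IsQuasicoherent := inferInstance
  have : (A.restrict j).IsQuasicoherent := inferInstance
  have hf : ∀ x : (V ⊓ W : X.Opens), ∃ f : Γ(X, V), X.basicOpen f ≤ V ⊓ W ∧ x.1 ∈ X.basicOpen f :=
    fun x => hV.exists_basicOpen_le (V := V ⊓ W) x x.2.1
  choose f hfle hxf using hf
  obtain ⟨t, ht⟩ := hVW.elim_finite_subcover (fun x : (V ⊓ W : X.Opens) => (X.basicOpen (f x) : Set X))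
    (fun x => (X.basicOpen (f x)).isOpen) (fun x hx => Set.mem_iUnion.mpr ⟨⟨x, hx⟩, hxf ⟨x, hx⟩⟩)
  have hD : ∀ g : Γ(X, V), DD (R := Γ(X, V)) g = j ⁻¹ᵁ X.basicOpen g :=
    fun g => (hV.fromSpec_preimage_basicOpen g).symm
  have hD' : ∀ g : Γ(X, V), j ''ᵁ DD (R := Γ(X, V)) g = X.basicOpen g :=
    fun g => hV.fromSpec_image_basicOpen g
  let s : Finset Γ(X, V) := t.image f
  have : Module.Finite Γ(X, V)
      ((modulesSpecToSheaf.obj (K.restrict j)).presheaf.obj (.op ⊤)) := by
    apply finite_top_of_finite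
    apply finite_restrict_of_finite
    apply hK _ ((isAffineOpen_top _).image_of_isOpenImmersion j)
    rw [Scheme.Hom.image_top_eq_opensRange, hV.opensRange_fromSpec]
  have hs : ∀ g ∈ s, Function.Injective (((restrictFunctor j).map a).app (DD g)) := by
    intro g hg
    obtain ⟨x, -, rfl⟩ := Finset.mem_image.mp hg
    have h1 := hinj (j ''ᵁ DD (f x)) (by rw [hD']; exact hfle x)
    exact h1
  obtain ⟨N, i, hi, hN, hNft, hiso, hmono⟩ :=
    exists_sub_spec_inj (K.restrict j) ((restrictFunctor j).map a) s hs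
  have := hi
  have := hN
  refine ⟨satur j i, saturι j i, inferInstance, isQuasicoherent_satur j i, ?_, ?_, ?_⟩
  · intro W' hW'
    refine saturι_app_bijective j i W' ?_
    have hall : IsoOn i (⨆ x : t, DD (f x.1)) :=
      IsoOn.iSup (fun x => hiso _ (Finset.mem_image.mpr ⟨x.1, x.2, rfl⟩))
    refine (hall _ ?_).2
    intro y hy
    have hy1 : j y ∈ V := by
      have : j y ∈ j.opensRange := ⟨y, rfl⟩
      rwa [hV.opensRange_fromSpec] at this
    have hy2 : j y ∈ W := hW' hy
    obtain ⟨x, hx⟩ := Set.mem_iUnion.mp (ht ⟨hy1, hy2⟩)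
    obtain ⟨hxt, hx⟩ := Set.mem_iUnion.mp hx
    refine Opens.mem_iSup.mpr ⟨⟨x, hxt⟩, ?_⟩
    rw [hD]
    exact hx
  · intro W' W'' hle hge s hs
    refine mem_range_saturι_of_restrict j i W' W'' hle ?_ s hs
    intro y hy
    have hy1 : j y ∈ V := by
      have : j y ∈ j.opensRange := ⟨y, rfl⟩
      rwa [hV.opensRange_fromSpec] at this
    exact hge ⟨hy, hy1⟩
  · intro W' hW'
    have : Mono ((restrictFunctor j).map (saturι j i ≫ a)) := by
      rw [Functor.map_comp, ← saturRestrictIso_hom_comp, Category.assoc]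
      have := hmono
      exact mono_comp _ _
    exact injective_app_of_mono_restrict j (saturι j i ≫ a) W'
      (by rw [hV.opensRange_fromSpec]; exact hW')

end Groth.Agent.Lib.helper16.ExtHom
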