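import Groth.Agent.Lib.Helper16.ExtHom2

/-!
# Extending morphisms of coherent modules from an open: Zorn's lemma (helper16)

`X` locally Noetherian, `E` coherent, `p : E ⟶ A` a morphism to a quasi-coherent module which is
injective on sections over the opens contained in `U₀`. Then there is a quasi-coherent submodule
`H ⊆ E` coinciding with `E` over `U₀` such that `H ⟶ E ⟶ A` is a monomorphism.
-/

set_option autoImplicit false
universe u
open CategoryTheory CategoryTheory.Limits AlgebraicGeometry TopologicalSpace Opposite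
open Scheme.Modules

namespace Groth.Agent.Lib.helper16.ExtHom

open Groth.Agent.Lib.helper16.Satur Groth.Agent.Lib.helper16.CohFinite Groth.Agent.Lib.helper7

variable {X : Scheme.{u}}

/-- A section of an `O`-module vanishing on an open cover vanishes. -/
theorem eq_zero_of_cover (G : X.Modules) {ι : Type*} (W : ι → X.Opens) (V : X.Opens)
    (hle : ∀ i, W i ≤ V) (hcov : V ≤ ⨆ i, W i) (x : Γ(G, V))
    (hx : ∀ i, G.presheaf.map (homOfLE (hle i)).op x = 0) : x = 0 := by
  apply TopCat.Sheaf.eq_of_locally_eq' ⟨G.presheaf, G.isSheaf⟩ W V (fun i => homOfLE (hle i)) hcov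
  intro i
  exact (hx i).trans (map_zero (G.presheaf.map (homOfLE (hle i)).op).hom).symm

/-- morphisms of modules commute with restriction -/
theorem app_restrict {F G : X.Modules} (φ : F ⟶ G) {U V : X.Opens} (h : V ≤ U) (m : Γ(F, U)) :
    (φ.app V).hom (F.presheaf.map (homOfLE h).op m) =
      G.presheaf.map (homOfLE h).op ((φ.app U).hom m) := by
  have := φ.mapPresheaf.naturality (homOfLE h).op
  exact congr($this m)

/-- A partial extension: an open `W ⊇ U₀` and a `W`-saturated quasi-coherent submodule of `E` (given by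
its sections `S`), equal to `E` over `U₀`, on which `p` is injective over `W`. -/
structure ExtI {E A : X.Modules} (p : E ⟶ A) (U₀ : X.Opens) where
  W : X.Opens
  S : ∀ W' : X.Opens, Set Γ(E, W')
  le : U₀ ≤ W
  real : ∃ (H : X.Modules) (h : H ⟶ E), Mono h ∧ H.IsQuasicoherent ∧
    (∀ W', Set.range (h.app W') = S W')
  top_on : ∀ W' : X.Opens, W' ≤ U₀ → S W' = Set.univ
  sat : ∀ (W' : X.Opens) (s : Γ(E, W')),
    E.presheaf.map (homOfLE (inf_le_left : W' ⊓ W ≤ W')).op s ∈ S (W' ⊓ W) → s ∈ S W'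
  inj : ∀ W' : X.Opens, W' ≤ W → ∀ s ∈ S W', (p.app W').hom s = 0 → s = 0

namespace ExtI

variable {E A : X.Modules} {p : E ⟶ A} {U₀ : X.Opens}

theorem ext' {a b : ExtI p U₀} (hW : a.W = b.W) (hS : a.S = b.S) : a = b := by
  cases a; cases b; simp only at hW hS; subst hW; subst hS; rfl

theorem res_mem (a : ExtI p U₀) {W' W'' : X.Opens} (hle : W'' ≤ W') (s : Γ(E, W'))
    (hs : s ∈ a.S W') : E.presheaf.map (homOfLE hle).op s ∈ a.S W'' := by
  obtain ⟨H, h, -, -, hr⟩ := a.real
  rw [← hr] at hs ⊢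
  exact range_restrict_closed h hle s hs

theorem sat' (a : ExtI p U₀) {W' W'' : X.Opens} (hle : W'' ≤ W') (hge : W' ⊓ a.W ≤ W'')
    (s : Γ(E, W')) (hs : E.presheaf.map (homOfLE hle).op s ∈ a.S W'') : s ∈ a.S W' := by
  apply a.sat
  have := a.res_mem hge _ hs
  rwa [map_map] at this

instance : PartialOrder (ExtI p U₀) where
  le a b := a.W ≤ b.W ∧ (∀ W', b.S W' ⊆ a.S W') ∧ (∀ W', W' ≤ a.W → a.S W' ⊆ b.S W')
  le_refl a := ⟨le_rfl, fun _ => subset_rfl, fun _ _ => subset_rfl⟩
  le_trans a b c hab hbc := ⟨hab.1.trans hbc.1, fun W' => (hbc.2.1 W').trans (hab.2.1 W'),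
    fun W' hW' => (hab.2.2 W' hW').trans (hbc.2.2 W' (hW'.trans hab.1))⟩
  le_antisymm a b hab hba := ext' (le_antisymm hab.1 hba.1)
    (funext fun W' => Set.Subset.antisymm (hba.2.1 W') (hab.2.1 W'))

theorem le_def {a b : ExtI p U₀} : a ≤ b ↔
    a.W ≤ b.W ∧ (∀ W', b.S W' ⊆ a.S W') ∧ (∀ W', W' ≤ a.W → a.S W' ⊆ b.S W') := Iff.rfl

/-- Chains have upper bounds. -/
theorem exists_ub (hX : LocNoeth X) [E.IsQuasicoherent] (c : Set (ExtI p U₀))
    (hc : IsChain (· ≤ ·) c) (hne : c.Nonempty) : ∃ ub : ExtI p U₀, ∀ a ∈ c, a ≤ ub := by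
  classical
  obtain ⟨a₁, ha₁⟩ := hne
  haveI : Nonempty c := ⟨⟨a₁, ha₁⟩⟩
  let Wst : X.Opens := ⨆ a : c, a.1.W
  let Sst : ∀ W' : X.Opens, Set Γ(E, W') := fun W' => ⋂ a : c, a.1.S W'
  choose H h hm hq hr using fun a : c => a.1.real
  haveI := hm
  have hleW : ∀ a : c, a.1.W ≤ Wst := fun a => le_iSup (fun a : c => a.1.W) a
  have L : ∀ (a₀ : c) (V : X.Opens), V ⊓ Wst ≤ a₀.1.W → ∀ V' : X.Opens, V' ≤ V →
      Sst V' = a₀.1.S V' := by
    intro a₀ V hV V' hV'
    apply Set.Subset.antisymm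
    · exact Set.iInter_subset _ a₀
    · intro s hs
      simp only [Sst, Set.mem_iInter]
      intro a
      rcases hc.total a₀.2 a.2 with hle | hle
      · apply a.1.sat' (inf_le_left : V' ⊓ a.1.W ≤ V') le_rfl
        apply (le_def.mp hle).2.2
        · exact (inf_le_inf hV' (hleW a)).trans hV
        · exact a₀.1.res_mem _ s hs
      · exact (le_def.mp hle).2.1 V' hs
  have hdir : Directed (· ⊆ ·) (fun a : c => (a.1.W : Set X)) := by
    intro a b
    rcases hc.total a.2 b.2 with hle | hle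
    · exact ⟨b, SetLike.coe_subset_coe.mpr (le_def.mp hle).1, subset_rfl⟩
    · exact ⟨a, subset_rfl, SetLike.coe_subset_coe.mpr (le_def.mp hle).1⟩
  have hcov : ∀ A : Set X, IsCompact A → A ⊆ (Wst : Set X) →
      ∃ a₀ : c, A ⊆ (a₀.1.W : Set X) := by
    intro A hA hAW
    refine hA.elim_directed_cover (fun a : c => (a.1.W : Set X)) (fun a => a.1.W.isOpen) ?_ hdir
    simpa [Wst] using hAW
  have hrst : ∀ W', Set.range ((interι H h).app W') = Sst W' := by
    intro W'
    rw [range_interι]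
    exact Set.iInter_congr (fun a => hr a W')
  have hg : ∀ a : c, ∃ g : interObj H h ⟶ H a, g ≫ h a = interι H h := fun a =>
    exists_lift_of_range_le _ _ (fun W' => by rw [hrst, hr]; exact Set.iInter_subset _ a)
  choose g hg using hg
  have hgiso : ∀ (a₀ : c) (V : X.Opens), V ⊓ Wst ≤ a₀.1.W → IsoOn (g a₀) V := by
    intro a₀ V hV
    refine isoOn_lift_of_range_eq (interι H h) (h a₀) (g a₀) (hg a₀) V (fun V' hV' => ?_)
    rw [hrst, hr, L a₀ V hV V' hV']
  have hqst : (interObj H h).IsQuasicoherent := by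
    refine CohKer.isQuasicoherent_of_affine _ (fun A hA => ?_)
    have hc1 : IsCompact ((A ⊓ Wst : X.Opens) : Set X) :=
      hX.isCompact_of_subset hA.isCompact (SetLike.coe_subset_coe.mpr inf_le_left)
    obtain ⟨a₀, ha₀⟩ := hcov _ hc1 (SetLike.coe_subset_coe.mpr inf_le_right)
    have h1 : IsoOn (g a₀) hA.fromSpec.opensRange := by
      rw [hA.opensRange_fromSpec]
      exact hgiso a₀ A (SetLike.coe_subset_coe.mp ha₀)
    have h2 : IsIso ((restrictFunctor hA.fromSpec).map (g a₀)) :=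
      (Groth.Agent.Lib.helper11.IsoLocus.isIso_restrictFunctor_iff_opensRange hA.fromSpec
        (g a₀)).mpr ((isoOn_iff_isIso_restrict _ _).mp h1)
    haveI := hq a₀
    haveI : ((H a₀).restrict hA.fromSpec).IsQuasicoherent := inferInstance
    exact QCohProd.isQuasicoherent_of_iso (asIso ((restrictFunctor hA.fromSpec).map (g a₀))).symm
      inferInstance
  refine ⟨{ W := Wst
            S := Sst
            le := a₁.le.trans (hleW ⟨a₁, ha₁⟩)
            real := ⟨interObj H h, interι H h, inferInstance, hqst, hrst⟩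
            top_on := ?_
            sat := ?_
            inj := ?_ }, ?_⟩
  · intro W' hW'
    simp only [Sst]
    rw [Set.iInter_eq_univ]
    exact fun a => a.1.top_on W' hW'
  · intro W' s hs
    simp only [Sst, Set.mem_iInter] at hs ⊢
    intro a
    exact a.1.sat' (inf_le_left : W' ⊓ Wst ≤ W') (inf_le_inf le_rfl (hleW a)) s (hs a)
  · intro W' hW' s hs hps
    simp only [Sst, Set.mem_iInter] at hs
    refine eq_zero_of_cover E (fun a : c => W' ⊓ a.1.W) W' (fun _ => inf_le_left) ?_ s ?_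
    · intro x hx
      obtain ⟨a, ha⟩ := Opens.mem_iSup.mp (hW' hx)
      exact Opens.mem_iSup.mpr ⟨a, hx, ha⟩
    · intro a
      apply a.1.inj _ inf_le_right _ (a.1.res_mem _ s (hs a))
      rw [app_restrict, hps, map_zero]
  · intro a ha
    refine le_def.mpr ⟨hleW ⟨a, ha⟩, fun W' => Set.iInter_subset _ (⟨a, ha⟩ : c), fun W' hW' => ?_⟩
    exact (L ⟨a, ha⟩ W' (inf_le_left.trans hW') W' le_rfl).ge

end ExtI

end Groth.Agent.Lib.helper16.ExtHom
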