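import Groth.Agent.Lib.Helper16.ExtHom3

/-!
# Extending morphisms of coherent modules from an open: enlarging step and the main theorem (helper16)
-/

set_option autoImplicit false
universe u
open CategoryTheory CategoryTheory.Limits AlgebraicGeometry TopologicalSpace Opposite
open Scheme.Modules

namespace Groth.Agent.Lib.helper16.ExtHom

open Groth.Agent.Lib.helper16.Satur Groth.Agent.Lib.helper16.CohFinite Groth.Agent.Lib.helper7

variable {X : Scheme.{u}}

theorem locNoeth_of_isLocallyNoetherian [IsLocallyNoetherian X] : LocNoeth X := by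
  intro x
  obtain ⟨V, hV, hxV, -⟩ := Opens.isBasis_iff_nbhd.mp X.isBasis_affineOpens
    (show x ∈ (⊤ : X.Opens) from trivial)
  haveI : IsNoetherianRing Γ(X, V) := IsLocallyNoetherian.component_noetherian ⟨V, hV⟩
  exact ⟨V, hxV, noetherianSpace_of_isAffineOpen V hV⟩

/-- A submodule of a module of finite type on a locally Noetherian scheme is of finite type. -/
theorem ftOn_of_mono [IsLocallyNoetherian X] {H E : X.Modules} (h : H ⟶ E) [Mono h] {W : X.Opens}
    (hE : FTOn E W) : FTOn H W := by
  intro U hU hUW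
  haveI : IsNoetherianRing Γ(X, U) := IsLocallyNoetherian.component_noetherian ⟨U, hU⟩
  haveI := hE U hU hUW
  haveI : IsNoetherian Γ(X, U) Γ(E, U) := isNoetherian_of_isNoetherianRing_of_finite _ _
  exact Module.Finite.of_injective (secLin h U) (injective_app_of_mono h U)

namespace ExtI

variable {E A : X.Modules} {p : E ⟶ A} {U₀ : X.Opens}

/-- A non-maximal open can be enlarged. -/
theorem exists_gt [IsLocallyNoetherian X] [E.IsQuasicoherent] [A.IsQuasicoherent] (hE : FTOn E ⊤)
    (m : ExtI p U₀) (x : X) (hx : x ∉ m.W) : ∃ b : ExtI p U₀, m ≤ b ∧ x ∈ b.W := by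
  classical
  have hX : LocNoeth X := locNoeth_of_isLocallyNoetherian
  obtain ⟨V, hVaff, hxV, -⟩ := Opens.isBasis_iff_nbhd.mp X.isBasis_affineOpens
    (show x ∈ (⊤ : X.Opens) from trivial)
  obtain ⟨H, h, hmono, hq, hr⟩ := m.real
  haveI := hmono
  haveI := hq
  haveI := hX.quasiCompact_fromSpec hVaff
  haveI : IsNoetherianRing Γ(X, V) := IsLocallyNoetherian.component_noetherian ⟨V, hVaff⟩
  have hVW : IsCompact ((V ⊓ m.W : X.Opens) : Set X) :=
    hX.isCompact_of_subset hVaff.isCompact (SetLike.coe_subset_coe.mpr inf_le_left)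
  have hft : FTOn H V := ftOn_of_mono h (hE.mono le_top)
  have hinj : ∀ W' : X.Opens, W' ≤ V ⊓ m.W → Function.Injective ((h ≫ p).app W') := by
    intro W' hW'
    rw [injective_iff_map_eq_zero]
    intro t ht
    have h1 : (h.app W').hom t ∈ m.S W' := by rw [← hr]; exact ⟨t, rfl⟩
    have h2 := m.inj W' (hW'.trans inf_le_right) _ h1 ht
    exact injective_app_of_mono h W' (h2.trans (map_zero _).symm)
  obtain ⟨H', h', hm', hq', hiso', hsat', hinj'⟩ :=
    affine_step_inj V hVaff H A (h ≫ p) m.W hVW hft hinj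
  haveI := hm'
  haveI := hq'
  have hsub : ∀ W', Set.range ((h' ≫ h).app W') ⊆ m.S W' := by
    rintro W' _ ⟨q, rfl⟩
    rw [← hr]
    exact ⟨h'.app W' q, rfl⟩
  have hsup : ∀ W', W' ≤ m.W → m.S W' ⊆ Set.range ((h' ≫ h).app W') := by
    intro W' hW' s hs
    rw [← hr] at hs
    obtain ⟨t, rfl⟩ := hs
    obtain ⟨q, rfl⟩ := (hiso' W' hW').2 t
    exact ⟨q, rfl⟩
  refine ⟨{ W := m.W ⊔ V
            S := fun W' => Set.range ((h' ≫ h).app W')
            le := m.le.trans le_sup_left
            real := ⟨H', h' ≫ h, mono_comp _ _, hq', fun _ => rfl⟩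
            top_on := ?_
            sat := ?_
            inj := ?_ }, ?_, Or.inr hxV⟩
  · intro W' hW'
    apply Set.eq_univ_of_univ_subset
    rw [← m.top_on W' hW']
    exact hsup W' (hW'.trans m.le)
  · intro W' s hs
    have hle : W' ⊓ (m.W ⊔ V) ≤ W' := inf_le_left
    -- step 1: `s` is a section of `H`
    have h1 : s ∈ m.S W' :=
      m.sat' hle (inf_le_inf le_rfl le_sup_left) s (hsub _ hs)
    rw [← hr] at h1
    obtain ⟨t, rfl⟩ := h1
    -- step 2: `t` is a section of `H'`
    obtain ⟨q, hq⟩ := hs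
    have hnat := h.mapPresheaf.naturality (homOfLE hle).op
    have hnat' := congrArg (fun ψ => (ConcreteCategory.hom ψ) t) hnat
    have h2 : h'.app _ q = H.presheaf.map (homOfLE hle).op t := by
      apply injective_app_of_mono h
      exact hq.trans hnat'.symm
    obtain ⟨q', rfl⟩ := hsat' W' _ hle (inf_le_inf le_rfl le_sup_right) t ⟨q, h2⟩
    exact ⟨q', rfl⟩
  · rintro W' hW' _ ⟨q, rfl⟩ hps
    have hps' : ((h' ≫ h ≫ p).app W').hom q = 0 := hps
    have hq0 : q = 0 := by
      refine eq_zero_of_cover H' (fun b : Bool => if b then W' ⊓ m.W else W' ⊓ V) W'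
        (fun b => by cases b <;> exact inf_le_left) ?_ q ?_
      · intro y hy
        rcases hW' hy with hy' | hy'
        · exact Opens.mem_iSup.mpr ⟨true, hy, hy'⟩
        · exact Opens.mem_iSup.mpr ⟨false, hy, hy'⟩
      · intro b
        cases b
        · -- on `W' ⊓ V`
          apply hinj' (W' ⊓ V) inf_le_right
          rw [map_zero]
          have := app_restrict (h' ≫ h ≫ p) (inf_le_left : W' ⊓ V ≤ W') q
          refine this.trans ?_
          rw [hps', map_zero]
        · -- on `W' ⊓ m.W`
          apply injective_app_of_mono (h' ≫ h) (W' ⊓ m.W)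
          rw [map_zero]
          apply m.inj (W' ⊓ m.W) inf_le_right
          · exact hsub _ ⟨_, rfl⟩
          · have := app_restrict (h' ≫ h ≫ p) (inf_le_left : W' ⊓ m.W ≤ W') q
            refine Eq.trans ?_ (this.trans ?_)
            · rfl
            · rw [hps', map_zero]
    rw [hq0, map_zero]
  · exact le_def.mpr ⟨le_sup_left, hsub, hsup⟩

end ExtI

/-- **Main theorem.** On a locally Noetherian scheme, let `E` be coherent, `p : E ⟶ A` a morphism to a
quasi-coherent module which is injective over the opens contained in `U₀`. Then there is a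
quasi-coherent submodule `H ⊆ E` coinciding with `E` over `U₀` such that `H ⟶ E ⟶ A` is a
monomorphism. -/
theorem exists_sub_mono [IsLocallyNoetherian X] (E A : X.Modules) [E.IsQuasicoherent]
    [A.IsQuasicoherent] (hE : FTOn E ⊤) (p : E ⟶ A) (U₀ : X.Opens)
    (h0 : ∀ W' : X.Opens, W' ≤ U₀ → Function.Injective (p.app W')) :
    ∃ (H : X.Modules) (h : H ⟶ E), Mono h ∧ H.IsQuasicoherent ∧ IsoOn h U₀ ∧ Mono (h ≫ p) := by
  classical
  have hX : LocNoeth X := locNoeth_of_isLocallyNoetherian
  let e₀ : ExtI p U₀ :=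
    { W := U₀
      S := fun _ => Set.univ
      le := le_rfl
      real := ⟨E, 𝟙 E, inferInstance, inferInstance, fun W' => by
        apply Set.eq_univ_of_forall
        intro s
        exact ⟨s, rfl⟩⟩
      top_on := fun _ _ => rfl
      sat := fun _ _ _ => trivial
      inj := fun W' hW' s _ hs => h0 W' hW' (hs.trans (map_zero _).symm) }
  haveI : Nonempty (ExtI p U₀) := ⟨e₀⟩
  obtain ⟨m, hm⟩ := zorn_le_nonempty (α := ExtI p U₀) (fun c hc hne => by
    obtain ⟨ub, hub⟩ := ExtI.exists_ub hX c hc hne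
    exact ⟨ub, hub⟩)
  have htop : m.W = ⊤ := by
    by_contra hne
    obtain ⟨x, hx⟩ : ∃ x, x ∉ m.W := by
      by_contra hall
      push_neg at hall
      exact hne (eq_top_iff.mpr fun x _ => hall x)
    obtain ⟨b, hmb, hxb⟩ := ExtI.exists_gt hE m x hx
    exact hx ((ExtI.le_def.mp (hm hmb)).1 hxb)
  obtain ⟨H, h, hmono, hq, hr⟩ := m.real
  haveI := hmono
  haveI := hq
  refine ⟨H, h, hmono, hq, ?_, ?_⟩
  · intro W' hW'
    refine ⟨injective_app_of_mono h W', fun s => ?_⟩
    have : s ∈ m.S W' := by rw [m.top_on W' hW']; trivial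
    rw [← hr] at this
    exact this
  · refine KerSections.mono_of_injective_affine (h ≫ p) (fun U _ => ?_)
    rw [injective_iff_map_eq_zero]
    intro t ht
    have h1 : (h.app U).hom t ∈ m.S U := by rw [← hr]; exact ⟨t, rfl⟩
    have h2 := m.inj U (htop ▸ le_top) _ h1 ht
    exact injective_app_of_mono h U (h2.trans (map_zero _).symm)

end Groth.Agent.Lib.helper16.ExtHom
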