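import Groth.Agent.Lib.Helper11.IdealOfMono
import Groth.Agent.Lib.Helper16.Satur5
import Groth.Agent.Lib.Helper16.BlowSep

/-!
# Finite type ideal sheaves on quasi-compact quasi-separated schemes (helper16)

* `exists_ft_ideal`: a quasi-coherent ideal `𝓥` which is of finite type over a quasi-compact open `W`
  contains a finite type quasi-coherent ideal agreeing with `𝓥` over `W`.
* `exists_ft_ideal_support`: the complement of a quasi-compact open is the support of a finite type ideal.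
* `exists_pow_comap_le`: on a quasi-compact source, `supp(𝓐 O_Z) ⊆ supp(𝓑 O_Z)` with `𝓑` of finite type implies
  `𝓑^n O_Z ≤ 𝓐 O_Z` for some `n`.
-/

set_option autoImplicit false
universe u
open CategoryTheory CategoryTheory.Limits AlgebraicGeometry TopologicalSpace Opposite

namespace Groth.Agent.Lib.helper16.FTIdeal

open Scheme.Modules Groth.Agent.Lib.helper16.Satur Groth.Agent.Lib.helper7
  Groth.Agent.Lib.helper11.IdealOfMono Groth.Agent.Lib.helper16.BlowSep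

variable {X : Scheme.{u}}

theorem ideal_eq_top_of_disjoint_support (I : X.IdealSheafData) (V : X.affineOpens)
    (h : Disjoint (I.support : Set X) (V.1 : Set X)) : I.ideal V = ⊤ := by
  have h1 := I.coe_support_inter V
  rw [Set.disjoint_iff_inter_eq_empty.mp h, ← V.2.fromSpec_image_zeroLocus] at h1
  have h2 : PrimeSpectrum.zeroLocus (I.ideal V : Set Γ(X, V.1)) = ∅ :=
    Set.image_eq_empty.mp h1.symm
  exact (PrimeSpectrum.zeroLocus_empty_iff_eq_top).mp h2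

/-- finite type extension of ideal sheaves (EGA I 9.4.7 for ideals). -/
theorem exists_ft_ideal [CompactSpace X] [QuasiSeparatedSpace X] (W : X.Opens)
    (hW : IsCompact (W : Set X)) (𝓥 : X.IdealSheafData)
    (hft : ∀ T : X.affineOpens, T.1 ≤ W → (𝓥.ideal T).FG) :
    ∃ 𝓙 : X.IdealSheafData, BlowUp.IsFiniteTypeIdeal 𝓙 ∧ 𝓙 ≤ 𝓥 ∧
      ∀ T : X.affineOpens, T.1 ≤ W → 𝓙.ideal T = 𝓥.ideal T := by
  haveI : (ClSub.idealMod 𝓥).IsQuasicoherent := IdealMod.idealMod_qcoh 𝓥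
  have hK : FTOn (ClSub.idealMod 𝓥) W := by
    intro T hT hTW
    have h1 : Module.Finite Γ(X, T) (𝓥.ideal ⟨T, hT⟩) :=
      Module.Finite.iff_fg.mpr (hft ⟨T, hT⟩ hTW)
    exact Module.Finite.equiv (IdealMod.sectionsEquiv 𝓥 ⟨T, hT⟩).symm
  obtain ⟨H, h, hm, hq, hHft, hiso⟩ := exists_ft_sub (ClSub.idealMod 𝓥) W hW hK
  haveI := hq
  refine ⟨idealOfHom H (h ≫ ClSub.idealModι 𝓥), isFiniteTypeIdeal_idealOfHom H _ hHft, ?_, ?_⟩
  · intro T a ha
    obtain ⟨s, rfl⟩ := ha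
    exact IdealMod.idealModι_app_mem 𝓥 T (h.app T.1 s)
  · intro T hTW
    apply le_antisymm
    · intro a ha
      obtain ⟨s, rfl⟩ := ha
      exact IdealMod.idealModι_app_mem 𝓥 T (h.app T.1 s)
    · intro a ha
      obtain ⟨t, ht⟩ := (IdealMod.mem_range_idealModι_iff_of_affine 𝓥 T a).mpr ha
      obtain ⟨s, hs⟩ := (hiso T.1 hTW).2 t
      refine ⟨s, ?_⟩
      show ((h ≫ ClSub.idealModι 𝓥).app T.1).hom s = a
      rw [← ht, ← hs]
      rfl

/-- the complement of a quasi-compact open of a qcqs scheme is the support of a finite type ideal. -/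
theorem exists_ft_ideal_support [CompactSpace X] [QuasiSeparatedSpace X] (U : X.Opens)
    (hU : IsCompact (U : Set X)) :
    ∃ 𝓙 : X.IdealSheafData, BlowUp.IsFiniteTypeIdeal 𝓙 ∧ (𝓙.support : Set X) = (U : Set X)ᶜ := by
  let Z : Closeds X := ⟨(U : Set X)ᶜ, U.2.isClosed_compl⟩
  set 𝓥 := Scheme.IdealSheafData.vanishingIdeal Z with h𝓥
  have hsupp : (𝓥.support : Set X) = (U : Set X)ᶜ :=
    Scheme.IdealSheafData.coe_support_vanishingIdeal Z
  have htop : ∀ T : X.affineOpens, T.1 ≤ U → 𝓥.ideal T = ⊤ := fun T hT =>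
    ideal_eq_top_of_disjoint_support 𝓥 T (by
      rw [hsupp]
      exact Set.disjoint_left.mpr fun x hx hxT => hx (hT hxT))
  obtain ⟨𝓙, hft, hle, heq⟩ := exists_ft_ideal U hU 𝓥 (fun T hT => by
    rw [htop T hT]
    exact ⟨{1}, by simp⟩)
  refine ⟨𝓙, hft, Set.Subset.antisymm ?_ ?_⟩
  · intro x hx hxU
    obtain ⟨_, ⟨T, hT, rfl⟩, hxT, hTU⟩ :=
      X.isBasis_affineOpens.exists_subset_of_mem_open hxU U.2
    have := (ideal_le_ptIdeal_iff 𝓙 ⟨T, hT⟩ x hxT).mpr hx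
    rw [heq ⟨T, hT⟩ hTU, htop ⟨T, hT⟩ hTU] at this
    exact (Ideal.IsPrime.ne_top inferInstance) (top_le_iff.mp this)
  · rw [← hsupp]
    exact Scheme.IdealSheafData.support_antitone hle

/-- radical membership on an affine open, tested on points. -/
theorem le_radical_of_ptIdeal {Z : Scheme.{u}} {T : Z.Opens} (hT : IsAffineOpen T)
    (A' B' : Ideal Γ(Z, T))
    (h : ∀ (z : Z) (hz : z ∈ T), A' ≤ ptIdeal Z T z hz → B' ≤ ptIdeal Z T z hz) :
    B' ≤ A'.radical := by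
  rw [← PrimeSpectrum.zeroLocus_subset_zeroLocus_iff]
  intro 𝔭 h𝔭
  have hz : hT.fromSpec 𝔭 ∈ T := by
    have : hT.fromSpec 𝔭 ∈ Set.range hT.fromSpec := Set.mem_range_self 𝔭
    rwa [hT.range_fromSpec] at this
  have key : ptIdeal Z T (hT.fromSpec 𝔭) hz = 𝔭.asIdeal := by
    ext v
    rw [mem_ptIdeal]
    have h2 : hT.fromSpec 𝔭 ∈ Z.basicOpen v ↔ 𝔭 ∈ PrimeSpectrum.basicOpen v := by
      rw [← hT.fromSpec_preimage_basicOpen v]
      rfl
    rw [h2, PrimeSpectrum.mem_basicOpen, not_not]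
  have h3 := h _ hz (by rw [key]; exact h𝔭)
  rw [key] at h3
  exact h3

/-- on a quasi-compact source, an inclusion of supports of inverse image ideals gives an inclusion
of a power, if the smaller support belongs to a finite type ideal. -/
theorem exists_pow_comap_le {Z : Scheme.{u}} [CompactSpace Z] (p : Z ⟶ X)
    (𝓐 𝓑 : X.IdealSheafData) (h𝓑 : BlowUp.IsFiniteTypeIdeal 𝓑)
    (hs : ∀ z : Z, p z ∈ 𝓐.support → p z ∈ 𝓑.support) :
    ∃ n : ℕ, (𝓑 ^ n).comap p ≤ 𝓐.comap p := by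
  classical
  -- the affine opens of `Z` mapping into an affine open of `X`
  let ι := {T : Z.affineOpens // ∃ W : X.affineOpens, T.1 ≤ p ⁻¹ᵁ W.1}
  have hcov : ∀ z : Z, ∃ T : ι, z ∈ T.1.1 := by
    intro z
    obtain ⟨_, ⟨W, hW, rfl⟩, hzW, -⟩ := X.isBasis_affineOpens.exists_subset_of_mem_open
      (Set.mem_univ (p z)) isOpen_univ
    obtain ⟨_, ⟨T, hT, rfl⟩, hzT, hTW⟩ := Z.isBasis_affineOpens.exists_subset_of_mem_open
      (show z ∈ ((p ⁻¹ᵁ W : Z.Opens) : Set Z) from hzW) (p ⁻¹ᵁ W).2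
    exact ⟨⟨⟨T, hT⟩, ⟨W, hW⟩, hTW⟩, hzT⟩
  -- local exponents
  have hloc : ∀ T : ι, ∃ n : ℕ, ∀ m, n ≤ m → ((𝓑 ^ m).comap p).ideal T.1 ≤ (𝓐.comap p).ideal T.1 := by
    rintro ⟨T, W, hTW⟩
    have hrad : (𝓑.ideal W).map (p.appLE W.1 T.1 hTW).hom ≤
        ((𝓐.ideal W).map (p.appLE W.1 T.1 hTW).hom).radical := by
      apply le_radical_of_ptIdeal T.2
      intro z hz hA
      apply map_le_ptIdeal p W.1 T.1 hTW z hz
      rw [ideal_le_ptIdeal_iff 𝓑 W (p z) (hTW hz)]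
      apply hs
      rw [← ideal_le_ptIdeal_iff 𝓐 W (p z) (hTW hz), ← comap_ptIdeal p W.1 T.1 hTW z hz,
        ← Ideal.map_le_iff_le_comap]
      exact hA
    obtain ⟨n, hn⟩ := Ideal.exists_pow_le_of_le_radical_of_fg hrad ((h𝓑 W).map _)
    refine ⟨n, fun m hm => ?_⟩
    rw [Groth.Agent.Lib.helper7.IdealComap.ideal_comap p (𝓑 ^ m) W.2 T.2 hTW,
      Groth.Agent.Lib.helper7.IdealComap.ideal_comap p 𝓐 W.2 T.2 hTW,
      Scheme.IdealSheafData.ideal_pow, Pi.pow_apply, Ideal.map_pow]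
    exact (Ideal.pow_le_pow_right hm).trans hn
  choose n hn using hloc
  obtain ⟨S, hS⟩ := isCompact_univ.elim_finite_subcover (fun T : ι => (T.1.1 : Set Z))
    (fun T => T.1.1.2) (fun z _ => by
      obtain ⟨T, hT⟩ := hcov z
      exact Set.mem_iUnion.mpr ⟨T, hT⟩)
  refine ⟨S.sup n, ?_⟩
  refine Scheme.IdealSheafData.le_of_iSup_eq_top (fun T : S => T.1.1) ?_ ?_
  · rw [eq_top_iff]
    intro z _
    have := hS (Set.mem_univ z)
    simp only [Set.mem_iUnion] at this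
    obtain ⟨T, hTS, hzT⟩ := this
    exact TopologicalSpace.Opens.mem_iSup.mpr ⟨⟨T, hTS⟩, hzT⟩
  · rintro ⟨T, hTS⟩
    exact hn T _ (Finset.le_sup hTS)

end Groth.Agent.Lib.helper16.FTIdeal
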