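import Groth.Agent.Lib.Helper16.FinDeg1
import Groth.Agent.Lib.Helper8.StalkLen
import Groth.Prelude.Def_CurvBase

/-!
# The degree formula for a finite scheme over a field (helper16)

`finrank_sections_eq_finsum`: for `T` finite over `Spec k`,
`dim_k Γ(T, O_T) = Σ_{z ∈ T} length(O_{T,z}) · [κ(z) : k]`.
-/

set_option autoImplicit false
universe u
open CategoryTheory CategoryTheory.Limits AlgebraicGeometry TopologicalSpace Opposite

namespace Groth.Agent.Lib.helper16.FinDeg

open Function IsLocalRing Groth.Agent.Lib.helper8.StalkLen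

variable (k : Type u) [Field k] (T : Scheme.{u}) [T.Over (Spec (CommRingCat.of k))]

/-- the structure map `k → Γ(T, O_T)` (`Coh.toGlobal` with values in `Γ(T, ⊤)`) -/
noncomputable def tg {T : Scheme.{u}} (c : T ⟶ Spec (CommRingCat.of k)) : k →+* Γ(T, ⊤) :=
  (c.appTop).hom.comp (Scheme.ΓSpecIso (CommRingCat.of k)).inv.hom

/-- the points of an affine scheme are the primes of its ring of global sections -/
noncomputable def pointEquiv [IsAffine T] : T ≃ PrimeSpectrum Γ(T, ⊤) :=
  Equiv.ofBijective (fun z => (isAffineOpen_top T).primeIdealOf ⟨z, trivial⟩)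
    ⟨fun z z' h => (primeIdealOf_injective (isAffineOpen_top T) z' z trivial trivial h),
     fun q => by
      obtain ⟨z, hz, h⟩ := exists_primeIdealOf_eq (isAffineOpen_top T) q
      exact ⟨z, h⟩⟩

theorem finrank_sections_eq_finsum [IsFinite (T ↘ Spec (CommRingCat.of k))] :
    @Module.finrank k Γ(T, ⊤) _ _ (tg k (T ↘ Spec (CommRingCat.of k))).toAlgebra.toModule =
      ∑ᶠ z : T, (Module.length (T.presheaf.stalk z) (T.presheaf.stalk z)).toNat *
        deg (Curv2.resMap k T z) := by
  haveI : IsAffine T := isAffine_of_isAffineHom (T ↘ Spec (CommRingCat.of k))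
  letI : Algebra k Γ(T, ⊤) := (tg k (T ↘ Spec (CommRingCat.of k))).toAlgebra
  have hfin : (tg k (T ↘ Spec (CommRingCat.of k))).Finite := by
    unfold tg
    refine RingHom.Finite.comp ((T ↘ Spec (CommRingCat.of k)).finite_appTop) ?_
    exact RingHom.Finite.of_surjective _
      (ConcreteCategory.bijective_of_isIso (Scheme.ΓSpecIso (CommRingCat.of k)).inv).surjective
  haveI : Module.Finite k Γ(T, ⊤) := hfin
  haveI : IsArtinianRing Γ(T, ⊤) := IsArtinianRing.of_finite k Γ(T, ⊤)
  haveI : Finite (PrimeSpectrum Γ(T, ⊤)) := inferInstance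
  letI : Fintype (PrimeSpectrum Γ(T, ⊤)) := Fintype.ofFinite _
  rw [IsArtinianRing.finrank_eq_sum_primeSpectrum Γ(T, ⊤) k, ← finsum_eq_sum_of_fintype,
    ← finsum_comp_equiv (pointEquiv T)]
  refine finsum_congr fun z => ?_
  set hT := isAffineOpen_top T
  letI := TopCat.Presheaf.algebra_section_stalk T.presheaf (⟨z, trivial⟩ : (⊤ : T.Opens))
  haveI : IsLocalization.AtPrime (T.presheaf.stalk z) (hT.primeIdealOf ⟨z, trivial⟩).asIdeal :=
    hT.isLocalization_stalk ⟨z, trivial⟩
  letI : Algebra k (T.presheaf.stalk z) := (Curv2.stalkMap k T z).toAlgebra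
  haveI : IsScalarTower k Γ(T, ⊤) (T.presheaf.stalk z) :=
    IsScalarTower.of_algebraMap_eq (fun _ => rfl)
  let e : Localization.AtPrime (hT.primeIdealOf ⟨z, trivial⟩).asIdeal ≃ₐ[Γ(T, ⊤)]
      T.presheaf.stalk z :=
    IsLocalization.algEquiv (hT.primeIdealOf ⟨z, trivial⟩).asIdeal.primeCompl _ _
  have h1 : Module.finrank k (Localization.AtPrime (hT.primeIdealOf ⟨z, trivial⟩).asIdeal) =
      Module.finrank k (T.presheaf.stalk z) :=
    (e.restrictScalars k).toLinearEquiv.finrank_eq
  haveI : Module.Finite k (T.presheaf.stalk z) := by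
    haveI : Module.Finite k (Localization.AtPrime (hT.primeIdealOf ⟨z, trivial⟩).asIdeal) :=
      Module.Finite.of_surjective (Algebra.algHom k Γ(T, ⊤)
        (Localization.AtPrime (hT.primeIdealOf ⟨z, trivial⟩).asIdeal)).toLinearMap
        (IsArtinianRing.localization_surjective
          (hT.primeIdealOf ⟨z, trivial⟩).asIdeal.primeCompl _)
    exact Module.Finite.equiv (e.restrictScalars k).toLinearEquiv
  change Module.finrank k (Localization.AtPrime (hT.primeIdealOf ⟨z, trivial⟩).asIdeal) = _
  rw [h1, finrank_local k (T.presheaf.stalk z)]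
  rfl

end Groth.Agent.Lib.helper16.FinDeg
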