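import Groth.Agent.Lib.Helper16.FinDeg2
import Groth.Agent.Lib.Helper3.FibreField
import Groth.Agent.Lib.Helper3.QFinTop
import Groth.Agent.Lib.Helper17.FibreStalk

/-!
# The degree formula for a finite flat morphism (helper16)

`finsum_length_mul_residueDegree`: for `f : X ⟶ Y` finite and flat and `y : Y`,
`Σ_{x ↦ y} length(O_{X,x}/𝔪_y O_{X,x}) · [κ(x) : κ(y)] = rank_y f`.
-/

set_option autoImplicit false
universe u
open CategoryTheory CategoryTheory.Limits AlgebraicGeometry TopologicalSpace Opposite

namespace Groth.Agent.Lib.helper16.FinDeg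

open Function IsLocalRing Groth.Agent.Lib.helper3.FibreField Groth.Agent.Lib.helper3.FTField
  Groth.Agent.Lib.helper3.QFinTop Groth.Agent.Lib.helper17.FibreStalk

section field

variable (k : Type u) [Field k]

theorem eq_isoSpec_comp {D : Scheme.{u}} [IsAffine D] (g : D ⟶ Spec (CommRingCat.of k)) :
    g = D.isoSpec.hom ≫ Spec.map ((Scheme.ΓSpecIso (CommRingCat.of k)).inv ≫ g.appTop) := by
  have h := Scheme.isoSpec_hom_naturality g
  rw [Scheme.isoSpec_Spec_hom] at h
  rw [Spec.map_comp, ← Category.assoc, h, Category.assoc, ← Spec.map_comp,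
    Iso.inv_hom_id, Spec.map_id, Category.comp_id]

/-- the rank of a finite morphism to the spectrum of a field is the dimension of the ring of
global sections -/
theorem finrank_eq_finrank_tg {D : Scheme.{u}} (g : D ⟶ Spec (CommRingCat.of k)) [IsFinite g]
    (y : Spec (CommRingCat.of k)) :
    g.finrank y = @Module.finrank k Γ(D, ⊤) _ _ (tg k g).toAlgebra.toModule := by
  haveI : IsAffine D := isAffine_of_isAffineHom g
  set φ : CommRingCat.of k ⟶ Γ(D, ⊤) := (Scheme.ΓSpecIso (CommRingCat.of k)).inv ≫ g.appTop
    with hφ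
  have e := eq_isoSpec_comp k g
  have hfin : IsFinite (Spec.map φ) := by
    rw [← MorphismProperty.cancel_left_of_respectsIso @IsFinite D.isoSpec.hom, ← e]
    infer_instance
  have h1 : φ.hom.Finite := by rwa [IsFinite.SpecMap_iff] at hfin
  have h2 : φ.hom.Flat := by
    letI : Algebra k Γ(D, ⊤) := φ.hom.toAlgebra
    change Module.Flat k Γ(D, ⊤)
    infer_instance
  letI : Algebra k Γ(D, ⊤) := φ.hom.toAlgebra
  conv_lhs => rw [e]
  rw [Scheme.Hom.finrank_comp_left_of_isIso, Scheme.Hom.finrank_SpecMap_eq_finrank h1 h2]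
  change Module.rankAtStalk (R := k) Γ(D, ⊤) y = _
  rw [Module.rankAtStalk_eq_finrank_of_free]
  rfl

end field

variable {X Y : Scheme.{u}} (f : X ⟶ Y)

theorem residueFieldMap_bijective {X Y : Scheme.{u}} (g : X ⟶ Y) [SurjectiveOnStalks g] (x : X) :
    Bijective (g.residueFieldMap x).hom :=
  ⟨(g.residueFieldMap x).hom.injective, residueFieldMap_surjective g x⟩

/-- `[κ_F(z) : κ(y)] = [κ_X(ι z) : κ(f (ι z))]` -/
theorem deg_resMap_fiber (y : Y) (z : f.fiber y) :
    deg (@Curv2.resMap (Y.residueField y) _ (f.fiber y) (fiberOver f y) z) =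
      f.residueDegree (f.fiberι y z) := by
  -- step 1
  have h1 := resMap_comp (Y.residueField y) (𝟙 (Spec (CommRingCat.of (Y.residueField y))))
    (f.fiberToSpecResidueField y) (f.fiberToSpecResidueField y) (Category.comp_id _) z
  have e1 : deg (@Curv2.resMap (Y.residueField y) _ (f.fiber y) (fiberOver f y) z) =
      deg ((f.fiberToSpecResidueField y).residueFieldMap z).hom := by
    rw [show @Curv2.resMap (Y.residueField y) _ (f.fiber y) (fiberOver f y) z = _ from h1]
    exact deg_comp_left _ _ ⟨RingHom.injective _, resMap_Spec_surjective _ _⟩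
  -- step 2
  have e2 : deg ((f.fiberToSpecResidueField y ≫ Y.fromSpecResidueField y).residueFieldMap z).hom =
      deg ((f.fiberToSpecResidueField y).residueFieldMap z).hom := by
    rw [Scheme.residueFieldMap_comp]
    change deg (((f.fiberToSpecResidueField y).residueFieldMap z).hom.comp
      ((Y.fromSpecResidueField y).residueFieldMap (f.fiberToSpecResidueField y z)).hom) = _
    exact deg_comp_left _ _ (residueFieldMap_bijective _ _)
  -- step 3
  have e3 : deg ((f.fiberι y ≫ f).residueFieldMap z).hom =
      deg ((f.fiberToSpecResidueField y ≫ Y.fromSpecResidueField y).residueFieldMap z).hom := by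
    rw [Scheme.Hom.residueFieldMap_congr (f.fiber_fac y) z, CommRingCat.hom_comp]
    exact deg_comp_left _ _ (ConcreteCategory.bijective_of_isIso _)
  -- step 4
  have e4 : deg ((f.fiberι y ≫ f).residueFieldMap z).hom =
      deg (f.residueFieldMap (f.fiberι y z)).hom := by
    rw [Scheme.residueFieldMap_comp]
    change deg (((f.fiberι y).residueFieldMap z).hom.comp
      (f.residueFieldMap (f.fiberι y z)).hom) = _
    exact deg_comp_right _ _ (residueFieldMap_bijective _ _)
  rw [e1, ← e2, ← e3, e4]
  rfl

theorem length_fiber_stalk (y : Y) (z : f.fiber y) :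
    Module.length ((f.fiber y).presheaf.stalk z) ((f.fiber y).presheaf.stalk z) =
      Module.length (X.presheaf.stalk (f.fiberι y z)) (FibRing f (f.fiberι y z)) := by
  rw [length_quotient_self]
  exact (length_self_ringEquiv (fiberStalkEquiv f y z)).symm

theorem finsum_length_mul_residueDegree [IsFinite f] [Flat f] (y : Y) :
    ∑ᶠ x ∈ f ⁻¹' {y}, (Module.length (X.presheaf.stalk x) (FibRing f x)).toNat *
      f.residueDegree x = f.finrank y := by
  letI := fiberOver f y
  haveI : IsFinite ((f.fiber y) ↘ Spec (CommRingCat.of (Y.residueField y))) :=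
    MorphismProperty.pullback_snd _ _ inferInstance
  have h1 : (f.fiberToSpecResidueField y).finrank
      (IsLocalRing.closedPoint (Y.residueField y)) = f.finrank y := by
    rw [Scheme.Hom.finrank_of_isPullback (f.fiberι y) (f.fiberToSpecResidueField y) f
      (Y.fromSpecResidueField y) (IsPullback.of_hasPullback _ _)]
    congr 1
    exact Y.fromSpecResidueField_apply y _
  have h2 := finrank_sections_eq_finsum (Y.residueField y) (f.fiber y)
  have h3 : f.finrank y = ∑ᶠ z : f.fiber y,
      (Module.length ((f.fiber y).presheaf.stalk z) ((f.fiber y).presheaf.stalk z)).toNat *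
        deg (Curv2.resMap (Y.residueField y) (f.fiber y) z) := by
    rw [← h1, finrank_eq_finrank_tg (Y.residueField y) (f.fiberToSpecResidueField y)]
    exact h2
  rw [h3, ← f.range_fiberι y, finsum_mem_range (fiberι_injective f y)]
  refine finsum_congr fun z => ?_
  rw [length_fiber_stalk f y z, deg_resMap_fiber f y z]

end Groth.Agent.Lib.helper16.FinDeg
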