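import Groth.Agent.Lib.Helper16.FinDeg3
import Groth.Agent.Lib.Helper3.QFinAffineSpace3
import Groth.Agent.Lib.Helper3.RelDim
import Groth.Prelude.Def_Cyc

/-!
# Push-pull for a finite locally free morphism of constant degree (helper16)

`map_pullFun_of_finite_flat`: `f_* f^* α = d · α` for `f` finite flat of constant rank `d`.
-/

set_option autoImplicit false
universe u
open CategoryTheory CategoryTheory.Limits AlgebraicGeometry TopologicalSpace Opposite

namespace Groth.Agent.Lib.helper16.FinDeg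

open Function IsLocalRing Groth.Agent.Lib.helper17.FibreStalk Groth.Agent.Lib.helper3.DimIneq
  Groth.Agent.Lib.helper3.RelDim Groth.Agent.Lib.helper3.QFinAffineSpace

variable {X Y : Scheme.{u}} (f : X ⟶ Y)

theorem hasRelDim_zero_of_isFinite [IsFinite f] : Cyc.HasRelDim f 0 :=
  hasRelDim_of_forall_fibreDimAt f 0 (fun x => (fibreDimAt_eq_zero_of_lqf f x).1)

theorem map_pullFun_of_finite_flat [IsFinite f] [Flat f] (δX : X → ℤ) (δY : Y → ℤ) (d : ℕ)
    (hd : ∀ y : Y, f.finrank y = d) (hδ : Cyc.DeltaCompat f δX δY) (α : AlgebraicCycle Y ℤ)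
    (α' : AlgebraicCycle X ℤ) (hα' : ⇑α' = Cyc.pullFun f δX δY 0 ⇑α) :
    AlgebraicCycle.map f δX δY α' = d • α := by
  have hδ0 : ∀ x : X, δX x = δY (f x) := by
    intro x
    obtain ⟨n, hn, hx⟩ := hδ x
    have hn' : td (f.residueFieldMap x).hom = (n : Cardinal.{u}) := hn
    rw [(fibreDimAt_eq_zero_of_lqf f x).2] at hn'
    have : n = 0 := by exact_mod_cast hn'.symm
    rw [hx, this]
    simp
  ext y
  change ∑ᶠ x ∈ f ⁻¹' {y}, α' x * ((AlgebraicCycle.mapCoeff f δX δY x : ℕ) : ℤ) = (d • α) y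
  have hterm : ∀ x ∈ f ⁻¹' {y}, α' x * ((AlgebraicCycle.mapCoeff f δX δY x : ℕ) : ℤ) =
      α y * (((Module.length (X.presheaf.stalk x) (FibRing f x)).toNat *
        f.residueDegree x : ℕ) : ℤ) := by
    intro x hx
    have hx' : f x = y := hx
    have h1 : α' x = α (f x) *
        ((Module.length (X.presheaf.stalk x) (FibRing f x)).toNat : ℤ) := by
      rw [hα']
      unfold Cyc.pullFun
      rw [if_pos (by rw [hδ0 x]; simp)]
    have h2 : AlgebraicCycle.mapCoeff f δX δY x = f.residueDegree x := by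
      unfold AlgebraicCycle.mapCoeff
      rw [if_pos (hδ0 x)]
    have h3 : α (f x) = α y := congrArg α hx'
    rw [h1, h2, h3]
    push_cast
    ring
  rw [finsum_mem_congr rfl hterm, ← mul_finsum_mem, ← Nat.cast_finsum_mem
    (f.finite_preimage_singleton y), finsum_length_mul_residueDegree f y, hd y]
  change α y * (d : ℤ) = d • α y
  rw [nsmul_eq_mul, mul_comm]

end Groth.Agent.Lib.helper16.FinDeg
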