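import Mathlib
import Groth.Prelude.Def_FlatCA
import Groth.Agent.Lib.Helper15.FittLink

set_option autoImplicit false
universe u
open TensorProduct

namespace Groth.Agent.Lib.helper16.FittStrict

open Groth.Agent.Lib.helper15.Fitting Groth.Agent.Lib.helper15.FittLink

theorem mem_powTorsion_iff {B : Type u} [CommRing B] (a : B) {N : Type u} [AddCommGroup N]
    [Module B N] (x : N) : x ∈ FlatCA.powTorsion B a N ↔ ∃ n : ℕ, a ^ n • x = 0 := by
  unfold FlatCA.powTorsion
  rw [Submodule.mem_iSup_of_directed]
  · simp only [Submodule.mem_torsionBy_iff]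
  · intro i j
    refine ⟨i + j, ?_, ?_⟩
    · intro x hx
      rw [Submodule.mem_torsionBy_iff] at hx ⊢
      rw [pow_add, mul_comm, mul_smul, hx, smul_zero]
    · intro x hx
      rw [Submodule.mem_torsionBy_iff] at hx ⊢
      rw [pow_add, mul_smul, hx, smul_zero]

/-- **Stacks 0F7M-type**: if `Fit_k(N) = (a)` then the quotient of `N` by its `a`-power torsion has
`Fit_k = ⊤`. -/
theorem fitt_quot_powTorsion_eq_top {B : Type u} [CommRing B] (N : Type u) [AddCommGroup N]
    [Module B N] [Module.Finite B N] (k : ℕ) (a : B) (hf : Fitt.ideal B N k = Ideal.span {a}) :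
    Fitt.ideal B (N ⧸ FlatCA.powTorsion B a N) k = ⊤ := by
  classical
  by_contra hI
  obtain ⟨m, hm, hIm⟩ := Ideal.exists_le_maximal _ hI
  haveI := hm.isPrime
  let S := m.primeCompl
  let T := FlatCA.powTorsion B a N
  let q : N →ₗ[B] N ⧸ T := T.mkQ
  let NL := LocalizedModule S N
  let a₁ : Localization S := algebraMap B (Localization S) a
  have hfL : Fitt.ideal (Localization S) NL k = Ideal.span {a₁} := by
    rw [fitt_localizedModule S k, hf, Ideal.map_span, Set.image_singleton]
  obtain ⟨g, hg⟩ := exists_span_quot_ker_smul (R := Localization S) (M := NL) k a₁ hfL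
  -- the localized quotient map
  let qL : NL →ₗ[Localization S] LocalizedModule S (N ⧸ T) :=
    IsLocalizedModule.mapExtendScalars S (LocalizedModule.mkLinearMap S N)
      (LocalizedModule.mkLinearMap S (N ⧸ T)) (Localization S) q
  have hqLsurj : Function.Surjective qL := by
    intro y
    obtain ⟨x, hx⟩ := IsLocalizedModule.map_surjective S (LocalizedModule.mkLinearMap S N)
      (LocalizedModule.mkLinearMap S (N ⧸ T)) q T.mkQ_surjective y
    exact ⟨x, hx⟩
  have hker : LinearMap.ker (a₁ • (LinearMap.id : NL →ₗ[Localization S] NL)) ≤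
      LinearMap.ker qL := by
    intro x hx
    rw [LinearMap.mem_ker, LinearMap.smul_apply, LinearMap.id_apply] at hx
    rw [LinearMap.mem_ker]
    induction x using LocalizedModule.induction_on with
    | h n s =>
      have h1 : a₁ • LocalizedModule.mk n s = LocalizedModule.mk (a • n) s := by
        show algebraMap B (Localization S) a • LocalizedModule.mk n s = _
        rw [algebraMap_smul, LocalizedModule.smul'_mk]
      rw [h1, IsLocalizedModule.mk_eq_mk', IsLocalizedModule.mk'_eq_zero'] at hx
      obtain ⟨t, ht⟩ := hx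
      have h2 : qL (LocalizedModule.mk n s) = LocalizedModule.mk (q n) s := by
        show IsLocalizedModule.map S _ _ q (LocalizedModule.mk n s) = _
        rw [IsLocalizedModule.mk_eq_mk', IsLocalizedModule.map_mk', IsLocalizedModule.mk_eq_mk']
      rw [h2, IsLocalizedModule.mk_eq_mk', IsLocalizedModule.mk'_eq_zero']
      refine ⟨t, ?_⟩
      have h3 : (t : B) • n ∈ T := by
        rw [mem_powTorsion_iff]
        refine ⟨1, ?_⟩
        rw [pow_one, smul_comm]
        exact ht
      have h4 : q ((t : B) • n) = 0 := by
        show T.mkQ _ = 0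
        rw [Submodule.mkQ_apply, Submodule.Quotient.mk_eq_zero]
        exact h3
      rw [map_smul] at h4
      exact h4
  let ψ := Submodule.liftQ _ qL hker
  have hψ : Function.Surjective ψ := by
    intro y
    obtain ⟨x, rfl⟩ := hqLsurj y
    exact ⟨Submodule.Quotient.mk x, rfl⟩
  have h1 : Fitt.ideal (Localization S)
      (NL ⧸ LinearMap.ker (a₁ • (LinearMap.id : NL →ₗ[Localization S] NL))) k = ⊤ :=
    fitt_eq_top_of_span g hg le_rfl
  have h2 := fitt_le_of_surjective ψ hψ k
  rw [h1, top_le_iff, fitt_localizedModule S k] at h2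
  have h3 : (Fitt.ideal B (N ⧸ T) k).map (algebraMap B (Localization S)) ≤
      m.map (algebraMap B (Localization S)) := Ideal.map_mono hIm
  rw [h2, top_le_iff] at h3
  have h4 := IsLocalization.AtPrime.map_eq_maximalIdeal m (Localization.AtPrime m)
  have h5 : m.map (algebraMap B (Localization S)) = IsLocalRing.maximalIdeal (Localization.AtPrime m) := h4
  rw [h5] at h3
  exact (IsLocalRing.maximalIdeal.isMaximal _).ne_top h3

end Groth.Agent.Lib.helper16.FittStrict
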