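import Mathlib
import Groth.Agent.Lib.Helper7.IdealComap

/-!
# Pullback of ideal sheaves commutes with products and powers (helper16)

* `comap_mul`, `comap_pow` for `Scheme.IdealSheafData.comap`.
* `isOpen_support_of_pow_le` : on a locally Noetherian scheme, if `J ^ k ≤ J ^ (k + 1)` then the support
  of `J` is open (hence clopen).
-/

set_option autoImplicit false
universe u
open CategoryTheory CategoryTheory.Limits AlgebraicGeometry TopologicalSpace Opposite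

namespace Groth.Agent.Lib.helper16.IdealComapPow

open Scheme.IdealSheafData

/-- the index type of pairs of affine opens `V ⊆ f⁻¹ U`. -/
def Pairs {X Y : Scheme.{u}} (f : X ⟶ Y) : Type u :=
  {p : X.affineOpens × Y.affineOpens // p.1.1 ≤ f ⁻¹ᵁ p.2.1}

lemma iSup_pairs {X Y : Scheme.{u}} (f : X ⟶ Y) :
    ⨆ p : Pairs f, (p.1.1).1 = (⊤ : X.Opens) := by
  rw [eq_top_iff]
  intro x _
  obtain ⟨_, ⟨U, hU, rfl⟩, hxU, -⟩ :=
    (Y.isBasis_affineOpens).exists_subset_of_mem_open (Set.mem_univ (f x)) isOpen_univ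
  obtain ⟨_, ⟨V, hV, rfl⟩, hxV, hVU⟩ :=
    (X.isBasis_affineOpens).exists_subset_of_mem_open (show x ∈ ((f ⁻¹ᵁ U : X.Opens) : Set X) from hxU)
      (f ⁻¹ᵁ U).2
  exact TopologicalSpace.Opens.mem_iSup.mpr ⟨⟨⟨⟨V, hV⟩, ⟨U, hU⟩⟩, hVU⟩, hxV⟩

theorem comap_mul {X Y : Scheme.{u}} (f : X ⟶ Y) (I J : Y.IdealSheafData) :
    (I * J).comap f = I.comap f * J.comap f := by
  refine ext_of_iSup_eq_top (fun p : Pairs f => p.1.1) (iSup_pairs f) (fun p => ?_)
  obtain ⟨⟨⟨V, hV⟩, ⟨U, hU⟩⟩, e⟩ := p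
  have h1 := Groth.Agent.Lib.helper7.IdealComap.ideal_comap f (I * J) hU hV e
  have h2 := Groth.Agent.Lib.helper7.IdealComap.ideal_comap f I hU hV e
  have h3 := Groth.Agent.Lib.helper7.IdealComap.ideal_comap f J hU hV e
  show ((I * J).comap f).ideal ⟨V, hV⟩ = (I.comap f * J.comap f).ideal ⟨V, hV⟩
  rw [h1]
  show Ideal.map _ (I.ideal ⟨U, hU⟩ * J.ideal ⟨U, hU⟩) =
    (I.comap f).ideal ⟨V, hV⟩ * (J.comap f).ideal ⟨V, hV⟩
  rw [Ideal.map_mul, h2, h3]

theorem comap_one {X Y : Scheme.{u}} (f : X ⟶ Y) :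
    (1 : Y.IdealSheafData).comap f = 1 := by
  show (⊤ : Y.IdealSheafData).comap f = ⊤
  exact Scheme.IdealSheafData.comap_top f

theorem comap_pow {X Y : Scheme.{u}} (f : X ⟶ Y) (I : Y.IdealSheafData) (n : ℕ) :
    (I ^ n).comap f = (I.comap f) ^ n := by
  induction n with
  | zero => rw [pow_zero, pow_zero, comap_one]
  | succ n ih => rw [pow_succ, pow_succ, comap_mul, ih]

lemma pow_le_pow_add_of_le {R : Type*} [CommSemiring R] (𝔧 : Ideal R) (k : ℕ)
    (h : 𝔧 ^ k ≤ 𝔧 ^ (k + 1)) (m : ℕ) : 𝔧 ^ k ≤ 𝔧 ^ (k + m) := by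
  induction m with
  | zero => exact le_rfl
  | succ m ih =>
    calc 𝔧 ^ k ≤ 𝔧 ^ (k + 1) := h
      _ = 𝔧 ^ k * 𝔧 := pow_succ _ _
      _ ≤ 𝔧 ^ (k + m) * 𝔧 := Ideal.mul_mono_left ih
      _ = 𝔧 ^ (k + (m + 1)) := by rw [← pow_succ]; rfl

/-- On a locally Noetherian scheme, an ideal sheaf with `J ^ k ≤ J ^ (k + 1)` has open support. -/
theorem isOpen_support_of_pow_le {X : Scheme.{u}} [IsLocallyNoetherian X] (J : X.IdealSheafData)
    (k : ℕ) (h : J ^ k ≤ J ^ (k + 1)) : IsOpen (J.support : Set X) := by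
  rw [isOpen_iff_forall_mem_open]
  intro x hx
  obtain ⟨_, ⟨V, hV, rfl⟩, hxV, -⟩ :=
    (X.isBasis_affineOpens).exists_subset_of_mem_open (Set.mem_univ x) isOpen_univ
  have h1 : (J.ideal ⟨V, hV⟩) ^ k ≤ (J.ideal ⟨V, hV⟩) ^ (k + 1) := h ⟨V, hV⟩
  have hle : (J.ideal ⟨V, hV⟩) ^ k ≤ J.ideal ⟨V, hV⟩ :=
    h1.trans (Ideal.pow_le_self (Nat.succ_ne_zero k))
  have hidem : IsIdempotentElem ((J.ideal ⟨V, hV⟩) ^ k) := by
    apply le_antisymm
    · exact Ideal.mul_le_left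
    · rw [← pow_add]
      exact pow_le_pow_add_of_le _ k h1 k
  haveI : IsNoetherianRing Γ(X, V) := IsLocallyNoetherian.component_noetherian ⟨V, hV⟩
  obtain ⟨e, he, hspan⟩ :=
    (Ideal.isIdempotentElem_iff_of_fg _ (IsNoetherian.noetherian _)).mp hidem
  have heJ : e ∈ J.ideal ⟨V, hV⟩ := hle (hspan ▸ Ideal.mem_span_singleton_self e)
  refine ⟨X.basicOpen (1 - e), ?_, (X.basicOpen _).2, ?_⟩
  · intro y hy
    have hyV : y ∈ V := X.basicOpen_le _ hy
    rw [SetLike.mem_coe, mem_support_iff_of_mem (U := ⟨V, hV⟩) hyV, Scheme.mem_zeroLocus_iff]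
    intro f hf hyf
    have hfk : f ^ k ∈ (J.ideal ⟨V, hV⟩) ^ k := Ideal.pow_mem_pow hf k
    rw [hspan] at hfk
    obtain ⟨r, hr⟩ := Ideal.mem_span_singleton'.mp hfk
    have hzero : f ^ k * (1 - e) = 0 := by
      rw [← hr, mul_assoc, mul_sub, mul_one, he.eq, sub_self, mul_zero]
    have hyfk : y ∈ X.basicOpen (f ^ k) := by
      rcases Nat.eq_zero_or_pos k with rfl | hk
      · rw [pow_zero, X.basicOpen_of_isUnit isUnit_one]
        exact hyV
      · rw [X.basicOpen_pow f hk]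
        exact hyf
    have : y ∈ X.basicOpen (f ^ k * (1 - e)) := by
      rw [Scheme.basicOpen_mul]
      exact ⟨hyfk, hy⟩
    rw [hzero, Scheme.basicOpen_zero] at this
    exact this
  · have hx' := (mem_support_iff_of_mem (I := J) (U := ⟨V, hV⟩) hxV).mp hx
    rw [Scheme.mem_zeroLocus_iff] at hx'
    have hxe : x ∉ X.basicOpen e := hx' e heJ
    have h1e : x ∈ X.basicOpen (e + (1 - e)) := by
      rw [add_sub_cancel, X.basicOpen_of_isUnit isUnit_one]
      exact hxV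
    exact (X.basicOpen_add_le e (1 - e) h1e).resolve_left hxe

end Groth.Agent.Lib.helper16.IdealComapPow
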