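import Mathlib
import Groth.Prelude.Def_BlowUp2
import Groth.Agent.Lib.Helper16.EffCartier2
import Groth.Agent.Lib.Helper16.EffDiv
import Groth.Agent.Lib.Helper16.IdealComapPow
import Groth.Agent.Lib.Helper7.CohKer
import Groth.Agent.Lib.Helper28.HomOfAffine
import Groth.Agent.Lib.Helper16.QCohAffinePush
import Groth.Agent.Lib.Helper16.QCohAss
import Groth.Agent.Lib.Helper7.QCohProd

/-!
# Locally principal ideal sheaves and "strict transform" quotients (helper16)

* `IsLocPrincipal E`: every point has an affine open neighbourhood on which `E` is generated by one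
  section (not necessarily a nonzerodivisor). Effective Cartier ideals are locally principal, and
  locally principal ideals pull back (`isLocPrincipal_comap`).
* `fg_ideal_of_isLocPrincipal`, `isAffineHom_interior_ι`.
* `res_interior_eq_zero`, `killedByPowerNear_of_res_eq_zero`: for quasi-coherent `N` and `E` locally
  principal, a section over an affine open is killed by a power of `E` iff it vanishes off `V(E)`.
* `isQuasicoherent_of_strictTransform`: a quotient `π : N ⟶ G` of a quasi-coherent module whose kernel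
  is the `E`-power torsion is quasi-coherent (generalises the effective Cartier case of S19349).
-/

set_option autoImplicit false
universe u
open CategoryTheory CategoryTheory.Limits AlgebraicGeometry TopologicalSpace Opposite

namespace Groth.Agent.Lib.helper16.LocPrincipal

open Scheme.Modules Scheme.IdealSheafData Groth.Agent.Lib.helper16.EffCartier
open Groth.Agent.Lib.helper16.QCohAss

variable {X : Scheme.{u}}

/-- `E` is locally generated by one section. -/
def IsLocPrincipal (E : X.IdealSheafData) : Prop :=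
  ∀ x : X, ∃ U : X.affineOpens, x ∈ U.1 ∧ ∃ f : Γ(X, U.1), E.ideal U = Ideal.span {f}

theorem isLocPrincipal_of_isEffCartier {E : X.IdealSheafData} (hE : BlowUp.IsEffCartierIdeal E) :
    IsLocPrincipal E := fun x => by
  obtain ⟨U, hxU, f, -, hf⟩ := hE x
  exact ⟨U, hxU, f, hf⟩

theorem isLocPrincipal_comap {Y : Scheme.{u}} {E : X.IdealSheafData} (hE : IsLocPrincipal E)
    (f : Y ⟶ X) : IsLocPrincipal (E.comap f) := by
  intro y
  obtain ⟨U, hyU, g, hg⟩ := hE (f y)
  obtain ⟨_, ⟨V, hV, rfl⟩, hyV, hVU⟩ :=
    (Y.isBasis_affineOpens).exists_subset_of_mem_open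
      (show y ∈ ((f ⁻¹ᵁ U.1 : Y.Opens) : Set Y) from hyU) (f ⁻¹ᵁ U.1).2
  refine ⟨⟨V, hV⟩, hyV, (f.appLE U.1 V hVU).hom g, ?_⟩
  rw [Groth.Agent.Lib.helper7.IdealComap.ideal_comap f E U.2 hV hVU, hg, Ideal.map_span,
    Set.image_singleton]

/-- a locally principal ideal is principal on small affine neighbourhoods. -/
theorem exists_principal_le {E : X.IdealSheafData} (hE : IsLocPrincipal E)
    (x : X) (W : X.Opens) (hxW : x ∈ W) :
    ∃ V : X.affineOpens, x ∈ V.1 ∧ V.1 ≤ W ∧ ∃ t : Γ(X, V.1), E.ideal V = Ideal.span {t} := by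
  obtain ⟨U, hxU, g, hEU⟩ := hE x
  obtain ⟨h, hle, hxh⟩ := U.2.exists_basicOpen_le (V := W) ⟨x, hxW⟩ hxU
  refine ⟨X.affineBasicOpen h, hxh, hle, X.presheaf.map (homOfLE (X.basicOpen_le h)).op g, ?_⟩
  rw [← E.map_ideal_basicOpen U h, hEU, Ideal.map_span, Set.image_singleton]
  rfl

lemma principal_of_le (E : X.IdealSheafData) {V V' : X.affineOpens} (e : V'.1 ≤ V.1)
    {t : Γ(X, V.1)} (hV : E.ideal V = Ideal.span {t}) :
    E.ideal V' = Ideal.span {(X.presheaf.map (homOfLE e).op).hom t} := by
  rw [← E.map_ideal (U := V') (V := V) e, hV, Ideal.map_span, Set.image_singleton]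
  rfl

/-- The ideals of a locally principal ideal sheaf are finitely generated. -/
theorem fg_ideal_of_isLocPrincipal {B : X.IdealSheafData}
    (hB : IsLocPrincipal B) (V : X.affineOpens) : (B.ideal V).FG := by
  apply Ideal.fg_of_localizationSpan {s : Γ(X, V.1) | (B.ideal (X.affineBasicOpen s)).FG}
  · rw [← V.2.self_le_iSup_basicOpen_iff]
    intro y hy
    obtain ⟨W, hyW, hWV, t, hW⟩ := exists_principal_le hB y V.1 hy
    obtain ⟨s, hsle, hys⟩ := V.2.exists_basicOpen_le (V := W.1) ⟨y, hyW⟩ hy
    refine TopologicalSpace.Opens.mem_iSup.mpr ⟨⟨s, ?_⟩, hys⟩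
    show (B.ideal (X.affineBasicOpen s)).FG
    have := principal_of_le B (V := W) (V' := X.affineBasicOpen s) hsle hW
    rw [this]
    exact Submodule.fg_span_singleton _
  · rintro ⟨s, hs⟩
    have inst := V.2.isLocalization_basicOpen s
    let e := IsLocalization.algEquiv (Submonoid.powers s) Γ(X, X.basicOpen s) (Localization.Away s)
    have : (B.ideal V).map (algebraMap Γ(X, V.1) (Localization.Away s)) =
        ((B.ideal V).map (X.presheaf.map (homOfLE (X.basicOpen_le s)).op).hom).map
          (e : Γ(X, X.basicOpen s) →+* Localization.Away s) := by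
      rw [Ideal.map_map]
      congr 1
      ext a
      exact (e.commutes a).symm
    rw [this]
    refine Ideal.FG.map ?_ _
    have h2 := B.map_ideal_basicOpen V s
    rw [h2]
    exact hs

/-- the complement of the zero locus of a locally principal ideal is affine over the ambient scheme. -/
theorem isAffineHom_interior_ι (K : X.IdealSheafData) (hK : IsLocPrincipal K) :
    IsAffineHom (ModPair.interior K).ι := by
  apply isAffineHom_of_forall_exists_isAffineOpen
  intro x
  obtain ⟨V, hxV, t, hV⟩ := hK x
  refine ⟨V.1, hxV, V.2, ?_⟩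
  rw [← (ModPair.interior K).ι.isAffineOpen_iff_of_isOpenImmersion,
    Scheme.Hom.image_preimage_eq_opensRange_inf, Scheme.Opens.opensRange_ι,
    Groth.Agent.Lib.helper16.EffCartier2.interior_inf_chart K V t hV]
  exact V.2.basicOpen t

/-- a section killed by a power of `E` vanishes off the support of `E` -/
theorem res_interior_eq_zero (E : X.IdealSheafData) (N : X.Modules) (V : X.affineOpens)
    (m : Γ(N, V.1)) (hm : BlowUp.KilledByPowerNear E N V m) (W : X.Opens) (hWV : W ≤ V.1)
    (hW : ∀ x ∈ W, x ∉ E.support) : N.presheaf.map (homOfLE hWV).op m = 0 := by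
  obtain ⟨n, hn⟩ := hm
  apply section_eq_zero_of_germ_eq_zero
  intro x hxW
  have hxV : x ∈ V.1 := hWV hxW
  have h1 : x ∉ X.zeroLocus (U := V.1) (E.ideal V) := fun h =>
    hW x hxW ((Scheme.IdealSheafData.mem_support_iff_of_mem hxV).mpr h)
  rw [Scheme.mem_zeroLocus_iff] at h1
  push Not at h1
  obtain ⟨a, ha, hxa⟩ := h1
  have han : a ^ n ∈ (E ^ n).ideal V := by
    rw [Scheme.IdealSheafData.ideal_pow, Pi.pow_apply]
    exact Ideal.pow_mem_pow ha n
  have h2 := hn _ han
  have hg := congrArg (N.presheaf.germ V.1 x hxV).hom h2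
  rw [germ_smul', map_zero, map_pow] at hg
  have hu : IsUnit ((X.presheaf.germ V.1 x hxV).hom a) := isUnit_germ_of_mem_basicOpen x hxV a hxa
  have h3 := (hu.pow n).smul_eq_zero.mp hg
  rw [TopCat.Presheaf.germ_res_apply]
  exact h3

/-- conversely (quasi-coherent `N`, `E` with finitely generated ideals): a section over an affine open
vanishing off the support of `E` is killed by a power of `E` -/
theorem killedByPowerNear_of_res_eq_zero (E : X.IdealSheafData)
    (hfg : ∀ V : X.affineOpens, (E.ideal V).FG)
    (N : X.Modules) [N.IsQuasicoherent] (V : X.affineOpens) (m : Γ(N, V.1))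
    (hm : ∀ (W : X.Opens) (hWV : W ≤ V.1), (∀ x ∈ W, x ∉ E.support) →
      N.presheaf.map (homOfLE hWV).op m = 0) : BlowUp.KilledByPowerNear E N V m := by
  have hrad : E.ideal V ≤ ((Submodule.span Γ(X, V.1) {m}).annihilator).radical := by
    intro a ha
    have h1 : N.presheaf.map (homOfLE (X.basicOpen_le a)).op m = 0 := by
      apply hm
      intro x hxa hxs
      have hxV : x ∈ V.1 := X.basicOpen_le a hxa
      have := (Scheme.IdealSheafData.mem_support_iff_of_mem (U := V) hxV).mp hxs
      rw [Scheme.mem_zeroLocus_iff] at this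
      exact this a ha hxa
    obtain ⟨n, hn⟩ := Groth.Agent.Lib.helper7.exists_pow_smul_eq_zero_of_isAffineOpen V.2 N a m h1
    exact ⟨n, (Submodule.mem_annihilator_span_singleton _ _).mpr hn⟩
  obtain ⟨k, hk⟩ := Ideal.exists_pow_le_of_le_radical_of_fg hrad (hfg V)
  refine ⟨k, fun a ha => ?_⟩
  rw [Scheme.IdealSheafData.ideal_pow, Pi.pow_apply] at ha
  exact (Submodule.mem_annihilator_span_singleton _ _).mp (hk ha)

open Groth.Agent.Lib.helper28.HomOfAffine in
/-- the target of a "strict transform" epimorphism out of a quasi-coherent module is quasi-coherent,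
for a locally principal centre -/
theorem isQuasicoherent_of_strictTransform (E : X.IdealSheafData) (hE : IsLocPrincipal E)
    (N G : X.Modules) [N.IsQuasicoherent] (π : N ⟶ G) [Epi π]
    (hπ : ∀ (V : X.affineOpens) (m : Γ(N, V.1)),
      π.app V.1 m = 0 ↔ BlowUp.KilledByPowerNear E N V m) :
    G.IsQuasicoherent := by
  haveI : IsAffineHom (ModPair.interior E).ι := isAffineHom_interior_ι E hE
  haveI : (N.restrict (ModPair.interior E).ι).IsQuasicoherent := inferInstance
  haveI : ((pushforward (ModPair.interior E).ι).obj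
      (N.restrict (ModPair.interior E).ι)).IsQuasicoherent :=
    Groth.Agent.Lib.helper16.QCohAffinePush.isQuasicoherent_push _ _
  have hint : ∀ (V : X.Opens), ∀ x ∈ (ModPair.interior E).ι ''ᵁ ((ModPair.interior E).ι ⁻¹ᵁ V),
      x ∉ E.support := by
    intro V x hx
    have h1 : x ∈ (ModPair.interior E).ι.opensRange := by
      rw [Scheme.Hom.image_preimage_eq_opensRange_inf] at hx
      exact hx.1
    rw [Scheme.Opens.opensRange_ι] at h1
    exact h1
  have ha : kernel.ι π ≫ (restrictAdjunction (ModPair.interior E).ι).unit.app N = 0 := by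
    apply hom_ext_of_affine
    intro U s
    have h0 : π.app U.1 ((kernel.ι π).app U.1 s) = 0 :=
      congrArg (fun φ => (Hom.app φ U.1) s) (kernel.condition π)
    have hk := (hπ ⟨U.1, U.2⟩ _).mp h0
    have := res_interior_eq_zero E N ⟨U.1, U.2⟩ _ hk _
      ((ModPair.interior E).ι.image_preimage_le U.1) (hint U.1)
    exact this
  have hb : kernel.ι ((restrictAdjunction (ModPair.interior E).ι).unit.app N) ≫ π = 0 := by
    apply hom_ext_of_affine
    intro U s
    have h0 : ((restrictAdjunction (ModPair.interior E).ι).unit.app N).app U.1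
        ((kernel.ι ((restrictAdjunction (ModPair.interior E).ι).unit.app N)).app U.1 s) = 0 :=
      congrArg (fun φ => (Hom.app φ U.1) s)
        (kernel.condition ((restrictAdjunction (ModPair.interior E).ι).unit.app N))
    refine (hπ ⟨U.1, U.2⟩ _).mpr (killedByPowerNear_of_res_eq_zero E
      (fg_ideal_of_isLocPrincipal hE) N ⟨U.1, U.2⟩ _ ?_)
    intro W hWV hW
    have hle : W ≤ (ModPair.interior E).ι ''ᵁ ((ModPair.interior E).ι ⁻¹ᵁ U.1) := by
      intro x hx
      rw [Scheme.Hom.image_preimage_eq_opensRange_inf, Scheme.Opens.opensRange_ι]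
      exact ⟨hW x hx, hWV hx⟩
    have h1 : N.presheaf.map (homOfLE hle).op
        (N.presheaf.map (homOfLE ((ModPair.interior E).ι.image_preimage_le U.1)).op
          ((kernel.ι ((restrictAdjunction (ModPair.interior E).ι).unit.app N)).app U.1 s)) = 0 :=
      (congrArg (N.presheaf.map (homOfLE hle).op) h0).trans (map_zero _)
    rw [← ConcreteCategory.comp_apply, ← Functor.map_comp] at h1
    exact h1
  -- `kernel π ≅ kernel η`
  have hαβ : kernel.lift _ (kernel.ι π) ha ≫ kernel.lift π (kernel.ι _) hb = 𝟙 _ := by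
    apply (cancel_mono (kernel.ι π)).mp
    rw [Category.assoc, kernel.lift_ι, kernel.lift_ι, Category.id_comp]
  have hβα : kernel.lift π (kernel.ι _) hb ≫ kernel.lift _ (kernel.ι π) ha = 𝟙 _ := by
    apply (cancel_mono (kernel.ι ((restrictAdjunction (ModPair.interior E).ι).unit.app N))).mp
    rw [Category.assoc, kernel.lift_ι, kernel.lift_ι, Category.id_comp]
  let e : kernel π ≅ kernel ((restrictAdjunction (ModPair.interior E).ι).unit.app N) :=
    ⟨_, _, hαβ, hβα⟩
  haveI : ((𝟭 X.Modules).obj N).IsQuasicoherent := ‹N.IsQuasicoherent›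
  haveI : ((restrictFunctor (ModPair.interior E).ι ⋙ pushforward (ModPair.interior E).ι).obj
      N).IsQuasicoherent :=
    ‹((pushforward (ModPair.interior E).ι).obj (N.restrict (ModPair.interior E).ι)).IsQuasicoherent›
  haveI : (kernel ((restrictAdjunction (ModPair.interior E).ι).unit.app N)).IsQuasicoherent :=
    Groth.Agent.Lib.helper7.CohKer.isQuasicoherent_kernel _
  haveI : (kernel π).IsQuasicoherent :=
    Groth.Agent.Lib.helper7.QCohProd.isQuasicoherent_of_iso e.symm inferInstance
  haveI : (cokernel (kernel.ι π)).IsQuasicoherent :=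
    Groth.Agent.Lib.helper7.CohKer.isQuasicoherent_cokernel _
  have hcok := Abelian.epiIsCokernelOfKernel _ (kernelIsKernel π)
  let iso : cokernel (kernel.ι π) ≅ G :=
    IsColimit.coconePointUniqueUpToIso (cokernelIsCokernel (kernel.ι π)) hcok
  exact Groth.Agent.Lib.helper7.QCohProd.isQuasicoherent_of_iso iso inferInstance

end Groth.Agent.Lib.helper16.LocPrincipal
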