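import Mathlib
import Groth.Prelude.Def_BlowUp2
import Groth.Prelude.Def_Fitting
import Groth.Agent.Lib.Helper16.LocPrincipal
import Groth.Agent.Lib.Helper16.FittStrict
import Groth.Agent.Lib.Helper16.QCohEpi
import Groth.Agent.Lib.Helper7.FittSheaf3
import Groth.Agent.Lib.Helper7.CohKer

set_option autoImplicit false
set_option linter.style.haveILetI false
universe u
open CategoryTheory CategoryTheory.Limits AlgebraicGeometry TopologicalSpace Opposite

namespace Groth.Agent.Lib.helper16.FittStrictSheaf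

open Scheme.Modules Groth.Agent.Lib.helper16.LocPrincipal Groth.Agent.Lib.helper16.FittStrict
  Groth.Agent.Lib.helper7.FittSheaf Groth.Agent.Lib.helper15.FittLink
  Groth.Agent.Lib.helper16.CohFinite

variable {X : Scheme.{u}}

/-- on a chart where `E` is generated by `a`, being killed by a power of `E` means being
`a`-power torsion -/
theorem killedByPowerNear_iff_of_span (E : X.IdealSheafData) (P : X.Modules) (V : X.affineOpens)
    (a : Γ(X, V.1)) (ha : E.ideal V = Ideal.span {a}) (m : Γ(P, V.1)) :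
    BlowUp.KilledByPowerNear E P V m ↔ ∃ n : ℕ, a ^ n • m = 0 := by
  have hpow : ∀ n : ℕ, (E ^ n).ideal V = Ideal.span {a ^ n} := fun n => by
    rw [Scheme.IdealSheafData.ideal_pow, Pi.pow_apply, ha, Ideal.span_singleton_pow]
  constructor
  · rintro ⟨n, hn⟩
    exact ⟨n, hn _ (by rw [hpow]; exact Ideal.mem_span_singleton_self _)⟩
  · rintro ⟨n, hn⟩
    refine ⟨n, fun b hb => ?_⟩
    rw [hpow, Ideal.mem_span_singleton'] at hb
    obtain ⟨c, rfl⟩ := hb
    rw [mul_smul, hn, smul_zero]

/-- the sections of a strict-transform quotient on a chart -/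
theorem nonempty_sections_equiv (E : X.IdealSheafData) (P G : X.Modules) [P.IsQuasicoherent]
    [G.IsQuasicoherent] (π : P ⟶ G) [Epi π]
    (hπ : ∀ (V : X.affineOpens) (m : Γ(P, V.1)),
      π.app V.1 m = 0 ↔ BlowUp.KilledByPowerNear E P V m)
    (V : X.affineOpens) (a : Γ(X, V.1)) (ha : E.ideal V = Ideal.span {a}) :
    Nonempty ((Γ(P, V.1) ⧸ FlatCA.powTorsion Γ(X, V.1) a Γ(P, V.1)) ≃ₗ[Γ(X, V.1)] Γ(G, V.1)) := by
  have hsurj : Function.Surjective (appₗ π V.1) :=
    Groth.Agent.Lib.helper16.QCohEpi.surjective_app_of_epi π V.2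
  have hker : LinearMap.ker (appₗ π V.1) = FlatCA.powTorsion Γ(X, V.1) a Γ(P, V.1) := by
    ext m
    rw [LinearMap.mem_ker, mem_powTorsion_iff, ← killedByPowerNear_iff_of_span E P V a ha]
    exact hπ V m
  exact ⟨(Submodule.quotEquivOfEq _ _ hker.symm).trans
    ((appₗ π V.1).quotKerEquivOfSurjective hsurj)⟩

/-- **Fitting ideal of the strict transform along the Fitting blow-up**: if `E = Fit_k(P)` is an
effective Cartier ideal and `π : P ⟶ G` is the quotient by the `E`-power torsion, then `G` is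
quasi-coherent of finite type with `Fit_k(G) = O_X`. -/
theorem fitt_strict_eq_top (P G : X.Modules) [P.IsQuasicoherent]
    (hft : SheafOfModules.IsFiniteType (R := X.ringCatSheaf) P) (k : ℕ)
    (hE : BlowUp.IsEffCartierIdeal (Fitt.sheafIdeal P k)) (π : P ⟶ G) [Epi π]
    (hπ : ∀ (V : X.affineOpens) (m : Γ(P, V.1)),
      π.app V.1 m = 0 ↔ BlowUp.KilledByPowerNear (Fitt.sheafIdeal P k) P V m) :
    G.IsQuasicoherent ∧ SheafOfModules.IsFiniteType (R := X.ringCatSheaf) G ∧
      Fitt.sheafIdeal G k = ⊤ := by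
  haveI hGq : G.IsQuasicoherent :=
    isQuasicoherent_of_strictTransform _ (isLocPrincipal_of_isEffCartier hE) P G π hπ
  have hGft : SheafOfModules.IsFiniteType (R := X.ringCatSheaf) G :=
    Groth.Agent.Lib.helper7.CohKer.isFiniteType_of_epi π hft
  refine ⟨hGq, hGft, ?_⟩
  choose U hxU a ha0 ha using hE
  have hcov : ⨆ x : X, ((U x : X.affineOpens) : X.Opens) = ⊤ := by
    rw [eq_top_iff]
    intro x _
    exact Opens.mem_iSup.mpr ⟨x, hxU x⟩
  refine Scheme.IdealSheafData.ext_of_iSup_eq_top U hcov fun x => ?_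
  rw [sheafIdeal_ideal G hGft k]
  haveI : Module.Finite Γ(X, (U x).1) Γ(P, (U x).1) := finite_sections_of_isFiniteType P hft (U x).2
  obtain ⟨e⟩ := nonempty_sections_equiv _ P G π hπ (U x) (a x) (ha x)
  rw [← fitt_congr e k]
  have h1 := fitt_quot_powTorsion_eq_top (B := Γ(X, (U x).1)) Γ(P, (U x).1) k (a x)
    (by rw [← sheafIdeal_ideal P hft k]; exact ha x)
  rw [h1]
  rfl

end Groth.Agent.Lib.helper16.FittStrictSheaf
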