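import Mathlib
import Groth.Agent.Lib.Helper16.FittStrictSheaf
import Groth.Agent.Lib.Helper7.FittSheaf2
import Groth.Agent.S6897
import Groth.Agent.Lib.Helper7.FittPullback
import Groth.Agent.Lib.Helper7.FittSheaf3
import Groth.Agent.Lib.Helper16.FLF7

/-!
# Strict transform along the Fitting blow-up is locally free (helper16)

* `isFinLocFreeOfRank_strict`: `E = Fit_k(P)` effective Cartier, `Fit_j(P) = 0` for `j < k`, `π : P ⟶ G`
  the quotient by `E`-power torsion ⇒ `G` finite locally free of rank `k` (uses S6897.main).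
* `eq_bot_of_locally_bot_off_support`: an ideal sheaf vanishing off an effective Cartier divisor is `⊥`.
* `fitt_pullback_eq_bot`: `F` locally free of rank `k` off `V(Fit_k F)`, `(Fit_k F).comap b` effective
  Cartier ⇒ `Fit_j(b^*F) = ⊥` for `j < k`.
-/

set_option autoImplicit false
set_option linter.style.haveILetI false
universe u
open CategoryTheory CategoryTheory.Limits AlgebraicGeometry TopologicalSpace Opposite

namespace Groth.Agent.Lib.helper16.FittStrictSheaf

open Scheme.Modules Groth.Agent.Lib.helper16.LocPrincipal Groth.Agent.Lib.helper16.FittStrict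
  Groth.Agent.Lib.helper7.FittSheaf Groth.Agent.Lib.helper15.FittLink
  Groth.Agent.Lib.helper16.CohFinite Groth.Agent.Lib.helper16.FLF

variable {X : Scheme.{u}}

/-- **The strict transform along the Fitting blow-up is locally free**: if `E = Fit_k(P)` is an
effective Cartier ideal, `Fit_j(P) = 0` for `j < k` and `π : P ⟶ G` is the quotient by the
`E`-power torsion, then `G` is finite locally free of rank `k`. -/
theorem isFinLocFreeOfRank_strict (P G : X.Modules) [P.IsQuasicoherent]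
    (hft : SheafOfModules.IsFiniteType (R := X.ringCatSheaf) P) (k : ℕ)
    (hE : BlowUp.IsEffCartierIdeal (Fitt.sheafIdeal P k))
    (hbot : ∀ j : ℕ, j < k → Fitt.sheafIdeal P j = ⊥) (π : P ⟶ G) [Epi π]
    (hπ : ∀ (V : X.affineOpens) (m : Γ(P, V.1)),
      π.app V.1 m = 0 ↔ BlowUp.KilledByPowerNear (Fitt.sheafIdeal P k) P V m) :
    FlatMod.IsFinLocFreeOfRank k G := by
  obtain ⟨hGq, hGft, -⟩ := fitt_strict_eq_top P G hft k hE π hπ
  haveI := hGq
  choose U hxU a ha0 ha using hE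
  have hcov : ⨆ x : X, ((U x : X.affineOpens) : X.Opens) = ⊤ := by
    rw [eq_top_iff]
    intro x _
    exact Opens.mem_iSup.mpr ⟨x, hxU x⟩
  have key : ∀ x : X, (∀ j, j < k → Fitt.ideal Γ(X, (U x).1) Γ(G, (U x).1) j = ⊥) ∧
      (∀ j, k ≤ j → Fitt.ideal Γ(X, (U x).1) Γ(G, (U x).1) j = ⊤) := by
    intro x
    haveI : Module.Finite Γ(X, (U x).1) Γ(P, (U x).1) :=
      finite_sections_of_isFiniteType P hft (U x).2
    obtain ⟨e⟩ := nonempty_sections_equiv _ P G π hπ (U x) (a x) (ha x)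
    have hfk : Fitt.ideal Γ(X, (U x).1) Γ(P, (U x).1) k = Ideal.span {a x} := by
      rw [← sheafIdeal_ideal P hft k]; exact ha x
    have hk1 : k = 0 ∨ Fitt.ideal Γ(X, (U x).1) Γ(P, (U x).1) (k - 1) = ⊥ := by
      rcases Nat.eq_zero_or_pos k with h | h
      · exact Or.inl h
      · right
        rw [← sheafIdeal_ideal P hft (k - 1), hbot (k - 1) (by omega)]
        rfl
    obtain ⟨-, h2, -, h4, -⟩ := Groth.Agent.S6897.main Γ(P, (U x).1) k (a x) (ha0 x) hfk hk1
    have hT : FlatCA.powTorsion Γ(X, (U x).1) (a x) Γ(P, (U x).1) =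
        LinearMap.ker ((a x) • (LinearMap.id : Γ(P, (U x).1) →ₗ[Γ(X, (U x).1)] Γ(P, (U x).1))) := by
      ext m
      rw [mem_powTorsion_iff, h2 m, LinearMap.mem_ker, LinearMap.smul_apply, LinearMap.id_apply]
    have h5 := (locFree_iff_fitt k).mp h4
    let e' := (Submodule.quotEquivOfEq _ _ hT.symm).trans e
    exact ⟨fun j hj => by rw [← fitt_congr e' j]; exact h5.1 j hj,
      fun j hj => by rw [← fitt_congr e' j]; exact h5.2 j hj⟩
  rw [isFinLocFreeOfRank_iff_fitt G hGft k]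
  refine ⟨fun j hj => ?_, fun j hj => ?_⟩
  · refine Scheme.IdealSheafData.ext_of_iSup_eq_top U hcov fun x => ?_
    rw [sheafIdeal_ideal G hGft j, (key x).1 j hj]
    rfl
  · refine Scheme.IdealSheafData.ext_of_iSup_eq_top U hcov fun x => ?_
    rw [sheafIdeal_ideal G hGft j, (key x).2 j hj]
    rfl


/-- an ideal sheaf vanishing (on small affine opens) off an effective Cartier divisor is zero -/
theorem eq_bot_of_locally_bot_off_support (E J : X.IdealSheafData)
    (hE : BlowUp.IsEffCartierIdeal E)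
    (h : ∀ x : X, x ∉ E.support → ∃ V : X.affineOpens, x ∈ V.1 ∧ J.ideal V = ⊥) : J = ⊥ := by
  choose U hxU a ha0 ha using hE
  have hcov : ⨆ x : X, ((U x : X.affineOpens) : X.Opens) = ⊤ := by
    rw [eq_top_iff]
    intro x _
    exact Opens.mem_iSup.mpr ⟨x, hxU x⟩
  refine Scheme.IdealSheafData.ext_of_iSup_eq_top U hcov fun x => ?_
  rw [Scheme.IdealSheafData.ideal_bot, Pi.bot_apply, eq_bot_iff]
  intro y hy
  rw [Ideal.mem_bot]
  have hres : y |_ (X.basicOpen (a x)) = 0 := by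
    apply TopCat.Presheaf.section_ext X.sheaf
    intro z hz
    have hzU : z ∈ (U x).1 := X.basicOpen_le (a x) hz
    have hzE : z ∉ E.support := by
      intro hzs
      have := (Scheme.IdealSheafData.mem_support_iff_of_mem (U := U x) hzU).mp hzs
      rw [Scheme.mem_zeroLocus_iff] at this
      exact this (a x) (by rw [ha x]; exact Ideal.mem_span_singleton_self _) hz
    obtain ⟨V, hzV, hV⟩ := h z hzE
    obtain ⟨_, ⟨W, hW, rfl⟩, hzW, hWle⟩ :=
      (X.isBasis_affineOpens).exists_subset_of_mem_open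
        (show z ∈ ((V.1 ⊓ X.basicOpen (a x) : X.Opens) : Set X) from ⟨hzV, hz⟩)
        (V.1 ⊓ X.basicOpen (a x)).2
    have hWV : W ≤ V.1 := fun w hw => (hWle hw).1
    have hWa : W ≤ X.basicOpen (a x) := fun w hw => (hWle hw).2
    have hWU : W ≤ (U x).1 := hWa.trans (X.basicOpen_le (a x))
    have hJW : J.ideal ⟨W, hW⟩ = ⊥ := by
      rw [← J.map_ideal (U := ⟨W, hW⟩) (V := V) hWV, hV, Ideal.map_bot]
    have h1 : (X.presheaf.map (homOfLE hWU).op).hom y = 0 := by
      have := J.ideal_le_comap_ideal (U := ⟨W, hW⟩) (V := U x) hWU hy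
      rw [Ideal.mem_comap, hJW, Ideal.mem_bot] at this
      exact this
    have h2 : (X.presheaf.germ (X.basicOpen (a x)) z hz).hom (y |_ (X.basicOpen (a x))) =
        (X.presheaf.germ W z hzW).hom ((X.presheaf.map (homOfLE hWU).op).hom y) := by
      refine (TopCat.Presheaf.germ_res_apply X.presheaf (homOfLE (X.basicOpen_le (a x))) z hz y).trans ?_
      exact (TopCat.Presheaf.germ_res_apply X.presheaf (homOfLE hWU) z hzW y).symm
    refine h2.trans ?_
    rw [h1, map_zero]
    exact (map_zero _).symm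
  obtain ⟨n, hn⟩ := exists_pow_mul_eq_zero_of_res_basicOpen_eq_zero_of_isAffineOpen X (U x).2 y
    (a x) hres
  exact (mem_nonZeroDivisors_iff.mp (pow_mem (ha0 x) n)).1 y hn

/-- if `F` is locally free of rank `k` off `V(Fit_k F)` and `b` makes `Fit_k F` effective Cartier,
then the lower Fitting ideals of `b^* F` vanish -/
theorem fitt_pullback_eq_bot {S S' : Scheme.{u}} (F : S.Modules) [F.IsQuasicoherent]
    (hft : SheafOfModules.IsFiniteType (R := S.ringCatSheaf) F) (k : ℕ)
    (hfree : FlatMod.IsFinLocFreeOfRank k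
      (F.restrict (Scheme.Opens.ι (Fitt.sheafIdeal F k).support.compl)))
    (b : S' ⟶ S) (hb : BlowUp.IsEffCartierIdeal ((Fitt.sheafIdeal F k).comap b))
    (j : ℕ) (hj : j < k) :
    Fitt.sheafIdeal ((Scheme.Modules.pullback b).obj F) j = ⊥ := by
  rw [← sheafIdeal_comap b F hft j]
  refine eq_bot_of_locally_bot_off_support _ _ hb fun x' hx' => ?_
  rw [Scheme.IdealSheafData.support_comap] at hx'
  set W : S.Opens := (Fitt.sheafIdeal F k).support.compl with hW
  have hbW : b x' ∈ W := hx'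
  have hftW : SheafOfModules.IsFiniteType (R := (↑W : Scheme.{u}).ringCatSheaf)
      (F.restrict W.ι) :=
    isFiniteType_of_isFinLocFree _ (isFinLocFree_of_isFinLocFreeOfRank hfree)
  have h0 := ((isFinLocFreeOfRank_iff_fitt (F.restrict W.ι) hftW k).mp hfree).1 j hj
  obtain ⟨_, ⟨W', hW' : IsAffineOpen W', rfl⟩, hxW', -⟩ :=
    (↑W : Scheme.{u}).isBasis_affineOpens.exists_subset_of_mem_open
      (Set.mem_univ (⟨b x', hbW⟩ : (↑W : Scheme.{u}))) isOpen_univ
  have hU' : IsAffineOpen (W.ι ''ᵁ W') := hW'.image_of_isOpenImmersion W.ι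
  have hbU' : b x' ∈ W.ι ''ᵁ W' := ⟨⟨b x', hbW⟩, hxW', rfl⟩
  have h1 : (Fitt.sheafIdeal F j).ideal ⟨W.ι ''ᵁ W', hU'⟩ = ⊥ := by
    rw [sheafIdeal_ideal F hft j, ← fitt_restrict_eq F W W' j,
      ← sheafIdeal_ideal (F.restrict W.ι) hftW j ⟨W', hW'⟩, h0]
    rfl
  obtain ⟨_, ⟨V, hV, rfl⟩, hxV, hVU⟩ :=
    (S'.isBasis_affineOpens).exists_subset_of_mem_open
      (show x' ∈ ((b ⁻¹ᵁ (W.ι ''ᵁ W') : S'.Opens) : Set S') from hbU') (b ⁻¹ᵁ (W.ι ''ᵁ W')).2
  refine ⟨⟨V, hV⟩, hxV, ?_⟩
  rw [Groth.Agent.Lib.helper7.IdealComap.ideal_comap b _ hU' hV hVU, h1, Ideal.map_bot]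


end Groth.Agent.Lib.helper16.FittStrictSheaf
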