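import Mathlib
import Groth.Agent.Lib.Helper16.FittStrictSheaf2
import Groth.Agent.Lib.Helper16.Satur1
import Groth.Agent.Lib.Helper16.CohFP
import Groth.Agent.Lib.Helper16.QCohPullback2
import Groth.Agent.Lib.Helper8.PinchMod
import Groth.Prelude.Def_CInt

/-!
# Kernel of the strict transform along the Fitting blow-up (helper16)

* `exists_section_kernel`, `nonempty_kernel_sections_equiv`: sections of a kernel sheaf of modules.
* `fp_of_prod_equiv`: a direct factor of a finitely presented module is finitely presented.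
* `ideal_eq_top_of_disjoint_support`, `eq_bot_of_locally_bot_of_schematicallyDense`, `fitt_ideal_image`.
* `isFinitePresentation_kernel_strict`, `isZero_kernel_restrict`.
-/

set_option autoImplicit false
set_option linter.style.haveILetI false
universe u
open CategoryTheory CategoryTheory.Limits AlgebraicGeometry TopologicalSpace Opposite

namespace Groth.Agent.Lib.helper16.FittStrictSheaf

open Scheme.Modules Groth.Agent.Lib.helper16.LocPrincipal Groth.Agent.Lib.helper16.FittStrict
  Groth.Agent.Lib.helper7.FittSheaf Groth.Agent.Lib.helper15.FittLink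
  Groth.Agent.Lib.helper16.CohFinite Groth.Agent.Lib.helper16.FLF Groth.Agent.Lib.helper16.Satur

variable {X : Scheme.{u}}

/-- sections of the kernel: a section killed by `φ` comes from the kernel -/
theorem exists_section_kernel {A B : X.Modules} (φ : A ⟶ B) (W : X.Opens) (s : Γ(A, W))
    (hs : φ.app W s = 0) : ∃ t : Γ(kernel φ, W), (kernel.ι φ).app W t = s := by
  let S : ShortComplex X.Modules := ShortComplex.mk (kernel.ι φ) φ (kernel.condition φ)
  have hS : S.Exact := ShortComplex.exact_of_f_is_kernel _ (kernelIsKernel φ)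
  haveI : Mono S.f := inferInstanceAs (Mono (kernel.ι φ))
  have hS' := hS.map_of_mono_of_preservesKernel (secF W) inferInstance inferInstance
  exact (ShortComplex.ab_exact_iff _).mp hS' s hs


/-- the sections of a kernel are the kernel of the map on sections -/
theorem nonempty_kernel_sections_equiv {A B : X.Modules} (φ : A ⟶ B) (W : X.Opens) :
    Nonempty (Γ(kernel φ, W) ≃ₗ[Γ(X, W)]
      LinearMap.ker (appₗ φ W : Γ(A, W) →ₗ[Γ(X, W)] Γ(B, W))) := by
  let f : Γ(kernel φ, W) →ₗ[Γ(X, W)]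
      LinearMap.ker (appₗ φ W : Γ(A, W) →ₗ[Γ(X, W)] Γ(B, W)) :=
    LinearMap.codRestrict _ (appₗ (kernel.ι φ) W) (fun t => by
      rw [LinearMap.mem_ker]
      have h0 : φ.app W ((kernel.ι φ).app W t) = 0 :=
        congrArg (fun ψ => (Hom.app ψ W) t) (kernel.condition φ)
      exact h0)
  refine ⟨LinearEquiv.ofBijective f ⟨?_, ?_⟩⟩
  · intro t t' h
    exact injective_app_of_mono (kernel.ι φ) W (congrArg Subtype.val h)
  · rintro ⟨s, hs⟩
    have hs' : (appₗ φ W : Γ(A, W) →ₗ[Γ(X, W)] Γ(B, W)) s = 0 := hs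
    obtain ⟨t, ht⟩ := exists_section_kernel φ W s hs'
    exact ⟨t, Subtype.ext ht⟩

/-- a direct factor of a finitely presented module is finitely presented -/
theorem fp_of_prod_equiv {R : Type u} [CommRing R] {N Q M' : Type u} [AddCommGroup N]
    [AddCommGroup Q] [AddCommGroup M'] [Module R N] [Module R Q] [Module R M']
    [Module.FinitePresentation R N] [Module.Finite R Q] (e : N ≃ₗ[R] Q × M') :
    Module.FinitePresentation R M' := by
  let l : N →ₗ[R] M' := (LinearMap.snd R Q M').comp e.toLinearMap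
  have hl : Function.Surjective l := fun m => ⟨e.symm (0, m), by simp [l]⟩
  refine Module.finitePresentation_of_surjective l hl ?_
  have hker : LinearMap.ker l = Submodule.map (e.symm.toLinearMap.comp (LinearMap.inl R Q M')) ⊤ := by
    ext n
    simp only [l, LinearMap.mem_ker, LinearMap.comp_apply, LinearEquiv.coe_coe, LinearMap.snd_apply,
      Submodule.mem_map, Submodule.mem_top, true_and, LinearMap.inl_apply]
    constructor
    · intro h
      refine ⟨(e n).1, ?_⟩
      rw [← h]
      exact e.symm_apply_apply n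
    · rintro ⟨q, rfl⟩
      simp
  rw [hker]
  exact (Module.Finite.fg_top (R := R) (M := Q)).map _

/-- an ideal sheaf is the unit ideal on affine opens disjoint from its support -/
theorem ideal_eq_top_of_disjoint_support (I : X.IdealSheafData) (V : X.affineOpens)
    (h : Disjoint (I.support : Set X) (V.1 : Set X)) : I.ideal V = ⊤ := by
  have h1 := I.coe_support_inter V
  rw [Set.disjoint_iff_inter_eq_empty.mp h, ← V.2.fromSpec_image_zeroLocus] at h1
  have h2 : PrimeSpectrum.zeroLocus (I.ideal V : Set Γ(X, V.1)) = ∅ :=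
    Set.image_eq_empty.mp h1.symm
  exact (PrimeSpectrum.zeroLocus_empty_iff_eq_top).mp h2

/-- an ideal sheaf vanishing (on small affine opens) on a schematically dense open is zero -/
theorem eq_bot_of_locally_bot_of_schematicallyDense (U : X.Opens)
    (hU : CInt.IsSchematicallyDense U) (J : X.IdealSheafData)
    (h : ∀ x : X, x ∈ U → ∃ V : X.affineOpens, x ∈ V.1 ∧ J.ideal V = ⊥) : J = ⊥ := by
  refine Scheme.IdealSheafData.ext (funext fun V => ?_)
  rw [Scheme.IdealSheafData.ideal_bot, Pi.bot_apply, eq_bot_iff]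
  intro y hy
  rw [Ideal.mem_bot]
  apply hU V.1
  rw [map_zero]
  apply TopCat.Presheaf.section_ext X.sheaf
  intro z hz
  obtain ⟨V', hzV', hV'⟩ := h z hz.2
  obtain ⟨_, ⟨W, hW, rfl⟩, hzW, hWle⟩ :=
    (X.isBasis_affineOpens).exists_subset_of_mem_open
      (show z ∈ ((V'.1 ⊓ (V.1 ⊓ U) : X.Opens) : Set X) from ⟨hzV', hz⟩) (V'.1 ⊓ (V.1 ⊓ U)).2
  have hWV' : W ≤ V'.1 := fun w hw => (hWle hw).1
  have hWVU : W ≤ V.1 ⊓ U := fun w hw => (hWle hw).2
  have hWV : W ≤ V.1 := hWVU.trans inf_le_left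
  have hJW : J.ideal ⟨W, hW⟩ = ⊥ := by
    rw [← J.map_ideal (U := ⟨W, hW⟩) (V := V') hWV', hV', Ideal.map_bot]
  have h1 : (X.presheaf.map (homOfLE hWV).op).hom y = 0 := by
    have := J.ideal_le_comap_ideal (U := ⟨W, hW⟩) (V := V) hWV hy
    rw [Ideal.mem_comap, hJW, Ideal.mem_bot] at this
    exact this
  have h2 : (X.presheaf.germ (V.1 ⊓ U) z hz).hom
      ((X.presheaf.map (homOfLE (inf_le_left : V.1 ⊓ U ≤ V.1)).op).hom y) =
        (X.presheaf.germ W z hzW).hom ((X.presheaf.map (homOfLE hWV).op).hom y) := by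
    refine (TopCat.Presheaf.germ_res_apply X.presheaf (homOfLE inf_le_left) z hz y).trans ?_
    exact (TopCat.Presheaf.germ_res_apply X.presheaf (homOfLE hWV) z hzW y).symm
  refine h2.trans ?_
  rw [h1, map_zero]
  exact (map_zero _).symm

/-- Fitting ideals of a restriction to an open subscheme -/
theorem fitt_ideal_image (F : X.Modules) [F.IsQuasicoherent]
    (hft : SheafOfModules.IsFiniteType (R := X.ringCatSheaf) F) (U : X.Opens)
    (hftU : SheafOfModules.IsFiniteType (R := (↑U : Scheme.{u}).ringCatSheaf) (F.restrict U.ι))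
    (W' : (↑U : Scheme.{u}).Opens) (hW' : IsAffineOpen W') (j : ℕ) :
    (Fitt.sheafIdeal F j).ideal ⟨U.ι ''ᵁ W', hW'.image_of_isOpenImmersion U.ι⟩ =
      ((Fitt.sheafIdeal (F.restrict U.ι) j).ideal ⟨W', hW'⟩ : Ideal Γ(X, U.ι ''ᵁ W')) := by
  rw [sheafIdeal_ideal F hft j, ← fitt_restrict_eq F U W' j,
    ← sheafIdeal_ideal (F.restrict U.ι) hftU j ⟨W', hW'⟩]


/-- the kernel of a strict-transform quotient on a chart -/
theorem ker_app_eq_powTorsion (E : X.IdealSheafData) (P G : X.Modules) (π : P ⟶ G)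
    (hπ : ∀ (V : X.affineOpens) (m : Γ(P, V.1)),
      π.app V.1 m = 0 ↔ BlowUp.KilledByPowerNear E P V m)
    (V : X.affineOpens) (a : Γ(X, V.1)) (ha : E.ideal V = Ideal.span {a}) :
    LinearMap.ker (appₗ π V.1 : Γ(P, V.1) →ₗ[Γ(X, V.1)] Γ(G, V.1)) =
      FlatCA.powTorsion Γ(X, V.1) a Γ(P, V.1) := by
  ext m
  rw [LinearMap.mem_ker, mem_powTorsion_iff, ← killedByPowerNear_iff_of_span E P V a ha]
  exact hπ V m

/-- **the kernel of the strict transform along the Fitting blow-up is finitely presented** -/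
theorem isFinitePresentation_kernel_strict (P G : X.Modules)
    (hfp : SheafOfModules.IsFinitePresentation (R := X.ringCatSheaf) P) (k : ℕ)
    (hE : BlowUp.IsEffCartierIdeal (Fitt.sheafIdeal P k))
    (hbot : ∀ j : ℕ, j < k → Fitt.sheafIdeal P j = ⊥) (π : P ⟶ G) [Epi π]
    (hπ : ∀ (V : X.affineOpens) (m : Γ(P, V.1)),
      π.app V.1 m = 0 ↔ BlowUp.KilledByPowerNear (Fitt.sheafIdeal P k) P V m) :
    SheafOfModules.IsFinitePresentation (R := X.ringCatSheaf) (kernel π) := by
  haveI : P.IsQuasicoherent := inferInstance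
  have hft : SheafOfModules.IsFiniteType (R := X.ringCatSheaf) P := inferInstance
  obtain ⟨hGq, -, -⟩ := fitt_strict_eq_top P G hft k hE π hπ
  haveI := hGq
  haveI : (kernel π).IsQuasicoherent := Groth.Agent.Lib.helper7.CohKer.isQuasicoherent_kernel π
  choose U hxU a ha0 ha using hE
  have hcov : ⨆ x : X, ((U x : X.affineOpens) : X.Opens) = ⊤ := by
    rw [eq_top_iff]
    intro x _
    exact Opens.mem_iSup.mpr ⟨x, hxU x⟩
  refine isFinitePresentation_of_fp_sections (kernel π) (fun x => (U x).1) (fun x => (U x).2) hcov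
    (fun x => ?_)
  haveI : Module.FinitePresentation Γ(X, (U x).1) Γ(P, (U x).1) :=
    Groth.Agent.Lib.helper16.CohFP.fp_sections_of_isFinitePresentation P hfp (U x).2
  have hfk : Fitt.ideal Γ(X, (U x).1) Γ(P, (U x).1) k = Ideal.span {a x} := by
    rw [← sheafIdeal_ideal P hft k]; exact ha x
  have hk1 : k = 0 ∨ Fitt.ideal Γ(X, (U x).1) Γ(P, (U x).1) (k - 1) = ⊥ := by
    rcases Nat.eq_zero_or_pos k with h | h
    · exact Or.inl h
    · right
      rw [← sheafIdeal_ideal P hft (k - 1), hbot (k - 1) (by omega)]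
      rfl
  obtain ⟨-, h2, -, -, ⟨e5⟩⟩ := Groth.Agent.S6897.main Γ(P, (U x).1) k (a x) (ha0 x) hfk hk1
  have hT : FlatCA.powTorsion Γ(X, (U x).1) (a x) Γ(P, (U x).1) =
      LinearMap.ker ((a x) • (LinearMap.id : Γ(P, (U x).1) →ₗ[Γ(X, (U x).1)] Γ(P, (U x).1))) := by
    ext m
    rw [mem_powTorsion_iff, h2 m, LinearMap.mem_ker, LinearMap.smul_apply, LinearMap.id_apply]
  haveI := fp_of_prod_equiv e5
  obtain ⟨e1⟩ := nonempty_kernel_sections_equiv π (U x).1
  exact Module.FinitePresentation.of_equiv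
    (e1.trans (LinearEquiv.ofEq _ _ ((ker_app_eq_powTorsion _ P G π hπ (U x) (a x) (ha x)).trans hT))).symm

/-- the kernel of a strict-transform quotient vanishes off the centre -/
theorem isZero_kernel_restrict (E : X.IdealSheafData) (P G : X.Modules) (π : P ⟶ G)
    (hπ : ∀ (V : X.affineOpens) (m : Γ(P, V.1)),
      π.app V.1 m = 0 → BlowUp.KilledByPowerNear E P V m)
    (W : X.Opens) (hW : Disjoint (E.support : Set X) (W : Set X)) :
    IsZero ((kernel π).restrict W.ι) := by
  refine Groth.Agent.Lib.helper8.PinchMod.isZero_of_subsingleton_sections fun W' hW' => ?_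
  have hV : IsAffineOpen (W.ι ''ᵁ W') := hW'.image_of_isOpenImmersion W.ι
  have hVW : ((W.ι ''ᵁ W' : X.Opens) : Set X) ⊆ W := by
    rintro _ ⟨y, -, rfl⟩
    exact y.2
  have htop : E.ideal ⟨W.ι ''ᵁ W', hV⟩ = ⊤ :=
    ideal_eq_top_of_disjoint_support E ⟨W.ι ''ᵁ W', hV⟩ (hW.mono_right hVW)
  have key : ∀ t : Γ(kernel π, W.ι ''ᵁ W'), t = 0 := by
    intro t
    apply injective_app_of_mono (kernel.ι π) (W.ι ''ᵁ W')
    rw [map_zero]
    have h0 : π.app (W.ι ''ᵁ W') ((kernel.ι π).app (W.ι ''ᵁ W') t) = 0 :=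
      congrArg (fun ψ => (Hom.app ψ (W.ι ''ᵁ W')) t) (kernel.condition π)
    obtain ⟨n, hn⟩ := hπ ⟨W.ι ''ᵁ W', hV⟩ _ h0
    have h1 := hn 1 (by
      rw [Scheme.IdealSheafData.ideal_pow, Pi.pow_apply, htop, Ideal.top_pow]; trivial)
    rwa [one_smul] at h1
  exact ⟨fun t t' => (key t).trans (key t').symm⟩

end Groth.Agent.Lib.helper16.FittStrictSheaf
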