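import Mathlib

/-!
# Going down for the support of a finite module flat over a local base (helper16)

`A → B` local homomorphism of local rings, `N` a nonzero finite `B`-module flat over `A`.
Then `N` is faithfully flat over `A` and every prime of `A` is the contraction of a prime in
`Supp_B N`.
-/

set_option autoImplicit false
open TensorProduct

namespace Groth.Agent.Lib.helper16.FlatGD

variable {A B N : Type*} [CommRing A] [CommRing B] [IsLocalRing A] [IsLocalRing B]
  [Algebra A B] [IsLocalHom (algebraMap A B)] [AddCommGroup N] [Module A N] [Module B N]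
  [IsScalarTower A B N] [Module.Finite B N] [Nontrivial N] [Module.Flat A N]

include B in
theorem faithfullyFlat_of_local : Module.FaithfullyFlat A N := by
  refine ⟨fun m hm htop => ?_⟩
  have hm' : m = IsLocalRing.maximalIdeal A := IsLocalRing.eq_maximalIdeal hm
  subst hm'
  have h1 : (⊤ : Submodule B N) ≤ IsLocalRing.maximalIdeal B • (⊤ : Submodule B N) := by
    intro n _
    have hn : n ∈ IsLocalRing.maximalIdeal A • (⊤ : Submodule A N) := by rw [htop]; trivial
    refine Submodule.smul_induction_on hn ?_ ?_
    · intro a ha n' _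
      rw [← algebraMap_smul B a n']
      refine Submodule.smul_mem_smul ?_ trivial
      rw [IsLocalRing.mem_maximalIdeal, mem_nonunits_iff] at ha ⊢
      intro hu
      exact ha (isUnit_of_map_unit (algebraMap A B) a hu)
    · intro a b ha hb
      exact add_mem ha hb
  have h2 := Submodule.eq_bot_of_le_smul_of_le_jacobson_bot (IsLocalRing.maximalIdeal B)
    (⊤ : Submodule B N) Module.Finite.fg_top h1
    (by rw [IsLocalRing.jacobson_eq_maximalIdeal ⊥ bot_ne_top])
  exact top_ne_bot h2

theorem exists_prime_support_comap (p : Ideal A) [p.IsPrime] :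
    ∃ q : PrimeSpectrum B, q ∈ Module.support B N ∧ q.asIdeal.comap (algebraMap A B) = p := by
  haveI : Module.FaithfullyFlat A N := faithfullyFlat_of_local (B := B)
  let κ := p.ResidueField
  haveI : Nontrivial (N ⊗[A] κ) := Module.FaithfullyFlat.lTensor_nontrivial A N κ
  obtain ⟨t, ht⟩ := exists_ne (0 : N ⊗[A] κ)
  let I : Ideal B := LinearMap.ker (LinearMap.toSpanSingleton B (N ⊗[A] κ) t)
  have hI : ∀ b : B, b ∈ I ↔ b • t = 0 := fun b => by
    simp [I, LinearMap.mem_ker, LinearMap.toSpanSingleton_apply]
  -- elements outside `p` act injectively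
  have hinj : ∀ a : A, a ∉ p → a • t = 0 → False := by
    intro a ha hat
    have hu : IsUnit (algebraMap A κ a) := by
      rw [isUnit_iff_ne_zero]
      intro h0
      exact ha ((Ideal.algebraMap_residueField_eq_zero).mp h0)
    obtain ⟨c, hc⟩ := hu.exists_left_inv
    let g : N ⊗[A] κ →ₗ[A] N ⊗[A] κ := LinearMap.lTensor N (LinearMap.mulLeft A c)
    have hg : ∀ s : N ⊗[A] κ, g (a • s) = s := by
      intro s
      induction s using TensorProduct.induction_on with
      | zero => simp
      | tmul n k =>
        have h1 : g (a • (n ⊗ₜ[A] k)) = n ⊗ₜ[A] (c * (a • k)) := by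
          rw [← TensorProduct.tmul_smul]; rfl
        rw [h1, Algebra.smul_def, ← mul_assoc, hc, one_mul]
      | add s₁ s₂ h₁ h₂ => rw [smul_add, map_add, h₁, h₂]
    exact ht (by rw [← hg t, hat, map_zero])
  have hdisj : Disjoint (I : Set B) ((p.primeCompl.map (algebraMap A B) : Submonoid B) : Set B) := by
    rw [Set.disjoint_left]
    rintro b hb ⟨a, ha, rfl⟩
    have := (hI _).mp hb
    rw [algebraMap_smul] at this
    exact hinj a ha this
  obtain ⟨q, hqp, hIq, hqdisj⟩ := Ideal.exists_le_prime_disjoint I _ hdisj
  refine ⟨⟨q, hqp⟩, ?_, ?_⟩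
  · rw [Module.mem_support_iff_of_finite]
    intro b hb
    apply hIq
    rw [hI]
    have key : ∀ s : N ⊗[A] κ, b • s = 0 := by
      intro s
      induction s using TensorProduct.induction_on with
      | zero => simp
      | tmul n k =>
        rw [TensorProduct.smul_tmul', Module.mem_annihilator.mp hb n, TensorProduct.zero_tmul]
      | add s₁ s₂ h₁ h₂ => rw [smul_add, h₁, h₂, add_zero]
    exact key t
  · ext a
    rw [Ideal.mem_comap]
    constructor
    · intro ha
      by_contra hap
      exact Set.disjoint_left.mp hqdisj ha ⟨a, hap, rfl⟩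
    · intro ha
      apply hIq
      rw [hI, algebraMap_smul]
      have key : ∀ s : N ⊗[A] κ, a • s = 0 := by
        intro s
        induction s using TensorProduct.induction_on with
        | zero => simp
        | tmul n k =>
          rw [← TensorProduct.tmul_smul, Algebra.smul_def,
            (Ideal.algebraMap_residueField_eq_zero).mpr ha, zero_mul, TensorProduct.tmul_zero]
        | add s₁ s₂ h₁ h₂ => rw [smul_add, h₁, h₂, add_zero]
      exact key t

end Groth.Agent.Lib.helper16.FlatGD
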