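import Groth.Agent.Lib.Helper16.CohStalk
import Groth.Agent.Lib.Helper16.DivSum2

/-!
# The stalk at a generization is the localization of the stalk (helper16)

For quasi-coherent `F` and `ξ ⤳ x`, with `𝔭 = pOf h ⊂ O_{X,x}`:

* `specLin F h : F_x →ₗ[O_x] F_ξ` (module structure `modSpec`), `isLocalizedModule_specLin`;
* `length_stalk_eq_locLen`: `ℓ_{O_ξ}(F_ξ) = ℓ_{(O_x)_𝔭}((F_x)_𝔭)`;
* `nontrivial_stalk_iff_mem_support`.
-/

set_option autoImplicit false
universe u
open CategoryTheory CategoryTheory.Limits AlgebraicGeometry TopologicalSpace Opposite IsLocalRing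

namespace Groth.Agent.Lib.helper16.StalkLoc

open Scheme.Modules Groth.Agent.Lib.helper16.CohStalk Groth.Agent.Lib.helper16.QCohAss
  Groth.Agent.Lib.helper16.OrdGen Groth.Agent.Lib.helper16.SecOrd
  Groth.Agent.Lib.helper16.DivSum

variable {X : Scheme.{u}} (F : X.Modules)

/-- `O_{X,x}`-module structure on `F_ξ` for `ξ ⤳ x`. -/
@[reducible] noncomputable def modSpec {x ξ : X} (h : ξ ⤳ x) :
    Module (X.presheaf.stalk x) (F.presheaf.stalk ξ) :=
  Module.compHom _ (X.presheaf.stalkSpecializes h).hom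

/-- the generization map `F_x → F_ξ` as an `O_{X,x}`-linear map. -/
noncomputable def specLin {x ξ : X} (h : ξ ⤳ x) :
    @LinearMap (X.presheaf.stalk x) (X.presheaf.stalk x) _ _ (RingHom.id _)
      (F.presheaf.stalk x) (F.presheaf.stalk ξ) _ _ _ (modSpec F h) :=
  letI := modSpec F h
  { toFun := fun m => F.presheaf.stalkSpecializes h m
    map_add' := fun a b => map_add _ a b
    map_smul' := fun a m => stalkSpecializes_smul F h a m }

theorem isScalarTower_modSpec {x ξ : X} (h : ξ ⤳ x) :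
    @IsScalarTower (X.presheaf.stalk x) (X.presheaf.stalk ξ) (F.presheaf.stalk ξ)
      (X.presheaf.stalkSpecializes h).hom.toAlgebra.toSMul _ (modSpec F h).toSMul := by
  letI := (X.presheaf.stalkSpecializes h).hom.toAlgebra
  letI := modSpec F h
  exact ⟨fun a b m => by
    change ((X.presheaf.stalkSpecializes h).hom a * b) • m =
      (X.presheaf.stalkSpecializes h).hom a • (b • m)
    rw [mul_smul]⟩

theorem notMem_pOf_of_isUnit {x ξ : X} (h : ξ ⤳ x) (a : X.presheaf.stalk x)
    (ha : IsUnit (X.presheaf.stalkSpecializes h a)) : a ∉ pOf h := by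
  rw [mem_pOf_iff]
  intro hm
  exact (IsLocalRing.mem_maximalIdeal _).1 hm ha

theorem locData_spec [F.IsQuasicoherent] {x ξ : X} (h : ξ ⤳ x) :
    letI := (X.presheaf.stalkSpecializes h).hom.toAlgebra
    LocData (X.presheaf.stalk x) (pOf h) (X.presheaf.stalk ξ) (F.presheaf.stalk x)
      (F.presheaf.stalk ξ) (F.presheaf.stalkSpecializes h).hom := by
  letI := (X.presheaf.stalkSpecializes h).hom.toAlgebra
  obtain ⟨_, ⟨U, hU : IsAffineOpen U, rfl⟩, hxU, -⟩ :=
    X.isBasis_affineOpens.exists_subset_of_mem_open (Set.mem_univ x) isOpen_univ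
  have hξU : ξ ∈ U := h.mem_open U.isOpen hxU
  have hgermR : ∀ r : Γ(X, U), X.presheaf.stalkSpecializes h ((X.presheaf.germ U x hxU).hom r) =
      (X.presheaf.germ U ξ hξU).hom r := fun r =>
    TopCat.Presheaf.germ_stalkSpecializes_apply X.presheaf hxU h r
  have hgermF : ∀ m : Γ(F, U), F.presheaf.stalkSpecializes h ((F.presheaf.germ U x hxU).hom m) =
      (F.presheaf.germ U ξ hξU).hom m := fun m =>
    TopCat.Presheaf.germ_stalkSpecializes_apply F.presheaf hxU h m
  have hunitξ : ∀ a₀ : Γ(X, U), a₀ ∉ (hU.primeIdealOf ⟨ξ, hξU⟩).asIdeal →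
      IsUnit ((X.presheaf.germ U ξ hξU).hom a₀) := fun a₀ ha₀ =>
    letI := TopCat.Presheaf.algebra_section_stalk X.presheaf (⟨ξ, hξU⟩ : U)
    haveI : IsLocalization.AtPrime (X.presheaf.stalk ξ) (hU.primeIdealOf ⟨ξ, hξU⟩).asIdeal :=
      hU.isLocalization_stalk ⟨ξ, hξU⟩
    isUnit_of_notMem (R := X.presheaf.stalk ξ) (p := (hU.primeIdealOf ⟨ξ, hξU⟩).asIdeal) ha₀
  have hunitx : ∀ a₀ : Γ(X, U), a₀ ∉ (hU.primeIdealOf ⟨x, hxU⟩).asIdeal →
      IsUnit ((X.presheaf.germ U x hxU).hom a₀) := fun a₀ ha₀ =>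
    letI := TopCat.Presheaf.algebra_section_stalk X.presheaf (⟨x, hxU⟩ : U)
    haveI : IsLocalization.AtPrime (X.presheaf.stalk x) (hU.primeIdealOf ⟨x, hxU⟩).asIdeal :=
      hU.isLocalization_stalk ⟨x, hxU⟩
    isUnit_of_notMem (R := X.presheaf.stalk x) (p := (hU.primeIdealOf ⟨x, hxU⟩).asIdeal) ha₀
  refine ⟨fun a m => stalkSpecializes_smul F h a m, ?_, ?_⟩
  · intro m hm
    obtain ⟨b₀, m₀, hb₀, hbm⟩ := surj_germ F hU x hxU m
    have h1 : (F.presheaf.germ U ξ hξU).hom m₀ = 0 := by
      rw [← hgermF, ← hbm, stalkSpecializes_smul]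
      have : (F.presheaf.stalkSpecializes h) m = 0 := hm
      rw [this, smul_zero]
    obtain ⟨a₀, ha₀, ham⟩ := ker_germ F hU ξ hξU m₀ h1
    refine ⟨(X.presheaf.germ U x hxU).hom a₀ * (X.presheaf.germ U x hxU).hom b₀, ?_, ?_⟩
    · apply notMem_pOf_of_isUnit h
      have hb' : IsUnit ((X.presheaf.germ U ξ hξU).hom b₀) := by
        rw [← hgermR]
        exact (hunitx b₀ hb₀).map (X.presheaf.stalkSpecializes h).hom
      rw [map_mul, hgermR, hgermR]
      exact (hunitξ a₀ ha₀).mul hb'
    · rw [mul_smul, hbm, ← germ_smul', ham, map_zero]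
  · intro n
    obtain ⟨a₀, m₀, ha₀, ham⟩ := surj_germ F hU ξ hξU n
    refine ⟨(X.presheaf.germ U x hxU).hom a₀, (F.presheaf.germ U x hxU).hom m₀, ?_, ?_⟩
    · apply notMem_pOf_of_isUnit h
      rw [hgermR]
      exact hunitξ a₀ ha₀
    · change X.presheaf.stalkSpecializes h ((X.presheaf.germ U x hxU).hom a₀) • n = _
      rw [hgermR, ham]
      exact (hgermF m₀).symm

theorem isLocalizedModule_specLin [F.IsQuasicoherent] {x ξ : X} (h : ξ ⤳ x) :
    @IsLocalizedModule (X.presheaf.stalk x) _ (F.presheaf.stalk x) (F.presheaf.stalk ξ) _ _ _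
      (modSpec F h) (pOf h).primeCompl (specLin F h) := by
  letI := (X.presheaf.stalkSpecializes h).hom.toAlgebra
  letI := modSpec F h
  haveI := isScalarTower_modSpec F h
  haveI := isLocalization_stalkSpecializes h
  exact isLocalizedModule_of_locData (locData_spec F h) (specLin F h) (fun _ => rfl)

theorem nontrivial_stalk_iff_mem_support [F.IsQuasicoherent] {x ξ : X} (h : ξ ⤳ x) :
    Nontrivial (F.presheaf.stalk ξ) ↔
      (⟨pOf h, inferInstance⟩ : PrimeSpectrum (X.presheaf.stalk x)) ∈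
        Module.support (X.presheaf.stalk x) (F.presheaf.stalk x) := by
  letI := modSpec F h
  haveI := isLocalizedModule_specLin F h
  rw [Module.mem_support_iff]
  exact (IsLocalizedModule.iso (pOf h).primeCompl (specLin F h)).toEquiv.nontrivial_congr.symm

theorem length_stalk_eq_locLen [F.IsQuasicoherent] {x ξ : X} (h : ξ ⤳ x) :
    Module.length (X.presheaf.stalk ξ) (F.presheaf.stalk ξ) =
      Module.length (Localization.AtPrime (pOf h))
        (LocalizedModule (pOf h).primeCompl (F.presheaf.stalk x)) := by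
  letI a3 := (X.presheaf.stalkSpecializes h).hom.toAlgebra
  letI := modSpec F h
  haveI := isScalarTower_modSpec F h
  haveI := isLocalization_stalkSpecializes h
  haveI := isLocalizedModule_specLin F h
  let e : Localization.AtPrime (pOf h) ≃ₐ[X.presheaf.stalk x] X.presheaf.stalk ξ :=
    IsLocalization.algEquiv (pOf h).primeCompl _ _
  letI a4 : Algebra (Localization.AtPrime (pOf h)) (X.presheaf.stalk ξ) :=
    (e : Localization.AtPrime (pOf h) →+* X.presheaf.stalk ξ).toAlgebra
  letI m4 : Module (Localization.AtPrime (pOf h)) (F.presheaf.stalk ξ) :=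
    Module.compHom _ (e : Localization.AtPrime (pOf h) →+* X.presheaf.stalk ξ)
  haveI : IsScalarTower (Localization.AtPrime (pOf h)) (X.presheaf.stalk ξ)
      (F.presheaf.stalk ξ) := ⟨fun l r n => by
    change (e l * r) • n = e l • (r • n)
    rw [mul_smul]⟩
  haveI : IsScalarTower (X.presheaf.stalk x) (Localization.AtPrime (pOf h))
      (F.presheaf.stalk ξ) := ⟨fun a l n => by
    change e (a • l) • n = (X.presheaf.stalkSpecializes h).hom a • (e l • n)
    rw [_root_.map_smul, Algebra.smul_def, mul_smul]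
    rfl⟩
  rw [← Module.length_eq_of_surjective (S := Localization.AtPrime (pOf h))
    (R := X.presheaf.stalk ξ) e.surjective]
  exact (LinearEquiv.extendScalarsOfIsLocalization (pOf h).primeCompl
    (Localization.AtPrime (pOf h))
    (IsLocalizedModule.iso (pOf h).primeCompl (specLin F h))).length_eq.symm

end Groth.Agent.Lib.helper16.StalkLoc
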