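import Groth.Agent.Lib.Helper16.FlatGD1
import Groth.Agent.Lib.Helper16.StalkLoc
import Groth.Agent.Lib.Helper16.DivSum5
import Groth.Agent.Lib.Helper2.TensorSupp
import Groth.Prelude.Def_FlatMod2
import Groth.Prelude.Def_Coh

/-!
# Going down for supports of coherent modules flat over the base; maximal points of the support of
`f^*E ⊗ F` (helper16)
-/

set_option autoImplicit false
universe u
open CategoryTheory CategoryTheory.Limits AlgebraicGeometry TopologicalSpace Opposite IsLocalRing

namespace Groth.Agent.Lib.helper16.FlatGD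

open Scheme.Modules Groth.Agent.Lib.helper16.CohStalk Groth.Agent.Lib.helper16.QCohAss
  Groth.Agent.Lib.helper16.OrdGen Groth.Agent.Lib.helper16.SecOrd
  Groth.Agent.Lib.helper16.DivSum Groth.Agent.Lib.helper16.StalkLoc

variable {X Y : Scheme.{u}}

theorem mem_support_iff (F : X.Modules) (x : X) :
    x ∈ CohB1.support F ↔ Nontrivial (F.presheaf.stalk x) := by
  change ¬ Subsingleton _ ↔ _
  exact not_subsingleton_iff_nontrivial

/-- going down for the support of a coherent module flat over the base -/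
theorem exists_generization_support (f : X ⟶ Y) (F : X.Modules) (hF : Coh.IsCoh F)
    (hfl : FlatMod.IsFlatOver f F) (x : X) (hx : x ∈ CohB1.support F) (w : Y) (hw : w ⤳ f x) :
    ∃ x' : X, x' ⤳ x ∧ f x' = w ∧ x' ∈ CohB1.support F := by
  haveI : F.IsQuasicoherent := hF.1
  letI alg : Algebra (Y.presheaf.stalk (f x)) (X.presheaf.stalk x) := (f.stalkMap x).hom.toAlgebra
  letI mA : Module (Y.presheaf.stalk (f x)) (F.presheaf.stalk x) := FlatMod.moduleStalkOver f F x
  haveI : IsScalarTower (Y.presheaf.stalk (f x)) (X.presheaf.stalk x) (F.presheaf.stalk x) :=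
    ⟨fun a b n => by
      change ((f.stalkMap x).hom a * b) • n = (f.stalkMap x).hom a • (b • n)
      rw [mul_smul]⟩
  haveI : IsLocalHom (algebraMap (Y.presheaf.stalk (f x)) (X.presheaf.stalk x)) := by
    change IsLocalHom (f.stalkMap x).hom
    infer_instance
  haveI : Module.Finite (X.presheaf.stalk x) (F.presheaf.stalk x) := finite_stalk_of_isCoh F hF x
  haveI : Nontrivial (F.presheaf.stalk x) := (mem_support_iff F x).mp hx
  haveI : Module.Flat (Y.presheaf.stalk (f x)) (F.presheaf.stalk x) := hfl x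
  obtain ⟨q, hq, hqp⟩ := exists_prime_support_comap (A := Y.presheaf.stalk (f x))
    (B := X.presheaf.stalk x) (N := F.presheaf.stalk x) (pOf hw)
  have hsp : X.fromSpecStalk x q ⤳ x := specializes_fromSpecStalk x q
  refine ⟨X.fromSpecStalk x q, hsp, ?_, ?_⟩
  · have h1 := congrArg (fun φ => φ.base q) (Scheme.SpecMap_stalkMap_fromSpecStalk (f := f) (x := x))
    simp only [Scheme.Hom.comp_base, TopCat.hom_comp, ContinuousMap.comp_apply] at h1
    refine h1.symm.trans ?_
    refine Eq.trans ?_ (fromSpecStalk_pOf hw)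
    congr 1
    apply PrimeSpectrum.ext
    exact hqp
  · rw [mem_support_iff, nontrivial_stalk_iff_mem_support F hsp]
    convert hq using 2
    exact pOf_fromSpecStalk x q hsp

theorem maximal_point_iff (f : X ⟶ Y) (F : X.Modules) (hF : Coh.IsCoh F)
    (hfl : FlatMod.IsFlatOver f F) (E : Y.Modules) (hE : Coh.IsCoh E) (x : X) :
    (x ∈ CohB1.support (CohB1.tensorMod ((Scheme.Modules.pullback f).obj E) F) ∧
        ∀ z ∈ CohB1.support (CohB1.tensorMod ((Scheme.Modules.pullback f).obj E) F), z ⤳ x → z = x) ↔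
      ((f x ∈ CohB1.support E ∧ ∀ w ∈ CohB1.support E, w ⤳ f x → w = f x) ∧
        (f.asFiber x ∈ CohB1.support ((Scheme.Modules.pullback (f.fiberι (f x))).obj F) ∧
          ∀ z ∈ CohB1.support ((Scheme.Modules.pullback (f.fiberι (f x))).obj F),
            z ⤳ f.asFiber x → z = f.asFiber x)) := by
  haveI : F.IsQuasicoherent := hF.1
  haveI : E.IsQuasicoherent := hE.1
  haveI : ((Scheme.Modules.pullback f).obj E).IsQuasicoherent :=
    Groth.Agent.Lib.helper16.QCohPullback.isQuasicoherent_pullback f E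
  have hS1 : CohB1.support (CohB1.tensorMod ((Scheme.Modules.pullback f).obj E) F) =
      f ⁻¹' CohB1.support E ∩ CohB1.support F := by
    rw [Groth.Agent.Lib.helper2.TensorSupp.support_tensorMod _ _
      (Groth.Agent.Lib.helper16.QCohPullback2.isFiniteType_pullback f E hE.2) hF.2,
      Groth.Agent.Lib.helper2.TensorSupp.support_pullback f E hE.2]
  have hS2 : CohB1.support ((Scheme.Modules.pullback (f.fiberι (f x))).obj F) =
      (f.fiberι (f x)) ⁻¹' CohB1.support F :=
    Groth.Agent.Lib.helper2.TensorSupp.support_pullback (f.fiberι (f x)) F hF.2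
  rw [hS1, hS2]
  have hι : f.fiberι (f x) (f.asFiber x) = x := f.fiberι_asFiber x
  have hemb := (f.fiberι (f x)).isEmbedding
  have hrange : ∀ z : X, f z = f x → ∃ z' : f.fiber (f x), f.fiberι (f x) z' = z := by
    intro z hz
    have : z ∈ Set.range (f.fiberι (f x)) := by
      rw [Scheme.Hom.range_fiberι]; exact hz
    exact this
  have hfib : ∀ z' : f.fiber (f x), f (f.fiberι (f x) z') = f x := by
    intro z'
    have : f.fiberι (f x) z' ∈ Set.range (f.fiberι (f x)) := ⟨z', rfl⟩
    rw [Scheme.Hom.range_fiberι] at this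
    exact this
  constructor
  · rintro ⟨⟨hxE, hxF⟩, hmax⟩
    refine ⟨⟨hxE, ?_⟩, ⟨?_, ?_⟩⟩
    · intro w hwE hw
      obtain ⟨x', hx'x, hx'w, hx'F⟩ := exists_generization_support f F hF hfl x hxF w hw
      have h1 : x' = x := hmax x' ⟨by change f x' ∈ CohB1.support E; rw [hx'w]; exact hwE, hx'F⟩ hx'x
      rw [← hx'w, h1]
    · change f.fiberι (f x) (f.asFiber x) ∈ CohB1.support F
      rw [hι]; exact hxF
    · intro z hzF hz
      have h1 : f.fiberι (f x) z ⤳ x := by
        have := hz.map (f.fiberι (f x)).continuous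
        rwa [hι] at this
      have h2 : f.fiberι (f x) z = x :=
        hmax _ ⟨by change f (f.fiberι (f x) z) ∈ CohB1.support E; rw [hfib z]; exact hxE, hzF⟩ h1
      exact hemb.injective (h2.trans hι.symm)
  · rintro ⟨⟨hxE, hmaxE⟩, hxF, hmaxF⟩
    have hxF' : x ∈ CohB1.support F := by
      have : f.fiberι (f x) (f.asFiber x) ∈ CohB1.support F := hxF
      rwa [hι] at this
    refine ⟨⟨hxE, hxF'⟩, ?_⟩
    rintro z ⟨hzE, hzF⟩ hz
    have h1 : f z = f x := hmaxE (f z) hzE (hz.map f.continuous)
    obtain ⟨z', rfl⟩ := hrange z h1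
    have h2 : z' ⤳ f.asFiber x := by
      rw [← hemb.isInducing.specializes_iff, hι]; exact hz
    rw [hmaxF z' hzF h2, hι]

end Groth.Agent.Lib.helper16.FlatGD
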