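import Mathlib
import Groth.Agent.Lib.Helper7.FittSheaf2
import Groth.Agent.Lib.Helper7.FittSheaf3
import Groth.Agent.Lib.Helper7.FittPullback

/-!
# The rank-`r` stratum of a coherent module via Fitting ideals (helper16)

* `fitt_ideal_mono`, `sheafIdeal_mono`: Fitting ideals increase with the index.
* `exists_lift_subscheme_iff`: `g` factors through `V(I)` iff `I.comap g = ⊥`.
* `exists_lift_open_iff`: `g` factors through the open complement of `V(J)` iff `J.comap g = ⊤`.
-/

set_option autoImplicit false
universe u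
open CategoryTheory CategoryTheory.Limits AlgebraicGeometry TopologicalSpace Opposite

namespace Groth.Agent.Lib.helper16.FlatStrat

open Groth.Agent.Lib.helper7.FittSheaf

theorem fitt_ideal_mono (R : Type u) [CommRing R] (M : Type u) [AddCommGroup M] [Module R M]
    {r r' : ℕ} (h : r ≤ r') : Fitt.ideal R M r ≤ Fitt.ideal R M r' := by
  apply Ideal.span_mono
  rintro d ⟨n, x, a, hx, hrel, rfl⟩
  exact ⟨n, x, a, hx, fun i hi => hrel i (by omega), rfl⟩

variable {S : Scheme.{u}}

theorem sheafIdeal_mono (F : S.Modules) [F.IsQuasicoherent]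
    (hft : SheafOfModules.IsFiniteType (R := S.ringCatSheaf) F) {r r' : ℕ} (h : r ≤ r') :
    Fitt.sheafIdeal F r ≤ Fitt.sheafIdeal F r' := by
  rw [Scheme.IdealSheafData.le_def]
  intro U
  rw [sheafIdeal_ideal F hft, sheafIdeal_ideal F hft]
  exact fitt_ideal_mono _ _ h

/-- `g` factors through the closed subscheme `V(I)` iff `I.comap g = ⊥` -/
theorem exists_lift_subscheme_iff (I : S.IdealSheafData) {T : Scheme.{u}} (g : T ⟶ S) :
    (∃ g' : T ⟶ I.subscheme, g' ≫ I.subschemeι = g) ↔ I.comap g = ⊥ := by
  constructor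
  · rintro ⟨g', rfl⟩
    rw [Scheme.IdealSheafData.comap_comp]
    have h1 : I.comap I.subschemeι = ⊥ := by
      rw [eq_bot_iff, ← Scheme.IdealSheafData.le_map_iff_comap_le, Scheme.IdealSheafData.map_bot,
        Scheme.IdealSheafData.ker_subschemeι]
    rw [h1, Scheme.IdealSheafData.comap_bot]
  · intro h
    have h1 : I ≤ g.ker := by
      rw [← Scheme.IdealSheafData.map_bot, Scheme.IdealSheafData.le_map_iff_comap_le, h]
    refine ⟨g.toImage ≫ Scheme.IdealSheafData.inclusion h1, ?_⟩
    rw [Category.assoc, Scheme.IdealSheafData.inclusion_subschemeι, Scheme.Hom.toImage_imageι]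

/-- `g` factors through the open complement of `V(J)` iff `J.comap g = ⊤` -/
theorem exists_lift_open_iff (J : S.IdealSheafData) (U : S.Opens)
    (hU : (U : Set S) = (J.support : Set S)ᶜ) {T : Scheme.{u}} (g : T ⟶ S) :
    (∃ g' : T ⟶ (U : Scheme.{u}), g' ≫ U.ι = g) ↔ J.comap g = ⊤ := by
  rw [← Scheme.IdealSheafData.support_eq_bot_iff, Scheme.IdealSheafData.support_comap]
  constructor
  · rintro ⟨g', rfl⟩
    ext t
    simp only [Closeds.coe_preimage, Set.mem_preimage, SetLike.mem_coe, Closeds.coe_bot,
      Set.mem_empty_iff_false, iff_false]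
    intro ht
    have h1 : (g' ≫ U.ι) t ∈ (U : Set S) := by
      rw [Scheme.Hom.comp_apply]
      exact (g' t).2
    rw [hU] at h1
    exact h1 ht
  · intro h
    have hrange : Set.range g ⊆ Set.range U.ι := by
      rintro _ ⟨t, rfl⟩
      rw [Scheme.Opens.range_ι, hU]
      intro ht
      have : t ∈ ((J.support.preimage g.continuous : Closeds T) : Set T) := ht
      rw [h] at this
      exact this
    exact ⟨IsOpenImmersion.lift U.ι g hrange, IsOpenImmersion.lift_fac _ _ _⟩

end Groth.Agent.Lib.helper16.FlatStrat
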