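import Mathlib
import Groth.Prelude.Def_FlatMod2
import Groth.Prelude.Def_Coh
import Groth.Agent.Lib.Helper16.FlatStrat1

/-!
# The rank-`r` stratum of a coherent module via Fitting ideals, II (helper16)

`main`: for a coherent module `M` on `S` and `r : ℕ` the immersion
`V(Fit_{r-1} M) ∖ V(Fit_r M) ⟶ S` is universal for "`g^* M` is locally free of rank `r`"; it is a
closed immersion when `M` is locally generated by `r` sections.
-/

set_option autoImplicit false
universe u
open CategoryTheory CategoryTheory.Limits AlgebraicGeometry TopologicalSpace Opposite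

namespace Groth.Agent.Lib.helper16.FlatStrat

open Groth.Agent.Lib.helper7.FittSheaf Groth.Agent.Lib.helper16.QCohPullback

theorem isIso_ι_of_eq_top {S : Scheme.{u}} (U : S.Opens) (h : U = ⊤) : IsIso U.ι := by
  subst h
  exact ⟨S.topIso.inv, S.ι_toIso_inv, S.toIso_inv_ι⟩

theorem main (S : Scheme.{u}) (M : S.Modules) (hM : Coh.IsCoh M) (r : ℕ) :
    ∃ (Z : Scheme.{u}) (e : Z ⟶ S), IsImmersion e ∧
      (∀ (T : Scheme.{u}) (g : T ⟶ S),
        FlatMod.IsFinLocFreeOfRank r ((Scheme.Modules.pullback g).obj M) ↔
          ∃ g' : T ⟶ Z, g' ≫ e = g) ∧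
      ((∀ s : ↥S, ∃ U : S.Opens, s ∈ U ∧
          ∃ p : FlatMod.freeMod (↑U) r ⟶ M.restrict U.ι, Epi p) →
        IsClosedImmersion e) := by
  haveI : M.IsQuasicoherent := hM.1
  have hft := hM.2
  let I : S.IdealSheafData := if r = 0 then ⊥ else Fitt.sheafIdeal M (r - 1)
  let J : S.IdealSheafData := Fitt.sheafIdeal M r
  let U : S.Opens := ⟨(J.support : Set S)ᶜ, J.support.isClosed.isOpen_compl⟩
  refine ⟨pullback I.subschemeι U.ι, pullback.fst _ _ ≫ I.subschemeι, inferInstance, ?_, ?_⟩
  · intro T g
    haveI : ((Scheme.Modules.pullback g).obj M).IsQuasicoherent := isQuasicoherent_pullback g M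
    have hft' := isFiniteType_pullback g M hft
    rw [isFinLocFreeOfRank_iff_fitt _ hft' r]
    have key : ((∀ k : ℕ, k < r → Fitt.sheafIdeal ((Scheme.Modules.pullback g).obj M) k = ⊥) ∧
        (∀ k : ℕ, r ≤ k → Fitt.sheafIdeal ((Scheme.Modules.pullback g).obj M) k = ⊤)) ↔
        (I.comap g = ⊥ ∧ J.comap g = ⊤) := by
      constructor
      · rintro ⟨h1, h2⟩
        refine ⟨?_, ?_⟩
        · by_cases hr : r = 0
          · simp only [I, hr, if_true]
            exact Scheme.IdealSheafData.comap_bot g
          · simp only [I, hr, if_false]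
            rw [sheafIdeal_comap g M hft (r - 1)]
            exact h1 (r - 1) (by omega)
        · change (Fitt.sheafIdeal M r).comap g = ⊤
          rw [sheafIdeal_comap g M hft r]
          exact h2 r le_rfl
      · rintro ⟨h1, h2⟩
        refine ⟨fun k hk => ?_, fun k hk => ?_⟩
        · have hr : r ≠ 0 := by omega
          simp only [I, hr, if_false] at h1
          rw [eq_bot_iff, ← h1, ← sheafIdeal_comap g M hft k]
          exact Scheme.IdealSheafData.comap_mono g (sheafIdeal_mono M hft (by omega))
        · rw [eq_top_iff, ← h2, ← sheafIdeal_comap g M hft k]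
          exact Scheme.IdealSheafData.comap_mono g (sheafIdeal_mono M hft hk)
    rw [key, ← exists_lift_subscheme_iff, ← exists_lift_open_iff J U rfl]
    constructor
    · rintro ⟨⟨a, ha⟩, ⟨b, hb⟩⟩
      exact ⟨pullback.lift a b (ha.trans hb.symm),
        by rw [← Category.assoc, pullback.lift_fst, ha]⟩
    · rintro ⟨g', rfl⟩
      exact ⟨⟨g' ≫ pullback.fst _ _, by rw [Category.assoc]⟩,
        ⟨g' ≫ pullback.snd _ _, by rw [Category.assoc, ← pullback.condition]⟩⟩
  · intro h
    have hJ : J.support = ⊥ := by
      ext s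
      simp only [Closeds.coe_bot, Set.mem_empty_iff_false, iff_false]
      exact (exists_epi_freeMod_iff M hft s r).mp (h s)
    have hU : U = ⊤ := by
      ext s
      simp only [U, Opens.coe_mk, Set.mem_compl_iff, SetLike.mem_coe, Opens.coe_top, Set.mem_univ,
        iff_true]
      rw [hJ]
      exact fun h => h
    haveI : IsIso U.ι := isIso_ι_of_eq_top U hU
    infer_instance

end Groth.Agent.Lib.helper16.FlatStrat
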