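import Mathlib

/-!
# Generators of a module from generators on a cover (helper16), algebra part

* `exists_lift_generators`: if `M_a` is generated by `n` elements then there are `n` elements of `M`
  generating `M` up to powers of `a`.
* `exists_basicOpen_cover`: an open cover `U i` of `Spec R` (finite index) can be refined by
  basic opens `D(a i) ⊆ U i` with `(a i) = 1`.
-/

set_option autoImplicit false
universe u
open Submodule

namespace Groth.Agent.Lib.helper16.GenCover

theorem exists_lift_generators {R : Type*} [CommRing R] (a : R) (R' : Type*) [CommRing R']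
    [Algebra R R'] [IsLocalization.Away a R'] {M M' : Type*} [AddCommGroup M] [Module R M]
    [AddCommGroup M'] [Module R M'] [Module R' M'] [IsScalarTower R R' M'] (f : M →ₗ[R] M')
    [IsLocalizedModule (Submonoid.powers a) f] {n : ℕ} (t : Fin n → M')
    (ht : span R' (Set.range t) = ⊤) :
    ∃ m : Fin n → M, ∀ x : M, ∃ N : ℕ, a ^ N • x ∈ span R (Set.range m) := by
  choose ms hms using fun j => IsLocalizedModule.surj (Submonoid.powers a) f (t j)
  refine ⟨fun j => (ms j).1, fun x => ?_⟩
  have h1 : span R' (f '' Set.range fun j => (ms j).1) = ⊤ := by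
    rw [eq_top_iff, ← ht, span_le]
    rintro _ ⟨j, rfl⟩
    have hu : IsUnit (algebraMap R R' ((ms j).2 : R)) :=
      IsLocalization.map_units R' (ms j).2
    obtain ⟨u, hu'⟩ := hu
    have h2 : t j = (↑u⁻¹ : R') • f (ms j).1 := by
      rw [← hms j, Submonoid.smul_def, ← algebraMap_smul R' ((ms j).2 : R) (t j), ← hu', smul_smul,
        Units.inv_mul, one_smul]
    rw [SetLike.mem_coe, h2]
    exact smul_mem _ _ (subset_span ⟨_, ⟨j, rfl⟩, rfl⟩)
  have h3 : f x ∈ (span R (Set.range fun j => (ms j).1)).localized' R' (Submonoid.powers a) f := by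
    rw [localized'_span, h1]; trivial
  obtain ⟨y, hy, s, hys⟩ := (mem_localized' R' (Submonoid.powers a) f _ _).mp h3
  have h4 : f y = f ((s : R) • x) := by
    rw [map_smul, ← hys, ← Submonoid.smul_def, IsLocalizedModule.mk'_cancel']
  obtain ⟨c, hc⟩ := IsLocalizedModule.exists_of_eq (S := Submonoid.powers a) h4
  obtain ⟨k, hk⟩ := c.2
  obtain ⟨l, hl⟩ := s.2
  refine ⟨k + l, ?_⟩
  have h5 : a ^ (k + l) • x = (c : R) • y := by
    have hk' : a ^ k = (c : R) := hk
    have hl' : a ^ l = (s : R) := hl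
    rw [pow_add, hk', hl', mul_smul]
    exact hc.symm
  rw [h5]
  exact smul_mem _ _ hy

theorem exists_basicOpen_cover {R : Type*} [CommRing R] {ι : Type*} [Fintype ι]
    (U : ι → TopologicalSpace.Opens (PrimeSpectrum R)) (hU : ⨆ i, U i = ⊤) :
    ∃ a : ι → R, (∀ i, PrimeSpectrum.basicOpen (a i) ≤ U i) ∧
      Ideal.span (Set.range a) = ⊤ := by
  classical
  set I : ι → Ideal R := fun i => PrimeSpectrum.vanishingIdeal ((U i : Set (PrimeSpectrum R))ᶜ)
    with hI
  have hz : ∀ i, PrimeSpectrum.zeroLocus (I i : Set R) = (U i : Set (PrimeSpectrum R))ᶜ := by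
    intro i
    rw [hI, PrimeSpectrum.zeroLocus_vanishingIdeal_eq_closure]
    exact (U i).isOpen.isClosed_compl.closure_eq
  have htop : ⨆ i, I i = ⊤ := by
    rw [← PrimeSpectrum.zeroLocus_empty_iff_eq_top, PrimeSpectrum.zeroLocus_iSup]
    simp_rw [hz]
    rw [← Set.compl_iUnion, Set.compl_empty_iff]
    have := congrArg (fun V : TopologicalSpace.Opens (PrimeSpectrum R) =>
      (V : Set (PrimeSpectrum R))) hU
    simpa using this
  have h1 : (1 : R) ∈ ⨆ i, I i := by rw [htop]; trivial
  rw [Submodule.mem_iSup_iff_exists_dfinsupp] at h1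
  obtain ⟨f, hf⟩ := h1
  refine ⟨fun i => (f i : R), fun i => ?_, ?_⟩
  · intro p hp
    by_contra hpU
    have : (f i : R) ∈ PrimeSpectrum.vanishingIdeal ((U i : Set (PrimeSpectrum R))ᶜ) := (f i).2
    rw [PrimeSpectrum.mem_vanishingIdeal] at this
    exact hp (this p hpU)
  · rw [Ideal.eq_top_iff_one, ← hf, DFinsupp.lsum_apply_apply, DFinsupp.sumAddHom_apply]
    refine Ideal.sum_mem _ fun i _ => ?_
    exact Ideal.subset_span ⟨i, rfl⟩

end Groth.Agent.Lib.helper16.GenCover
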