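import Groth.Agent.Lib.Helper16.GenCover1
import Groth.Agent.Lib.Helper16.FLF4
import Groth.Agent.Lib.Helper16.QCohEpi

/-!
# Generators of a module from generators on a cover (helper16), geometric part

* `exists_generators_of_epi`: an epimorphism `𝒪^n ⟶ G` onto a quasi-coherent module gives `n`
  generators of `Γ(G, W)` over each affine open `W`.
* `exists_generators_tilde_basicOpen`: if `M~|_U` is a quotient of `𝒪_U^n` and `D(a) ⊆ U` then
  `Γ(M~, D(a))` is generated by `n` elements.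
* `exists_generators_of_cover`: `M` is generated by `n * m` elements if `Spec R` has an open cover
  by `m` opens over which `M~` is a quotient of `𝒪^n`.
-/

set_option autoImplicit false
universe u
open CategoryTheory CategoryTheory.Limits AlgebraicGeometry TopologicalSpace Opposite

namespace Groth.Agent.Lib.helper16.GenCover

open Scheme.Modules Groth.Agent.Lib.helper16.FLF Groth.Agent.Lib.helper16.QCohEpi

theorem exists_generators_of_epi {X : Scheme.{u}} {G : X.Modules} [G.IsQuasicoherent] {n : ℕ}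
    (φ : FlatMod.freeMod X n ⟶ G) [Epi φ] {W : X.Opens} (hW : IsAffineOpen W) :
    ∃ t : Fin n → Γ(G, W), Submodule.span Γ(X, W) (Set.range t) = ⊤ := by
  haveI : (FlatMod.freeMod X n).IsQuasicoherent :=
    isQuasicoherent_of_isFinLocFree _ (isFinLocFree_freeMod X n)
  obtain ⟨e⟩ := sections_of_restrict_iso_freeMod (FlatMod.freeMod X n) hW n
    (restrictFreeModIso W.ι n)
  let g : (Fin n → Γ(X, W)) →ₗ[Γ(X, W)] Γ(G, W) := (sectionsLin φ W).comp e.symm.toLinearMap
  have hg : Function.Surjective g := (surjective_app_of_epi φ hW).comp e.symm.surjective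
  refine ⟨fun j => g (Pi.single j 1), ?_⟩
  have h1 : Set.range (fun j => g (Pi.single j 1)) =
      g '' Set.range (fun j : Fin n => (Pi.single j 1 : Fin n → Γ(X, W))) := by
    rw [← Set.range_comp]; rfl
  rw [h1, ← Submodule.map_span]
  have h2 : Submodule.span Γ(X, W)
      (Set.range (fun j : Fin n => (Pi.single j 1 : Fin n → Γ(X, W)))) = ⊤ := by
    have := (Pi.basisFun Γ(X, W) (Fin n)).span_eq
    rwa [show ⇑(Pi.basisFun Γ(X, W) (Fin n)) =
      fun j : Fin n => (Pi.single j 1 : Fin n → Γ(X, W)) from by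
        ext j; simp] at this
  rw [h2, Submodule.map_top, LinearMap.range_eq_top]
  exact hg

theorem exists_generators_restrict {X : Scheme.{u}} (F : X.Modules) [F.IsQuasicoherent]
    (U : X.Opens) {n : ℕ} (φ : FlatMod.freeMod (↑U) n ⟶ F.restrict U.ι) [Epi φ]
    (V : X.Opens) (hV : IsAffineOpen V) (hVU : V ≤ U) :
    ∃ t : Fin n → Γ(F, V), Submodule.span Γ(X, V) (Set.range t) = ⊤ := by
  have hW : IsAffineOpen (U.ι ⁻¹ᵁ V) :=
    hV.preimage_of_isOpenImmersion U.ι (by rwa [Scheme.Opens.opensRange_ι])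
  have him : U.ι ''ᵁ (U.ι ⁻¹ᵁ V) = V := by
    rw [Scheme.Hom.image_preimage_eq_opensRange_inf, Scheme.Opens.opensRange_ι]
    exact inf_eq_right.mpr hVU
  have key : ∀ (V' : X.Opens) (h : V' = V) (t : Fin n → Γ(F, V'))
      (ht : Submodule.span Γ(X, V') (Set.range t) = ⊤),
      ∃ t : Fin n → Γ(F, V), Submodule.span Γ(X, V) (Set.range t) = ⊤ := by
    intro V' h t ht
    subst h
    exact ⟨t, ht⟩
  obtain ⟨t, ht⟩ := exists_generators_of_epi φ hW
  let t' : Fin n → Γ(F, U.ι ''ᵁ (U.ι ⁻¹ᵁ V)) := t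
  refine key _ him t' ?_
  rw [eq_top_iff]
  have hall : ∀ x : Γ(F.restrict U.ι, U.ι ⁻¹ᵁ V),
      x ∈ Submodule.span Γ(↑U, U.ι ⁻¹ᵁ V) (Set.range t) →
      (x : Γ(F, U.ι ''ᵁ (U.ι ⁻¹ᵁ V))) ∈
        Submodule.span Γ(X, U.ι ''ᵁ (U.ι ⁻¹ᵁ V)) (Set.range t') := by
    intro x hx
    induction hx using Submodule.span_induction with
    | mem y hy => exact Submodule.subset_span hy
    | zero => exact Submodule.zero_mem _
    | add y z _ _ hy hz => exact Submodule.add_mem _ hy hz
    | smul r y _ hy =>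
      have : (r • y : Γ(F.restrict U.ι, U.ι ⁻¹ᵁ V)) =
        (((U.ι.appIso (U.ι ⁻¹ᵁ V)).inv r : Γ(X, U.ι ''ᵁ (U.ι ⁻¹ᵁ V))) •
        (show Γ(F, U.ι ''ᵁ (U.ι ⁻¹ᵁ V)) from y)) := rfl
      rw [this]
      exact Submodule.smul_mem _ _ hy
  intro x _
  exact hall x (by rw [ht]; trivial)

theorem exists_generators_of_cover (R : CommRingCat.{u}) (M : ModuleCat.{u} R) (n m : ℕ)
    (U : Fin m → (Spec R).Opens) (hU : ⨆ i, U i = ⊤)
    (hgen : ∀ i, ∃ φ : FlatMod.freeMod (↑(U i)) n ⟶ (tilde M).restrict (U i).ι, Epi φ) :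
    ∃ s : Fin (n * m) → M, Submodule.span R (Set.range s) = ⊤ := by
  obtain ⟨a, haU, ha⟩ := exists_basicOpen_cover (R := R) U hU
  have h1 : ∀ i, ∃ mi : Fin n → M, ∀ x : M, ∃ N : ℕ,
      a i ^ N • x ∈ Submodule.span R (Set.range mi) := by
    intro i
    obtain ⟨φ, hφ⟩ := hgen i
    obtain ⟨t, ht⟩ := exists_generators_restrict (tilde M) (U i) φ
      (PrimeSpectrum.basicOpen (a i)) (IsAffineOpen.Spec_basicOpen (a i)) (haU i)
    let f : M →ₗ[R] Γ(tilde M, PrimeSpectrum.basicOpen (a i)) :=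
      (tilde.toOpen M (PrimeSpectrum.basicOpen (a i))).hom
    haveI : IsLocalizedModule (Submonoid.powers (a i)) f :=
      inferInstanceAs (IsLocalizedModule.Away (a i)
        (tilde.toOpen M (PrimeSpectrum.basicOpen (a i))).hom)
    exact exists_lift_generators (a i) Γ(Spec R, PrimeSpectrum.basicOpen (a i))
      (M' := Γ(tilde M, PrimeSpectrum.basicOpen (a i))) f t ht
  choose ms hms using h1
  refine ⟨fun k => ms (finProdFinEquiv.symm k).2 (finProdFinEquiv.symm k).1, ?_⟩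
  rw [eq_top_iff]
  intro x _
  apply Submodule.mem_of_span_eq_top_of_smul_pow_mem _ (Set.range a) ha
  rintro ⟨_, i, rfl⟩
  obtain ⟨N, hN⟩ := hms i x
  refine ⟨N, Submodule.span_mono ?_ hN⟩
  rintro _ ⟨j, rfl⟩
  exact ⟨finProdFinEquiv (j, i), by simp⟩

end Groth.Agent.Lib.helper16.GenCover
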