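import Mathlib
import Groth.Agent.S1536
import Groth.Agent.S7639
import Groth.Agent.Lib.Helper13.Normal11
import Groth.Agent.Lib.Helper16.IdemAlg

/-!
# Geometric connectedness of a qcqs scheme over a field via global sections (helper16)
-/

universe u

namespace Groth.Agent.Lib.helper16.GeomConn

open AlgebraicGeometry CategoryTheory Limits TensorProduct
open Groth.Agent.S1536 (glob isPushout_glob)

theorem connectedSpace_iff (Y : Scheme.{u}) :
    ConnectedSpace Y ↔
      Nontrivial Γ(Y, ⊤) ∧ ∀ e : Γ(Y, ⊤), IsIdempotentElem e → e = 0 ∨ e = 1 := by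
  constructor
  · intro h
    refine ⟨?_, fun e he => ?_⟩
    · haveI : Nonempty (⊤ : Y.Opens) := by
        obtain ⟨y⟩ := (inferInstance : Nonempty ↥Y)
        exact ⟨⟨y, trivial⟩⟩
      exact Scheme.component_nontrivial _ ⊤
    · exact Groth.Agent.Lib.helper13.Normal.idempotent_eq_zero_or_one_of_isPreconnected
        (⊤ : Y.Opens) (by simpa using isPreconnected_univ) e he
  · rintro ⟨h1, h2⟩
    exact Groth.Agent.Lib.helper13.Normal.connectedSpace_of_idempotents Y h2

section
variable (k : Type u) [Field k] (K : Type u) [Field K] [Algebra k K]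
  (X : Scheme.{u}) (iX : X ⟶ Spec (CommRingCat.of k)) [QuasiCompact iX] [QuasiSeparated iX]

/-- flat base change of global sections, ring isomorphism version -/
theorem exists_ringEquiv :
    letI : Algebra k Γ(X, ⊤) := (glob iX).hom.toAlgebra
    Nonempty (K ⊗[k] Γ(X, ⊤) ≃+*
      Γ(pullback iX (Spec.map (CommRingCat.ofHom (algebraMap k K))), ⊤)) := by
  have hpo := isPushout_glob k K X iX
  letI : Algebra k Γ(X, ⊤) := (glob iX).hom.toAlgebra
  letI : Algebra K Γ(pullback iX (Spec.map (CommRingCat.ofHom (algebraMap k K))), ⊤) :=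
      (glob (pullback.snd iX (Spec.map (CommRingCat.ofHom (algebraMap k K))))).hom.toAlgebra
  letI : Algebra Γ(X, ⊤) Γ(pullback iX (Spec.map (CommRingCat.ofHom (algebraMap k K))), ⊤) :=
    (pullback.fst iX (Spec.map (CommRingCat.ofHom (algebraMap k K)))).appTop.hom.toAlgebra
  letI : Algebra k Γ(pullback iX (Spec.map (CommRingCat.ofHom (algebraMap k K))), ⊤) :=
    ((algebraMap K Γ(pullback iX (Spec.map (CommRingCat.ofHom (algebraMap k K))), ⊤)).comp
      (algebraMap k K)).toAlgebra
  haveI : IsScalarTower k K Γ(pullback iX (Spec.map (CommRingCat.ofHom (algebraMap k K))), ⊤) :=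
    IsScalarTower.of_algebraMap_eq (fun _ => rfl)
  haveI : IsScalarTower k Γ(X, ⊤)
      Γ(pullback iX (Spec.map (CommRingCat.ofHom (algebraMap k K))), ⊤) :=
    IsScalarTower.of_algebraMap_eq (fun x => by
      have := congrArg (fun φ => φ.hom x) hpo.w
      exact this.symm)
  have hP : Algebra.IsPushout k Γ(X, ⊤) K
      Γ(pullback iX (Spec.map (CommRingCat.ofHom (algebraMap k K))), ⊤) :=
    CommRingCat.isPushout_iff_isPushout.mp hpo
  haveI := hP.symm
  exact ⟨(Algebra.IsPushout.equiv k K Γ(X, ⊤)
    Γ(pullback iX (Spec.map (CommRingCat.ofHom (algebraMap k K))), ⊤)).toRingEquiv⟩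

end

theorem idem_transfer {A B : Type*} [CommRing A] [CommRing B] (φ : A ≃+* B) :
    (Nontrivial A ∧ ∀ e : A, IsIdempotentElem e → e = 0 ∨ e = 1) ↔
      (Nontrivial B ∧ ∀ e : B, IsIdempotentElem e → e = 0 ∨ e = 1) := by
  constructor
  · rintro ⟨h1, h2⟩
    refine ⟨φ.injective.nontrivial, fun e he => ?_⟩
    have he' : IsIdempotentElem (φ.symm e) := by
      show _ * _ = _
      rw [← map_mul, he.eq]
    rcases h2 _ he' with h | h
    · left; simpa using congrArg φ h
    · right; simpa using congrArg φ h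
  · rintro ⟨h1, h2⟩
    refine ⟨φ.symm.injective.nontrivial, fun e he => ?_⟩
    have he' : IsIdempotentElem (φ e) := by
      show _ * _ = _
      rw [← map_mul, he.eq]
    rcases h2 _ he' with h | h
    · left; simpa using congrArg φ.symm h
    · right; simpa using congrArg φ.symm h

theorem geometricallyConnected_iff (k : Type u) [Field k] (X : Scheme.{u})
    (iX : X ⟶ Spec (CommRingCat.of k)) [QuasiCompact iX] [QuasiSeparated iX] :
    letI : Algebra k Γ(X, ⊤) := (glob iX).hom.toAlgebra
    GeometricallyConnected iX ↔ ∀ (K : Type u) [Field K] [Algebra k K],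
      Nontrivial (K ⊗[k] Γ(X, ⊤)) ∧ ∀ e : K ⊗[k] Γ(X, ⊤), IsIdempotentElem e → e = 0 ∨ e = 1 := by
  letI : Algebra k Γ(X, ⊤) := (glob iX).hom.toAlgebra
  rw [AlgebraicGeometry.geometricallyConnected_iff, geometrically_iff_of_commRing_of_isClosedUnderIsomorphisms]
  refine forall_congr' (fun K => forall_congr' (fun _ => forall_congr' (fun _ => ?_)))
  obtain ⟨φ⟩ := exists_ringEquiv k K X iX
  rw [idem_transfer φ]
  exact connectedSpace_iff _

end Groth.Agent.Lib.helper16.GeomConn
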