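import Groth.Agent.Lib.Helper16.CycFlat4
import Groth.Agent.Lib.Helper16.CycClosed3
import Groth.Agent.Lib.Helper3.FibreField
import Groth.Agent.Lib.Helper16.FinDeg1
import Mathlib.RingTheory.Flat.Equalizer
import Mathlib.LinearAlgebra.TensorProduct.Quotient

/-!
# Relative effective Cartier divisors: algebra (helper16)

* `deltaCompat_closedImmersion_comp`: `DeltaCompat` for `i ≫ p`, `i` a closed immersion.
* `mk_mem_nonZeroDivisors_of_flat`: if `B/(f)` is flat over `A` and `f` is a nonzerodivisor of `B`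
  then `f` is a nonzerodivisor of `B/IB` for every ideal `I` of `A`.
* `quotMapEquiv`: `C/JC ≃ (B/J)/(f)` for `B → C` surjective with kernel `(f)`.
-/

set_option autoImplicit false
universe u
open CategoryTheory CategoryTheory.Limits AlgebraicGeometry TopologicalSpace Opposite IsLocalRing
open scoped TensorProduct

namespace Groth.Agent.Lib.helper16.GysinFlat

open Groth.Agent.Lib.helper3.DimIneq Groth.Agent.Lib.helper3.FibreField

theorem deltaCompat_closedImmersion_comp {D X Y : Scheme.{u}} (i : D ⟶ X) [IsClosedImmersion i]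
    (p : X ⟶ Y) (δX : X → ℤ) (δY : Y → ℤ) (hδ : Cyc.DeltaCompat p δX δY) :
    Cyc.DeltaCompat (i ≫ p) (fun d => δX (i d)) δY := by
  intro d
  obtain ⟨n, hn, hx⟩ := hδ (i d)
  refine ⟨n, ?_, hx⟩
  have hn' : td (p.residueFieldMap (i d)).hom = (n : Cardinal.{u}) := hn
  show td ((i ≫ p).residueFieldMap d).hom = (n : Cardinal.{u})
  rw [← hn', Scheme.residueFieldMap_comp]
  exact td_comp_right (p.residueFieldMap (i d)).hom (i.residueFieldMap d).hom
    (residueFieldMap_surjective i d)

section alg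

variable {A B C : Type u} [CommRing A] [CommRing B] [CommRing C] [Algebra A B] [Algebra A C]

theorem mk_mem_nonZeroDivisors_of_flat (ψ : B →ₐ[A] C) (hψ : Function.Surjective ψ) (f : B)
    (hker : RingHom.ker ψ.toRingHom = Ideal.span {f}) (hf : f ∈ nonZeroDivisors B)
    [Module.Flat A C] (I : Ideal A) :
    Ideal.Quotient.mk (I.map (algebraMap A B)) f ∈
      nonZeroDivisors (B ⧸ I.map (algebraMap A B)) := by
  let g : B →ₗ[A] B := LinearMap.mulLeft A f
  have hg : Function.Injective g := by
    intro a b hab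
    have h1 : f * a = f * b := hab
    have h2 : (a - b) * f = 0 := by rw [sub_mul, mul_comm a, mul_comm b, h1, sub_self]
    have h3 := (mem_nonZeroDivisors_iff_right.1 hf) _ h2
    exact sub_eq_zero.1 h3
  have H : Function.Exact g ψ.toLinearMap := by
    intro b
    constructor
    · intro hb
      have hb' : b ∈ RingHom.ker ψ.toRingHom := hb
      rw [hker, Ideal.mem_span_singleton'] at hb'
      obtain ⟨c, hc⟩ := hb'
      exact ⟨c, by rw [← hc, mul_comm]; rfl⟩
    · rintro ⟨c, rfl⟩
      have : f ∈ RingHom.ker ψ.toRingHom := by rw [hker]; exact Ideal.mem_span_singleton_self f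
      show ψ (f * c) = 0
      rw [map_mul, show ψ f = 0 from this, zero_mul]
  have hinj := LinearMap.lTensor_injective_of_exact_of_flat ψ.toLinearMap hψ g hg H (A ⧸ I)
  let e := TensorProduct.quotTensorEquivQuotSMul B I
  have hmem : ∀ b : B, b ∈ I.map (algebraMap A B) ↔ ((1 : A ⧸ I) ⊗ₜ[A] b) = 0 := by
    intro b
    rw [← e.map_eq_zero_iff, TensorProduct.quotTensorEquivQuotSMul_mk_one_tmul,
      Submodule.Quotient.mk_eq_zero, Ideal.smul_top_eq_map]
    rfl
  rw [mem_nonZeroDivisors_iff_right]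
  intro z hz
  obtain ⟨b, rfl⟩ := Ideal.Quotient.mk_surjective z
  rw [← map_mul, Ideal.Quotient.eq_zero_iff_mem, hmem] at hz
  rw [Ideal.Quotient.eq_zero_iff_mem, hmem]
  apply hinj
  rw [map_zero, LinearMap.lTensor_tmul]
  show (1 : A ⧸ I) ⊗ₜ[A] (f * b) = 0
  rw [mul_comm]
  exact hz

end alg

section quot

variable {B C : Type u} [CommRing B] [CommRing C]

theorem comap_map_eq_sup (ψ : B →+* C) (hψ : Function.Surjective ψ) (f : B)
    (hker : RingHom.ker ψ = Ideal.span {f}) (J : Ideal B) :
    (J.map ψ).comap ψ = J ⊔ Ideal.span {f} := by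
  rw [Ideal.comap_map_of_surjective ψ hψ, ← hker]
  rfl

/-- `C/JC ≃ (B/J)/(f)` for `ψ : B → C` surjective with kernel `(f)`. -/
noncomputable def quotMapEquiv (ψ : B →+* C) (hψ : Function.Surjective ψ) (f : B)
    (hker : RingHom.ker ψ = Ideal.span {f}) (J : Ideal B) :
    (C ⧸ J.map ψ) ≃+* ((B ⧸ J) ⧸ Ideal.span {Ideal.Quotient.mk J f}) := by
  have h1 : RingHom.ker ((Ideal.Quotient.mk (J.map ψ)).comp ψ) = J ⊔ Ideal.span {f} := by
    rw [← RingHom.comap_ker, Ideal.mk_ker]
    exact comap_map_eq_sup ψ hψ f hker J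
  have h2 : RingHom.ker ((Ideal.Quotient.mk (Ideal.span {Ideal.Quotient.mk J f})).comp
      (Ideal.Quotient.mk J)) = J ⊔ Ideal.span {f} := by
    rw [← RingHom.comap_ker, Ideal.mk_ker, ← Set.image_singleton, ← Ideal.map_span,
      Ideal.comap_map_of_surjective _ Ideal.Quotient.mk_surjective, ← RingHom.ker_eq_comap_bot,
      Ideal.mk_ker, sup_comm]
  exact ((RingHom.quotientKerEquivOfSurjective
      (f := (Ideal.Quotient.mk (J.map ψ)).comp ψ)
      (Ideal.Quotient.mk_surjective.comp hψ)).symm.trans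
    (Ideal.quotEquivOfEq (h1.trans h2.symm))).trans
    (RingHom.quotientKerEquivOfSurjective
      (f := (Ideal.Quotient.mk (Ideal.span {Ideal.Quotient.mk J f})).comp (Ideal.Quotient.mk J))
      (Ideal.Quotient.mk_surjective.comp Ideal.Quotient.mk_surjective))

theorem length_quot_map_eq (ψ : B →+* C) (hψ : Function.Surjective ψ) (f : B)
    (hker : RingHom.ker ψ = Ideal.span {f}) (J : Ideal B) :
    Module.length C (C ⧸ J.map ψ) =
      Module.length (B ⧸ J) ((B ⧸ J) ⧸ Ideal.span {Ideal.Quotient.mk J f}) := by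
  rw [Groth.Agent.Lib.helper16.FinDeg.length_quotient_self,
    Groth.Agent.Lib.helper16.FinDeg.length_quotient_self]
  exact Groth.Agent.Lib.helper16.FinDeg.length_self_ringEquiv (quotMapEquiv ψ hψ f hker J)

end quot

end Groth.Agent.Lib.helper16.GysinFlat
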