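import Groth.Agent.Lib.Helper16.SecOrd2
import Groth.Agent.Lib.Helper16.CycOpen1

/-!
# The divisor of a regular global section of an invertible module (helper16)

On an integral locally Noetherian scheme with dimension function:
* `ker_specMap_genericPoint`: `O_{X,x} → κ(η)` is injective.
* `ordAt_specMap_genericPoint`: at a point `x` of codimension one, the order of (the image of)
  `f ∈ O_{X,x}`, `f ≠ 0`, is the length of `O_{X,x}/(f)`.
* `secDivFun_eq_zeroSectionFun`: `div_L(s) = [Z(s)]_{n-1}`.
-/

set_option autoImplicit false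
universe u
open CategoryTheory CategoryTheory.Limits AlgebraicGeometry TopologicalSpace Opposite

namespace Groth.Agent.Lib.helper16.SecOrd

open Groth.Agent.Lib.helper16.CycOpen

variable {X : Scheme.{u}} [IsIntegral X]

theorem maximalIdeal_genericPoint :
    IsLocalRing.maximalIdeal (X.presheaf.stalk (genericPoint X)) = ⊥ :=
  IsLocalRing.isField_iff_maximalIdeal_eq.mp (Field.toIsField X.functionField)

theorem residue_genericPoint_injective :
    Function.Injective (X.residue (genericPoint X)).hom := by
  rw [injective_iff_map_eq_zero]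
  intro a ha
  have h1 : a ∈ IsLocalRing.maximalIdeal (X.presheaf.stalk (genericPoint X)) :=
    (IsLocalRing.residue_eq_zero_iff _).1 ha
  rwa [maximalIdeal_genericPoint, Ideal.mem_bot] at h1

theorem specMap_genericPoint_injective (x : X) (h : genericPoint X ⤳ x) :
    Function.Injective (Cyc.specMap x (genericPoint X) h) := by
  unfold Cyc.specMap
  intro a b hab
  exact stalkSpecializes_injective h (residue_genericPoint_injective hab)

theorem ker_specMap_genericPoint (x : X) (h : genericPoint X ⤳ x) :
    RingHom.ker (Cyc.specMap x (genericPoint X) h) = ⊥ :=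
  (RingHom.injective_iff_ker_eq_bot _).1 (specMap_genericPoint_injective x h)

/-- `O_{X,x} ≅ O_{X,x}/𝔭_η` -/
noncomputable def locQuotGenericEquiv (x : X) (h : genericPoint X ⤳ x) :
    X.presheaf.stalk x ≃+* Cyc.LocQuot x (genericPoint X) h :=
  RingEquiv.ofBijective (Ideal.Quotient.mk _) ⟨by
    rw [RingHom.injective_iff_ker_eq_bot, Ideal.mk_ker]
    exact ker_specMap_genericPoint x h, Ideal.Quotient.mk_surjective⟩

theorem isFractionRing_locQuot (x : X) (h : genericPoint X ⤳ x) :
    IsFractionRing (Cyc.LocQuot x (genericPoint X) h) (X.residueField (genericPoint X)) := by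
  have hinj : Function.Injective
      (algebraMap (Cyc.LocQuot x (genericPoint X) h) (X.residueField (genericPoint X))) := by
    intro a b hab
    obtain ⟨a, rfl⟩ := Ideal.Quotient.mk_surjective a
    obtain ⟨b, rfl⟩ := Ideal.Quotient.mk_surjective b
    have : Cyc.specMap x (genericPoint X) h a = Cyc.specMap x (genericPoint X) h b := hab
    rw [specMap_genericPoint_injective x h this]
  haveI : FaithfulSMul (Cyc.LocQuot x (genericPoint X) h) (X.residueField (genericPoint X)) :=
    (faithfulSMul_iff_algebraMap_injective _ _).2 hinj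
  refine IsFractionRing.of_field _ _ fun z => ?_
  obtain ⟨w, rfl⟩ := X.residue_surjective (genericPoint X) z
  obtain ⟨a, b, hb, hab⟩ := IsFractionRing.div_surjective (A := X.presheaf.stalk x)
    (K := X.functionField) w
  refine ⟨Ideal.Quotient.mk _ a, Ideal.Quotient.mk _ b, ?_⟩
  rw [← hab, map_div₀]
  rfl

theorem cond_locQuot [IsLocallyNoetherian X] (x : X) (h : genericPoint X ⤳ x)
    (hx : Order.coheight x ≤ 1) :
    IsNoetherianRing (Cyc.LocQuot x (genericPoint X) h) ∧
      Ring.KrullDimLE 1 (Cyc.LocQuot x (genericPoint X) h) ∧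
      Nontrivial (Cyc.LocQuot x (genericPoint X) h) ∧
      IsFractionRing (Cyc.LocQuot x (genericPoint X) h) (X.residueField (genericPoint X)) := by
  refine ⟨isNoetherianRing_of_ringEquiv _ (locQuotGenericEquiv x h), ?_,
    (locQuotGenericEquiv x h).injective.nontrivial, isFractionRing_locQuot x h⟩
  have h1 : Ring.KrullDimLE 1 (X.presheaf.stalk x) :=
    krullDimLE_of_coheight_le (n := 1) (by exact_mod_cast hx)
  rw [Ring.krullDimLE_iff] at h1 ⊢
  rwa [← ringKrullDim_eq_of_ringEquiv (locQuotGenericEquiv x h)]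

theorem ordAt_specMap_genericPoint [IsLocallyNoetherian X] (x : X) (h : genericPoint X ⤳ x)
    (hx : Order.coheight x ≤ 1) (f : X.presheaf.stalk x) (hf : f ≠ 0) :
    Cyc.ordAt x (genericPoint X) h (Cyc.specMap x (genericPoint X) h f) =
      ((Module.length (X.presheaf.stalk x) (X.presheaf.stalk x ⧸ Ideal.span {f})).toNat : ℤ) := by
  have hc := cond_locQuot x h hx
  unfold Cyc.ordAt CycAlg.ordFrac
  rw [dif_pos hc]
  haveI := hc.1; haveI := hc.2.1; haveI := hc.2.2.1; haveI := hc.2.2.2
  haveI : IsDomain (Cyc.LocQuot x (genericPoint X) h) :=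
    (IsFractionRing.injective _ (X.residueField (genericPoint X))).isDomain
  have hf' : (locQuotGenericEquiv x h f) ≠ 0 := by
    simpa using hf
  have e1 : Cyc.specMap x (genericPoint X) h f =
      algebraMap (Cyc.LocQuot x (genericPoint X) h) (X.residueField (genericPoint X))
        (locQuotGenericEquiv x h f) := rfl
  rw [e1, Ring.ordFrac_eq_ord _ hf',
    Ring.ordMonoidWithZeroHom_eq_ord (mem_nonZeroDivisors_iff_ne_zero.mpr hf'),
    ← ord_ringEquiv (locQuotGenericEquiv x h) f]
  have hfin : Ring.ord (Cyc.LocQuot x (genericPoint X) h) (locQuotGenericEquiv x h f) ≠ ⊤ :=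
    Ring.ord_ne_top (mem_nonZeroDivisors_iff_ne_zero.mpr hf')
  rw [← ord_ringEquiv (locQuotGenericEquiv x h) f] at hfin
  change _ = ((Ring.ord (X.presheaf.stalk x) f).toNat : ℤ)
  obtain ⟨n, hn⟩ := ENat.ne_top_iff_exists.mp hfin
  rw [← hn]
  simp

theorem coheight_le_one_of_isDimFun (δ : X → ℤ) (hδ : Cyc.IsDimFun X δ) (x : X)
    (hx : δ x + 1 = δ (genericPoint X)) : Order.coheight x ≤ 1 := by
  rw [show (1 : ℕ∞) = ((1 : ℕ) : ℕ∞) from rfl, Order.coheight_le_coe_iff]
  intro y hy
  have hyx : y ⤳ x := hy.le
  have hne : y ≠ x := fun h => by subst h; exact lt_irrefl _ hy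
  have h1 := (hδ y x hyx hne).1
  have hyη : y = genericPoint X := by
    by_contra hne'
    have h2 := (hδ (genericPoint X) y (genericPoint_specializes y) (Ne.symm hne')).1
    omega
  subst hyη
  have : Order.coheight (genericPoint X) = 0 := by
    rw [Order.coheight_eq_zero]
    exact isMax_top
  rw [this]
  exact zero_lt_one

theorem secDivFun_eq_zeroSectionFun (δ : X → ℤ) (hX : Cyc.IsSetup X δ) (n : ℤ)
    (hn : δ (genericPoint X) = n) (L : X.Modules) (hL : PicF.IsInvertible L)
    (s : L.presheaf.obj (Opposite.op ⊤))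
    (hs : (L.presheaf.germ ⊤ (genericPoint X) trivial) s ≠ 0) :
    Cyc.secDivFun δ L (genericPoint X)
      (Submodule.Quotient.mk ((L.presheaf.germ ⊤ (genericPoint X) trivial) s)) =
      Cyc.zeroSectionFun δ (n - 1) L s := by
  haveI : IsLocallyNoetherian X := hX.1
  have hLc := isLocCyc_of_isInvertible L hL
  have hsη : (Submodule.Quotient.mk ((L.presheaf.germ ⊤ (genericPoint X) trivial) s) :
      Cyc.secFibre L (genericPoint X)) ≠ 0 := by
    intro h0
    rw [Submodule.Quotient.mk_eq_zero, maximalIdeal_genericPoint, Submodule.bot_smul,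
      Submodule.mem_bot] at h0
    exact hs h0
  funext x
  unfold Cyc.secDivFun Cyc.zeroSectionFun
  by_cases hδ : δ x + 1 = n
  · have h : genericPoint X ⤳ x ∧ δ x + 1 = δ (genericPoint X) :=
      ⟨genericPoint_specializes x, by rw [hn]; exact hδ⟩
    have ht := hLc.cyc x
    have ht₀ := Classical.choose_spec ht
    have hf : ∃ f : X.presheaf.stalk x,
        (L.presheaf.germ ⊤ x trivial) s = f • Classical.choose ht :=
      (Submodule.mem_span_singleton.1 (by rw [ht₀]; exact Submodule.mem_top)).imp
        fun f hf => hf.symm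
    rw [dif_pos h, if_pos (by omega : δ x = n - 1), dif_pos ht, dif_pos hf]
    have e2 : L.presheaf.stalkSpecializes h.1 ((L.presheaf.germ ⊤ x trivial) s) =
        (L.presheaf.germ ⊤ (genericPoint X) trivial) s :=
      ConcreteCategory.congr_hom (TopCat.Presheaf.germ_stalkSpecializes L.presheaf
        (show x ∈ (⊤ : X.Opens) from trivial) h.1) s
    have key : ∀ f₀ : X.presheaf.stalk x,
        (L.presheaf.germ ⊤ x trivial) s = f₀ • Classical.choose ht →
        Cyc.secOrdAt L (genericPoint X) x h.1
          (Submodule.Quotient.mk ((L.presheaf.germ ⊤ (genericPoint X) trivial) s)) =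
        ((Module.length (X.presheaf.stalk x)
          (X.presheaf.stalk x ⧸ Ideal.span {f₀})).toNat : ℤ) := by
      intro f₀ hf₀
      have hf0 : f₀ ≠ 0 := by
        intro h0
        apply hs
        rw [← e2, hf₀, h0, zero_smul, map_zero]
      rw [secOrdAt_eq L x (genericPoint X) h.1 _ hsη _ ht₀
        ((X.presheaf.stalkSpecializes h.1).hom f₀) (by
          rw [← e2, hf₀, stalkSpecializes_smul]
          rfl)]
      exact ordAt_specMap_genericPoint x h.1
        (coheight_le_one_of_isDimFun δ hX.2.2 x h.2) _ hf0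
    exact key _ (Classical.choose_spec hf)
  · have h : ¬ (genericPoint X ⤳ x ∧ δ x + 1 = δ (genericPoint X)) := by
      rintro ⟨-, h2⟩
      rw [hn] at h2
      exact hδ h2
    rw [dif_neg h, if_neg (by omega : ¬ δ x = n - 1)]

end Groth.Agent.Lib.helper16.SecOrd
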