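import Groth.Agent.Lib.Helper16.GysinFlat1
import Groth.Agent.Lib.Helper16.DivSum9
import Groth.Agent.Lib.Helper16.SecOrd6
import Groth.Agent.Lib.Helper16.SecOrd3

/-!
# The Gysin map of a relative effective Cartier divisor and flat pullback (helper16)

`c1CapFun_pullFun_eq`: for `p : X ⟶ Y` flat of relative dimension `r + 1`, `i : D ⟶ X` the zero
scheme of a regular section `s` of `L` with `D` flat of relative dimension `r` over `Y`:
`i^*(p^*α) = (p|_D)^*α` coefficientwise.
-/

set_option autoImplicit false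
universe u
open CategoryTheory CategoryTheory.Limits AlgebraicGeometry TopologicalSpace Opposite IsLocalRing

namespace Groth.Agent.Lib.helper16.GysinFlat

open Groth.Agent.Lib.helper16.OrdGen Groth.Agent.Lib.helper16.GenFib
  Groth.Agent.Lib.helper16.DivSum Groth.Agent.Lib.helper16.SecOrd
  Groth.Agent.Lib.helper16.CycClosed Groth.Agent.Lib.helper16.CycFlat
  Groth.Agent.Lib.helper16.ShiftPull Groth.Agent.Lib.helper17.FibreStalk

theorem ratEquivZero_zero {X : Scheme.{u}} (δ : X → ℤ) (k : ℤ) :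
    Cyc.RatEquivZero δ k (0 : AlgebraicCycle X ℤ) := by
  refine ⟨PEmpty, fun e => e.elim, fun e => e.elim, fun e => e.elim, fun e => e.elim, ?_, ?_⟩
  · intro x
    exact ⟨Set.univ, isOpen_univ, trivial, Set.toFinite _⟩
  · intro x
    rw [finsum_of_isEmpty]
    rfl

theorem ratEquiv_of_eq {X : Scheme.{u}} (δ : X → ℤ) (k : ℤ) (α β : AlgebraicCycle X ℤ)
    (h : ∀ x, α x = β x) : Cyc.RatEquiv δ k α β := by
  have : α = β := by ext x; exact h x
  unfold Cyc.RatEquiv
  rw [this, sub_self]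
  exact ratEquivZero_zero δ k

theorem pOf_rfl {X : Scheme.{u}} (x : X) (h : x ⤳ x) :
    pOf h = maximalIdeal (X.presheaf.stalk x) := (pOf_eq_maximalIdeal_iff h).mpr rfl

theorem apply_eq_iff_le_pOf {X Y : Scheme.{u}} (p : X ⟶ Y) {x ξ : X} (h : ξ ⤳ x) :
    p ξ = p x ↔ (maximalIdeal (Y.presheaf.stalk (p x))).map (p.stalkMap x).hom ≤ pOf h := by
  have h1 := apply_fromSpecStalk_eq_iff p x
    (⟨pOf h, inferInstance⟩ : PrimeSpectrum (X.presheaf.stalk x))
  rw [fromSpecStalk_pOf h] at h1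
  exact h1

theorem length_quot_congr {R : Type u} [CommRing R] {J J' : Ideal R} (h : J = J') :
    Module.length R (R ⧸ J) = Module.length R (R ⧸ J') := by
  subst h
  rfl

open Classical in
theorem c1CapFun_pullFun_eq (X Y D : Scheme.{u}) (δX : X → ℤ) (δY : Y → ℤ)
    (hX : Cyc.IsSetup X δX) (hY : Cyc.IsSetup Y δY) (p : X ⟶ Y) [Flat p] [LocallyOfFiniteType p]
    (r : ℕ) (hr : Cyc.HasRelDim p (r + 1)) (hδ : Cyc.DeltaCompat p δX δY) (L : X.Modules)
    (hL : PicF.IsInvertible L) (s : L.presheaf.obj (Opposite.op ⊤))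
    (hreg : ∀ x : X, Function.Injective
      (fun a : X.presheaf.stalk x => a • (L.presheaf.germ ⊤ x trivial) s))
    (i : D ⟶ X) [IsClosedImmersion i] (hD : Cyc.IsZeroSchemeOf i L s) [Flat (i ≫ p)]
    (hrD : Cyc.HasRelDim (i ≫ p) r) (k : ℤ) (α : AlgebraicCycle Y ℤ)
    (hα : α ∈ Cyc.Zk Y δY (k + 1)) (w : (ξ : X) → Cyc.secFibre L ξ) (d : D) :
    Cyc.c1CapFun δX L (Cyc.pullFun p δX δY (r + 1) ⇑α) (Cyc.gysinChoice L s w) (i d) =
      Cyc.pullFun (i ≫ p) (fun d => δX (i d)) δY r ⇑α d := by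
  haveI : IsLocallyNoetherian X := hX.1
  haveI : IsLocallyNoetherian Y := hY.1
  have hδX : Cyc.IsDimFun X δX := hX.2.2
  have hδYf : Cyc.IsDimFun Y δY := hY.2.2
  have hLc := isLocCyc_of_isInvertible L hL
  have hc : HasShift p δX δY ((r : ℤ) + 1) := by
    have := hasShift_of_hasRelDim p δX δY (r + 1) hr hδ
    simpa using this
  have hδD := deltaCompat_closedImmersion_comp i p δX δY hδ
  have hcD : HasShift (i ≫ p) (fun d => δX (i d)) δY (r : ℤ) :=
    hasShift_of_hasRelDim (i ≫ p) _ δY r hrD hδD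
  have hδDf : Cyc.IsDimFun D (fun d => δX (i d)) := isDimFun_closedImmersion i δX hδX
  have hle : ∀ x, δX x ≤ δY (p x) + ((r : ℤ) + 1) := fun x =>
    delta_le_of_generic p δX δY _ hδX hc x
  have hleD : ∀ d : D, δX (i d) ≤ δY (p (i d)) + (r : ℤ) := fun d =>
    delta_le_of_generic (i ≫ p) _ δY _ hδDf hcD d
  set x := i d with hx
  set y := p x with hy
  -- the nonzero terms of the left side
  have hterm : ∀ ξ : X, Cyc.pullFun p δX δY (r + 1) ⇑α ξ *
      Cyc.secDivFun δX L ξ (Cyc.gysinChoice L s w ξ) x ≠ 0 →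
      p ξ = y ∧ ξ ⤳ x ∧ δX x + 1 = δX ξ ∧ δX x = δY y + r := by
    intro ξ hne
    have h1 : Cyc.pullFun p δX δY (r + 1) ⇑α ξ ≠ 0 := fun h => hne (by rw [h, zero_mul])
    have h2 : Cyc.secDivFun δX L ξ (Cyc.gysinChoice L s w ξ) x ≠ 0 :=
      fun h => hne (by rw [h, mul_zero])
    have h3 : δX ξ = δY (p ξ) + ((r : ℤ) + 1) := by
      by_contra hc'
      apply h1
      unfold Cyc.pullFun
      rw [if_neg hc']
    have h4 : ξ ⤳ x ∧ δX x + 1 = δX ξ := by
      by_contra hc'
      apply h2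
      unfold Cyc.secDivFun
      rw [dif_neg hc']
    have hsp : p ξ ⤳ y := p.base.hom.map_specializes h4.1
    have h5 := hleD d
    have hpy : p ξ = y := by
      by_contra hne'
      have h6 := (hδYf (p ξ) y hsp hne').1
      have h7 : δX x ≤ δY y + (r : ℤ) := h5
      omega
    refine ⟨hpy, h4.1, h4.2, ?_⟩
    rw [hpy] at h3
    omega
  show ∑ᶠ ξ : X, Cyc.pullFun p δX δY (r + 1) ⇑α ξ *
      Cyc.secDivFun δX L ξ (Cyc.gysinChoice L s w ξ) x =
    (if δX (i d) = δY ((i ≫ p) d) + r then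
      α ((i ≫ p) d) * ((Module.length (D.presheaf.stalk d)
        (D.presheaf.stalk d ⧸ Ideal.map ((i ≫ p).stalkMap d).hom
          (maximalIdeal (Y.presheaf.stalk ((i ≫ p) d))))).toNat : ℤ)
    else 0)
  by_cases hB : δX x = δY y + r
  · have hB' : δX (i d) = δY ((i ≫ p) d) + r := hB
    rw [if_pos hB']
    obtain ⟨t, f, ht, hfs, hker⟩ := hD.2 d
    set I : Ideal (X.presheaf.stalk x) :=
      (maximalIdeal (Y.presheaf.stalk (p x))).map (p.stalkMap x).hom with hI
    have hIle : I ≤ maximalIdeal (X.presheaf.stalk x) :=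
      ((IsLocalRing.local_hom_TFAE (p.stalkMap x).hom).out 0 2 rfl rfl).mp inferInstance
    have hItop : I ≠ ⊤ := fun h => (Ideal.IsPrime.ne_top inferInstance)
      (top_le_iff.1 (h ▸ hIle))
    -- the fibre ring at `x` has dimension one
    haveI hdim1 : Ring.KrullDimLE 1 (X.presheaf.stalk x ⧸ I) := by
      obtain ⟨n, b, h1, h2, h3⟩ := deltaCompat_fibre p δX δY (r + 1) hr hδ x
      have hn : n = r := by
        have : δX x = δY y + n := h1
        omega
      have hb : b = 1 := by omega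
      rw [Ring.krullDimLE_iff]
      change ringKrullDim (FibRing p x) ≤ _
      rw [h3, hb]
    -- `f` is a nonzerodivisor
    have hfnzd : f ∈ nonZeroDivisors (X.presheaf.stalk x) := by
      rw [mem_nonZeroDivisors_iff_right]
      intro a ha
      apply hreg x
      show a • (L.presheaf.germ ⊤ x trivial) s = (0 : X.presheaf.stalk x) • _
      rw [hfs, smul_smul, ha, zero_smul, zero_smul]
    -- `f` is a nonzerodivisor on the fibre ring
    have hfbar : Ideal.Quotient.mk I f ∈ nonZeroDivisors (X.presheaf.stalk x ⧸ I) := by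
      letI algB : Algebra (Y.presheaf.stalk (p x)) (X.presheaf.stalk x) :=
        (p.stalkMap x).hom.toAlgebra
      letI algC : Algebra (Y.presheaf.stalk (p x)) (D.presheaf.stalk d) :=
        ((i ≫ p).stalkMap d).hom.toAlgebra
      haveI : Module.Flat (Y.presheaf.stalk (p x)) (D.presheaf.stalk d) :=
        (Flat.iff_flat_stalkMap (f := i ≫ p)).1 inferInstance d
      let ψ : X.presheaf.stalk x →ₐ[Y.presheaf.stalk (p x)] D.presheaf.stalk d :=
        { (i.stalkMap d).hom with
          commutes' := fun a => by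
            have := congrArg (fun φ => φ.hom a) (Scheme.Hom.stalkMap_comp i p d)
            exact this.symm }
      exact mk_mem_nonZeroDivisors_of_flat ψ (i.stalkMap_surjective d) f hker hfnzd
        (maximalIdeal (Y.presheaf.stalk (p x)))
    -- the right side
    have hmapI : I.map (i.stalkMap d).hom =
        Ideal.map ((i ≫ p).stalkMap d).hom (maximalIdeal (Y.presheaf.stalk ((i ≫ p) d))) := by
      rw [hI, Ideal.map_map]
      congr 1
      have := congrArg (fun φ => φ.hom) (Scheme.Hom.stalkMap_comp i p d)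
      exact this.symm
    have hR : Module.length (D.presheaf.stalk d)
        (D.presheaf.stalk d ⧸ Ideal.map ((i ≫ p).stalkMap d).hom
          (maximalIdeal (Y.presheaf.stalk ((i ≫ p) d)))) =
        Module.length (X.presheaf.stalk x ⧸ I)
          ((X.presheaf.stalk x ⧸ I) ⧸ Ideal.span {Ideal.Quotient.mk I f}) := by
      rw [← length_quot_congr hmapI]
      exact length_quot_map_eq (i.stalkMap d).hom (i.stalkMap_surjective d) f hker I
    rw [hR, toNat_length_quot_eq_finsum_points_rel x I hItop f hfbar]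
    rw [mul_finsum]
    -- reindex the left side
    let ι : {ξ : {ξ : X // ξ ⤳ x ∧ ξ ≠ x} // I ≤ pOf ξ.2.1} → X := fun ξ => ξ.1.1
    have hι : Function.Injective ι := fun a b hab => Subtype.ext (Subtype.ext hab)
    rw [← finsum_mem_univ, finsum_mem_inter_support_eq' _ Set.univ (Set.range ι) (by
      intro ξ hξ
      simp only [Set.mem_univ, true_iff]
      obtain ⟨h1, h2, h3, -⟩ := hterm ξ hξ
      have hne : ξ ≠ x := by
        intro he
        rw [he] at h3
        omega
      exact ⟨⟨⟨ξ, h2, hne⟩, (apply_eq_iff_le_pOf p h2).1 h1⟩, rfl⟩), finsum_mem_range hι]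
    refine finsum_congr fun ξ => ?_
    have hξx : ξ.1.1 ⤳ x := ξ.1.2.1
    have hξne : ξ.1.1 ≠ x := ξ.1.2.2
    have hpξ : p ξ.1.1 = p x := (apply_eq_iff_le_pOf p hξx).2 ξ.2
    have hδξ : δX ξ.1.1 = δY (p ξ.1.1) + ((r : ℤ) + 1) := by
      have h1 := (hδX ξ.1.1 x hξx hξne).1
      have h2 := hle ξ.1.1
      rw [hpξ] at h2 ⊢
      have h3 : δX x = δY (p x) + r := hB
      omega
    have himm : δX x + 1 = δX ξ.1.1 := by
      rw [hδξ, hpξ]
      have h3 : δX x = δY (p x) + r := hB
      omega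
    -- the multiplicity
    have hP : Cyc.pullFun p δX δY (r + 1) ⇑α ξ.1.1 = α ((i ≫ p) d) *
        ((Module.length (X.presheaf.stalk ξ.1.1) (FibRing p ξ.1.1)).toNat : ℤ) := by
      unfold Cyc.pullFun
      rw [if_pos hδξ]
      congr 1
      show α (p ξ.1.1) = α (p x)
      rw [hpξ]
    have hlen : Module.length
        (X.presheaf.stalk ξ.1.1 ⧸ I.map (X.presheaf.stalkSpecializes hξx).hom)
        (X.presheaf.stalk ξ.1.1 ⧸ I.map (X.presheaf.stalkSpecializes hξx).hom) =
        Module.length (X.presheaf.stalk ξ.1.1) (FibRing p ξ.1.1) := by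
      have h1 := length_fibRing_eq p hξx hpξ (specializes_rfl : p x ⤳ p x)
      rw [pOf_rfl (p x) specializes_rfl] at h1
      exact h1
    -- `ξ` is not on `D`, so the Gysin section is `s`
    have hnotD : ξ.1.1 ∉ Set.range i := by
      rintro ⟨d', hd'⟩
      have h1 := hleD d'
      rw [hd'] at h1
      rw [hpξ] at hδξ h1
      omega
    have hσ : (Submodule.Quotient.mk ((L.presheaf.germ ⊤ ξ.1.1 trivial) s) :
        Cyc.secFibre L ξ.1.1) ≠ 0 := by
      intro h0
      apply hnotD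
      rw [hD.1]
      exact h0
    have hG : Cyc.gysinChoice L s w ξ.1.1 =
        Submodule.Quotient.mk ((L.presheaf.germ ⊤ ξ.1.1 trivial) s) := by
      unfold Cyc.gysinChoice
      rw [if_pos hσ]
    have e2 : L.presheaf.stalkSpecializes hξx ((L.presheaf.germ ⊤ x trivial) s) =
        (L.presheaf.germ ⊤ ξ.1.1 trivial) s :=
      ConcreteCategory.congr_hom (TopCat.Presheaf.germ_stalkSpecializes L.presheaf
        (show x ∈ (⊤ : X.Opens) from trivial) hξx) s
    have hσeq : (Submodule.Quotient.mk ((L.presheaf.germ ⊤ ξ.1.1 trivial) s) :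
        Cyc.secFibre L ξ.1.1) = (X.presheaf.stalkSpecializes hξx).hom f •
          (Submodule.Quotient.mk (L.presheaf.stalkSpecializes hξx t) :
            Cyc.secFibre L ξ.1.1) := by
      rw [← e2, hfs, stalkSpecializes_smul]
      rfl
    have hfp : f ∉ pOf hξx := by
      intro hmem
      apply hσ
      rw [hσeq]
      exact smul_mk_eq_zero_of_mem L ξ.1.1 ((mem_pOf_iff hξx f).mp hmem) _
    have hd : Ring.KrullDimLE 1 (Cyc.LocQuot x ξ.1.1 hξx) :=
      krullDimLE_locQuot_of_immediate δX hδX hξx himm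
    show Cyc.pullFun p δX δY (r + 1) ⇑α ξ.1.1 *
      Cyc.secDivFun δX L ξ.1.1 (Cyc.gysinChoice L s w ξ.1.1) x = _
    unfold Cyc.secDivFun
    rw [hP, hG, dif_pos (⟨hξx, himm⟩ : ξ.1.1 ⤳ x ∧ δX x + 1 = δX ξ.1.1),
      secOrdAt_eq L x ξ.1.1 hξx _ hσ t ht _ hσeq, hlen, mul_assoc]
    congr 2
    exact ordAt_specMap hξx hd f hfp
  · have hB' : ¬ δX (i d) = δY ((i ≫ p) d) + r := hB
    rw [if_neg hB']
    apply finsum_eq_zero_of_forall_eq_zero
    intro ξ
    by_contra hne
    exact hB (hterm ξ hne).2.2.2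

end Groth.Agent.Lib.helper16.GysinFlat
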