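import Groth.Agent.Lib.Helper16.GysinFlat2
import Groth.Agent.Lib.Helper16.CIPull2
import Groth.Agent.Lib.Helper16.C1Pull
import Groth.Agent.Lib.Helper16.FLF5

/-!
# Gysin maps and flat pullback (helper16)

`secDivFun_gysin_pull_eq`: off the divisor, the section `s'` cutting out `D' = X' ×_X D` and the
pullback of the section `s` cutting out `D` have the same divisor along `D'`.
-/

set_option autoImplicit false
universe u
open CategoryTheory CategoryTheory.Limits AlgebraicGeometry TopologicalSpace Opposite IsLocalRing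

namespace Groth.Agent.Lib.helper16.GysinFlat

open Groth.Agent.Lib.helper16.OrdGen Groth.Agent.Lib.helper16.GenFib
  Groth.Agent.Lib.helper16.DivSum Groth.Agent.Lib.helper16.SecOrd
  Groth.Agent.Lib.helper16.CycClosed Groth.Agent.Lib.helper16.CycFlat
  Groth.Agent.Lib.helper16.ShiftPull Groth.Agent.Lib.helper17.FibreStalk
  Groth.Agent.Lib.helper16.CIPull Groth.Agent.Lib.helper16.PullStalk
  Groth.Agent.Lib.helper16.C1Pull

variable {X X' D : Scheme.{u}} (f : X' ⟶ X) (i : D ⟶ X) [IsClosedImmersion i]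

theorem secDivFun_gysin_pull_eq (δ' : X' → ℤ) (L : X.Modules) (hL : PicF.IsInvertible L)
    (s : L.presheaf.obj (Opposite.op ⊤)) (hD : Cyc.IsZeroSchemeOf i L s)
    (s' : ((Scheme.Modules.pullback f).obj L).presheaf.obj (Opposite.op ⊤))
    (hD' : Cyc.IsZeroSchemeOf (pullback.fst f i) ((Scheme.Modules.pullback f).obj L) s')
    (w : (ξ : X) → Cyc.secFibre L ξ)
    (w' : (ξ : X') → Cyc.secFibre ((Scheme.Modules.pullback f).obj L) ξ) (hw' : ∀ ξ, w' ξ ≠ 0)
    (ξ' : X') (hξ' : ξ' ∉ Set.range (pullback.fst f i)) (z : ↥(pullback f i)) :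
    Cyc.secDivFun δ' ((Scheme.Modules.pullback f).obj L) ξ'
        (Cyc.gysinChoice ((Scheme.Modules.pullback f).obj L) s' w' ξ') (pullback.fst f i z) =
      Cyc.secDivFun δ' ((Scheme.Modules.pullback f).obj L) ξ'
        (pullSec f ξ' L (Cyc.gysinChoice L s w (f ξ'))) (pullback.fst f i z) := by
  classical
  have hLc := isLocCyc_of_isInvertible L hL
  have hL' : PicF.IsInvertible ((Scheme.Modules.pullback f).obj L) :=
    (Groth.Agent.Lib.helper16.FLF.isInvertible_iff_isFinLocFreeOfRank_one _).2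
      (Groth.Agent.Lib.helper16.FLF.isFinLocFreeOfRank_pullback f
        ((Groth.Agent.Lib.helper16.FLF.isInvertible_iff_isFinLocFreeOfRank_one L).1 hL))
  have hL'c := isLocCyc_of_isInvertible _ hL'
  set x' := pullback.fst f i z with hx'
  set d := pullback.snd f i z with hd
  unfold Cyc.secDivFun
  by_cases h : ξ' ⤳ x' ∧ δ' x' + 1 = δ' ξ'
  · rw [dif_pos h, dif_pos h]
    have hsp' : ξ' ⤳ x' := h.1
    have hfsp : f ξ' ⤳ f x' := f.base.hom.map_specializes hsp'
    have e : f x' = i d := apply_fst_eq_apply_snd f i z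
    have hsp : f x' ⤳ i d := specializes_of_eq e
    obtain ⟨t', f', ht', hfs', hker'⟩ := hD'.2 z
    obtain ⟨t, f₀, ht, hfs, hker⟩ := hD.2 d
    set t₁ := L.presheaf.stalkSpecializes hsp t with ht₁def
    set g₁ := (X.presheaf.stalkSpecializes hsp).hom f₀ with hg₁def
    have ht₁ : Submodule.span (X.presheaf.stalk (f x')) {t₁} = ⊤ :=
      hLc.spec (i d) (f x') hsp t ht
    have hs₁ : (L.presheaf.germ ⊤ (f x') trivial) s = g₁ • t₁ := by
      have e2 : L.presheaf.stalkSpecializes hsp ((L.presheaf.germ ⊤ (i d) trivial) s) =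
          (L.presheaf.germ ⊤ (f x') trivial) s :=
        ConcreteCategory.congr_hom (TopCat.Presheaf.germ_stalkSpecializes L.presheaf
          (show i d ∈ (⊤ : X.Opens) from trivial) hsp) s
      rw [← e2, hfs, stalkSpecializes_smul]
    set φ₀ := (f.stalkMap x').hom g₁ with hφ₀
    set T := pullStalk f x' L t₁ with hTdef
    have hT : Submodule.span (X'.presheaf.stalk x') {T} = ⊤ :=
      span_pullStalk_of_span f x' L t₁ ht₁
    -- `f'` and `φ₀` generate the same ideal
    have hspan : Ideal.span {f'} = Ideal.span {φ₀} := by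
      rw [← hker', ker_stalkMap_fst, hker, Ideal.map_span, Set.image_singleton]
      rfl
    obtain ⟨υ, hυ, hf'⟩ := exists_unit_mul_of_span_eq hspan
    -- `t' = c • T` with `c` a unit
    obtain ⟨c, hc⟩ : ∃ c : X'.presheaf.stalk x', c • T = t' :=
      Submodule.mem_span_singleton.1 (by rw [hT]; exact Submodule.mem_top)
    obtain ⟨c', hc'⟩ : ∃ c' : X'.presheaf.stalk x', c' • t' = T :=
      Submodule.mem_span_singleton.1 (by rw [ht']; exact Submodule.mem_top)
    have hcu : IsUnit c := by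
      by_contra hnu
      obtain ⟨a, ha⟩ := exists_smul_mk_eq ((Scheme.Modules.pullback f).obj L) x' T hT (w' x')
      have hmkT : (Submodule.Quotient.mk T : Cyc.secFibre ((Scheme.Modules.pullback f).obj L) x') ≠ 0 := by
        intro h0
        apply hw' x'
        rw [ha, h0, smul_zero]
      apply hmkT
      have hTT : T = (c' * c) • T := by rw [mul_smul, hc, hc']
      have h1 : (Submodule.Quotient.mk T : Cyc.secFibre ((Scheme.Modules.pullback f).obj L) x') =
          (c' * c) • (Submodule.Quotient.mk T : Cyc.secFibre ((Scheme.Modules.pullback f).obj L) x') := by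
        rw [← Submodule.Quotient.mk_smul, ← hTT]
      rw [h1]
      exact smul_mk_eq_zero_of_mem ((Scheme.Modules.pullback f).obj L) x' (by
        rw [mem_maximalIdeal, mem_nonunits_iff]
        intro hu
        exact hnu (isUnit_of_mul_isUnit_right hu)) T
    -- the sections at `ξ'`
    have hσ' : (Submodule.Quotient.mk ((((Scheme.Modules.pullback f).obj L).presheaf.germ ⊤ ξ' trivial) s') :
        Cyc.secFibre ((Scheme.Modules.pullback f).obj L) ξ') ≠ 0 := by
      intro h0
      apply hξ'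
      rw [hD'.1]
      exact h0
    have hG' : Cyc.gysinChoice ((Scheme.Modules.pullback f).obj L) s' w' ξ' =
        Submodule.Quotient.mk ((((Scheme.Modules.pullback f).obj L).presheaf.germ ⊤ ξ' trivial) s') := by
      unfold Cyc.gysinChoice
      rw [if_pos hσ']
    have hfξ' : f ξ' ∉ Set.range i := by
      rintro ⟨d₀, hd₀⟩
      obtain ⟨z₀, hz₀, -⟩ := Scheme.Pullback.exists_preimage_pullback (f := f) (g := i)
        ξ' d₀ hd₀.symm
      exact hξ' ⟨z₀, hz₀⟩
    have hσ : (Submodule.Quotient.mk ((L.presheaf.germ ⊤ (f ξ') trivial) s) :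
        Cyc.secFibre L (f ξ')) ≠ 0 := by
      intro h0
      apply hfξ'
      rw [hD.1]
      exact h0
    have hG : Cyc.gysinChoice L s w (f ξ') =
        Submodule.Quotient.mk ((L.presheaf.germ ⊤ (f ξ') trivial) s) := by
      unfold Cyc.gysinChoice
      rw [if_pos hσ]
    have e2' : ((Scheme.Modules.pullback f).obj L).presheaf.stalkSpecializes hsp' ((((Scheme.Modules.pullback f).obj L).presheaf.germ ⊤ x' trivial) s') =
        (((Scheme.Modules.pullback f).obj L).presheaf.germ ⊤ ξ' trivial) s' :=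
      ConcreteCategory.congr_hom (TopCat.Presheaf.germ_stalkSpecializes ((Scheme.Modules.pullback f).obj L).presheaf
        (show x' ∈ (⊤ : X'.Opens) from trivial) hsp') s'
    have hu'eq : (Submodule.Quotient.mk ((((Scheme.Modules.pullback f).obj L).presheaf.germ ⊤ ξ' trivial) s') :
        Cyc.secFibre ((Scheme.Modules.pullback f).obj L) ξ') = (X'.presheaf.stalkSpecializes hsp').hom (f' * c) •
          (Submodule.Quotient.mk (((Scheme.Modules.pullback f).obj L).presheaf.stalkSpecializes hsp' T) :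
            Cyc.secFibre ((Scheme.Modules.pullback f).obj L) ξ') := by
      rw [← e2', hfs', ← hc, smul_smul, stalkSpecializes_smul]
      rfl
    have e2 : L.presheaf.stalkSpecializes hfsp ((L.presheaf.germ ⊤ (f x') trivial) s) =
        (L.presheaf.germ ⊤ (f ξ') trivial) s :=
      ConcreteCategory.congr_hom (TopCat.Presheaf.germ_stalkSpecializes L.presheaf
        (show f x' ∈ (⊤ : X.Opens) from trivial) hfsp) s
    have hv'eq : pullSec f ξ' L (Submodule.Quotient.mk ((L.presheaf.germ ⊤ (f ξ') trivial) s)) =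
        (X'.presheaf.stalkSpecializes hsp').hom φ₀ •
          (Submodule.Quotient.mk (((Scheme.Modules.pullback f).obj L).presheaf.stalkSpecializes hsp' T) :
            Cyc.secFibre ((Scheme.Modules.pullback f).obj L) ξ') := by
      rw [pullSec_mk, ← e2, ← stalkSpecializes_pullStalk f L hsp', hs₁, pullStalk_smul,
        stalkSpecializes_smul]
      rfl
    rw [hG', hG, hu'eq, hv'eq]
    have hmul : (X'.presheaf.stalkSpecializes hsp').hom (f' * c) =
        (X'.presheaf.stalkSpecializes hsp').hom (υ * c) *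
          (X'.presheaf.stalkSpecializes hsp').hom φ₀ := by
      rw [hf', ← map_mul]
      congr 1
      ring
    have hne : (X'.presheaf.stalkSpecializes hsp').hom (υ * c) •
        ((X'.presheaf.stalkSpecializes hsp').hom φ₀ •
          (Submodule.Quotient.mk (((Scheme.Modules.pullback f).obj L).presheaf.stalkSpecializes hsp' T) :
            Cyc.secFibre ((Scheme.Modules.pullback f).obj L) ξ')) ≠ 0 := by
      rw [← mul_smul, ← hmul, ← hu'eq]
      exact hσ'
    rw [hmul, mul_smul, secOrdAt_smul ((Scheme.Modules.pullback f).obj L) hL'c x' ξ' hsp' _ _ hne]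
    have h0 : Cyc.ordAt x' ξ' hsp'
        (X'.residue ξ' ((X'.presheaf.stalkSpecializes hsp').hom (υ * c))) = 0 :=
      ordAt_specMap_of_isUnit hsp' (υ * c) (hυ.mul hcu)
    rw [h0, zero_add]
  · rw [dif_neg h, dif_neg h]

theorem gysinChoice_ne_zero {Y : Scheme.{u}} (M : Y.Modules) (σ : M.presheaf.obj (Opposite.op ⊤))
    (t : (ξ : Y) → Cyc.secFibre M ξ) (ht : ∀ ξ, t ξ ≠ 0) (ξ : Y) :
    Cyc.gysinChoice M σ t ξ ≠ 0 := by
  unfold Cyc.gysinChoice
  split_ifs with h
  · exact h
  · exact ht ξ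

theorem ratEquiv_gysin_pull (δ : X → ℤ) (δ' : X' → ℤ) (hX : Cyc.IsSetup X δ)
    (hX' : Cyc.IsSetup X' δ') [Flat f] [LocallyOfFiniteType f] (r : ℕ) (hr : Cyc.HasRelDim f r)
    (hδ : Cyc.DeltaCompat f δ' δ) (L : X.Modules) (hL : PicF.IsInvertible L)
    (s : L.presheaf.obj (Opposite.op ⊤)) (hD : Cyc.IsZeroSchemeOf i L s)
    (s' : ((Scheme.Modules.pullback f).obj L).presheaf.obj (Opposite.op ⊤))
    (hD' : Cyc.IsZeroSchemeOf (pullback.fst f i) ((Scheme.Modules.pullback f).obj L) s')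
    (k : ℤ) (α : AlgebraicCycle X ℤ) (hα : α ∈ Cyc.Zk X δ (k + 1))
    (w : (ξ : X) → Cyc.secFibre L ξ) (hw : ∀ ξ, w ξ ≠ 0)
    (w' : (ξ : X') → Cyc.secFibre ((Scheme.Modules.pullback f).obj L) ξ) (hw' : ∀ ξ, w' ξ ≠ 0)
    (ζ₁ ζ₂ : AlgebraicCycle (pullback f i) ℤ)
    (h₁ : ∀ z, ζ₁ z = Cyc.c1CapFun δ' ((Scheme.Modules.pullback f).obj L)
      (Cyc.pullFun f δ' δ r ⇑α)
      (Cyc.gysinChoice ((Scheme.Modules.pullback f).obj L) s' w') (pullback.fst f i z))
    (h₂ : ⇑ζ₂ = Cyc.pullFun (pullback.snd f i) (fun z => δ' (pullback.fst f i z))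
      (fun d => δ (i d)) r
      (fun d => Cyc.c1CapFun δ L ⇑α (Cyc.gysinChoice L s w) (i d))) :
    Cyc.RatEquiv (fun z => δ' (pullback.fst f i z)) (k + r) ζ₁ ζ₂ := by
  classical
  haveI : IsLocallyNoetherian X := hX.1
  haveI : IsLocallyNoetherian X' := hX'.1
  have hLc := isLocCyc_of_isInvertible L hL
  have hL' : PicF.IsInvertible ((Scheme.Modules.pullback f).obj L) :=
    (Groth.Agent.Lib.helper16.FLF.isInvertible_iff_isFinLocFreeOfRank_one _).2
      (Groth.Agent.Lib.helper16.FLF.isFinLocFreeOfRank_pullback f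
        ((Groth.Agent.Lib.helper16.FLF.isInvertible_iff_isFinLocFreeOfRank_one L).1 hL))
  have hL'c := isLocCyc_of_isInvertible _ hL'
  have hc : HasShift f δ' δ r := hasShift_of_hasRelDim f δ' δ r hr hδ
  obtain ⟨P, hP⟩ := exists_cycle_pullFun f hX'.2.2 hc α
  have hu := gysinChoice_ne_zero L s w hw
  have hu' := gysinChoice_ne_zero ((Scheme.Modules.pullback f).obj L) s' w' hw'
  -- the pulled back sections
  have hv' : ∀ ξ' : X', pullSec f ξ' L (Cyc.gysinChoice L s w (f ξ')) ≠ 0 := by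
    intro ξ'
    obtain ⟨t, ht⟩ := hLc.cyc (f ξ')
    exact pullSec_ne_zero f ξ' L t ht _ (hu' ξ') _ (hu (f ξ'))
  -- `P` is a `(k + r + 1)`-cycle
  have hPk : ∀ ξ', P ξ' ≠ 0 → δ' ξ' = k + r + 1 := by
    intro ξ' hne
    rw [hP] at hne
    unfold Cyc.pullFun at hne
    by_cases hcond : δ' ξ' = δ (f ξ') + r
    · rw [if_pos hcond] at hne
      have : δ (f ξ') = k + 1 := by
        by_contra hne'
        exact hne (by rw [hα _ hne', zero_mul])
      rw [hcond, this]; ring
    · rw [if_neg hcond] at hne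
      exact absurd rfl hne
  -- step 1 and 2
  have hζ₂ : ∀ z, ζ₂ z = Cyc.c1CapFun δ' ((Scheme.Modules.pullback f).obj L) ⇑P
      (fun ξ' => pullSec f ξ' L (Cyc.gysinChoice L s w (f ξ'))) (pullback.fst f i z) := by
    intro z
    have h := congrFun (pullFun_c1CapFun f hX.2.2 hX'.2.2 hc L hLc
      (Cyc.gysinChoice ((Scheme.Modules.pullback f).obj L) s' w') hu' α
      (Cyc.gysinChoice L s w) hu) (pullback.fst f i z)
    rw [hP, ← h, h₂]
    unfold Cyc.pullFun
    have e := apply_fst_eq_apply_snd f i z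
    have e1 : δ (f (pullback.fst f i z)) = δ (i (pullback.snd f i z)) := congrArg δ e
    have e2 : Cyc.c1CapFun δ L ⇑α (Cyc.gysinChoice L s w) (f (pullback.fst f i z)) =
        Cyc.c1CapFun δ L ⇑α (Cyc.gysinChoice L s w) (i (pullback.snd f i z)) :=
      congrArg _ e
    have e3 := length_fibRing_snd f i z
    simp only [FibRing] at e3
    rw [e1, e2, e3]
  have hζ₁ : ∀ z, ζ₁ z = Cyc.c1CapFun δ' ((Scheme.Modules.pullback f).obj L) ⇑P
      (Cyc.gysinChoice ((Scheme.Modules.pullback f).obj L) s' w') (pullback.fst f i z) := by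
    intro z
    rw [h₁ z, hP]
  -- step 3: compare the sections
  have hex : ∀ ξ' : X', ∃ ρ : X'.presheaf.stalk ξ',
      Cyc.gysinChoice ((Scheme.Modules.pullback f).obj L) s' w' ξ' =
        ρ • pullSec f ξ' L (Cyc.gysinChoice L s w (f ξ')) :=
    fun ξ' => exists_smul_eq _ hL'c ξ' _ _ (hv' ξ')
  choose ρ hρ using hex
  have hρt : ∀ ξ', ρ ξ' • pullSec f ξ' L (Cyc.gysinChoice L s w (f ξ')) ≠ 0 :=
    fun ξ' => hρ ξ' ▸ hu' ξ'
  let rr : ∀ ξ' : X', X'.residueField ξ' := fun ξ' => X'.residue ξ' (ρ ξ')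
  have hrr : ∀ ξ', rr ξ' ≠ 0 := fun ξ' =>
    residue_ne_zero_of_smul_ne_zero _ ξ' (hρt ξ')
  have hdiff : ∀ ξ' x',
      Cyc.secDivFun δ' ((Scheme.Modules.pullback f).obj L) ξ'
        (Cyc.gysinChoice ((Scheme.Modules.pullback f).obj L) s' w' ξ') x' =
      Cyc.divFun δ' ξ' (rr ξ') x' +
        Cyc.secDivFun δ' ((Scheme.Modules.pullback f).obj L) ξ'
          (pullSec f ξ' L (Cyc.gysinChoice L s w (f ξ'))) x' := by
    intro ξ' x'
    rw [hρ ξ']
    exact secDivFun_smul δ' _ hL'c ξ' _ (ρ ξ') (hρt ξ') x'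
  have hdiv0 : ∀ ξ' z, ξ' ∉ Set.range (pullback.fst f i) →
      Cyc.divFun δ' ξ' (rr ξ') (pullback.fst f i z) = 0 := by
    intro ξ' z hξ'
    have h1 := hdiff ξ' (pullback.fst f i z)
    rw [secDivFun_gysin_pull_eq f i δ' L hL s hD s' hD' w w' hw' ξ' hξ' z] at h1
    linarith
  -- finiteness of supports
  have hsupp : ∀ (x : X') (F : X' → ℤ), (∀ ξ, ¬ ξ ⤳ x → F ξ = 0) →
      (Function.support fun ξ => P ξ * F ξ).Finite := by
    intro x F hF
    refine (finite_specializes_support P x).subset ?_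
    intro ξ hξ
    rw [Function.mem_support] at hξ
    refine ⟨fun h => hξ (by rw [h, zero_mul]), ?_⟩
    by_contra hne
    exact hξ (by rw [hF ξ hne, mul_zero])
  have hsec0 : ∀ (u : (ξ : X') → Cyc.secFibre ((Scheme.Modules.pullback f).obj L) ξ) (x ξ : X'),
      ¬ ξ ⤳ x → Cyc.secDivFun δ' ((Scheme.Modules.pullback f).obj L) ξ (u ξ) x = 0 := by
    intro u x ξ hne
    unfold Cyc.secDivFun
    rw [dif_neg (fun h => hne h.1)]
  have hsub : ∀ z, ζ₁ z - ζ₂ z =
      ∑ᶠ ξ', P ξ' * Cyc.divFun δ' ξ' (rr ξ') (pullback.fst f i z) := by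
    intro z
    rw [hζ₁ z, hζ₂ z]
    unfold Cyc.c1CapFun
    rw [← finsum_sub_distrib (hsupp _ _ (hsec0 _ _)) (hsupp _ _ (hsec0 _ _))]
    apply finsum_congr
    intro ξ'
    rw [hdiff ξ' (pullback.fst f i z)]
    ring
  -- the family on `D'`
  obtain ⟨Dc, hDc, -, hDr⟩ := exists_cycle_restrict_family (pullback.fst f i) δ' hX'.2.2 (k + r)
    (J := {ξ' : X' // P ξ' ≠ 0 ∧ ξ' ∈ Set.range (pullback.fst f i)})
    (fun j => j.1) (fun j => rr j.1 ^ (P j.1))
    (fun j => hPk j.1 j.2.1) (fun j => zpow_ne_zero _ (hrr j.1))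
    (by
      intro x
      obtain ⟨V, hV, hfin⟩ := P.supportLocallyFiniteWithinDomain' x trivial
      refine ⟨interior V, isOpen_interior, mem_interior_iff_mem_nhds.2 hV, ?_⟩
      apply (hfin.preimage Subtype.val_injective.injOn).subset
      rintro j ⟨y, hy1, hy2⟩
      have hjy : j.1 ⤳ y := specializes_iff_mem_closure.2 hy1
      exact ⟨interior_subset (hjy.mem_open isOpen_interior hy2), j.2.1⟩)
    (fun j => j.2.2)
  unfold Cyc.RatEquiv
  have hE : ζ₁ - ζ₂ = Dc := by
    ext z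
    rw [Function.locallyFinsuppWithin.coe_sub, Pi.sub_apply, hsub z, hDc z]
    have h3 : ∀ j : {ξ' : X' // P ξ' ≠ 0 ∧ ξ' ∈ Set.range (pullback.fst f i)},
        Cyc.divFun δ' j.1 (rr j.1 ^ (P j.1)) (pullback.fst f i z) =
        (fun ξ' => P ξ' * Cyc.divFun δ' ξ' (rr ξ') (pullback.fst f i z)) j.1 := fun j =>
      divFun_zpow δ' j.1 (rr j.1) (hrr j.1) (P j.1) (pullback.fst f i z)
    rw [finsum_congr h3, finsum_subtype_eq_finsum_cond
      (fun ξ' => P ξ' ≠ 0 ∧ ξ' ∈ Set.range (pullback.fst f i))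
      (f := fun ξ' => P ξ' * Cyc.divFun δ' ξ' (rr ξ') (pullback.fst f i z))]
    apply finsum_congr
    intro ξ'
    by_cases hξ : P ξ' ≠ 0 ∧ ξ' ∈ Set.range (pullback.fst f i)
    · simp [hξ]
    · rw [finsum_eq_if, if_neg hξ]
      by_cases h0 : P ξ' = 0
      · rw [h0, zero_mul]
      · rw [hdiv0 ξ' z (fun hmem => hξ ⟨h0, hmem⟩), mul_zero]
  rw [hE]
  exact hDr

end Groth.Agent.Lib.helper16.GysinFlat
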