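import Mathlib
import Groth.Prelude.Def_HTop
import Groth.Agent.S7468

/-!
# Pair covers for the ph and h topologies (helper16)

* `isProper_coprodMap`, `isProper_coprodDesc`: binary coproducts of proper morphisms.
* `pairCover f₁ f₂`: the two-member family `{f₁, f₂}` as a `PreZeroHypercover` (index `Bool`,
  `true ↦ f₁`, `false ↦ f₂`).
* `exists_isStandardPh_refining_pair`: two proper, jointly surjective morphisms are refined over
  every affine open by a standard ph covering.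
* `isPhCover_pairCover`, `isHCover_pairCover`.
-/

set_option autoImplicit false
universe u
open CategoryTheory CategoryTheory.Limits AlgebraicGeometry TopologicalSpace Opposite

namespace Groth.Agent.Lib.helper16.HCart

section coprod

variable {A B X Y : Scheme.{u}}

lemma preimage_opensRange_inl (f : A ⟶ X) (g : B ⟶ Y) :
    coprod.map f g ⁻¹ᵁ (coprod.inl : X ⟶ X ⨿ Y).opensRange = (coprod.inl : A ⟶ A ⨿ B).opensRange := by
  ext z
  obtain ⟨(a | b), rfl⟩ := (coprodMk A B).surjective z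
  · rw [coprodMk_inl]
    constructor
    · intro _; exact ⟨a, rfl⟩
    · intro _
      refine ⟨f a, ?_⟩
      rw [← Scheme.Hom.comp_apply, ← Scheme.Hom.comp_apply, coprod.inl_map]
  · rw [coprodMk_inr]
    constructor
    · rintro ⟨x, hx⟩
      exfalso
      change (coprod.inl : X ⟶ X ⨿ Y) x = coprod.map f g ((coprod.inr : B ⟶ A ⨿ B) b) at hx
      rw [← Scheme.Hom.comp_apply, coprod.inr_map, Scheme.Hom.comp_apply] at hx
      exact Set.disjoint_iff_forall_ne.mp (isCompl_range_inl_inr X Y).1 ⟨x, rfl⟩ ⟨g b, rfl⟩ hx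
    · rintro ⟨x, hx⟩
      exfalso
      exact Set.disjoint_iff_forall_ne.mp (isCompl_range_inl_inr A B).1 ⟨x, rfl⟩ ⟨b, rfl⟩ hx

lemma preimage_opensRange_inr (f : A ⟶ X) (g : B ⟶ Y) :
    coprod.map f g ⁻¹ᵁ (coprod.inr : Y ⟶ X ⨿ Y).opensRange = (coprod.inr : B ⟶ A ⨿ B).opensRange := by
  ext z
  obtain ⟨(a | b), rfl⟩ := (coprodMk A B).surjective z
  · rw [coprodMk_inl]
    constructor
    · rintro ⟨x, hx⟩
      exfalso
      change (coprod.inr : Y ⟶ X ⨿ Y) x = coprod.map f g ((coprod.inl : A ⟶ A ⨿ B) a) at hx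
      rw [← Scheme.Hom.comp_apply, coprod.inl_map, Scheme.Hom.comp_apply] at hx
      exact Set.disjoint_iff_forall_ne.mp (isCompl_range_inl_inr X Y).1 ⟨f a, rfl⟩ ⟨x, rfl⟩ hx.symm
    · rintro ⟨x, hx⟩
      exfalso
      exact Set.disjoint_iff_forall_ne.mp (isCompl_range_inl_inr A B).1 ⟨a, rfl⟩ ⟨x, rfl⟩ hx.symm
  · rw [coprodMk_inr]
    constructor
    · intro _; exact ⟨b, rfl⟩
    · intro _
      refine ⟨g b, ?_⟩
      rw [← Scheme.Hom.comp_apply, ← Scheme.Hom.comp_apply, coprod.inr_map]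

theorem isProper_coprodMap (f : A ⟶ X) (g : B ⟶ Y) [IsProper f] [IsProper g] :
    IsProper (coprod.map f g) := by
  refine IsZariskiLocalAtTarget.of_iSup_eq_top (P := @IsProper)
    (fun b : Bool => if b then (coprod.inl : X ⟶ X ⨿ Y).opensRange
      else (coprod.inr : Y ⟶ X ⨿ Y).opensRange) ?_ (fun b => ?_)
  · rw [eq_top_iff]
    intro x _
    obtain ⟨(a | b), rfl⟩ := (coprodMk X Y).surjective x
    · exact Opens.mem_iSup.mpr ⟨true, by rw [coprodMk_inl]; exact ⟨a, rfl⟩⟩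
    · exact Opens.mem_iSup.mpr ⟨false, by rw [coprodMk_inr]; exact ⟨b, rfl⟩⟩
  · cases b
    · show IsProper (coprod.map f g ∣_ (coprod.inr : Y ⟶ X ⨿ Y).opensRange)
      rw [(MorphismProperty.arrow_mk_iso_iff @IsProper
        (morphismRestrictOpensRange (coprod.map f g) (coprod.inr : Y ⟶ X ⨿ Y)))]
      have h : IsPullback g (coprod.inr : B ⟶ A ⨿ B) (coprod.inr : Y ⟶ X ⨿ Y) (coprod.map f g) :=
        IsOpenImmersion.isPullback _ _ _ _ (coprod.inr_map f g) (preimage_opensRange_inr f g)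
      have h2 : pullback.snd (coprod.map f g) (coprod.inr : Y ⟶ X ⨿ Y) =
          h.flip.isoPullback.inv ≫ g := by
        rw [Iso.eq_inv_comp, h.flip.isoPullback_hom_snd]
      rw [h2]
      infer_instance
    · show IsProper (coprod.map f g ∣_ (coprod.inl : X ⟶ X ⨿ Y).opensRange)
      rw [(MorphismProperty.arrow_mk_iso_iff @IsProper
        (morphismRestrictOpensRange (coprod.map f g) (coprod.inl : X ⟶ X ⨿ Y)))]
      have h : IsPullback f (coprod.inl : A ⟶ A ⨿ B) (coprod.inl : X ⟶ X ⨿ Y) (coprod.map f g) :=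
        IsOpenImmersion.isPullback _ _ _ _ (coprod.inl_map f g) (preimage_opensRange_inl f g)
      have h2 : pullback.snd (coprod.map f g) (coprod.inl : X ⟶ X ⨿ Y) =
          h.flip.isoPullback.inv ≫ f := by
        rw [Iso.eq_inv_comp, h.flip.isoPullback_hom_snd]
      rw [h2]
      infer_instance

theorem isProper_coprodDesc (f : A ⟶ X) (g : B ⟶ X) [IsProper f] [IsProper g] :
    IsProper (coprod.desc f g) := by
  have h : coprod.desc f g = coprod.map f g ≫ coprod.desc (𝟙 X) (𝟙 X) := by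
    apply coprod.hom_ext <;> simp
  rw [h]
  haveI := isProper_coprodMap f g
  infer_instance

end coprod

section pair

open HTop

variable {X A₁ A₂ : Scheme.{u}} (f₁ : A₁ ⟶ X) (f₂ : A₂ ⟶ X)

/-- the two-member family `{f₁, f₂}` (`true ↦ f₁`, `false ↦ f₂`) -/
def pairCover : PreZeroHypercover.{0} X where
  I₀ := Bool
  X := fun b => bif b then A₁ else A₂
  f := fun b => match b with
    | true => f₁
    | false => f₂

theorem exists_isStandardPh_refining_pair [IsProper f₁] [IsProper f₂]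
    (hsurj : ∀ x : X, x ∈ Set.range f₁ ∨ x ∈ Set.range f₂) (U : X.affineOpens) :
    ∃ F : PreZeroHypercover.{0} ((U : X.Opens) : Scheme.{u}),
      IsStandardPh F ∧ RefinesOver (U : X.Opens).ι F (pairCover f₁ f₂) := by
  classical
  haveI : IsAffine ((U : X.Opens) : Scheme.{u}) := U.2
  let P : Scheme.{u} := ((f₁ ⁻¹ᵁ U.1 : A₁.Opens) : Scheme.{u}) ⨿ ((f₂ ⁻¹ᵁ U.1 : A₂.Opens) : Scheme.{u})
  let p : P ⟶ (U.1 : Scheme.{u}) := coprod.desc (f₁ ∣_ U.1) (f₂ ∣_ U.1)
  haveI : IsProper p := isProper_coprodDesc _ _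
  let il : ((f₁ ⁻¹ᵁ U.1 : A₁.Opens) : Scheme.{u}) ⟶ P := coprod.inl
  let ir : ((f₂ ⁻¹ᵁ U.1 : A₂.Opens) : Scheme.{u}) ⟶ P := coprod.inr
  have hpsurj : Surjective p := by
    refine ⟨fun y => ?_⟩
    rcases hsurj y.1 with ⟨x, hx⟩ | ⟨x, hx⟩
    · have hxU : x ∈ f₁ ⁻¹ᵁ U.1 := by
        show f₁ x ∈ U.1
        rw [hx]; exact y.2
      refine ⟨il ⟨x, hxU⟩, ?_⟩
      rw [← Scheme.Hom.comp_apply]
      have : il ≫ p = f₁ ∣_ U.1 := coprod.inl_desc _ _
      rw [this]
      apply Subtype.ext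
      rw [← Scheme.Opens.ι_apply, ← Scheme.Hom.comp_apply, morphismRestrict_ι,
        Scheme.Hom.comp_apply]
      exact hx
    · have hxU : x ∈ f₂ ⁻¹ᵁ U.1 := by
        show f₂ x ∈ U.1
        rw [hx]; exact y.2
      refine ⟨ir ⟨x, hxU⟩, ?_⟩
      rw [← Scheme.Hom.comp_apply]
      have : ir ≫ p = f₂ ∣_ U.1 := coprod.inr_desc _ _
      rw [this]
      apply Subtype.ext
      rw [← Scheme.Opens.ι_apply, ← Scheme.Hom.comp_apply, morphismRestrict_ι,
        Scheme.Hom.comp_apply]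
      exact hx
  haveI : CompactSpace P := by
    have h := p.isCompact_preimage (U := ⊤) isCompact_univ
    exact isCompact_univ_iff.mp (by simpa using h)
  have h2 : ∀ z : P, ∃ O : P.Opens, IsAffineOpen O ∧ z ∈ O ∧
      (O ≤ il.opensRange ∨ O ≤ ir.opensRange) := fun z => by
    obtain ⟨(a | b), rfl⟩ := (coprodMk _ _).surjective z
    · rw [coprodMk_inl]
      obtain ⟨_, ⟨O, hO, rfl⟩, hx, hle⟩ :=
        P.isBasis_affineOpens.exists_subset_of_mem_open
          (show il a ∈ (il.opensRange : Set P) from ⟨a, rfl⟩) il.opensRange.2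
      exact ⟨O, hO, hx, Or.inl hle⟩
    · rw [coprodMk_inr]
      obtain ⟨_, ⟨O, hO, rfl⟩, hx, hle⟩ :=
        P.isBasis_affineOpens.exists_subset_of_mem_open
          (show ir b ∈ (ir.opensRange : Set P) from ⟨b, rfl⟩) ir.opensRange.2
      exact ⟨O, hO, hx, Or.inr hle⟩
  choose O hOaff hzO hOle using h2
  obtain ⟨t, ht⟩ := isCompact_univ.elim_finite_subcover (fun z => (O z : Set P))
    (fun z => (O z).2) (fun z _ => Set.mem_iUnion.2 ⟨z, hzO z⟩)
  let e : Fin t.card ≃ t := t.equivFin.symm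
  let pt : Fin t.card → P := fun k => (e k).1
  let F : PreZeroHypercover.{0} (U.1 : Scheme.{u}) :=
    ⟨Fin t.card, fun k => (O (pt k) : Scheme.{u}), fun k => (O (pt k)).ι ≫ p⟩
  refine ⟨F, ⟨inferInstance, inferInstanceAs (Finite (Fin t.card)), fun k => hOaff (pt k),
    P, p, fun k => (O (pt k)).ι, inferInstance, hpsurj, fun k => inferInstance, fun k => rfl,
    fun z => ?_⟩, fun k => ?_⟩
  · have hz := ht (Set.mem_univ z)
    simp only [Set.mem_iUnion] at hz
    obtain ⟨y, hy, hzy⟩ := hz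
    refine ⟨e.symm ⟨y, hy⟩, ⟨⟨z, by simpa [pt] using hzy⟩, rfl⟩⟩
  · rcases hOle (pt k) with hle | hle
    · have hr : Set.range (O (pt k)).ι ⊆ Set.range il := by
        rintro _ ⟨w, rfl⟩
        exact hle w.2
      refine ⟨true, IsOpenImmersion.lift il (O (pt k)).ι hr ≫ (f₁ ⁻¹ᵁ U.1).ι, ?_⟩
      show (IsOpenImmersion.lift il (O (pt k)).ι hr ≫ (f₁ ⁻¹ᵁ U.1).ι) ≫ f₁ =
        ((O (pt k)).ι ≫ p) ≫ U.1.ι
      rw [Category.assoc, ← morphismRestrict_ι, ← Category.assoc]
      congr 1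
      have : il ≫ p = f₁ ∣_ U.1 := coprod.inl_desc _ _
      rw [← this, ← Category.assoc, IsOpenImmersion.lift_fac]
    · have hr : Set.range (O (pt k)).ι ⊆ Set.range ir := by
        rintro _ ⟨w, rfl⟩
        exact hle w.2
      refine ⟨false, IsOpenImmersion.lift ir (O (pt k)).ι hr ≫ (f₂ ⁻¹ᵁ U.1).ι, ?_⟩
      show (IsOpenImmersion.lift ir (O (pt k)).ι hr ≫ (f₂ ⁻¹ᵁ U.1).ι) ≫ f₂ =
        ((O (pt k)).ι ≫ p) ≫ U.1.ι
      rw [Category.assoc, ← morphismRestrict_ι, ← Category.assoc]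
      congr 1
      have : ir ≫ p = f₂ ∣_ U.1 := coprod.inr_desc _ _
      rw [← this, ← Category.assoc, IsOpenImmersion.lift_fac]

theorem isPhCover_pairCover [IsProper f₁] [IsProper f₂]
    (hsurj : ∀ x : X, x ∈ Set.range f₁ ∨ x ∈ Set.range f₂) : IsPhCover (pairCover f₁ f₂) := by
  refine ⟨fun b => ?_, fun U => exists_isStandardPh_refining_pair f₁ f₂ hsurj U⟩
  cases b
  · show LocallyOfFiniteType f₂
    infer_instance
  · show LocallyOfFiniteType f₁
    infer_instance

theorem isHCover_pairCover [IsProper f₁] [IsProper f₂] [LocallyOfFinitePresentation f₁]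
    [LocallyOfFinitePresentation f₂]
    (hsurj : ∀ x : X, x ∈ Set.range f₁ ∨ x ∈ Set.range f₂) : IsHCover (pairCover f₁ f₂) := by
  refine ⟨fun b => ?_, fun U => ?_⟩
  · cases b
    · show LocallyOfFinitePresentation f₂
      infer_instance
    · show LocallyOfFinitePresentation f₁
      infer_instance
  · obtain ⟨F, hF, hr⟩ := exists_isStandardPh_refining_pair f₁ f₂ hsurj U
    exact ⟨F, Groth.Agent.S7468.result F hF, hr⟩

end pair

end Groth.Agent.Lib.helper16.HCart
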