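import Mathlib
import Groth.Prelude.Def_HTop
import Groth.Agent.Lib.Helper16.HCart
import Groth.Agent.S4599

/-!
# Cartesian squares of sections for sheaves in topologies with proper pair covers (helper16)

* `pairObj`, `pairHom`: two-member families indexed by `Bool`.
* `generate_pair_mem_over`: a pair cover of `X.left` gives a pair cover of `X` in `Over S`.
* `existsUnique_of_pair`: gluing along a covering pair.
* `cartesian_of_pairCovers`: for a topology `J` on schemes in which two proper jointly surjective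
  morphisms with property `Q` generate a covering sieve, a `J.over S`-sheaf of types turns a fibre
  square `E = X' ×_X Z` (`Z → X` a closed immersion, `X' → X` proper and an isomorphism off `Z`)
  into a cartesian square of sets of sections.
-/

set_option autoImplicit false
universe w u
open CategoryTheory CategoryTheory.Limits AlgebraicGeometry TopologicalSpace Opposite

namespace Groth.Agent.Lib.helper16.HCart

section generic

variable {C : Type*} [Category C]

/-- the pair of objects indexed by `Bool` (`true ↦ Y₁`) -/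
def pairObj (Y₁ Y₂ : C) : Bool → C := fun b => bif b then Y₁ else Y₂

/-- the pair of morphisms indexed by `Bool` -/
def pairHom {X Y₁ Y₂ : C} (π₁ : Y₁ ⟶ X) (π₂ : Y₂ ⟶ X) : ∀ b, pairObj Y₁ Y₂ b ⟶ X := fun b =>
  match b with
  | true => π₁
  | false => π₂

theorem existsUnique_of_pair (J : GrothendieckTopology C) (F : Cᵒᵖ ⥤ Type w)
    (hF : Presieve.IsSheaf J F) {X Y₁ Y₂ : C} (π₁ : Y₁ ⟶ X) (π₂ : Y₂ ⟶ X)
    (hcov : Sieve.generate (Presieve.ofArrows (pairObj Y₁ Y₂) (pairHom π₁ π₂)) ∈ J X)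
    (x₁ : F.obj (op Y₁)) (x₂ : F.obj (op Y₂))
    (h11 : ∀ (W : C) (g g' : W ⟶ Y₁), g ≫ π₁ = g' ≫ π₁ → F.map g.op x₁ = F.map g'.op x₁)
    (h22 : ∀ (W : C) (g g' : W ⟶ Y₂), g ≫ π₂ = g' ≫ π₂ → F.map g.op x₂ = F.map g'.op x₂)
    (h12 : ∀ (W : C) (g : W ⟶ Y₁) (g' : W ⟶ Y₂), g ≫ π₁ = g' ≫ π₂ →
      F.map g.op x₁ = F.map g'.op x₂) :
    ∃! s : F.obj (op X), F.map π₁.op s = x₁ ∧ F.map π₂.op s = x₂ := by
  have hsheaf : Presieve.IsSheafFor F (Presieve.ofArrows (pairObj Y₁ Y₂) (pairHom π₁ π₂)) := by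
    rw [Presieve.isSheafFor_iff_generate]
    exact hF _ hcov
  rw [Presieve.isSheafFor_arrows_iff] at hsheaf
  let x : ∀ b : Bool, F.obj (op (pairObj Y₁ Y₂ b)) := fun b =>
    match b with
    | true => x₁
    | false => x₂
  have hx : Presieve.Arrows.Compatible F (pairHom π₁ π₂) x := by
    intro b b' W g g' hgg'
    cases b <;> cases b'
    · exact h22 W g g' hgg'
    · exact (h12 W g' g hgg'.symm).symm
    · exact h12 W g g' hgg'
    · exact h11 W g g' hgg'
  obtain ⟨s, hs, hu⟩ := hsheaf x hx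
  refine ⟨s, ⟨hs true, hs false⟩, fun s' hs' => hu s' (fun b => ?_)⟩
  cases b
  · exact hs'.2
  · exact hs'.1

theorem eq_of_pair (J : GrothendieckTopology C) (F : Cᵒᵖ ⥤ Type w)
    (hF : Presieve.IsSheaf J F) {X Y₁ Y₂ : C} (π₁ : Y₁ ⟶ X) (π₂ : Y₂ ⟶ X)
    (hcov : Sieve.generate (Presieve.ofArrows (pairObj Y₁ Y₂) (pairHom π₁ π₂)) ∈ J X)
    (s s' : F.obj (op X)) (h1 : F.map π₁.op s = F.map π₁.op s')
    (h2 : F.map π₂.op s = F.map π₂.op s') : s = s' := by
  have hsep : Presieve.IsSeparatedFor F (Presieve.ofArrows (pairObj Y₁ Y₂) (pairHom π₁ π₂)) := by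
    rw [Presieve.isSeparatedFor_iff_generate]
    exact (hF _ hcov).isSeparatedFor
  apply hsep.ext
  rintro _ _ ⟨b⟩
  cases b
  · exact h2
  · exact h1

end generic

section overS

variable {S : Scheme.{u}}

theorem generate_pair_mem_over (J : GrothendieckTopology Scheme.{u}) {X Y₁ Y₂ : Over S}
    (π₁ : Y₁ ⟶ X) (π₂ : Y₂ ⟶ X)
    (h : Sieve.generate (Presieve.ofArrows (pairObj Y₁.left Y₂.left) (pairHom π₁.left π₂.left)) ∈
      J X.left) :
    Sieve.generate (Presieve.ofArrows (pairObj Y₁ Y₂) (pairHom π₁ π₂)) ∈ J.over S X := by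
  rw [GrothendieckTopology.mem_over_iff]
  change Sieve.overEquiv X (Sieve.ofArrows (pairObj Y₁ Y₂) (pairHom π₁ π₂)) ∈ J X.left
  rw [Sieve.overEquiv_ofArrows]
  refine J.superset_covering ?_ h
  rw [Sieve.generate_le_iff]
  rintro _ _ ⟨b⟩
  cases b
  · exact Sieve.ofArrows_mk (fun i => (pairObj Y₁ Y₂ i).left) (fun i => (pairHom π₁ π₂ i).left) false
  · exact Sieve.ofArrows_mk (fun i => (pairObj Y₁ Y₂ i).left) (fun i => (pairHom π₁ π₂ i).left) true

end overS

section main

theorem map_comp_op {C : Type*} [Category C] (F : Cᵒᵖ ⥤ Type w) {A B D : C} (f : A ⟶ B)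
    (g : B ⟶ D) (x : F.obj (op D)) : F.map (f ≫ g).op x = F.map f.op (F.map g.op x) := by
  rw [op_comp, Functor.map_comp_apply]

/-- hypothesis on `J`: pairs of proper jointly surjective `Q`-morphisms are covering -/
def PairCovers (J : GrothendieckTopology Scheme.{u}) (Q : MorphismProperty Scheme.{u}) : Prop :=
  ∀ {T B₁ B₂ : Scheme.{u}} (g₁ : B₁ ⟶ T) (g₂ : B₂ ⟶ T), IsProper g₁ → IsProper g₂ → Q g₁ → Q g₂ →
    (∀ x : T, x ∈ Set.range g₁ ∨ x ∈ Set.range g₂) →
    Sieve.generate (Presieve.ofArrows (pairObj B₁ B₂) (pairHom g₁ g₂)) ∈ J T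

variable (J : GrothendieckTopology Scheme.{u}) (Q : MorphismProperty Scheme.{u})
  [Q.IsStableUnderBaseChange]

/-- the equaliser locus and the preimage of `Z` cover `W` -/
theorem surj_aux {X' X Z W : Scheme.{u}} (b : X' ⟶ X) (i : Z ⟶ X)
    (U : X.Opens) (hU : (U : Set X) = (Set.range i)ᶜ) (hiso : IsIso (b ∣_ U))
    (g₁ g₂ : W ⟶ X') (hg : g₁ ≫ b = g₂ ≫ b) (x : W) :
    x ∈ Set.range (pullback.fst (pullback.lift g₁ g₂ hg) (pullback.diagonal b)) ∨
      x ∈ Set.range (pullback.fst (g₁ ≫ b) i) := by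
  by_cases hx : (g₁ ≫ b) x ∈ Set.range i
  · right
    rw [Scheme.Pullback.range_fst]
    exact hx
  · left
    have hxU : (g₁ ≫ b) x ∈ U := by
      show _ ∈ (U : Set X)
      rw [hU]; exact hx
    let σ := W.fromSpecResidueField x
    let h₁ := σ ≫ g₁
    let h₂ := σ ≫ g₂
    have hr₁ : Set.range h₁ ⊆ Set.range (b ⁻¹ᵁ U).ι := by
      rintro _ ⟨y, rfl⟩
      rw [Scheme.Opens.range_ι]
      show b (h₁ y) ∈ U
      have : h₁ y = g₁ x := by
        show (σ ≫ g₁) y = g₁ x
        rw [Scheme.Hom.comp_apply, Scheme.fromSpecResidueField_apply]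
      rw [this, ← Scheme.Hom.comp_apply]
      exact hxU
    have hr₂ : Set.range h₂ ⊆ Set.range (b ⁻¹ᵁ U).ι := by
      rintro _ ⟨y, rfl⟩
      rw [Scheme.Opens.range_ι]
      show b (h₂ y) ∈ U
      have : h₂ y = g₂ x := by
        show (σ ≫ g₂) y = g₂ x
        rw [Scheme.Hom.comp_apply, Scheme.fromSpecResidueField_apply]
      rw [this, ← Scheme.Hom.comp_apply, ← hg]
      exact hxU
    have e1 : IsOpenImmersion.lift (b ⁻¹ᵁ U).ι h₁ hr₁ ≫ (b ∣_ U) =
        IsOpenImmersion.lift (b ⁻¹ᵁ U).ι h₂ hr₂ ≫ (b ∣_ U) := by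
      rw [← cancel_mono U.ι, Category.assoc, Category.assoc, morphismRestrict_ι,
        ← Category.assoc, ← Category.assoc, IsOpenImmersion.lift_fac, IsOpenImmersion.lift_fac]
      show (σ ≫ g₁) ≫ b = (σ ≫ g₂) ≫ b
      rw [Category.assoc, Category.assoc, hg]
    have e2 := (cancel_mono (b ∣_ U)).1 e1
    have e3 : h₁ = h₂ := by
      rw [← IsOpenImmersion.lift_fac (b ⁻¹ᵁ U).ι h₁ hr₁,
        ← IsOpenImmersion.lift_fac (b ⁻¹ᵁ U).ι h₂ hr₂, e2]
    let τ : Spec (W.residueField x) ⟶
        pullback (pullback.lift g₁ g₂ hg) (pullback.diagonal b) :=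
      pullback.lift σ h₁ (by
        apply pullback.hom_ext
        · rw [Category.assoc, pullback.lift_fst, Category.assoc, pullback.diagonal_fst,
            Category.comp_id]
        · rw [Category.assoc, pullback.lift_snd, Category.assoc, pullback.diagonal_snd,
            Category.comp_id]
          exact e3.symm)
    have hτ : τ ≫ pullback.fst _ _ = σ := pullback.lift_fst _ _ _
    refine ⟨τ (IsLocalRing.closedPoint (W.residueField x)), ?_⟩
    rw [← Scheme.Hom.comp_apply, hτ, Scheme.fromSpecResidueField_apply]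

theorem cartesian_of_pairCovers (hJ : PairCovers J Q) (S : Scheme.{u})
    (F : Sheaf (J.over S) (Type w))
    {E Z X' X : Over S} (e : E ⟶ X') (π : E ⟶ Z) (b : X' ⟶ X) (i : Z ⟶ X)
    [IsClosedImmersion i.left] [IsProper b.left] (hQi : Q i.left) (hQb : Q b.left)
    (hQΔ : Q (pullback.diagonal b.left))
    (hsq : IsPullback e.left π.left b.left i.left)
    (U : X.left.Opens) (hU : (U : Set X.left) = (Set.range i.left)ᶜ)
    (hiso : IsIso (b.left ∣_ U))
    (t : F.obj.obj (op Z)) (s' : F.obj.obj (op X'))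
    (hts : F.obj.map π.op t = F.obj.map e.op s') :
    ∃! s : F.obj.obj (op X), F.obj.map i.op s = t ∧ F.obj.map b.op s = s' := by
  have hF : Presieve.IsSheaf (J.over S) F.obj := (isSheaf_iff_isSheaf_of_type _ _).1 F.property
  have hsurj : ∀ x : X.left, x ∈ Set.range i.left ∨ x ∈ Set.range b.left := by
    intro x
    by_cases hx : x ∈ Set.range i.left
    · exact Or.inl hx
    · right
      have hxU : x ∈ U := by
        show x ∈ (U : Set X.left)
        rw [hU]; exact hx
      obtain ⟨y, hy⟩ := (b.left ∣_ U).surjective ⟨x, hxU⟩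
      refine ⟨y.1, ?_⟩
      have h1 := congrArg Subtype.val hy
      rw [← Scheme.Opens.ι_apply, ← Scheme.Hom.comp_apply, morphismRestrict_ι,
        Scheme.Hom.comp_apply] at h1
      exact h1
  haveI : Mono i.left := inferInstance
  haveI : Mono i := (Over.forget S).mono_of_mono_map ‹_›
  refine existsUnique_of_pair (J.over S) F.obj hF i b
    (generate_pair_mem_over J i b (hJ i.left b.left inferInstance inferInstance hQi hQb hsurj))
    t s' ?_ ?_ ?_
  · intro W g g' h
    rw [(cancel_mono i).1 h]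
  · -- the main point
    intro W g g' h
    have hg : g.left ≫ b.left = g'.left ≫ b.left := by
      have := congrArg CommaMorphism.left h
      simpa using this
    let j₁ := pullback.fst (pullback.lift g.left g'.left hg) (pullback.diagonal b.left)
    let j₂ := pullback.fst (g.left ≫ b.left) i.left
    let j₁o : Over.mk (j₁ ≫ W.hom) ⟶ W := Over.homMk j₁ rfl
    let j₂o : Over.mk (j₂ ≫ W.hom) ⟶ W := Over.homMk j₂ rfl
    have hcov := generate_pair_mem_over J j₁o j₂o
      (hJ j₁ j₂ inferInstance inferInstance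
        (MorphismProperty.pullback_fst _ _ hQΔ) (MorphismProperty.pullback_fst _ _ hQi)
        (surj_aux b.left i.left U hU hiso g.left g'.left hg))
    refine eq_of_pair (J.over S) F.obj hF j₁o j₂o hcov _ _ ?_ ?_
    · have : j₁o ≫ g = j₁o ≫ g' := by
        apply Over.OverMorphism.ext
        show j₁ ≫ g.left = j₁ ≫ g'.left
        have h1 : j₁ ≫ pullback.lift g.left g'.left hg = pullback.snd _ _ ≫
            pullback.diagonal b.left := pullback.condition
        have h2 := congrArg (· ≫ pullback.fst b.left b.left) h1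
        have h3 := congrArg (· ≫ pullback.snd b.left b.left) h1
        simp only [Category.assoc, pullback.lift_fst, pullback.lift_snd, pullback.diagonal_fst,
          pullback.diagonal_snd, Category.comp_id] at h2 h3
        rw [h2, h3]
      rw [← map_comp_op, ← map_comp_op, this]
    · have c₁ : (j₂ ≫ g.left) ≫ b.left = pullback.snd (g.left ≫ b.left) i.left ≫ i.left := by
        rw [Category.assoc]; exact pullback.condition
      have c₂ : (j₂ ≫ g'.left) ≫ b.left = pullback.snd (g.left ≫ b.left) i.left ≫ i.left := by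
        rw [Category.assoc, ← hg]; exact pullback.condition
      let ε₁ := hsq.lift (j₂ ≫ g.left) (pullback.snd (g.left ≫ b.left) i.left) c₁
      let ε₂ := hsq.lift (j₂ ≫ g'.left) (pullback.snd (g.left ≫ b.left) i.left) c₂
      let ζ : Over.mk (j₂ ≫ W.hom) ⟶ Z := Over.homMk (pullback.snd (g.left ≫ b.left) i.left) (by
        show pullback.snd (g.left ≫ b.left) i.left ≫ Z.hom = j₂ ≫ W.hom
        rw [← Over.w i, ← Category.assoc, ← pullback.condition, Category.assoc, Category.assoc,
          Over.w b, Over.w g])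
      let ε₁o : Over.mk (j₂ ≫ W.hom) ⟶ E := Over.homMk ε₁ (by
        show ε₁ ≫ E.hom = j₂ ≫ W.hom
        rw [← Over.w e, ← Category.assoc, hsq.lift_fst, Category.assoc, Over.w g])
      let ε₂o : Over.mk (j₂ ≫ W.hom) ⟶ E := Over.homMk ε₂ (by
        show ε₂ ≫ E.hom = j₂ ≫ W.hom
        rw [← Over.w e, ← Category.assoc, hsq.lift_fst, Category.assoc, Over.w g'])
      have a₁ : ε₁o ≫ e = j₂o ≫ g := Over.OverMorphism.ext (hsq.lift_fst _ _ _)
      have a₂ : ε₂o ≫ e = j₂o ≫ g' := Over.OverMorphism.ext (hsq.lift_fst _ _ _)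
      have b₁ : ε₁o ≫ π = ζ := Over.OverMorphism.ext (hsq.lift_snd _ _ _)
      have b₂ : ε₂o ≫ π = ζ := Over.OverMorphism.ext (hsq.lift_snd _ _ _)
      rw [← map_comp_op, ← map_comp_op, ← a₁, ← a₂, map_comp_op, map_comp_op, ← hts,
        ← map_comp_op, ← map_comp_op, b₁, b₂]
  · intro W g g' h
    have hg : g'.left ≫ b.left = g.left ≫ i.left := by
      have := congrArg CommaMorphism.left h
      simpa using this.symm
    let l := hsq.lift g'.left g.left hg
    let lo : W ⟶ E := Over.homMk l (by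
      rw [← Over.w e, ← Category.assoc, hsq.lift_fst, Over.w g'])
    have a : lo ≫ e = g' := Over.OverMorphism.ext (hsq.lift_fst _ _ _)
    have c : lo ≫ π = g := Over.OverMorphism.ext (hsq.lift_snd _ _ _)
    rw [← c, ← a, map_comp_op, map_comp_op, hts]

end main

end Groth.Agent.Lib.helper16.HCart
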