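import Mathlib
import Groth.Prelude.Def_BlowUp2
import Groth.Agent.Lib.Helper16.LocPrincipal
import Groth.Agent.Lib.Helper16.EffCartier
import Groth.Agent.Lib.Helper16.EffCartier2
import Groth.Agent.Lib.Helper7.IdealComap

set_option autoImplicit false
set_option linter.style.haveILetI false
universe u
open CategoryTheory CategoryTheory.Limits AlgebraicGeometry TopologicalSpace Opposite

namespace Groth.Agent.Lib.helper16.StrictClosed

open Groth.Agent.Lib.helper16.LocPrincipal Groth.Agent.Lib.helper16.EffCartier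
  Groth.Agent.Lib.helper16.EffCartier2

variable {Y : Scheme.{u}}

/-- the ideal sheaf of sections vanishing off `V(E)`: the kernel of the inclusion of the open
complement of `V(E)` (for `E` locally principal: the `E`-power torsion of `O_Y`) -/
noncomputable def torsionIdeal (E : Y.IdealSheafData) : Y.IdealSheafData :=
  (ModPair.interior E).ι.ker

/-- on a chart `(V, a)` of `E`, the torsion ideal is the `a`-power torsion -/
theorem mem_torsionIdeal_iff (E : Y.IdealSheafData) (hE : IsLocPrincipal E) (V : Y.affineOpens)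
    (a : Γ(Y, V.1)) (ha : E.ideal V = Ideal.span {a}) (y : Γ(Y, V.1)) :
    y ∈ (torsionIdeal E).ideal V ↔ ∃ n : ℕ, a ^ n * y = 0 := by
  haveI : IsAffineHom (ModPair.interior E).ι := LocPrincipal.isAffineHom_interior_ι E hE
  unfold torsionIdeal
  rw [Scheme.Hom.ker_apply, RingHom.mem_ker]
  have heq : (ModPair.interior E).ι ''ᵁ (ModPair.interior E).ι ⁻¹ᵁ V.1 = Y.basicOpen a := by
    rw [Scheme.Hom.image_preimage_eq_opensRange_inf, Scheme.Opens.opensRange_ι]
    exact interior_inf_chart E V a ha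
  have gen : ∀ (W W' : Y.Opens) (h1 : W ≤ V.1) (h2 : W' ≤ V.1), W = W' →
      ((Y.presheaf.map (homOfLE h1).op).hom y = 0 ↔
        (Y.presheaf.map (homOfLE h2).op).hom y = 0) := by
    intro W W' h1 h2 h12
    subst h12
    rfl
  have key : ((ModPair.interior E).ι.app V.1).hom y = 0 ↔
      (Y.presheaf.map (homOfLE (Y.basicOpen_le a)).op).hom y = 0 := by
    rw [Scheme.Opens.ι_app]
    exact gen _ _ _ _ heq
  rw [key]
  have inst := V.2.isLocalization_basicOpen a
  constructor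
  · intro h
    obtain ⟨⟨_, n, rfl⟩, hm⟩ :=
      (IsLocalization.map_eq_zero_iff (Submonoid.powers a) Γ(Y, Y.basicOpen a) y).mp h
    exact ⟨n, hm⟩
  · rintro ⟨n, hn⟩
    exact (IsLocalization.map_eq_zero_iff (Submonoid.powers a) Γ(Y, Y.basicOpen a) y).mpr
      ⟨⟨a ^ n, n, rfl⟩, hn⟩


/-- the inverse image of `E` on the closed subscheme cut out by its torsion ideal is an effective
Cartier divisor -/
theorem isEffCartier_comap_torsion (E : Y.IdealSheafData) (hE : IsLocPrincipal E) :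
    BlowUp.IsEffCartierIdeal (E.comap (torsionIdeal E).subschemeι) := by
  intro z
  obtain ⟨V, hzV, a, ha⟩ := hE ((torsionIdeal E).subschemeι z)
  have hW : IsAffineOpen ((torsionIdeal E).subschemeι ⁻¹ᵁ V.1) :=
    V.2.preimage (torsionIdeal E).subschemeι
  refine ⟨⟨_, hW⟩, hzV, ((torsionIdeal E).subschemeι.app V.1).hom a, ?_, ?_⟩
  · rw [mem_nonZeroDivisors_iff_right]
    intro w hw
    obtain ⟨y, rfl⟩ := (torsionIdeal E).subschemeι_app_surjective V w
    have h1 : a * y ∈ (torsionIdeal E).ideal V := by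
      rw [← (torsionIdeal E).ker_subschemeι_app V, RingHom.mem_ker, map_mul, mul_comm]
      exact hw
    obtain ⟨n, hn⟩ := (mem_torsionIdeal_iff E hE V a ha _).mp h1
    have h2 : y ∈ (torsionIdeal E).ideal V :=
      (mem_torsionIdeal_iff E hE V a ha _).mpr ⟨n + 1, by rw [pow_succ, mul_assoc]; exact hn⟩
    rw [← (torsionIdeal E).ker_subschemeι_app V, RingHom.mem_ker] at h2
    exact h2
  · rw [Groth.Agent.Lib.helper7.IdealComap.ideal_comap (torsionIdeal E).subschemeι E V.2 hW le_rfl,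
      ha, Ideal.map_span, Set.image_singleton, ← Scheme.Hom.app_eq_appLE]


/-- a morphism under which `E` becomes effective Cartier kills the torsion ideal -/
theorem torsionIdeal_le_ker (E : Y.IdealSheafData) (hE : IsLocPrincipal E) {T : Scheme.{u}}
    (g : T ⟶ Y) (hg : BlowUp.IsEffCartierIdeal (E.comap g)) : torsionIdeal E ≤ g.ker := by
  unfold Scheme.Hom.ker
  rw [Scheme.IdealSheafData.le_ofIdeals_iff]
  intro V y hy
  rw [RingHom.mem_ker]
  apply TopCat.Presheaf.section_ext T.sheaf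
  intro t ht
  obtain ⟨V₁, htV₁, hV₁V, a, ha⟩ := LocPrincipal.exists_principal_le hE (g t) V.1 ht
  obtain ⟨W, htW, hWV₁, c, hc, hW⟩ :=
    EffCartier.exists_principal_le hg t (g ⁻¹ᵁ V₁.1) htV₁
  have hW' : (E.comap g).ideal W = Ideal.span {(g.appLE V₁.1 W.1 hWV₁).hom a} := by
    rw [Groth.Agent.Lib.helper7.IdealComap.ideal_comap g E V₁.2 W.2 hWV₁, ha, Ideal.map_span,
      Set.image_singleton]
  have hc' : c ∈ Ideal.span {(g.appLE V₁.1 W.1 hWV₁).hom a} := by
    rw [← hW', hW]; exact Ideal.mem_span_singleton_self c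
  obtain ⟨r, hr⟩ := Ideal.mem_span_singleton'.mp hc'
  have ha' : (g.appLE V₁.1 W.1 hWV₁).hom a ∈ nonZeroDivisors Γ(T, W.1) :=
    mem_nonZeroDivisors_of_mul_mem (hr ▸ hc)
  have hy₁ : (Y.presheaf.map (homOfLE hV₁V).op).hom y ∈ (torsionIdeal E).ideal V₁ :=
    (torsionIdeal E).ideal_le_comap_ideal (U := V₁) (V := V) hV₁V hy
  obtain ⟨n, hn⟩ := (mem_torsionIdeal_iff E hE V₁ a ha _).mp hy₁
  have h1 : (g.appLE V₁.1 W.1 hWV₁).hom a ^ n *
      (g.appLE V₁.1 W.1 hWV₁).hom ((Y.presheaf.map (homOfLE hV₁V).op).hom y) = 0 := by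
    rw [← map_pow, ← map_mul, hn, map_zero]
  have h2 : (g.appLE V₁.1 W.1 hWV₁).hom ((Y.presheaf.map (homOfLE hV₁V).op).hom y) = 0 :=
    (mem_nonZeroDivisors_iff_right.mp (pow_mem ha' n)) _ (by rw [mul_comm]; exact h1)
  have hWV : W.1 ≤ g ⁻¹ᵁ V.1 := hWV₁.trans (fun x hx => hV₁V hx)
  have h3 : (T.presheaf.map (homOfLE hWV).op).hom ((g.app V.1).hom y) = 0 := by
    have e1 : Y.presheaf.map (homOfLE hV₁V).op ≫ g.appLE V₁.1 W.1 hWV₁ =
        g.app V.1 ≫ T.presheaf.map (homOfLE hWV).op := by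
      rw [Scheme.Hom.map_appLE]; rfl
    have := congrArg (fun φ => φ.hom y) e1
    simp only [CommRingCat.hom_comp, RingHom.comp_apply] at this
    rw [← this]; exact h2
  have h4 : (T.presheaf.germ (g ⁻¹ᵁ V.1) t ht).hom ((g.app V.1).hom y) =
      (T.presheaf.germ W.1 t htW).hom ((T.presheaf.map (homOfLE hWV).op).hom ((g.app V.1).hom y)) :=
    (TopCat.Presheaf.germ_res_apply T.presheaf (homOfLE hWV) t htW _).symm
  refine h4.trans ?_
  rw [h3, map_zero]
  exact (map_zero _).symm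

/-- lifting through the closed subscheme cut out by the torsion ideal -/
theorem exists_lift_torsion (E : Y.IdealSheafData) (hE : IsLocPrincipal E) {T : Scheme.{u}}
    (g : T ⟶ Y) (hg : BlowUp.IsEffCartierIdeal (E.comap g)) :
    ∃ h : T ⟶ (torsionIdeal E).subscheme, h ≫ (torsionIdeal E).subschemeι = g :=
  ⟨IsClosedImmersion.lift (torsionIdeal E).subschemeι g
      (by rw [Scheme.IdealSheafData.ker_subschemeι]; exact torsionIdeal_le_ker E hE g hg),
    IsClosedImmersion.lift_fac _ _ _⟩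


/-- blow-ups are unique up to isomorphism -/
theorem exists_iso_of_isBlowUp {X X₁ X₂ : Scheme.{u}} (𝓘 : X.IdealSheafData) (b₁ : X₁ ⟶ X)
    (b₂ : X₂ ⟶ X) (h₁ : BlowUp.IsBlowUp b₁ 𝓘) (h₂ : BlowUp.IsBlowUp b₂ 𝓘) :
    ∃ φ : X₁ ≅ X₂, φ.hom ≫ b₂ = b₁ := by
  obtain ⟨f, hf, -⟩ := h₂.2 X₁ b₁ h₁.1
  obtain ⟨g, hg, -⟩ := h₁.2 X₂ b₂ h₂.1
  refine ⟨⟨f, g, ?_, ?_⟩, hf⟩
  · exact (h₁.2 X₁ b₁ h₁.1).unique (by rw [Category.assoc, hg, hf]) (Category.id_comp _)
  · exact (h₂.2 X₂ b₂ h₂.1).unique (by rw [Category.assoc, hf, hg]) (Category.id_comp _)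

section Main

variable {X X' : Scheme.{u}} (𝓘 𝓙 : X.IdealSheafData) (b : X' ⟶ X)

/-- the inverse image of the centre on `Z ×_X X'` -/
noncomputable abbrev excOnPullback : (pullback 𝓙.subschemeι b).IdealSheafData :=
  (𝓘.comap b).comap (pullback.snd 𝓙.subschemeι b)

/-- the strict transform of `Z = V(𝓙)` as a closed subscheme of `Z ×_X X'` -/
noncomputable abbrev strictSub : Scheme.{u} := (torsionIdeal (excOnPullback 𝓘 𝓙 b)).subscheme

/-- the projection of the strict transform to `Z` -/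
noncomputable abbrev strictToZ : strictSub 𝓘 𝓙 b ⟶ 𝓙.subscheme :=
  (torsionIdeal (excOnPullback 𝓘 𝓙 b)).subschemeι ≫ pullback.fst 𝓙.subschemeι b

variable {𝓘 𝓙 b}

theorem isLocPrincipal_excOnPullback (hb : BlowUp.IsBlowUp b 𝓘) :
    IsLocPrincipal (excOnPullback 𝓘 𝓙 b) :=
  isLocPrincipal_comap (isLocPrincipal_of_isEffCartier hb.1) _

theorem comap_comp_fst {W : Scheme.{u}} (m : W ⟶ pullback 𝓙.subschemeι b) :
    (𝓘.comap 𝓙.subschemeι).comap (m ≫ pullback.fst 𝓙.subschemeι b) =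
      (excOnPullback 𝓘 𝓙 b).comap m := by
  unfold excOnPullback
  rw [← Scheme.IdealSheafData.comap_comp, ← Scheme.IdealSheafData.comap_comp,
    ← Scheme.IdealSheafData.comap_comp, Category.assoc, pullback.condition, Category.assoc]

theorem comap_strictToZ :
    (𝓘.comap 𝓙.subschemeι).comap (strictToZ 𝓘 𝓙 b) =
      (excOnPullback 𝓘 𝓙 b).comap (torsionIdeal (excOnPullback 𝓘 𝓙 b)).subschemeι :=
  comap_comp_fst _

/-- **the strict transform is the blow-up of `Z` in the inverse image of the centre** -/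
theorem isBlowUp_strictToZ (hb : BlowUp.IsBlowUp b 𝓘) :
    BlowUp.IsBlowUp (strictToZ 𝓘 𝓙 b) (𝓘.comap 𝓙.subschemeι) := by
  have hE := isLocPrincipal_excOnPullback (𝓙 := 𝓙) hb
  refine ⟨?_, ?_⟩
  · rw [comap_strictToZ]
    exact isEffCartier_comap_torsion _ hE
  · intro T g hg
    have hg' : BlowUp.IsEffCartierIdeal (𝓘.comap (g ≫ 𝓙.subschemeι)) := by
      rw [Scheme.IdealSheafData.comap_comp]; exact hg
    obtain ⟨h, hh, huniq⟩ := hb.2 T (g ≫ 𝓙.subschemeι) hg'
    let gy : T ⟶ pullback 𝓙.subschemeι b := pullback.lift g h hh.symm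
    have hgy : BlowUp.IsEffCartierIdeal ((excOnPullback 𝓘 𝓙 b).comap gy) := by
      rw [← comap_comp_fst, pullback.lift_fst]
      exact hg
    obtain ⟨l, hl⟩ := exists_lift_torsion _ hE gy hgy
    refine ⟨l, ?_, ?_⟩
    · show l ≫ strictToZ 𝓘 𝓙 b = g
      unfold strictToZ
      rw [← Category.assoc, hl, pullback.lift_fst]
    · intro l' hl'
      have hl'' : l' ≫ strictToZ 𝓘 𝓙 b = g := hl'
      unfold strictToZ at hl''
      rw [← cancel_mono (torsionIdeal (excOnPullback 𝓘 𝓙 b)).subschemeι, hl]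
      apply pullback.hom_ext
      · rw [Category.assoc, hl'', pullback.lift_fst]
      · rw [pullback.lift_snd]
        apply huniq
        rw [Category.assoc, Category.assoc, ← pullback.condition, ← Category.assoc,
          ← Category.assoc, Category.assoc l', hl'']

end Main

end Groth.Agent.Lib.helper16.StrictClosed
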