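import Mathlib
import Groth.Prelude.Def_HTop
import Groth.Prelude.Def_HTop3
import Groth.Agent.Lib.Helper16.HCart2
import Groth.Agent.Lib.Helper16.StrictClosed
import Groth.Agent.Lib.Helper16.BlowUpProper
import Groth.Agent.Lib.Helper16.ModPairLib

/-!
# h and ph sheaves turn (almost) blow up squares into cartesian squares (helper16)

* `pairCovers_h`, `pairCovers_ph`.
* `h_cartesian`, `ph_cartesian`: the cartesian square of sections for a proper `b : X' ⟶ X` which is
  an isomorphism off a closed subscheme `Z` (of finite presentation for `h`).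
* `isIso_of_isBlowUp_top`, `isIso_morphismRestrict_of_isBlowUp`: a blow-up is an isomorphism off the
  centre.
* `isIso_morphismRestrict_of_isAlmostBlowUpSquare`.
-/

set_option autoImplicit false
universe u
open CategoryTheory CategoryTheory.Limits AlgebraicGeometry TopologicalSpace Opposite

namespace Groth.Agent.Lib.helper16.HCart

open HTop

theorem pairCovers_h : PairCovers hTopology.{u} @LocallyOfFinitePresentation := by
  intro T B₁ B₂ g₁ g₂ h1 h2 q1 q2 hsurj
  haveI := h1; haveI := h2; haveI := q1; haveI := q2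
  have h := isHCover_pairCover g₁ g₂ hsurj
  rw [← presieve₀_mem_hPrecoverage_iff] at h
  exact Precoverage.generate_mem_toGrothendieck h

theorem pairCovers_ph : PairCovers phTopology.{u} @LocallyOfFiniteType := by
  intro T B₁ B₂ g₁ g₂ h1 h2 q1 q2 hsurj
  haveI := h1; haveI := h2
  have h := isPhCover_pairCover g₁ g₂ hsurj
  rw [← presieve₀_mem_phPrecoverage_iff] at h
  exact Precoverage.generate_mem_toGrothendieck h

theorem h_cartesian (S : Scheme.{u}) (F : HTop.ShH S)
    {E Z X Y : Over S} (e : E ⟶ X) (π : E ⟶ Z) (f : X ⟶ Y) (i : Z ⟶ Y)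
    [IsProper f.left] [LocallyOfFinitePresentation f.left]
    [IsClosedImmersion i.left] [LocallyOfFinitePresentation i.left]
    (hsq : IsPullback e.left π.left f.left i.left)
    (U : Y.left.Opens) (hU : (U : Set Y.left) = (Set.range i.left)ᶜ) (hiso : IsIso (f.left ∣_ U))
    (t : F.obj.obj (op Z)) (s' : F.obj.obj (op X)) (hts : F.obj.map π.op t = F.obj.map e.op s') :
    ∃! s : F.obj.obj (op Y), F.obj.map i.op s = t ∧ F.obj.map f.op s = s' :=
  cartesian_of_pairCovers hTopology @LocallyOfFinitePresentation pairCovers_h S F e π f i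
    inferInstance inferInstance (Groth.Agent.S4599.result f.left) hsq U hU hiso t s' hts

theorem ph_cartesian (S : Scheme.{u}) (F : HTop.ShPh S)
    {E Z X Y : Over S} (e : E ⟶ X) (π : E ⟶ Z) (f : X ⟶ Y) (i : Z ⟶ Y)
    [IsProper f.left] [IsClosedImmersion i.left]
    (hsq : IsPullback e.left π.left f.left i.left)
    (U : Y.left.Opens) (hU : (U : Set Y.left) = (Set.range i.left)ᶜ) (hiso : IsIso (f.left ∣_ U))
    (t : F.obj.obj (op Z)) (s' : F.obj.obj (op X)) (hts : F.obj.map π.op t = F.obj.map e.op s') :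
    ∃! s : F.obj.obj (op Y), F.obj.map i.op s = t ∧ F.obj.map f.op s = s' :=
  cartesian_of_pairCovers phTopology @LocallyOfFiniteType pairCovers_ph S F e π f i
    inferInstance inferInstance inferInstance hsq U hU hiso t s' hts

section blowup

open Groth.Agent.Lib.helper16.StrictClosed Groth.Agent.Lib.helper16.BlowUpProper

theorem isEffCartier_top (X : Scheme.{u}) : BlowUp.IsEffCartierIdeal (⊤ : X.IdealSheafData) := by
  intro x
  obtain ⟨_, ⟨V, hV, rfl⟩, hxV, -⟩ :=
    (X.isBasis_affineOpens).exists_subset_of_mem_open (Set.mem_univ x) isOpen_univ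
  refine ⟨⟨V, hV⟩, hxV, 1, one_mem _, ?_⟩
  rw [Scheme.IdealSheafData.ideal_top]
  simp

theorem isBlowUp_id_top (X : Scheme.{u}) : BlowUp.IsBlowUp (𝟙 X) (⊤ : X.IdealSheafData) := by
  refine ⟨?_, fun Y g _ => ⟨g, Category.comp_id g, fun h hh => ?_⟩⟩
  · rw [Scheme.IdealSheafData.comap_id]
    exact isEffCartier_top X
  · rw [← hh]; exact (Category.comp_id h).symm

theorem isIso_of_isBlowUp_top {X B : Scheme.{u}} (b : B ⟶ X)
    (hb : BlowUp.IsBlowUp b (⊤ : X.IdealSheafData)) : IsIso b := by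
  obtain ⟨φ, hφ⟩ := exists_iso_of_isBlowUp ⊤ b (𝟙 X) hb (isBlowUp_id_top X)
  rw [Category.comp_id] at hφ
  rw [← hφ]
  infer_instance

/-- a blow-up is an isomorphism over any open disjoint from the centre -/
theorem isIso_morphismRestrict_of_isBlowUp {X B : Scheme.{u}} (𝓘 : X.IdealSheafData) (b : B ⟶ X)
    (hb : BlowUp.IsBlowUp b 𝓘) (V : X.Opens) (hV : Disjoint (𝓘.support : Set X) (V : Set X)) :
    IsIso (b ∣_ V) := by
  have h1 := isBlowUp_morphismRestrict 𝓘 b hb V
  have h2 : 𝓘.comap V.ι = ⊤ := by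
    rw [← Scheme.IdealSheafData.support_eq_bot_iff]
    ext y
    rw [Scheme.IdealSheafData.support_comap]
    simp only [Closeds.coe_preimage, Set.mem_preimage, Closeds.coe_bot, Set.mem_empty_iff_false,
      iff_false]
    intro hy
    exact Set.disjoint_left.mp hV hy y.2
  rw [h2] at h1
  exact isIso_of_isBlowUp_top _ h1

theorem isIso_morphismRestrict_of_isAlmostBlowUpSquare {E Z X' X : Scheme.{u}} {e : E ⟶ X'}
    {π : E ⟶ Z} {b : X' ⟶ X} {i : Z ⟶ X} (h : HTop.IsAlmostBlowUpSquare e π b i)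
    (V : X.Opens) (hV : (V : Set X) = (Set.range i)ᶜ) : IsIso (b ∣_ V) := by
  haveI := h.isClosedImmersion
  have hsupp : (i.ker.support : Set X) = Set.range i := by
    rw [Scheme.Hom.support_ker]
    exact i.isClosedEmbedding.isClosed_range.closure_eq
  have hdisj : Disjoint (i.ker.support : Set X) (V : Set X) := by
    rw [hsupp, hV]
    exact disjoint_compl_right
  set 𝓙 := i.ker.comap b with h𝓙
  have h1 := isIso_morphismRestrict_of_isBlowUp i.ker _ h.isBlowUp V hdisj
  rw [morphismRestrict_comp] at h1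
  have hVa : b ⁻¹ᵁ V = HTop.awayFrom 𝓙 := by
    ext y
    show b y ∈ (V : Set X) ↔ y ∈ ((𝓙.support : Set X'))ᶜ
    rw [h𝓙, Scheme.IdealSheafData.support_comap, hV, ← hsupp]
    rfl
  haveI h2 : IsIso ((HTop.supportedOn 𝓙).subschemeι ∣_ (b ⁻¹ᵁ V)) :=
    Groth.Agent.Lib.helper16.ModPairLib.isIso_imageι_morphismRestrict (HTop.awayFrom 𝓙) (b ⁻¹ᵁ V) hVa
  exact @IsIso.of_isIso_comp_left _ _ _ _ _ ((HTop.supportedOn 𝓙).subschemeι ∣_ (b ⁻¹ᵁ V)) (b ∣_ V)
    h2 h1

end blowup

end Groth.Agent.Lib.helper16.HCart
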