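import Mathlib
import Groth.Prelude.Def_QuadGrp
import Groth.Agent.Lib.Helper13.DiscComp

set_option autoImplicit false

namespace Groth.Agent.Lib.helper16.HDF

open MvPolynomial QuadraticMap
open Groth.Agent.Lib.helper13

section Universal

variable {k : ℕ}

/-- the universal coefficient ring -/
abbrev Z (k : ℕ) : Type := MvPolynomial (Sym2 (Fin (k + 1))) ℤ

/-- Kill the off-diagonal variables in row/column `i₀`. -/
noncomputable def kill (i₀ : Fin (k + 1)) : Z k →+* Z k :=
  (aeval (R := ℤ) (fun s : Sym2 (Fin (k + 1)) => if i₀ ∈ s ∧ ¬ s.IsDiag then (0 : Z k) else X s) :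
    Z k →ₐ[ℤ] Z k).toRingHom

theorem kill_X_of (i₀ : Fin (k + 1)) (s : Sym2 (Fin (k + 1))) (h : i₀ ∈ s ∧ ¬ s.IsDiag) :
    kill i₀ (X s) = 0 := by
  show aeval _ (X s) = 0
  rw [aeval_X, if_pos h]

theorem kill_X_of_not (i₀ : Fin (k + 1)) (s : Sym2 (Fin (k + 1))) (h : ¬ (i₀ ∈ s ∧ ¬ s.IsDiag)) :
    kill i₀ (X s) = X s := by
  show aeval _ (X s) = X s
  rw [aeval_X, if_neg h]

theorem kill_two (i₀ : Fin (k + 1)) : kill i₀ (2 : Z k) = 2 :=
  map_ofNat _ 2

/-- entries of the killed universal polar matrix in row `i₀` -/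
theorem kill_univPolarMat_row (i₀ j : Fin (k + 1)) (hj : j ≠ i₀) :
    kill i₀ (QuadGrp.univPolarMat (k + 1) i₀ j) = 0 := by
  rw [QuadGrp.univPolarMat, Matrix.of_apply, if_neg (Ne.symm hj)]
  apply kill_X_of
  refine ⟨Sym2.mem_mk_left _ _, ?_⟩
  rw [Sym2.mk_isDiag_iff]
  exact Ne.symm hj

theorem kill_univPolarMat_diag (i₀ : Fin (k + 1)) :
    kill i₀ (QuadGrp.univPolarMat (k + 1) i₀ i₀) = 2 * X s(i₀, i₀) := by
  rw [QuadGrp.univPolarMat, Matrix.of_apply, if_pos rfl, map_mul, kill_two, kill_X_of_not]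
  rintro ⟨-, h⟩
  exact h (Sym2.mk_isDiag_iff.mpr rfl)

theorem kill_discUniv (i₀ : Fin (k + 1)) :
    kill i₀ (QuadGrp.discUniv (k + 1)) = 2 * X s(i₀, i₀) *
      (((kill i₀).mapMatrix (QuadGrp.univPolarMat (k + 1))).submatrix
        i₀.succAbove i₀.succAbove).det := by
  rw [QuadGrp.discUniv, RingHom.map_det, Matrix.det_succ_row _ i₀, Finset.sum_eq_single i₀]
  · have : ((-1 : Z k)) ^ ((i₀ : ℕ) + (i₀ : ℕ)) = 1 := by
      rw [← two_mul, pow_mul]; simp
    rw [this, one_mul, RingHom.mapMatrix_apply, Matrix.map_apply, kill_univPolarMat_diag]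
  · intro j _ hj
    rw [RingHom.mapMatrix_apply, Matrix.map_apply, kill_univPolarMat_row i₀ j hj, mul_zero,
      zero_mul]
  · intro h
    exact absurd (Finset.mem_univ _) h

theorem kill_halfDiscUniv (hk : Odd (k + 1)) (i₀ : Fin (k + 1)) :
    kill i₀ (QuadGrp.halfDiscUniv (k + 1)) = X s(i₀, i₀) *
      (((kill i₀).mapMatrix (QuadGrp.univPolarMat (k + 1))).submatrix
        i₀.succAbove i₀.succAbove).det := by
  have h := kill_discUniv i₀
  rw [DiscParity.discUniv_eq_two_mul_halfDiscUniv hk, map_mul, kill_two, mul_assoc] at h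
  exact mul_left_cancel₀ two_ne_zero h

end Universal


section Eval

variable {k : ℕ} {S : Type*} [CommRing S]

/-- evaluation at a coefficient family vanishing off the diagonal in row `i₀` factors through `kill` -/
theorem eval₂_kill (i₀ : Fin (k + 1)) (c : Sym2 (Fin (k + 1)) → S)
    (hc : ∀ s, i₀ ∈ s → ¬ s.IsDiag → c s = 0) (P : Z k) :
    eval₂ (Int.castRingHom S) c (kill i₀ P) = eval₂ (Int.castRingHom S) c P := by
  have : (eval₂Hom (Int.castRingHom S) c).comp (kill i₀) = eval₂Hom (Int.castRingHom S) c := by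
    apply MvPolynomial.ringHom_ext
    · intro r
      simp
    · intro s
      rw [RingHom.comp_apply, coe_eval₂Hom, eval₂_X]
      by_cases h : i₀ ∈ s ∧ ¬ s.IsDiag
      · rw [kill_X_of i₀ s h, eval₂_zero, hc s h.1 h.2]
      · rw [kill_X_of_not i₀ s h, eval₂_X]
  exact congrArg (fun φ : Z k →+* S => φ P) this

/-- the evaluated polar matrix of a coefficient family -/
def polarMatOf (c : Sym2 (Fin (k + 1)) → S) : Matrix (Fin (k + 1)) (Fin (k + 1)) S :=
  Matrix.of fun i j => if i = j then 2 * c s(i, j) else c s(i, j)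

theorem eval₂_univPolarMat (c : Sym2 (Fin (k + 1)) → S) (i j : Fin (k + 1)) :
    eval₂ (Int.castRingHom S) c (QuadGrp.univPolarMat (k + 1) i j) = polarMatOf c i j := by
  rw [QuadGrp.univPolarMat, Matrix.of_apply, polarMatOf, Matrix.of_apply]
  split_ifs with h
  · rw [eval₂_mul, eval₂_X]
    congr 1
    rw [← coe_eval₂Hom, map_ofNat]
  · rw [eval₂_X]

/-- **Laplace formula for the half-discriminant**: if the coefficients vanish off the diagonal in
row `i₀` then the half-discriminant is the `i₀`-th diagonal coefficient times the principal minor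
of the polar matrix. -/
theorem eval₂_halfDiscUniv_of_row (hk : Odd (k + 1)) (i₀ : Fin (k + 1))
    (c : Sym2 (Fin (k + 1)) → S) (hc : ∀ s, i₀ ∈ s → ¬ s.IsDiag → c s = 0) :
    eval₂ (Int.castRingHom S) c (QuadGrp.halfDiscUniv (k + 1)) =
      c s(i₀, i₀) * ((polarMatOf c).submatrix i₀.succAbove i₀.succAbove).det := by
  rw [← eval₂_kill i₀ c hc, kill_halfDiscUniv hk, eval₂_mul, eval₂_X]
  congr 1
  rw [← coe_eval₂Hom, RingHom.map_det]
  congr 1
  ext a b
  rw [RingHom.mapMatrix_apply, Matrix.map_apply, Matrix.submatrix_apply, Matrix.submatrix_apply,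
    RingHom.mapMatrix_apply, Matrix.map_apply, coe_eval₂Hom, eval₂_kill i₀ c hc,
    eval₂_univPolarMat]

end Eval


section LemmaG

variable {k : ℕ} {R : Type*} [CommRing R] {V : Type*} [AddCommGroup V] [Module R V]
  (b : Module.Basis (Fin (k + 1)) R V) (Q : QuadraticForm R V)

theorem polarMatOf_coeffs :
    polarMatOf (QuadGrp.coeffs b (LinearEquiv.refl R R) Q) = DiscComp.polarMat b Q := by
  ext i j
  rw [polarMatOf, Matrix.of_apply, DiscComp.polarMat_apply, QuadGrp.coeffs_mk]
  split_ifs with h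
  · subst h
    rw [polar_self, LinearEquiv.refl_apply, two_smul, two_mul]
  · rfl

theorem polar_comp' (g : V →ₗ[R] V) (x y : V) :
    polar (Q.comp g) x y = polar Q (g x) (g y) := by
  simp [polar, map_add]

/-- replace the `i₀`-th basis vector by `v` -/
noncomputable def repl (i₀ : Fin (k + 1)) (v : V) : V →ₗ[R] V :=
  b.constr R (Function.update b i₀ v)

theorem repl_self (i₀ : Fin (k + 1)) (v : V) : repl b i₀ v (b i₀) = v := by
  rw [repl, Module.Basis.constr_basis, Function.update_self]

theorem repl_of_ne (i₀ : Fin (k + 1)) (v : V) {i : Fin (k + 1)} (h : i ≠ i₀) :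
    repl b i₀ v (b i) = b i := by
  rw [repl, Module.Basis.constr_basis, Function.update_of_ne h]

theorem det_repl (i₀ : Fin (k + 1)) (v : V) : LinearMap.det (repl b i₀ v) = b.repr v i₀ := by
  rw [← LinearMap.det_toMatrix b]
  have : LinearMap.toMatrix b b (repl b i₀ v) =
      (1 : Matrix (Fin (k + 1)) (Fin (k + 1)) R).updateCol i₀ (fun i => b.repr v i) := by
    ext i j
    rw [LinearMap.toMatrix_apply, Matrix.updateCol_apply]
    split_ifs with h
    · subst h
      rw [repl_self]
    · rw [repl_of_ne b i₀ v h, Module.Basis.repr_self, Matrix.one_apply, Finsupp.single_apply]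
      simp only [eq_comm]
  rw [this, ← Matrix.cramer_apply, Matrix.cramer_one]
  rfl

/-- **Key formula**: for `v` in the kernel of the polar form, `xᵢ₀² · disc'(Q) = Q(v) · minorᵢ₀`. -/
theorem lemmaG (hk : Odd (k + 1)) (i₀ : Fin (k + 1)) (v : V) (hv : ∀ w, polar Q v w = 0) :
    (b.repr v i₀) ^ 2 * QuadGrp.halfDisc b (LinearEquiv.refl R R) Q =
      Q v * ((DiscComp.polarMat b Q).submatrix i₀.succAbove i₀.succAbove).det := by
  have h1 := DiscComp.halfDisc_comp hk b Q (repl b i₀ v)
  rw [det_repl] at h1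
  rw [← h1, QuadGrp.halfDisc]
  have hc : ∀ s : Sym2 (Fin (k + 1)), i₀ ∈ s → ¬ s.IsDiag →
      QuadGrp.coeffs b (LinearEquiv.refl R R) (Q.comp (repl b i₀ v)) s = 0 := by
    intro s
    induction s using Sym2.ind with
    | _ i j =>
      intro hmem hd
      rw [Sym2.mk_isDiag_iff] at hd
      rw [QuadGrp.coeffs_mk, if_neg hd, LinearEquiv.refl_apply, polar_comp']
      rcases Sym2.mem_iff.mp hmem with h | h
      · subst h
        rw [repl_self]
        exact hv _
      · subst h
        rw [repl_self, polar_comm]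
        exact hv _
  rw [eval₂_halfDiscUniv_of_row hk i₀ _ hc, QuadGrp.coeffs_mk, if_pos rfl, LinearEquiv.refl_apply,
    QuadraticMap.comp_apply, repl_self, polarMatOf_coeffs]
  congr 2
  ext a a'
  rw [Matrix.submatrix_apply, Matrix.submatrix_apply, DiscComp.polarMat_apply,
    DiscComp.polarMat_apply, polar_comp', repl_of_ne b i₀ v (Fin.succAbove_ne i₀ a),
    repl_of_ne b i₀ v (Fin.succAbove_ne i₀ a')]

end LemmaG


section Field

open Matrix

variable {k : ℕ} {K : Type*} [Field K] {V : Type*} [AddCommGroup V] [Module K V]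
  (b : Module.Basis (Fin (k + 1)) K V) (Q : QuadraticForm K V)

theorem polar_eq_vecMul (u : V) (j : Fin (k + 1)) :
    polar Q u (b j) = (b.equivFun u ᵥ* DiscComp.polarMat b Q) j := by
  have h : polarBilin Q u (b j) = polarBilin Q (∑ i, b.equivFun u i • b i) (b j) := by
    rw [b.sum_equivFun u]
  rw [← polarBilin_apply_apply, h, map_sum, LinearMap.sum_apply]
  simp only [map_smul, LinearMap.smul_apply, smul_eq_mul, polarBilin_apply_apply]
  rw [Matrix.vecMul, dotProduct]
  refine Finset.sum_congr rfl fun i _ => ?_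
  rw [DiscComp.polarMat_apply]

theorem mem_ker_iff (u : V) :
    u ∈ LinearMap.ker (polarBilin Q) ↔ b.equivFun u ᵥ* DiscComp.polarMat b Q = 0 := by
  rw [LinearMap.mem_ker]
  constructor
  · intro h
    funext j
    rw [← polar_eq_vecMul, ← polarBilin_apply_apply, h]
    rfl
  · intro h
    apply b.ext
    intro j
    rw [polarBilin_apply_apply, polar_eq_vecMul, h]
    rfl

theorem det_ne_zero_iff_ker_eq_bot :
    (DiscComp.polarMat b Q).det ≠ 0 ↔ LinearMap.ker (polarBilin Q) = ⊥ := by
  constructor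
  · intro hdet
    rw [eq_bot_iff]
    intro u hu
    rw [mem_ker_iff b Q] at hu
    have := Matrix.eq_zero_of_vecMul_eq_zero hdet hu
    rw [Submodule.mem_bot]
    exact b.equivFun.map_eq_zero_iff.mp this
  · intro hker hdet
    obtain ⟨y, hy0, hy⟩ := Matrix.exists_vecMul_eq_zero_iff.mpr hdet
    have hu : b.equivFun.symm y ∈ LinearMap.ker (polarBilin Q) := by
      rw [mem_ker_iff b Q, LinearEquiv.apply_symm_apply]
      exact hy
    rw [hker, Submodule.mem_bot] at hu
    apply hy0
    have := congrArg b.equivFun hu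
    rwa [LinearEquiv.apply_symm_apply, map_zero] at this

theorem det_polarMat_eq (hk : Odd (k + 1)) :
    (DiscComp.polarMat b Q).det = 2 * QuadGrp.halfDisc b (LinearEquiv.refl K K) Q := by
  rw [← DiscComp.disc_eq_det, DiscComp.disc_eq_two_mul_halfDisc hk]

/-- the field case in characteristic different from two -/
theorem field_case_of_two_ne_zero (hk : Odd (k + 1)) (h2 : (2 : K) ≠ 0) :
    QuadGrp.halfDisc b (LinearEquiv.refl K K) Q ≠ 0 ↔ Q.Nondegenerate := by
  letI : Invertible (2 : K) := invertibleOfNonzero h2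
  rw [nondegenerate_iff_radical_eq_bot, radical_eq_ker_polarBilin,
    ← det_ne_zero_iff_ker_eq_bot b Q, det_polarMat_eq b Q hk]
  constructor
  · intro h
    exact mul_ne_zero h2 h
  · intro h h0
    rw [h0, mul_zero] at h
    exact h rfl

end Field


section CharTwo

open Matrix

variable {k : ℕ} {K : Type*} [Field K] {V : Type*} [AddCommGroup V] [Module K V]
  (b : Module.Basis (Fin (k + 1)) K V) (Q : QuadraticForm K V)

theorem polarMat_transpose : (DiscComp.polarMat b Q)ᵀ = DiscComp.polarMat b Q := by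
  ext i j
  rw [Matrix.transpose_apply, DiscComp.polarMat_apply, DiscComp.polarMat_apply, polar_comm]

include b in
theorem exists_ker_vector (hk : Odd (k + 1)) (h2 : (2 : K) = 0) :
    ∃ v : V, v ∈ LinearMap.ker (polarBilin Q) ∧ v ≠ 0 := by
  have hdet : (DiscComp.polarMat b Q).det = 0 := by
    rw [det_polarMat_eq b Q hk, h2, zero_mul]
  have : LinearMap.ker (polarBilin Q) ≠ ⊥ := by
    intro h
    exact (det_ne_zero_iff_ker_eq_bot b Q).mpr h hdet
  exact Submodule.exists_mem_ne_zero_of_ne_bot this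

/-- restriction of a `vecMul` to the complement of `i₀` when the `i₀`-th coordinate vanishes -/
theorem vecMul_submatrix (i₀ : Fin (k + 1)) (z : Fin (k + 1) → K) (hz : z i₀ = 0)
    (P : Matrix (Fin (k + 1)) (Fin (k + 1)) K) (a' : Fin k) :
    ((fun a => z (i₀.succAbove a)) ᵥ* P.submatrix i₀.succAbove i₀.succAbove) a' =
      (z ᵥ* P) (i₀.succAbove a') := by
  rw [Matrix.vecMul, dotProduct, Matrix.vecMul, dotProduct, Fin.sum_univ_succAbove _ i₀, hz,
    zero_mul, zero_add]
  rfl

theorem ker_le_span (i₀ : Fin (k + 1)) (v : V) (hv : v ∈ LinearMap.ker (polarBilin Q))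
    (hx : b.equivFun v i₀ ≠ 0)
    (hN : ((DiscComp.polarMat b Q).submatrix i₀.succAbove i₀.succAbove).det ≠ 0) :
    LinearMap.ker (polarBilin Q) ≤ Submodule.span K {v} := by
  intro u hu
  set t : K := b.equivFun u i₀ / b.equivFun v i₀ with ht
  have hu' : u - t • v ∈ LinearMap.ker (polarBilin Q) :=
    Submodule.sub_mem _ hu (Submodule.smul_mem _ _ hv)
  have hz0 : b.equivFun (u - t • v) i₀ = 0 := by
    rw [map_sub, map_smul, Pi.sub_apply, Pi.smul_apply, smul_eq_mul, ht, div_mul_cancel₀ _ hx,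
      sub_self]
  have hzP := (mem_ker_iff b Q _).mp hu'
  have hz'' : (fun a => b.equivFun (u - t • v) (i₀.succAbove a)) ᵥ*
      (DiscComp.polarMat b Q).submatrix i₀.succAbove i₀.succAbove = 0 := by
    funext a'
    rw [vecMul_submatrix i₀ _ hz0, hzP]
    rfl
  have h0 := Matrix.eq_zero_of_vecMul_eq_zero hN hz''
  have hzero : b.equivFun (u - t • v) = 0 := by
    funext i
    by_cases hi : i = i₀
    · rw [hi, hz0]; rfl
    · obtain ⟨a, rfl⟩ := Fin.exists_succAbove_eq hi
      exact congrFun h0 a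
  have : u - t • v = 0 := b.equivFun.map_eq_zero_iff.mp hzero
  rw [Submodule.mem_span_singleton]
  exact ⟨t, (sub_eq_zero.mp this).symm⟩

theorem exists_coord_ne_zero (v : V) (hv : v ≠ 0) : ∃ i₀, b.equivFun v i₀ ≠ 0 := by
  by_contra h
  push Not at h
  apply hv
  apply b.equivFun.map_eq_zero_iff.mp
  funext i
  exact h i

theorem nondegenerate_of_halfDisc_ne_zero (hk : Odd (k + 1)) (h2 : (2 : K) = 0)
    (h : QuadGrp.halfDisc b (LinearEquiv.refl K K) Q ≠ 0) : Q.Nondegenerate := by
  obtain ⟨v, hv, hv0⟩ := exists_ker_vector b Q hk h2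
  obtain ⟨i₀, hx⟩ := exists_coord_ne_zero b v hv0
  have hv' : ∀ w, polar Q v w = 0 := by
    intro w
    rw [← polarBilin_apply_apply, LinearMap.mem_ker.mp hv]
    rfl
  have hG := lemmaG b Q hk i₀ v hv'
  have hne : Q v * ((DiscComp.polarMat b Q).submatrix i₀.succAbove i₀.succAbove).det ≠ 0 := by
    rw [← hG]
    exact mul_ne_zero (pow_ne_zero 2 hx) h
  have hQv : Q v ≠ 0 := left_ne_zero_of_mul hne
  have hN := right_ne_zero_of_mul hne
  have hle := ker_le_span b Q i₀ v hv hx hN
  constructor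
  · rw [eq_bot_iff]
    intro u hu
    have hu2 : Q u = 0 ∧ polarBilin Q u = 0 := hu
    have hu3 : u ∈ LinearMap.ker (polarBilin Q) := LinearMap.mem_ker.mpr hu2.2
    obtain ⟨t, rfl⟩ := Submodule.mem_span_singleton.mp (hle hu3)
    have := hu2.1
    rw [QuadraticMap.map_smul, smul_eq_mul] at this
    have ht : t = 0 := by
      rcases mul_eq_zero.mp this with h' | h'
      · exact mul_self_eq_zero.mp h'
      · exact absurd h' hQv
    rw [ht, zero_smul]
    exact Submodule.zero_mem _
  · exact (rank_submodule_le_one_iff' _).mpr ⟨v, hle⟩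

theorem halfDisc_ne_zero_of_nondegenerate (hk : Odd (k + 1)) (h2 : (2 : K) = 0)
    (h : Q.Nondegenerate) : QuadGrp.halfDisc b (LinearEquiv.refl K K) Q ≠ 0 := by
  obtain ⟨v, hv, hv0⟩ := exists_ker_vector b Q hk h2
  obtain ⟨i₀, hx⟩ := exists_coord_ne_zero b v hv0
  have hv' : ∀ w, polar Q v w = 0 := by
    intro w
    rw [← polarBilin_apply_apply, LinearMap.mem_ker.mp hv]
    rfl
  have hG := lemmaG b Q hk i₀ v hv'
  have hQv : Q v ≠ 0 := by
    intro hQ0
    have : v ∈ Q.radical := ⟨hQ0, LinearMap.mem_ker.mp hv⟩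
    rw [h.radical_eq_bot, Submodule.mem_bot] at this
    exact hv0 this
  have hN : ((DiscComp.polarMat b Q).submatrix i₀.succAbove i₀.succAbove).det ≠ 0 := by
    intro hN0
    obtain ⟨z'', hz0, hz⟩ := Matrix.exists_vecMul_eq_zero_iff.mpr hN0
    set z' : Fin (k + 1) → K := i₀.insertNth (α := fun _ => K) 0 z'' with hz'
    have hz'i : z' i₀ = 0 := by rw [hz', Fin.insertNth_apply_same]
    have hz's : ∀ a, z' (i₀.succAbove a) = z'' a := by
      intro a; rw [hz', Fin.insertNth_apply_succAbove]
    set x := b.equivFun v with hxdef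
    have hxP : x ᵥ* DiscComp.polarMat b Q = 0 := (mem_ker_iff b Q v).mp hv
    -- (z' ᵥ* P) vanishes off i₀
    have hoff : ∀ a', (z' ᵥ* DiscComp.polarMat b Q) (i₀.succAbove a') = 0 := by
      intro a'
      rw [← vecMul_submatrix i₀ z' hz'i]
      have : (fun a => z' (i₀.succAbove a)) = z'' := funext hz's
      rw [this, hz]
      rfl
    -- symmetric pairing
    have hS : (z' ᵥ* DiscComp.polarMat b Q) ⬝ᵥ x = 0 := by
      rw [← Matrix.dotProduct_mulVec, ← polarMat_transpose b Q, Matrix.mulVec_transpose, hxP,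
        dotProduct_zero]
    have hi₀ : (z' ᵥ* DiscComp.polarMat b Q) i₀ = 0 := by
      rw [dotProduct, Fin.sum_univ_succAbove _ i₀] at hS
      have hrest : ∑ a, (z' ᵥ* DiscComp.polarMat b Q) (i₀.succAbove a) * x (i₀.succAbove a) = 0 := by
        apply Finset.sum_eq_zero
        intro a _
        rw [hoff a, zero_mul]
      rw [hrest, add_zero] at hS
      rcases mul_eq_zero.mp hS with h' | h'
      · exact h'
      · exact absurd h' hx
    have hzP : z' ᵥ* DiscComp.polarMat b Q = 0 := by
      funext j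
      by_cases hj : j = i₀
      · rw [hj, hi₀]; rfl
      · obtain ⟨a, rfl⟩ := Fin.exists_succAbove_eq hj
        rw [hoff a]; rfl
    set w : V := b.equivFun.symm z' with hw
    have hwker : w ∈ LinearMap.ker (polarBilin Q) := by
      rw [mem_ker_iff b Q, hw, LinearEquiv.apply_symm_apply]
      exact hzP
    have hw0 : w ≠ 0 := by
      intro hw0
      apply hz0
      have h1 : z' = 0 := by
        have := congrArg b.equivFun hw0
        rwa [hw, LinearEquiv.apply_symm_apply, map_zero] at this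
      funext a
      rw [← hz's a, h1]
      rfl
    obtain ⟨v₀, hv₀⟩ := (rank_submodule_le_one_iff' _).mp h.rank_rad_polar_le
    obtain ⟨r, hr⟩ := Submodule.mem_span_singleton.mp (hv₀ hv)
    obtain ⟨s, hs⟩ := Submodule.mem_span_singleton.mp (hv₀ hwker)
    have hr0 : r ≠ 0 := by
      rintro rfl
      rw [zero_smul] at hr
      exact hv0 hr.symm
    have hwv : w = (s * r⁻¹) • v := by
      rw [← hr, smul_smul, mul_assoc, inv_mul_cancel₀ hr0, mul_one, hs]
    have := congrArg (fun u => b.equivFun u i₀) hwv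
    simp only [map_smul, Pi.smul_apply, smul_eq_mul] at this
    rw [hw, LinearEquiv.apply_symm_apply, hz'i] at this
    have hsr : s * r⁻¹ = 0 := by
      rcases mul_eq_zero.mp this.symm with h' | h'
      · exact h'
      · exact absurd h' hx
    rw [hsr, zero_smul] at hwv
    exact hw0 hwv
  intro h0
  rw [h0, mul_zero] at hG
  exact mul_ne_zero hQv hN hG.symm

/-- **Field case**: over a field, in odd rank, the half-discriminant is nonzero iff the form is
nondegenerate. -/
theorem field_case (hk : Odd (k + 1)) :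
    QuadGrp.halfDisc b (LinearEquiv.refl K K) Q ≠ 0 ↔ Q.Nondegenerate := by
  by_cases h2 : (2 : K) = 0
  · exact ⟨nondegenerate_of_halfDisc_ne_zero b Q hk h2, halfDisc_ne_zero_of_nondegenerate b Q hk h2⟩
  · exact field_case_of_two_ne_zero b Q hk h2

end CharTwo


section BaseChange

open TensorProduct

universe u v

variable {R : Type u} [CommRing R] {M : Type v} [AddCommGroup M] [Module R M] [Module.Free R M]
  (A : Type u) [CommRing A] [Algebra R A] (Q : QuadraticForm R M)

theorem bcf_tmul (a : A) (x : M) :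
    QuadGrp.baseChangeForm A Q (a ⊗ₜ[R] x) = (a * a) * algebraMap R A (Q x) := by
  rw [QuadGrp.baseChangeForm, LinearMap.compQuadraticMap_apply, QuadGrp.baseChange_tmul]
  simp [Algebra.smul_def, mul_comm]

theorem polar_bcf (x y : M) :
    polar (QuadGrp.baseChangeForm A Q) ((1 : A) ⊗ₜ[R] x) ((1 : A) ⊗ₜ[R] y) =
      algebraMap R A (polar Q x y) := by
  rw [polar, ← TensorProduct.tmul_add, bcf_tmul, bcf_tmul, bcf_tmul, polar]
  simp

variable {n : ℕ} (b : Module.Basis (Fin n) R M)

theorem coeffs_baseChange :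
    QuadGrp.coeffs (b.baseChange A) (LinearEquiv.refl A A) (QuadGrp.baseChangeForm A Q) =
      (algebraMap R A) ∘ QuadGrp.coeffs b (LinearEquiv.refl R R) Q := by
  funext s
  induction s using Sym2.ind with
  | _ i j =>
    rw [Function.comp_apply, QuadGrp.coeffs_mk, QuadGrp.coeffs_mk]
    simp only [Module.Basis.baseChange_apply, LinearEquiv.refl_apply]
    split_ifs with h
    · rw [bcf_tmul, one_mul, one_mul]
    · rw [polar_bcf]

theorem halfDisc_baseChange :
    QuadGrp.halfDisc (b.baseChange A) (LinearEquiv.refl A A) (QuadGrp.baseChangeForm A Q) =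
      algebraMap R A (QuadGrp.halfDisc b (LinearEquiv.refl R R) Q) := by
  rw [QuadGrp.halfDisc, QuadGrp.halfDisc, coeffs_baseChange,
    MvPolynomial.eval₂_comp_left (algebraMap R A)]
  congr 1
  exact (RingHom.ext_int _ _)

end BaseChange

section Final

universe u v

variable {R : Type u} [CommRing R] {M : Type v} [AddCommGroup M] [Module R M] [Module.Free R M]

theorem isUnit_iff_forall_residueField (h : R) :
    IsUnit h ↔ ∀ (p : Ideal R) [p.IsPrime], algebraMap R p.ResidueField h ≠ 0 := by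
  constructor
  · intro hu p _
    exact (hu.map (algebraMap R p.ResidueField)).ne_zero
  · intro hp
    by_contra hnu
    obtain ⟨𝔪, hmax, hmem⟩ := exists_max_ideal_of_mem_nonunits hnu
    haveI := hmax.isPrime
    exact hp 𝔪 ((Ideal.algebraMap_residueField_eq_zero).mpr hmem)

theorem main (m : ℕ) (b : Module.Basis (Fin (2 * m + 1)) R M) (Q : QuadraticForm R M) :
    IsUnit (QuadGrp.halfDisc b (LinearEquiv.refl R R) Q) ↔
      ∀ (p : Ideal R) [p.IsPrime],
        QuadraticMap.Nondegenerate (Q := QuadGrp.baseChangeForm p.ResidueField Q) := by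
  rw [isUnit_iff_forall_residueField]
  have hk : Odd (2 * m + 1) := ⟨m, rfl⟩
  refine forall_congr' fun p => forall_congr' fun hp => ?_
  rw [← halfDisc_baseChange p.ResidueField Q b]
  exact field_case (b.baseChange p.ResidueField) (QuadGrp.baseChangeForm p.ResidueField Q) hk

end Final

end Groth.Agent.Lib.helper16.HDF
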