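import Mathlib

/-!
# Flat descent of closed subschemes, in terms of `Scheme.IdealSheafData`

* `isSchemeTheoreticallyDominant_toImage`: `f.toImage` is scheme-theoretically dominant (f qc).
* `isSchemeTheoreticallyDominant_of_flat_of_surjective`.
* `map_comap_of_flat_of_surjective`: `(J.comap g).map g = J` for `g` flat surjective.
* `ker_pullback_fst_of_flat`: flat base change of scheme-theoretic images.
* `comap_map_of_stable`: an ideal sheaf stable under the kernel pair of an fpqc `π` descends.
-/

set_option autoImplicit false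
open CategoryTheory CategoryTheory.Limits AlgebraicGeometry
universe u

namespace Groth.Agent.Lib.helper16.IdealDescent

variable {X Y Z : Scheme.{u}}

lemma ker_eq_bot_of_injective_on_cover (g : X ⟶ Y) {ι : Type*} (U : ι → Y.affineOpens)
    (hU : ⨆ i, (U i).1 = ⊤) (H : ∀ i, Function.Injective (g.app (U i).1)) : g.ker = ⊥ := by
  refine Scheme.IdealSheafData.ext_of_iSup_eq_top U hU fun i => ?_
  rw [Scheme.IdealSheafData.ideal_bot, Pi.bot_apply, ← le_bot_iff]
  refine (g.ideal_ker_le (U i)).trans ?_
  rw [le_bot_iff]
  exact (RingHom.injective_iff_ker_eq_bot _).1 (H i)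

instance isSchemeTheoreticallyDominant_toImage (f : X ⟶ Y) [QuasiCompact f] :
    IsSchemeTheoreticallyDominant f.toImage := by
  rw [isSchemeTheoreticallyDominant_iff]
  refine ker_eq_bot_of_injective_on_cover f.toImage
    (fun U : Y.affineOpens => ⟨f.imageι ⁻¹ᵁ U.1, U.2.preimage f.imageι⟩) ?_
    (fun U => f.toImage_app_injective U)
  rw [eq_top_iff]
  intro x _
  obtain ⟨U, hU⟩ := TopologicalSpace.Opens.mem_iSup.1
    (show f.imageι x ∈ ⨆ U : Y.affineOpens, U.1 by rw [iSup_affineOpens_eq_top]; trivial)
  exact TopologicalSpace.Opens.mem_iSup.2 ⟨U, hU⟩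

lemma app_injective_of_flat_of_surjective (f : X ⟶ Y) [Flat f] [Surjective f] (U : Y.Opens) :
    Function.Injective (f.app U) := by
  rw [injective_iff_map_eq_zero]
  intro s hs
  refine TopCat.Presheaf.section_ext Y.sheaf U _ _ fun y hy => ?_
  obtain ⟨x, rfl⟩ := f.surjective y
  have hinj : Function.Injective (f.stalkMap x) := by
    algebraize [(f.stalkMap x).hom]
    have : Module.FaithfullyFlat (Y.presheaf.stalk (f x)) (X.presheaf.stalk x) :=
      @Module.FaithfullyFlat.of_flat_of_isLocalHom _ _ _ _ _ _ _
        (Flat.stalkMap f x) (f.toLRSHom.prop x)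
    exact ‹RingHom.FaithfullyFlat _›.injective
  apply hinj
  have := Scheme.Hom.germ_stalkMap_apply f U x hy s
  erw [this, hs]
  erw [map_zero, map_zero, map_zero]

instance isSchemeTheoreticallyDominant_of_flat_of_surjective (f : X ⟶ Y) [Flat f]
    [Surjective f] : IsSchemeTheoreticallyDominant f := by
  rw [isSchemeTheoreticallyDominant_iff]
  exact ker_eq_bot_of_injective_on_cover f (fun U : Y.affineOpens => U)
    (iSup_affineOpens_eq_top Y) (fun U => app_injective_of_flat_of_surjective f U.1)

/-- For `g` flat and surjective, `J ↦ J.comap g` is split injective. -/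
lemma map_comap_of_flat_of_surjective (g : X ⟶ Y) [Flat g] [Surjective g]
    (J : Y.IdealSheafData) : (J.comap g).map g = J := by
  have h1 : (J.comap g).subschemeι ≫ g =
      (J.comapIso g).hom ≫ pullback.snd g J.subschemeι ≫ J.subschemeι := by
    rw [← J.comapIso_hom_fst g, Category.assoc, pullback.condition]
  show ((J.comap g).subschemeι ≫ g).ker = J
  rw [h1, Scheme.Hom.ker_comp_of_isIso, Scheme.Hom.ker_comp,
    (pullback.snd g J.subschemeι).ker_eq_bot, Scheme.IdealSheafData.map_bot,
    Scheme.IdealSheafData.ker_subschemeι]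

/-- Flat base change of scheme-theoretic images, factored form. -/
lemma ker_pullback_fst_comp (π : X ⟶ Y) [Flat π] {W T : Scheme.{u}} (t : T ⟶ W) (j : W ⟶ Y)
    [IsSchemeTheoreticallyDominant t] [QuasiCompact t] [IsClosedImmersion j] :
    (pullback.fst π (t ≫ j)).ker = j.ker.comap π := by
  have e := pullbackLeftPullbackSndIso_hom_fst π j t
  rw [← Iso.eq_inv_comp] at e
  rw [← Scheme.IdealSheafData.ker_fst_of_isClosedImmersion j π,
    ← Scheme.Hom.ker_comp_of_isIso (pullbackLeftPullbackSndIso π j t).hom, e,
    Iso.hom_inv_id_assoc, Scheme.Hom.ker_comp,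
    (pullback.fst (pullback.snd π j) t).ker_eq_bot, Scheme.IdealSheafData.map_bot]

/-- Flat base change of scheme-theoretic images. -/
lemma ker_pullback_fst_of_flat (π : X ⟶ Y) [Flat π] {T : Scheme.{u}} (f : T ⟶ Y)
    [QuasiCompact f] : (pullback.fst π f).ker = f.ker.comap π := by
  have := ker_pullback_fst_comp π f.toImage f.imageι
  rw [Scheme.IdealSheafData.ker_subschemeι] at this
  have h2 : ∀ (f' : T ⟶ Y), f' = f → (pullback.fst π f').ker = f.ker.comap π →
      (pullback.fst π f).ker = f.ker.comap π := by
    rintro f' rfl h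
    exact h
  exact h2 _ f.toImage_imageι this

/-- An ideal sheaf on `X` stable under the kernel pair of a flat surjective quasi-compact
`π : X ⟶ Y` is the pullback of an ideal sheaf of `Y` (namely of its pushforward). -/
lemma comap_map_of_stable (π : X ⟶ Y) [Flat π] [Surjective π] [QuasiCompact π]
    (I : X.IdealSheafData)
    (h : I.comap (pullback.fst π π) = I.comap (pullback.snd π π)) :
    (I.map π).comap π = I := by
  have e := pullbackLeftPullbackSndIso_hom_fst π π I.subschemeι
  rw [← Iso.eq_inv_comp] at e
  show (I.subschemeι ≫ π).ker.comap π = I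
  rw [← ker_pullback_fst_of_flat π (I.subschemeι ≫ π),
    ← Scheme.Hom.ker_comp_of_isIso (pullbackLeftPullbackSndIso π π I.subschemeι).hom, e,
    Iso.hom_inv_id_assoc, Scheme.Hom.ker_comp,
    Scheme.IdealSheafData.ker_fst_of_isClosedImmersion I.subschemeι (pullback.snd π π),
    Scheme.IdealSheafData.ker_subschemeι, ← h, map_comap_of_flat_of_surjective]

end Groth.Agent.Lib.helper16.IdealDescent
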