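import Mathlib

/-!
# Finite projective modules of constant rank over integral algebras (helper16), part 1

* `finite_maximalSpectrum_of_finite`: a finite algebra over a local ring is semilocal.
* `isBaseChange_range_idempotent`: descent of a direct summand of `B^N` cut out by an idempotent
  matrix with entries in a subring `B₀`.
-/

set_option autoImplicit false
open TensorProduct

namespace Groth.Agent.Lib.helper16.IntegralFree

/-- a finite algebra over a local ring has finitely many maximal ideals -/
theorem finite_maximalSpectrum_of_finite (A B : Type*) [CommRing A] [IsLocalRing A] [CommRing B]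
    [Algebra A B] [Module.Finite A B] : Finite (MaximalSpectrum B) := by
  have hfib : (PrimeSpectrum.comap (algebraMap A B) ⁻¹' {IsLocalRing.closedPoint A}).Finite :=
    Algebra.QuasiFinite.finite_comap_preimage_singleton (R := A) (S := B) _
  haveI := hfib.to_subtype
  haveI : Algebra.IsIntegral A B := inferInstance
  have hmem : ∀ M : MaximalSpectrum B, M.toPrimeSpectrum ∈
      PrimeSpectrum.comap (algebraMap A B) ⁻¹' {IsLocalRing.closedPoint A} := by
    intro M
    haveI := M.isMaximal
    have h1 : (M.asIdeal.comap (algebraMap A B)).IsMaximal :=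
      Ideal.isMaximal_comap_of_isIntegral_of_isMaximal M.asIdeal
    apply PrimeSpectrum.ext
    exact IsLocalRing.eq_maximalIdeal h1
  exact Finite.of_injective (fun M : MaximalSpectrum B =>
    (⟨M.toPrimeSpectrum, hmem M⟩ : ↥(PrimeSpectrum.comap (algebraMap A B) ⁻¹'
      {IsLocalRing.closedPoint A})))
    (fun M M' h => MaximalSpectrum.toPrimeSpectrum_injective (congrArg Subtype.val h))

section Descent

variable {B₀ B : Type*} [CommRing B₀] [CommRing B] [Algebra B₀ B] {P : Type*} [AddCommGroup P]
  [Module B P] [Module B₀ P] [IsScalarTower B₀ B P] {N : ℕ}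

/-- the coordinatewise map `B₀^N → B^N` -/
noncomputable abbrev coordMap (B₀ B : Type*) [CommRing B₀] [CommRing B] [Algebra B₀ B] (N : ℕ) :
    (Fin N → B₀) →ₗ[B₀] (Fin N → B) :=
  (Algebra.linearMap B₀ B).compLeft (Fin N)

theorem isBaseChange_coordMap : IsBaseChange B (coordMap B₀ B N) :=
  IsBaseChange.finitePow (Fin N) (IsBaseChange.linearMap B₀ B)

variable (π : (Fin N → B) →ₗ[B] P) (i : P →ₗ[B] (Fin N → B)) (hπi : π ∘ₗ i = LinearMap.id)
  (E₀ : (Fin N → B₀) →ₗ[B₀] (Fin N → B₀)) (hE₀ : E₀ ∘ₗ E₀ = E₀)
  (hcomp : ∀ x, coordMap B₀ B N (E₀ x) = i (π (coordMap B₀ B N x)))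

/-- the comparison map from the range of the idempotent over `B₀` to `P` -/
noncomputable def rangeMap : LinearMap.range E₀ →ₗ[B₀] P :=
  (π.restrictScalars B₀) ∘ₗ coordMap B₀ B N ∘ₗ (LinearMap.range E₀).subtype

include hπi hE₀ hcomp in
theorem isBaseChange_rangeMap : IsBaseChange B (rangeMap π E₀) := by
  have hE₀' : ∀ x, E₀ (E₀ x) = E₀ x := fun x => congr($hE₀ x)
  have hπi' : ∀ p, π (i p) = p := fun p => congr($hπi p)
  refine IsBaseChange.of_right_exact B (coordMap B₀ B N) (coordMap B₀ B N) (rangeMap π E₀)
    (f := LinearMap.id - E₀) (g := E₀.rangeRestrict) (f' := LinearMap.id - i ∘ₗ π) (g' := π)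
    ?_ ?_ isBaseChange_coordMap isBaseChange_coordMap ?_ ?_ ?_ ?_
  · refine LinearMap.ext fun x => ?_
    simp only [LinearMap.comp_apply, LinearMap.sub_apply, LinearMap.id_apply, map_sub,
      LinearMap.restrictScalars_apply, hcomp]
  · refine LinearMap.ext fun x => ?_
    have : ((E₀.rangeRestrict x : LinearMap.range E₀) : Fin N → B₀) = E₀ x := rfl
    simp only [LinearMap.comp_apply, LinearMap.restrictScalars_apply, rangeMap,
      Submodule.subtype_apply, this, hcomp, hπi']
  · intro x
    constructor
    · intro hx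
      have hx' : E₀ x = 0 := congrArg Subtype.val hx
      exact ⟨x, by simp [hx']⟩
    · rintro ⟨y, rfl⟩
      apply Subtype.ext
      simp [hE₀']
  · exact LinearMap.surjective_rangeRestrict E₀
  · intro x
    constructor
    · intro hx
      exact ⟨x, by simp [hx]⟩
    · rintro ⟨y, rfl⟩
      simp [hπi']
  · intro p
    exact ⟨i p, hπi' p⟩

include hE₀ in
theorem projective_range_idempotent : Module.Projective B₀ (LinearMap.range E₀) := by
  have hE₀' : ∀ x, E₀ (E₀ x) = E₀ x := fun x => congr($hE₀ x)
  refine Module.Projective.of_split (LinearMap.range E₀).subtype E₀.rangeRestrict ?_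
  ext ⟨_, y, rfl⟩ : 2
  simp [hE₀']

end Descent

/-- the fibre dimension at a maximal ideal is the rank at the stalk -/
theorem finrank_quotient_tensor_eq_rankAtStalk (R : Type*) [CommRing R] (M : Type*)
    [AddCommGroup M] [Module R M] [Module.Finite R M] [Module.Flat R M] (P : Ideal R)
    [hP : P.IsMaximal] :
    Module.finrank (R ⧸ P) ((R ⧸ P) ⊗[R] M) = Module.rankAtStalk M ⟨P, inferInstance⟩ := by
  letI := Ideal.Quotient.field P
  rw [Module.rankAtStalk_eq]
  let e : P.ResidueField ⊗[R ⧸ P] ((R ⧸ P) ⊗[R] M) ≃ₗ[P.ResidueField] P.ResidueField ⊗[R] M :=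
    AlgebraTensorModule.cancelBaseChange R (R ⧸ P) P.ResidueField P.ResidueField M
  change _ = Module.finrank P.ResidueField (P.ResidueField ⊗[R] M)
  rw [← e.finrank_eq]
  exact (Module.finrank_baseChange (R := P.ResidueField) (S := R ⧸ P)
    (M' := (R ⧸ P) ⊗[R] M)).symm

/-- **A finite projective module of constant rank over an integral algebra over a local ring is
free.** -/
theorem nonempty_basis_of_isIntegral_of_isLocalRing (A B : Type*) [CommRing A] [IsLocalRing A]
    [CommRing B] [Algebra A B] [Algebra.IsIntegral A B] (P : Type*) [AddCommGroup P] [Module B P]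
    [Module.Finite B P] [Module.Projective B P] (n : ℕ)
    (hn : ∀ q : PrimeSpectrum B, Module.rankAtStalk P q = n) :
    Nonempty (Module.Basis (Fin n) B P) := by
  classical
  obtain ⟨N, π, i, hπ, hi, hπi⟩ := Module.Finite.exists_comp_eq_id_of_projective B P
  let E : Matrix (Fin N) (Fin N) B := LinearMap.toMatrix' (i ∘ₗ π)
  let s : Set B := Set.range (fun jk : Fin N × Fin N => E jk.1 jk.2)
  have hs : s.Finite := Set.finite_range _
  let B₀ : Subalgebra A B := Algebra.adjoin A s
  haveI : Module.Finite A B₀ :=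
    ⟨(Submodule.fg_top _).2 (_root_.fg_adjoin_of_finite hs
      (fun x _ => Algebra.IsIntegral.isIntegral x))⟩
  haveI := finite_maximalSpectrum_of_finite A B₀
  let M₀ : Matrix (Fin N) (Fin N) B₀ := fun j k => ⟨E j k, Algebra.subset_adjoin ⟨(j, k), rfl⟩⟩
  let E₀ := Matrix.toLin' M₀
  have hmap : M₀.map (algebraMap B₀ B) = E := rfl
  have hEE : E * E = E := by
    have : (i ∘ₗ π) ∘ₗ (i ∘ₗ π) = i ∘ₗ π := by
      rw [LinearMap.comp_assoc, ← LinearMap.comp_assoc π, hπi, LinearMap.id_comp]
    rw [← LinearMap.toMatrix'_comp, this]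
  have hMM : M₀ * M₀ = M₀ := by
    apply Matrix.map_injective (f := algebraMap B₀ B) Subtype.val_injective
    change (M₀ * M₀).map (algebraMap B₀ B) = M₀.map (algebraMap B₀ B)
    rw [Matrix.map_mul, hmap, hEE]
  have hE₀ : E₀ ∘ₗ E₀ = E₀ := by
    rw [← Matrix.toLin'_mul, hMM]
  have hcomp : ∀ x, coordMap B₀ B N (E₀ x) = i (π (coordMap B₀ B N x)) := by
    intro x
    have h1 : i (π (coordMap B₀ B N x)) = Matrix.toLin' E (coordMap B₀ B N x) := by
      rw [Matrix.toLin'_toMatrix']; rfl
    rw [h1]
    ext j
    rw [← hmap]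
    change algebraMap B₀ B ((M₀.mulVec x) j) =
      ((M₀.map (algebraMap B₀ B)).mulVec (algebraMap B₀ B ∘ x)) j
    exact RingHom.map_mulVec (algebraMap B₀ B) M₀ x j
  haveI : Module.Projective B₀ (LinearMap.range E₀) := projective_range_idempotent E₀ hE₀
  have hbc := isBaseChange_rangeMap π i hπi E₀ hE₀ hcomp
  haveI : Algebra.IsIntegral B₀ B := Algebra.IsIntegral.tower_top (R := A)
  have hrank : ∀ q₀ : PrimeSpectrum B₀, Module.rankAtStalk (LinearMap.range E₀) q₀ = n := by
    intro q₀
    obtain ⟨Q, -, hQ, hQc⟩ := Ideal.exists_ideal_over_prime_of_isIntegral q₀.asIdeal (⊥ : Ideal B)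
      (by
        rw [Ideal.comap_bot_of_injective _ (Subtype.val_injective : Function.Injective
          (algebraMap B₀ B))]
        exact bot_le)
    have := Module.rankAtStalk_isBaseChange hbc ⟨Q, hQ⟩
    rw [hn] at this
    rw [this]
    congr 1
    exact PrimeSpectrum.ext hQc.symm
  obtain ⟨b₀⟩ := Module.nonempty_basis_of_flat_of_finrank_eq B₀ (LinearMap.range E₀) n
    (fun M => by
      haveI := M.isMaximal
      rw [finrank_quotient_tensor_eq_rankAtStalk]
      exact hrank _)
  exact ⟨hbc.basis b₀⟩

/-- **A finite projective module of constant rank `n` over an integral `A`-algebra `B` is free of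
rank `n` over `B_a` for some `a ∈ A` outside any given prime of `A`.** -/
theorem exists_basis_away_of_isIntegral (A B : Type*) [CommRing A] [CommRing B] [Algebra A B]
    [Algebra.IsIntegral A B] (P : Type*) [AddCommGroup P] [Module B P] [Module.Finite B P]
    [Module.Projective B P] (n : ℕ) (hn : ∀ q : PrimeSpectrum B, Module.rankAtStalk P q = n)
    (p : Ideal A) [p.IsPrime] :
    ∃ a : A, a ∉ p ∧ Nonempty (Module.Basis (Fin n)
      (Localization (Submonoid.powers (algebraMap A B a)))
      (LocalizedModule (Submonoid.powers (algebraMap A B a)) P)) := by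
  let S' := Algebra.algebraMapSubmonoid B p.primeCompl
  haveI : Algebra.IsIntegral (Localization.AtPrime p) (Localization S') :=
    ⟨isIntegral_localization⟩
  have hrank' : ∀ q : PrimeSpectrum (Localization S'),
      Module.rankAtStalk (LocalizedModule S' P) q = n := by
    intro q
    rw [Module.rankAtStalk_isBaseChange (LocalizedModule.isBaseChange S' P), hn]
  obtain ⟨b⟩ := nonempty_basis_of_isIntegral_of_isLocalRing (Localization.AtPrime p)
    (Localization S') (LocalizedModule S' P) n hrank'
  haveI : Module.FinitePresentation B P := Module.finitePresentation_of_projective B P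
  obtain ⟨r, hr, b', -⟩ := Module.FinitePresentation.exists_basis_localizedModule_powers S'
    (LocalizedModule.mkLinearMap S' P) (Localization S') b
  obtain ⟨a, ha, rfl⟩ := hr
  exact ⟨a, ha, ⟨b'⟩⟩

end Groth.Agent.Lib.helper16.IntegralFree
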