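import Mathlib
import Groth.Prelude.Def_FDesc
import Groth.Agent.Lib.Helper16.QCohAss
import Groth.Agent.Lib.Helper16.CohFinite

/-!
# Uniqueness of the reduced irredundant decomposition (helper16)

Tools: joint monomorphicity on sections, local finiteness of `Ass`, nonzero sections have nonzero
germs at associated points.
-/

set_option autoImplicit false

open AlgebraicGeometry CategoryTheory CategoryTheory.Limits TopologicalSpace

namespace Groth.Agent.Lib.helper16.IrrDec

universe u

section Abstract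

variable {C : Type*} [Category C] [Abelian C]

/-- two epimorphisms with the same kernel have isomorphic targets -/
theorem exists_iso_of_kernel_comp_eq_zero {M G G' : C} (q : M ⟶ G) (q' : M ⟶ G') [Epi q] [Epi q']
    (h : kernel.ι q ≫ q' = 0) (h' : kernel.ι q' ≫ q = 0) : ∃ e : G ≅ G', q ≫ e.hom = q' := by
  have hc : IsColimit (CokernelCofork.ofπ q (kernel.condition q)) :=
    Abelian.epiIsCokernelOfKernel (Fork.ofι (kernel.ι q) (by simp)) (kernelIsKernel q)
  have hc' : IsColimit (CokernelCofork.ofπ q' (kernel.condition q')) :=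
    Abelian.epiIsCokernelOfKernel (Fork.ofι (kernel.ι q') (by simp)) (kernelIsKernel q')
  let e₁ : G ⟶ G' := hc.desc (CokernelCofork.ofπ q' h)
  let e₂ : G' ⟶ G := hc'.desc (CokernelCofork.ofπ q h')
  have h₁ : q ≫ e₁ = q' := hc.fac (CokernelCofork.ofπ q' h) WalkingParallelPair.one
  have h₂ : q' ≫ e₂ = q := hc'.fac (CokernelCofork.ofπ q h') WalkingParallelPair.one
  refine ⟨⟨e₁, e₂, ?_, ?_⟩, h₁⟩
  · rw [← cancel_epi q, ← Category.assoc, h₁, h₂, Category.comp_id]
  · rw [← cancel_epi q', ← Category.assoc, h₂, h₁, Category.comp_id]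

end Abstract

variable {X : Scheme.{u}}

/-- naturality of a morphism of modules with respect to restriction -/
theorem app_map {M N : X.Modules} (φ : M ⟶ N) {U V : X.Opens} (i : U ⟶ V) (s : Γ(M, V)) :
    (φ.app U).hom (M.presheaf.map i.op s) = N.presheaf.map i.op ((φ.app V).hom s) := by
  have := φ.mapPresheaf.naturality i.op
  exact congr($(this) s)

open Groth.Agent.Lib.helper16.QCohAss in
/-- a section with a nonzero germ has a nonzero germ at an associated generization -/
theorem exists_assPoint_of_germ_ne_zero (G : X.Modules) [G.IsQuasicoherent] (W : X.Opens)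
    (t : Γ(G, W)) (z : X) (hz : z ∈ W) (h : (G.presheaf.germ W z hz).hom t ≠ 0) :
    ∃ (y : X) (hy : y ∈ W), y ⤳ z ∧ y ∈ AssSch.Ass G ∧ (G.presheaf.germ W y hy).hom t ≠ 0 := by
  obtain ⟨_, ⟨W', hW', rfl⟩, hzW', hW'W⟩ :=
    X.isBasis_affineOpens.exists_subset_of_mem_open (show z ∈ (W : Set X) from hz) W.2
  have hle : W' ≤ W := hW'W
  set t' : Γ(G, W') := G.presheaf.map (homOfLE hle).op t with ht'
  have h' : (G.presheaf.germ W' z hzW').hom t' ≠ 0 := by
    rw [ht', TopCat.Presheaf.germ_res_apply]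
    exact h
  obtain ⟨y, hy, hyz, hass, hne⟩ := exists_weakAssPoint_specializes G hW' z hzW' t' h'
  refine ⟨y, hle hy, hyz, (isAssPoint_iff_isWeakAssPoint G y).2 hass, ?_⟩
  rw [ht', TopCat.Presheaf.germ_res_apply] at hne
  exact hne

/-- a nonzero section has a nonzero germ at some associated point -/
theorem exists_assPoint_of_ne_zero (G : X.Modules) [G.IsQuasicoherent] (W : X.Opens)
    (t : Γ(G, W)) (h : t ≠ 0) :
    ∃ (y : X) (hy : y ∈ W), y ∈ AssSch.Ass G ∧ (G.presheaf.germ W y hy).hom t ≠ 0 := by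
  by_contra hcon
  apply h
  apply Groth.Agent.Lib.helper16.QCohAss.section_eq_zero_of_germ_eq_zero G W t
  intro z hz
  by_contra hne
  obtain ⟨y, hy, -, hass, hne'⟩ := exists_assPoint_of_germ_ne_zero G W t z hz hne
  exact hcon ⟨y, hy, hass, hne'⟩

/-- a monomorphism of modules is injective on sections -/
theorem injective_app_of_mono {M N : X.Modules} (φ : M ⟶ N) [Mono φ] (U : X.Opens) :
    Function.Injective (φ.app U).hom := by
  have h1 : Mono ((Scheme.Modules.toPresheaf X).map φ) := inferInstance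
  have h2 : Mono (((Scheme.Modules.toPresheaf X).map φ).app (Opposite.op U)) :=
    (NatTrans.mono_iff_mono_app _).1 h1 _
  exact (AddCommGrpCat.mono_iff_injective _).1 h2

/-- a jointly monomorphic family of morphisms of modules is jointly injective on sections -/
theorem section_eq_zero_of_forall {ι : Type u} (M : X.Modules) (G : ι → X.Modules)
    (q : ∀ i, M ⟶ G i)
    (hm : ∀ (T : X.Modules) (a b : T ⟶ M), (∀ i, a ≫ q i = b ≫ q i) → a = b)
    (U : X.Opens) (s : Γ(M, U)) (hs : ∀ i, ((q i).app U).hom s = 0) : s = 0 := by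
  let φ : M ⟶ ∏ᶜ G := Pi.lift q
  haveI : Mono φ := ⟨fun a b h => hm _ a b fun i => by
    have := congrArg (fun k => k ≫ Pi.π G i) h
    simpa [φ, Category.assoc] using this⟩
  apply injective_app_of_mono φ U
  rw [map_zero]
  haveI : PreservesLimitsOfSize.{u, u}
      ((evaluation (Opens ↥X)ᵒᵖ Ab.{u}).obj (Opposite.op U)) := inferInstance
  haveI : PreservesLimitsOfShape (Discrete ι)
      ((evaluation (Opens ↥X)ᵒᵖ Ab.{u}).obj (Opposite.op U)) := inferInstance
  haveI : PreservesLimit (Discrete.functor G)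
      (Scheme.Modules.toPresheaf X ⋙ (evaluation (Opens ↥X)ᵒᵖ Ab.{u}).obj (Opposite.op U)) :=
    inferInstance
  have hlim : IsLimit ((Scheme.Modules.toPresheaf X ⋙
      (evaluation _ _).obj (Opposite.op U)).mapCone (limit.cone (Discrete.functor G))) :=
    isLimitOfPreserves (Scheme.Modules.toPresheaf X ⋙ (evaluation _ _).obj (Opposite.op U))
      (limit.isLimit _)
  refine Concrete.isLimit_ext _ hlim _ _ ?_
  rintro ⟨i⟩
  have h1 : φ ≫ Pi.π G i = q i := Pi.lift_π _ _
  have h2 := hs i
  rw [← h1] at h2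
  change ((Pi.π G i).app U).hom ((φ.app U).hom s) = ((Pi.π G i).app U).hom 0
  rw [map_zero]
  exact h2


open Groth.Agent.Lib.helper16.QCohAss in
/-- local finiteness of the associated points of a coherent module -/
theorem finite_ass_inter [IsLocallyNoetherian X] (M : X.Modules) (hM : Coh.IsCoh M)
    {U : X.Opens} (hU : IsAffineOpen U) : {y : X | y ∈ AssSch.Ass M ∧ y ∈ U}.Finite := by
  haveI : M.IsQuasicoherent := hM.1
  haveI : IsNoetherianRing Γ(X, U) := IsLocallyNoetherian.component_noetherian ⟨U, hU⟩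
  haveI : Module.Finite Γ(X, U) Γ(M, U) :=
    Groth.Agent.Lib.helper16.CohFinite.finite_sections_of_isCoh M hM hU
  have hfin : (associatedPrimes Γ(X, U) Γ(M, U)).Finite := associatedPrimes.finite _ _
  have hfin' : {Q : PrimeSpectrum Γ(X, U) | Q.asIdeal ∈ associatedPrimes Γ(X, U) Γ(M, U)}.Finite :=
    hfin.preimage (fun a _ b _ h => PrimeSpectrum.ext h)
  refine (hfin'.image (fun Q => hU.fromSpec Q)).subset ?_
  rintro y ⟨hy, hyU⟩
  refine ⟨hU.primeIdealOf ⟨y, hyU⟩, ?_, hU.fromSpec_primeIdealOf ⟨y, hyU⟩⟩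
  have hw : Curv2.IsWeakAssPoint M y := (isAssPoint_iff_isWeakAssPoint M y).1 hy
  obtain ⟨m, hm⟩ := (isWeakAssPoint_iff M hU y hyU).1 hw
  have hcol : (⊥ : Submodule Γ(X, U) Γ(M, U)).colon {m} = ann Γ(X, U) m := by
    ext r
    rw [Submodule.mem_colon_singleton, LinearMap.mem_ker, LinearMap.toSpanSingleton_apply,
      Submodule.mem_bot]
  rw [← hcol] at hm
  obtain ⟨m', hm'⟩ := Submodule.exists_eq_colon_of_mem_minimalPrimes hm
  change IsAssociatedPrime _ _
  rw [isAssociatedPrime_iff]
  exact ⟨inferInstance, m', hm'⟩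


end Groth.Agent.Lib.helper16.IrrDec
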