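import Groth.Agent.Lib.Helper16.IrrDec1

/-!
# Uniqueness of the reduced irredundant decomposition, main argument (helper16)
-/

set_option autoImplicit false

open AlgebraicGeometry CategoryTheory CategoryTheory.Limits TopologicalSpace

namespace Groth.Agent.Lib.helper16.IrrDec

universe u

variable {X : Scheme.{u}}

/-- if `Ass G = {y}`, a section of `G` has nonzero germs only at specializations of `y` -/
theorem specializes_of_germ_ne_zero (G : X.Modules) [G.IsQuasicoherent] {y : X}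
    (hA : AssSch.Ass G = {y}) (W : X.Opens) (t : Γ(G, W)) (z : X) (hz : z ∈ W)
    (h : (G.presheaf.germ W z hz).hom t ≠ 0) : y ⤳ z := by
  obtain ⟨y', hy', hyz, hass, -⟩ := exists_assPoint_of_germ_ne_zero G W t z hz h
  rw [hA, Set.mem_singleton_iff] at hass
  rw [← hass]
  exact hyz

/-- a local section killed by `q x` vanishes near `x` -/
theorem exists_res_eq_zero [IsLocallyNoetherian X] (M : X.Modules) (hM : Coh.IsCoh M)
    (hne : AssSch.NoEmbedded M) (G : ↥(AssSch.Ass M) → X.Modules) (q : ∀ x, M ⟶ G x)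
    (hG : ∀ x, (G x).IsQuasicoherent) (hA : ∀ x, AssSch.Ass (G x) = {x.1})
    (hm : ∀ (T : X.Modules) (a b : T ⟶ M), (∀ x, a ≫ q x = b ≫ q x) → a = b)
    (x : ↥(AssSch.Ass M)) (W : X.Opens) (hxW : x.1 ∈ W) (m : Γ(M, W))
    (hq : ((q x).app W).hom m = 0) :
    ∃ (W₁ : X.Opens) (hle : W₁ ≤ W), x.1 ∈ W₁ ∧ M.presheaf.map (homOfLE hle).op m = 0 := by
  obtain ⟨_, ⟨U, hU, rfl⟩, hxU, -⟩ :=
    X.isBasis_affineOpens.exists_subset_of_mem_open (Set.mem_univ x.1) isOpen_univ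
  have hS : {y : X | y ∈ AssSch.Ass M ∧ y ∈ U}.Finite := finite_ass_inter M hM hU
  set S' : Set X := {y : X | y ∈ AssSch.Ass M ∧ y ∈ U} \ {x.1} with hS'def
  have hS' : S'.Finite := hS.subset Set.diff_subset
  set Z : Set X := ⋃ y ∈ S', closure {y} with hZdef
  have hZ : IsClosed Z := hS'.isClosed_biUnion fun _ _ => isClosed_closure
  have hxZ : x.1 ∉ Z := by
    intro hx
    rw [hZdef, Set.mem_iUnion₂] at hx
    obtain ⟨y, hy, hxy⟩ := hx
    have hspec : y ⤳ x.1 := specializes_iff_mem_closure.2 hxy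
    exact hy.2 (hne x.1 x.2 y hy.1.1 hspec).symm
  have hTopen : IsOpen ((W : Set X) ∩ (U : Set X) ∩ Zᶜ) :=
    (W.2.inter U.2).inter hZ.isOpen_compl
  set W₁ : X.Opens := ⟨(W : Set X) ∩ (U : Set X) ∩ Zᶜ, hTopen⟩ with hW₁
  have hle : W₁ ≤ W := fun z hz => hz.1.1
  refine ⟨W₁, hle, ⟨⟨hxW, hxU⟩, hxZ⟩, ?_⟩
  apply section_eq_zero_of_forall M G q hm W₁
  intro y
  rw [app_map]
  by_cases hyx : y = x
  · subst hyx
    rw [hq, map_zero]
  · haveI := hG y
    apply Groth.Agent.Lib.helper16.QCohAss.section_eq_zero_of_germ_eq_zero (G y) W₁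
    intro z hz
    by_contra hgerm
    have hyz : y.1 ⤳ z := specializes_of_germ_ne_zero (G y) (hA y) W₁ _ z hz hgerm
    have hzU : z ∈ U := hz.1.2
    have hzZ : z ∉ Z := hz.2
    have hyU : y.1 ∈ U := hyz.mem_open U.2 hzU
    apply hzZ
    rw [hZdef, Set.mem_iUnion₂]
    refine ⟨y.1, ⟨⟨y.2, hyU⟩, fun h => hyx (Subtype.ext h)⟩, ?_⟩
    exact specializes_iff_mem_closure.1 hyz

/-- the kernel of `q x` is killed by `q' x` -/
theorem kernel_comp_eq_zero [IsLocallyNoetherian X] (M : X.Modules) (hM : Coh.IsCoh M)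
    (hne : AssSch.NoEmbedded M) (G : ↥(AssSch.Ass M) → X.Modules) (q : ∀ x, M ⟶ G x)
    (hG : ∀ x, (G x).IsQuasicoherent) (hA : ∀ x, AssSch.Ass (G x) = {x.1})
    (hm : ∀ (T : X.Modules) (a b : T ⟶ M), (∀ x, a ≫ q x = b ≫ q x) → a = b)
    (x : ↥(AssSch.Ass M)) (G' : X.Modules) [G'.IsQuasicoherent] (q' : M ⟶ G')
    (hA' : AssSch.Ass G' = {x.1}) : kernel.ι (q x) ≫ q' = 0 := by
  ext U s
  change ((q'.app U).hom (((kernel.ι (q x)).app U).hom s)) = 0
  set m : Γ(M, U) := ((kernel.ι (q x)).app U).hom s with hmdef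
  have hq : ((q x).app U).hom m = 0 := by
    have h1 : kernel.ι (q x) ≫ q x = 0 := kernel.condition _
    have h2 := congrArg (fun k => (Scheme.Modules.Hom.app k U).hom s) h1
    exact h2
  by_contra hne0
  obtain ⟨y, hyU, hass, hgerm⟩ := exists_assPoint_of_ne_zero G' U _ hne0
  rw [hA', Set.mem_singleton_iff] at hass
  subst hass
  obtain ⟨W₁, hle, hxW₁, hres⟩ := exists_res_eq_zero M hM hne G q hG hA hm x U hyU m hq
  apply hgerm
  rw [← TopCat.Presheaf.germ_res_apply G'.presheaf (homOfLE hle) x.1 hxW₁, ← app_map, hres,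
    map_zero, map_zero]

/-- **Uniqueness of the reduced irredundant decomposition** of a coherent module without embedded
associated points. -/
theorem exists_iso [IsLocallyNoetherian X] (M : X.Modules)
    (hM : Coh.IsCoh M) (hne : AssSch.NoEmbedded M)
    (G G' : ↥(AssSch.Ass M) → X.Modules) (q : ∀ x, M ⟶ G x) (q' : ∀ x, M ⟶ G' x)
    (hq : ∀ x, Epi (q x)) (hq' : ∀ x, Epi (q' x)) (hG : ∀ x, Coh.IsCoh (G x))
    (hG' : ∀ x, Coh.IsCoh (G' x))
    (hA : ∀ x, AssSch.Ass (G x) = {x.1}) (hA' : ∀ x, AssSch.Ass (G' x) = {x.1})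
    (hm : ∀ (T : X.Modules) (a b : T ⟶ M), (∀ x, a ≫ q x = b ≫ q x) → a = b)
    (hm' : ∀ (T : X.Modules) (a b : T ⟶ M), (∀ x, a ≫ q' x = b ≫ q' x) → a = b)
    (x : ↥(AssSch.Ass M)) :
    ∃ e : G x ≅ G' x, q x ≫ e.hom = q' x := by
  haveI := hq x
  haveI := hq' x
  haveI : (G x).IsQuasicoherent := (hG x).1
  haveI : (G' x).IsQuasicoherent := (hG' x).1
  exact exists_iso_of_kernel_comp_eq_zero (q x) (q' x)
    (kernel_comp_eq_zero M hM hne G q (fun y => (hG y).1) hA hm x (G' x) (q' x) (hA' x))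
    (kernel_comp_eq_zero M hM hne G' q' (fun y => (hG' y).1) hA' hm' x (G x) (q x) (hA x))

end Groth.Agent.Lib.helper16.IrrDec
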