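import Mathlib
import Groth.Agent.Lib.Helper8.DevAnn
import Groth.Agent.Lib.Helper16.CohFinite

/-!
# Sections of `I^n F` and sections vanishing near `V(I)` (helper16)

* `eq_zero_of_cover`: sheaf separatedness for `O`-modules.
* `app_restrict`: morphisms of modules commute with restriction of sections.
* `exists_idealSubι_top_iff`: a global section of a quasi-coherent `N` lies in `Γ(X, ℭ N)` iff
  its restriction to each affine open `U` lies in `ℭ(U) • Γ(N, U)`.
-/

set_option autoImplicit false
universe u
open CategoryTheory CategoryTheory.Limits AlgebraicGeometry TopologicalSpace Opposite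

namespace Groth.Agent.Lib.helper16.KrullSheaf

open Groth.Agent.Lib.helper8.Dev Scheme.Modules

variable {X : Scheme.{u}}

/-- A section of an `O`-module vanishing on an open cover vanishes. -/
theorem eq_zero_of_cover (G : X.Modules) {ι : Type*} (W : ι → X.Opens) (V : X.Opens)
    (hle : ∀ i, W i ≤ V) (hcov : V ≤ ⨆ i, W i) (x : Γ(G, V))
    (hx : ∀ i, G.presheaf.map (homOfLE (hle i)).op x = 0) : x = 0 := by
  apply TopCat.Sheaf.eq_of_locally_eq' ⟨G.presheaf, G.isSheaf⟩ W V (fun i => homOfLE (hle i)) hcov
  intro i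
  exact (hx i).trans (map_zero (G.presheaf.map (homOfLE (hle i)).op).hom).symm

/-- morphisms of modules commute with restriction -/
theorem app_restrict {F G : X.Modules} (φ : F ⟶ G) {U V : X.Opens} (h : V ≤ U) (m : Γ(F, U)) :
    (φ.app V).hom (F.presheaf.map (homOfLE h).op m) =
      G.presheaf.map (homOfLE h).op ((φ.app U).hom m) := by
  have := φ.mapPresheaf.naturality (homOfLE h).op
  exact congr($this m)

variable (ℭ : X.IdealSheafData) (N : X.Modules)

/-- a global section of a quasi-coherent module `N` lies in `Γ(X, ℭ N)` iff on every affine open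
`U` its restriction lies in `ℭ(U) • Γ(N, U)` -/
theorem exists_idealSubι_iff [N.IsQuasicoherent] (V : X.Opens) (s : Γ(N, V)) :
    (∃ t : Γ(idealSub ℭ N, V), ((idealSubι ℭ N).app V).hom t = s) ↔
      ∀ (U : X.affineOpens) (h : U.1 ≤ V), N.presheaf.map (homOfLE h).op s ∈
        ℭ.ideal U • (⊤ : Submodule Γ(X, U.1) Γ(N, U.1)) := by
  constructor
  · rintro ⟨t, rfl⟩ U h
    rw [← exists_idealSubι_app_eq_iff ℭ N U.2]
    exact ⟨(idealSub ℭ N).presheaf.map (homOfLE h).op t, app_restrict _ h t⟩
  · intro H
    unfold idealSubι idealSub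
    rw [exists_kernel_ι_app_eq_iff]
    set φ := (pullbackPushforwardAdjunction ℭ.subschemeι).unit.app N with hφ
    -- cover V by affine opens
    refine eq_zero_of_cover _ (fun U : {U : X.affineOpens // U.1 ≤ V} => U.1.1) V (fun U => U.2)
      ?_ _ (fun U => ?_)
    · intro x hx
      obtain ⟨_, ⟨W, hW, rfl⟩, hxW, hWV⟩ :=
        X.isBasis_affineOpens.exists_subset_of_mem_open hx V.2
      exact Opens.mem_iSup.mpr ⟨⟨⟨W, hW⟩, hWV⟩, hxW⟩
    · rw [← app_restrict φ U.2 s]
      have h1 := (exists_idealSubι_app_eq_iff ℭ N U.1.2 _).mpr (H U.1 U.2)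
      unfold idealSubι idealSub at h1
      rw [exists_kernel_ι_app_eq_iff] at h1
      exact h1

end Groth.Agent.Lib.helper16.KrullSheaf
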