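import Mathlib
import Groth.Agent.Lib.Helper16.KrullSheaf1

/-!
# Sections of `I^n F` and sections vanishing near `V(I)`, II (helper16)

* `exists_idealSubι_of_restrict_eq_zero`: a global section vanishing on an open neighbourhood of
  `V(ℭ)` lies in `Γ(X, ℭ N)`.
* `restrict_basicOpen_eq_zero`: `g • m = 0` implies `m|_{D(g)} = 0`.
* `exists_nhds_restrict_eq_zero`: (Krull) on a locally Noetherian scheme, a global section of a
  coherent module lying in all `Γ(X, I^n N)` vanishes on a neighbourhood of `V(I)`.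
-/

set_option autoImplicit false
universe u
open CategoryTheory CategoryTheory.Limits AlgebraicGeometry TopologicalSpace Opposite

namespace Groth.Agent.Lib.helper16.KrullSheaf

open Groth.Agent.Lib.helper8.Dev Scheme.Modules Groth.Agent.Lib.helper7

variable {X : Scheme.{u}}

variable (ℭ : X.IdealSheafData) (N : X.Modules)

/-- a global section vanishing on an open neighbourhood of `V(ℭ)` lies in `Γ(X, ℭ N)` -/
theorem exists_idealSubι_of_restrict_eq_zero (V : X.Opens) (hV : ℭ.supportSet ⊆ (V : Set X))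
    (s : Γ(N, ⊤)) (hs : N.presheaf.map (homOfLE (le_top : V ≤ ⊤)).op s = 0) :
    ∃ t : Γ(idealSub ℭ N, ⊤), ((idealSubι ℭ N).app ⊤).hom t = s := by
  unfold idealSubι idealSub
  rw [exists_kernel_ι_app_eq_iff]
  set M := (Scheme.Modules.pullback ℭ.subschemeι).obj N with hM
  let φ : N ⟶ (pushforward ℭ.subschemeι).obj M :=
    (pullbackPushforwardAdjunction ℭ.subschemeι).unit.app N
  change (φ.app ⊤).hom s = 0
  have h1 := app_restrict φ (le_top : V ≤ ⊤) s
  rw [hs, map_zero] at h1
  have hpre : (⊤ : ℭ.subscheme.Opens) ≤ ℭ.subschemeι ⁻¹ᵁ V := by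
    intro z _
    apply hV
    have : ℭ.subschemeι z ∈ Set.range ℭ.subschemeι := ⟨z, rfl⟩
    rw [Scheme.IdealSheafData.range_subschemeι] at this
    exact this
  set y := (φ.app ⊤).hom s with hy
  have h2 : M.presheaf.map (homOfLE (le_top : ℭ.subschemeι ⁻¹ᵁ V ≤ ⊤)).op y = 0 := h1.symm
  have h3 := congrArg (M.presheaf.map (homOfLE hpre).op) h2
  rw [map_map, map_self, map_zero] at h3
  exact h3

variable {N} in
/-- `g • m = 0` implies `m|_{D(g)} = 0` -/
theorem restrict_basicOpen_eq_zero {U : X.Opens} (g : Γ(X, U)) (m : Γ(N, U)) (h : g • m = 0) :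
    N.presheaf.map (homOfLE (X.basicOpen_le g)).op m = 0 := by
  have h1 := congrArg (N.presheaf.map (homOfLE (X.basicOpen_le g)).op) h
  rw [Scheme.Modules.map_smul, map_zero] at h1
  have hunit : IsUnit (X.presheaf.map (homOfLE (X.basicOpen_le g)).op g) :=
    RingedSpace.isUnit_res_basicOpen X.toRingedSpace g
  obtain ⟨v, hv⟩ := hunit
  rw [← hv] at h1
  have := congrArg (fun z => (↑v⁻¹ : Γ(X, X.basicOpen g)) • z) h1
  simpa [smul_smul] using this

/-- **Krull intersection for sheaves**: on a locally Noetherian scheme, a global section of a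
coherent module lying in `Γ(X, ℭ^n N)` for all `n` vanishes on an open neighbourhood of `V(ℭ)`. -/
theorem exists_nhds_restrict_eq_zero [IsLocallyNoetherian X] (hN : Coh.IsCoh N) (s : Γ(N, ⊤))
    (H : ∀ n : ℕ, ∃ t : Γ(idealSub (ℭ ^ n) N, ⊤), ((idealSubι (ℭ ^ n) N).app ⊤).hom t = s) :
    ∃ V : X.Opens, ℭ.supportSet ⊆ (V : Set X) ∧
      N.presheaf.map (homOfLE (le_top : V ≤ ⊤)).op s = 0 := by
  haveI : N.IsQuasicoherent := hN.1
  have hloc : ∀ U : X.affineOpens, ∃ r ∈ ℭ.ideal U,
      (1 - r) • N.presheaf.map (homOfLE (le_top : U.1 ≤ ⊤)).op s = 0 := by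
    intro U
    haveI : IsNoetherianRing Γ(X, U.1) := IsLocallyNoetherian.component_noetherian U
    haveI : Module.Finite Γ(X, U.1) Γ(N, U.1) :=
      Groth.Agent.Lib.helper16.CohFinite.finite_sections_of_isCoh N hN U.2
    have hmem : N.presheaf.map (homOfLE (le_top : U.1 ≤ ⊤)).op s ∈
        (⨅ i : ℕ, (ℭ.ideal U) ^ i • ⊤ : Submodule Γ(X, U.1) Γ(N, U.1)) := by
      rw [Submodule.mem_iInf]
      intro n
      exact (exists_idealSubι_iff (ℭ ^ n) N ⊤ s).mp (H n) U le_top
    obtain ⟨r, hr⟩ := (Ideal.mem_iInf_smul_pow_eq_bot_iff _ _).mp hmem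
    exact ⟨r, r.2, by rw [sub_smul, one_smul, hr, sub_self]⟩
  choose r hr hrs using hloc
  refine ⟨⨆ U : X.affineOpens, X.basicOpen (1 - r U), ?_, ?_⟩
  · intro x hx
    obtain ⟨_, ⟨W, hW, rfl⟩, hxW, -⟩ :=
      X.isBasis_affineOpens.exists_subset_of_mem_open (Set.mem_univ x) isOpen_univ
    let U : X.affineOpens := ⟨W, hW⟩
    rw [Scheme.IdealSheafData.mem_supportSet_iff_of_mem (U := U) hxW] at hx
    have h1 : x ∉ X.basicOpen (r U) := (X.mem_zeroLocus_iff _ _).mp hx _ (hr U)
    have h2 : x ∈ X.basicOpen (r U + (1 - r U)) := by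
      rw [add_sub_cancel, Scheme.basicOpen_one]
      exact hxW
    have h3 := X.basicOpen_add_le (r U) (1 - r U) h2
    rw [← SetLike.mem_coe, Opens.coe_sup, Set.mem_union] at h3
    rcases h3 with h3 | h3
    · exact absurd h3 h1
    · exact Opens.mem_iSup.mpr ⟨U, h3⟩
  · refine eq_zero_of_cover N (fun U : X.affineOpens => X.basicOpen (1 - r U)) _
      (fun U => le_iSup (fun U : X.affineOpens => X.basicOpen (1 - r U)) U) le_rfl _ (fun U => ?_)
    rw [map_map]
    have h4 := restrict_basicOpen_eq_zero (1 - r U) _ (hrs U)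
    rw [map_map] at h4
    exact h4

end Groth.Agent.Lib.helper16.KrullSheaf
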