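import Mathlib
import Groth.Prelude.Def_Dual3
import Groth.Agent.Lib.Helper16.KrullSheaf2

/-!
# Sections of `I^n F` and sections vanishing near `V(I)`, III (helper16)

`main`: for `X` proper over a field, `F` coherent, a global section lies in the image of
`Γ(X, I^n F)` for all `n` iff it vanishes on an open neighbourhood of `V(I)`.
-/

set_option autoImplicit false
universe u
open CategoryTheory CategoryTheory.Limits AlgebraicGeometry TopologicalSpace Opposite

namespace Groth.Agent.Lib.helper16.KrullSheaf

open Groth.Agent.Lib.helper8.Dev Scheme.Modules Groth.Agent.Lib.helper7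

variable {X : Scheme.{u}}

theorem supportSet_pow_subset (ℭ : X.IdealSheafData) (n : ℕ) :
    (ℭ ^ n).supportSet ⊆ ℭ.supportSet := by
  change (if n = 0 then ∅ else ℭ.supportSet) ⊆ _
  split_ifs <;> simp

theorem main (k : Type u) [Field k] (X : Scheme.{u}) (f : X ⟶ Spec (CommRingCat.of k))
    [IsProper f] (I : X.IdealSheafData) (F : X.Modules) (hF : Coh.IsCoh F)
    (s : F.val.obj (Opposite.op ⊤)) :
    (∀ n : ℕ, ∃ t : ((Dual3.idealMul (I ^ n)).obj F).val.obj (Opposite.op ⊤),
      (Dual3.idealMulι (I ^ n) F).val.app (Opposite.op ⊤) t = s) ↔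
    ∃ V : X.Opens, I.supportSet ⊆ (V : Set X) ∧
      F.val.map (homOfLE le_top : V ⟶ ⊤).op s = 0 := by
  haveI : IsLocallyNoetherian X := LocallyOfFiniteType.isLocallyNoetherian f
  constructor
  · intro H
    exact exists_nhds_restrict_eq_zero I F hF s H
  · rintro ⟨V, hV, hs⟩ n
    exact exists_idealSubι_of_restrict_eq_zero (I ^ n) F V
      ((supportSet_pow_subset I n).trans hV) s hs

end Groth.Agent.Lib.helper16.KrullSheaf
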