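import Mathlib

/-!
# Associated primes modulo a regular element; maximal points in Noetherian spaces (helper16)

* `maximalIdeal_isAssociatedPrime_of_mem_minimalPrimes`: over a Noetherian local ring, if `𝔪` is
  minimal over an ideal killing the nonzero finite module `N` then `𝔪 ∈ Ass N`;
* `maximalIdeal_isAssociatedPrime_quot_smul`: (Bruns–Herzog 1.2.13) if `c` is `M`-regular,
  `p ∈ Ass M` and `𝔪` is minimal over `p + (c)` then `𝔪 ∈ Ass (M/cM)`;
* `isAssociatedPrime_maximalIdeal_of_surjective`: transfer along a surjection of local rings;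
* `finite_maxPts`: a closed subset of a Noetherian quasi-sober space has finitely many maximal
  points.
-/

set_option autoImplicit false
universe u
open IsLocalRing Pointwise

namespace Groth.Agent.Lib.helper16.LenSemi

section alg

variable {B : Type*} [CommRing B] [IsNoetherianRing B] [IsLocalRing B]

theorem maximalIdeal_isAssociatedPrime_of_mem_minimalPrimes {N : Type*} [AddCommGroup N]
    [Module B N] [Nontrivial N] (I : Ideal B) (hI : ∀ a ∈ I, ∀ n : N, a • n = 0)
    (hmin : maximalIdeal B ∈ I.minimalPrimes) : IsAssociatedPrime (maximalIdeal B) N := by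
  obtain ⟨P, hP⟩ := associatedPrimes.nonempty B N
  have hP' : IsAssociatedPrime P N := hP
  have hle : I ≤ P := by
    refine le_trans ?_ hP'.annihilator_le
    intro a ha
    rw [Submodule.mem_annihilator]
    intro n _
    exact hI a ha n
  haveI := hP'.isPrime
  have h1 : P ≤ maximalIdeal B := IsLocalRing.le_maximalIdeal hP'.isPrime.ne_top
  have h2 : maximalIdeal B ≤ P := hmin.2 ⟨hP'.isPrime, hle⟩ h1
  rwa [le_antisymm h2 h1]

/-- Bruns–Herzog 1.2.13. -/
theorem maximalIdeal_isAssociatedPrime_quot_smul {M : Type*} [AddCommGroup M] [Module B M]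
    [Module.Finite B M] (c : B) (hc : c ∈ maximalIdeal B) (hreg : IsSMulRegular M c)
    (p : Ideal B) (hp : IsAssociatedPrime p M)
    (hmin : maximalIdeal B ∈ (p ⊔ Ideal.span {c}).minimalPrimes) :
    IsAssociatedPrime (maximalIdeal B) (M ⧸ c • (⊤ : Submodule B M)) := by
  obtain ⟨hpp, x, hx⟩ := (isAssociatedPrime_iff).1 hp
  -- the submodule killed by `p`
  set N : Submodule B M := Submodule.torsionBySet B M (p : Set B) with hN
  have hxN : x ∈ N := by
    rw [hN, Submodule.mem_torsionBySet_iff]
    rintro ⟨a, ha⟩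
    have : a ∈ (⊥ : Submodule B M).colon {x} := hx ▸ ha
    rwa [Submodule.mem_colon_singleton, Submodule.mem_bot] at this
  have hx0 : x ≠ 0 := by
    rintro rfl
    apply hpp.ne_top
    rw [hx, Ideal.eq_top_iff_one, Submodule.mem_colon_singleton]
    simp
  -- `c` is regular on `M/N`
  have hcN : ∀ m : M, c • m ∈ N → m ∈ N := by
    intro m hm
    rw [hN, Submodule.mem_torsionBySet_iff] at hm ⊢
    intro a
    have h1 := hm a
    rw [smul_comm] at h1
    exact hreg (by
      show c • ((a : B) • m) = c • (0 : M)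
      rw [h1, smul_zero])
  -- the map `N/cN → M/cM`
  let g : N →ₗ[B] M ⧸ c • (⊤ : Submodule B M) := (Submodule.mkQ _).comp N.subtype
  have hgker : c • (⊤ : Submodule B N) ≤ LinearMap.ker g := by
    intro n hn
    obtain ⟨n', -, rfl⟩ := (Submodule.mem_smul_pointwise_iff_exists _ _ _).1 hn
    rw [LinearMap.mem_ker]
    show Submodule.Quotient.mk ((c • n' : N) : M) = 0
    rw [Submodule.Quotient.mk_eq_zero]
    exact (Submodule.mem_smul_pointwise_iff_exists _ _ _).2 ⟨n', trivial, rfl⟩
  let gq : (N ⧸ c • (⊤ : Submodule B N)) →ₗ[B] M ⧸ c • (⊤ : Submodule B M) :=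
    Submodule.liftQ _ g hgker
  have hgq : Function.Injective gq := by
    rw [← LinearMap.ker_eq_bot, Submodule.ker_liftQ, eq_bot_iff]
    rintro _ ⟨n, hn, rfl⟩
    rw [Submodule.mem_bot, Submodule.mkQ_apply, Submodule.Quotient.mk_eq_zero]
    have hn : g n = 0 := hn
    have h1 : ((n : N) : M) ∈ c • (⊤ : Submodule B M) := by
      have : Submodule.Quotient.mk ((n : N) : M) = (0 : M ⧸ c • (⊤ : Submodule B M)) := hn
      rwa [Submodule.Quotient.mk_eq_zero] at this
    obtain ⟨m, -, hm⟩ := (Submodule.mem_smul_pointwise_iff_exists _ _ _).1 h1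
    have hmN : m ∈ N := hcN m (by rw [hm]; exact n.2)
    exact (Submodule.mem_smul_pointwise_iff_exists _ _ _).2 ⟨⟨m, hmN⟩, trivial, Subtype.ext hm⟩
  -- `N/cN` is nonzero
  haveI : Nontrivial (N ⧸ c • (⊤ : Submodule B N)) := by
    rw [Submodule.Quotient.nontrivial_iff]
    intro htop
    have h4 : (⊤ : Submodule B N) = ⊥ := by
      refine Submodule.eq_bot_of_le_smul_of_le_jacobson_bot (Ideal.span {c}) ⊤
        Module.Finite.fg_top ?_ ?_
      · rw [Submodule.ideal_span_singleton_smul, htop]
      · rw [IsLocalRing.jacobson_eq_maximalIdeal ⊥ bot_ne_top, Ideal.span_singleton_le_iff_mem]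
        exact hc
    have : (⟨x, hxN⟩ : N) ∈ (⊥ : Submodule B N) := h4 ▸ Submodule.mem_top
    rw [Submodule.mem_bot] at this
    exact hx0 (congrArg Subtype.val this)
  have hass : IsAssociatedPrime (maximalIdeal B) (N ⧸ c • (⊤ : Submodule B N)) := by
    refine maximalIdeal_isAssociatedPrime_of_mem_minimalPrimes (p ⊔ Ideal.span {c}) ?_ hmin
    intro a ha n
    obtain ⟨n, rfl⟩ := Submodule.Quotient.mk_surjective _ n
    obtain ⟨a₁, ha₁, a₂, ha₂, rfl⟩ := Submodule.mem_sup.1 ha
    obtain ⟨b, rfl⟩ := Ideal.mem_span_singleton'.1 ha₂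
    rw [add_smul]
    have e1 : a₁ • (Submodule.Quotient.mk n : N ⧸ c • (⊤ : Submodule B N)) = 0 := by
      rw [← Submodule.Quotient.mk_smul]
      have : a₁ • n = 0 := by
        apply Subtype.ext
        have := (Submodule.mem_torsionBySet_iff (p : Set B) (n : M)).1 n.2 ⟨a₁, ha₁⟩
        simpa using this
      rw [this, Submodule.Quotient.mk_zero]
    have e2 : (b * c) • (Submodule.Quotient.mk n : N ⧸ c • (⊤ : Submodule B N)) = 0 := by
      rw [← Submodule.Quotient.mk_smul, Submodule.Quotient.mk_eq_zero, mul_comm, mul_smul]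
      exact (Submodule.mem_smul_pointwise_iff_exists _ _ _).2 ⟨b • n, trivial, rfl⟩
    rw [e1, e2, add_zero]
  exact hass.map_of_injective gq hgq

end alg

section surj

variable {B S : Type*} [CommRing B] [CommRing S] [IsLocalRing B] [IsLocalRing S]

/-- transfer of `𝔪 ∈ Ass` along a surjection of local rings. -/
theorem isAssociatedPrime_maximalIdeal_of_surjective [IsNoetherianRing B] (φ : B →+* S)
    (hφ : Function.Surjective φ)
    {N N' : Type*} [AddCommGroup N] [Module B N] [AddCommGroup N'] [Module S N']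
    (e : N ≃+ N') (he : ∀ (b : B) (n : N), e (b • n) = φ b • e n)
    (h : IsAssociatedPrime (maximalIdeal B) N) : IsAssociatedPrime (maximalIdeal S) N' := by
  obtain ⟨-, x, hx⟩ := (isAssociatedPrime_iff).1 h
  refine ⟨(IsLocalRing.maximalIdeal.isMaximal S).isPrime, e x, ?_⟩
  have hcol : (⊥ : Submodule S N').colon {e x} = maximalIdeal S := by
    ext a
    obtain ⟨b, rfl⟩ := hφ a
    rw [Submodule.mem_colon_singleton, Submodule.mem_bot, ← he, map_eq_zero_iff e e.injective]
    have h1 : b • x = 0 ↔ b ∈ maximalIdeal B := by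
      rw [hx, Submodule.mem_colon_singleton, Submodule.mem_bot]
    rw [h1, mem_maximalIdeal, mem_maximalIdeal, mem_nonunits_iff, mem_nonunits_iff, not_iff_not]
    constructor
    · intro hu; exact hu.map φ
    · intro hu
      haveI : IsLocalHom φ := hφ.isLocalHom φ
      exact isUnit_of_map_unit φ b hu
  rw [hcol]
  exact (Ideal.IsPrime.radical (IsLocalRing.maximalIdeal.isMaximal S).isPrime).symm

end surj

section top

variable {α : Type*} [TopologicalSpace α] [TopologicalSpace.NoetherianSpace α] [QuasiSober α]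

/-- a closed subset of a Noetherian quasi-sober space has finitely many maximal points. -/
theorem finite_maxPts (T : Set α) (hT : IsClosed T) :
    {x | x ∈ T ∧ ∀ w ∈ T, w ⤳ x → w = x}.Finite := by
  classical
  obtain ⟨S, hSf, hSc, hSi, hSU⟩ :=
    TopologicalSpace.NoetherianSpace.exists_finite_set_isClosed_irreducible hT
  have hgen : ∀ t : S, ∃ g : α, IsGenericPoint g (t : Set α) := fun t =>
    QuasiSober.sober (hSi t.1 t.2) (hSc t.1 t.2)
  choose g hg using hgen
  haveI : Finite S := hSf
  refine (Set.finite_range g).subset ?_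
  rintro x ⟨hxT, hmax⟩
  rw [hSU] at hxT
  obtain ⟨t, htS, hxt⟩ := hxT
  have hgt : g ⟨t, htS⟩ ∈ T := by
    rw [hSU]
    exact ⟨t, htS, (hg ⟨t, htS⟩).mem⟩
  have hsp : g ⟨t, htS⟩ ⤳ x := by
    rw [specializes_iff_mem_closure, (hg ⟨t, htS⟩).def]
    exact hxt
  exact ⟨⟨t, htS⟩, hmax _ hgt hsp⟩

end top

end Groth.Agent.Lib.helper16.LenSemi
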