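import Groth.Agent.S1833

/-!
# The module length formula in `ℕ`; lengths of base changes along surjections (helper16)

* `toNat_finsum`: `toNat` of a finite `ℕ∞`-valued `finsum`.
* `toNat_length_quot_smul_eq_finsum`: for `c ∈ 𝔪` regular on a finite module `M` over a Noetherian
  local ring with `FL c M` (helper26): `ℓ(M/cM) = Σ_{c ∉ p} ℓ(M_p) · ord_{B/p}(c)` in `ℕ`.
* `length_of_isBaseChange_surjective`: for `R → S` surjective and `N = S ⊗_R M`:
  `ℓ_S(N) = ℓ_R(M / ker • M)`.
-/

set_option autoImplicit false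
universe u
open Pointwise

namespace Groth.Agent.Lib.helper16.ModLen

open Groth.Agent.Lib.helper26.HS Groth.Agent.Lib.helper26.Chi

theorem toNat_finsum {α : Type*} (f : α → ℕ∞) (hfin : (Function.support f).Finite)
    (hne : ∑ᶠ a, f a ≠ ⊤) : (∑ᶠ a, f a).toNat = ∑ᶠ a, (f a).toNat := by
  classical
  have hs : Function.support f ⊆ ↑hfin.toFinset := by
    intro a ha
    simpa using ha
  rw [finsum_eq_sum_of_support_subset f hs] at hne ⊢
  rw [ENat.toNat_sum (ENat.sum_ne_top.1 hne)]
  symm
  apply finsum_eq_sum_of_support_subset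
  intro a ha
  apply hs
  rw [Function.mem_support] at ha ⊢
  intro h0
  apply ha
  rw [h0]
  rfl

open Classical in
theorem toNat_length_quot_smul_eq_finsum {B : Type u} [CommRing B] [IsNoetherianRing B]
    [IsLocalRing B] (M : Type u) [AddCommGroup M] [Module B M] [Module.Finite B M] (c : B)
    (hc : c ∈ IsLocalRing.maximalIdeal B) (hreg : IsSMulRegular M c) (hFL : FL c M) :
    (Module.length B (M ⧸ c • (⊤ : Submodule B M))).toNat =
      ∑ᶠ p : PrimeSpectrum B, if c ∉ p.asIdeal then
        (locLen M p).toNat *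
          (Ring.ord (B ⧸ p.asIdeal) (Ideal.Quotient.mk p.asIdeal c)).toNat else 0 := by
  have hmain := main c hc M inferInstance hFL
  have e1 : Module.length B (M ⧸ c • (⊤ : Submodule B M)) = Module.length B (C c M) := by
    unfold C
    rw [range_lsmul_eq_smul_top]
  have hK : Module.length B (K c M) = 0 := by
    rw [Module.length_eq_zero_iff]
    refine ⟨fun a b => Subtype.ext ?_⟩
    have ha : c • (a : M) = 0 := a.2
    have hb : c • (b : M) = 0 := b.2
    exact hreg (ha.trans hb.symm)
  have hne : Module.length B (C c M) ≠ ⊤ := (fl_iff c).1 hFL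
  rw [e1]
  rw [hmain, hK, zero_add] at hne ⊢
  unfold sig at hne ⊢
  rw [toNat_finsum _ (sig_support_finite c hFL hc) hne]
  apply finsum_congr
  intro p
  by_cases h : c ∈ p.asIdeal
  · rw [if_neg (not_not.2 h), if_neg (not_not.2 h)]
    rfl
  · rw [if_pos h, if_pos h, ENat.toNat_mul]
    unfold cst
    rw [← Groth.Agent.S1833.ord_quot_eq]

theorem length_of_isBaseChange_surjective {R S M N : Type*} [CommRing R] [CommRing S]
    [Algebra R S] [AddCommGroup M] [Module R M] [AddCommGroup N] [Module R N] [Module S N]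
    [IsScalarTower R S N] (ψ : M →ₗ[R] N) (hψ : IsBaseChange S ψ)
    (hs : Function.Surjective (algebraMap R S)) :
    Module.length S N =
      Module.length R (M ⧸ (RingHom.ker (algebraMap R S)) • (⊤ : Submodule R M)) := by
  have e0 : TensorProduct R S M ≃ₗ[S] N := hψ.equiv
  rw [← e0.length_eq, ← Module.length_eq_of_surjective (S := R) (R := S) hs]
  have hs' : Function.Surjective (Algebra.ofId R S) := hs
  have e1 : (R ⧸ RingHom.ker (Algebra.ofId R S)) ≃ₐ[R] S :=
    Ideal.quotientKerAlgEquivOfSurjective hs'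
  have e2 : TensorProduct R (R ⧸ RingHom.ker (Algebra.ofId R S)) M ≃ₗ[R] TensorProduct R S M :=
    TensorProduct.congr e1.toLinearEquiv (LinearEquiv.refl R M)
  rw [← e2.length_eq]
  exact (TensorProduct.quotTensorEquivQuotSMul M (RingHom.ker (Algebra.ofId R S))).length_eq

end Groth.Agent.Lib.helper16.ModLen
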