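import Groth.Agent.Lib.Helper16.LenSemi1
import Groth.Agent.Lib.Helper16.ModLen1

/-!
# A lower bound for `ℓ(M/cM)`; associated primes and surjective base change (helper16)

* `sum_locLen_le_length_quot`: over a Noetherian local ring, if `M/cM` has finite length then
  `Σ_{p ∈ S} ℓ(M_p) ≤ ℓ(M/cM)` for every finite set `S` of primes not containing `c`;
* `isAssociatedPrime_maximalIdeal_of_isBaseChange`: if `R → S` is a surjection of local rings
  with kernel `K` and `N = S ⊗ M` then `𝔪_R ∈ Ass (M/KM)` implies `𝔪_S ∈ Ass N`.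
-/

set_option autoImplicit false
universe u
open IsLocalRing Pointwise

namespace Groth.Agent.Lib.helper16.LenSemi

open Groth.Agent.Lib.helper26.HS Groth.Agent.Lib.helper26.Chi

theorem one_le_cst {B : Type u} [CommRing B] [IsNoetherianRing B] [IsLocalRing B] (c : B)
    (hc : c ∈ maximalIdeal B) (p : PrimeSpectrum B) : 1 ≤ cst c p := by
  rw [Order.one_le_iff_ne_zero]
  unfold cst
  rw [Ne, Module.length_eq_zero_iff, not_subsingleton_iff_nontrivial]
  apply Ideal.Quotient.nontrivial_iff.2
  intro htop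
  have hle : p.asIdeal ⊔ Ideal.span {c} ≤ maximalIdeal B :=
    sup_le (IsLocalRing.le_maximalIdeal p.2.ne_top)
      ((Ideal.span_singleton_le_iff_mem _).2 hc)
  rw [htop] at hle
  exact (IsLocalRing.maximalIdeal.isMaximal B).ne_top (top_le_iff.1 hle)

open Classical in
/-- `Σ_{p ∈ S} ℓ(M_p) ≤ ℓ(M/cM)`. -/
theorem sum_locLen_le_length_quot {B : Type u} [CommRing B] [IsNoetherianRing B]
    [IsLocalRing B] (M : Type u) [AddCommGroup M] [Module B M] [Module.Finite B M] (c : B)
    (hc : c ∈ maximalIdeal B) (hFL : FL c M) (S : Finset (PrimeSpectrum B))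
    (hS : ∀ p ∈ S, c ∉ p.asIdeal) :
    ∑ p ∈ S, locLen M p ≤ Module.length B (M ⧸ c • (⊤ : Submodule B M)) := by
  have hmain := main c hc M inferInstance hFL
  have e1 : Module.length B (M ⧸ c • (⊤ : Submodule B M)) = Module.length B (C c M) := by
    unfold C
    rw [range_lsmul_eq_smul_top]
  rw [e1, hmain]
  refine le_trans ?_ le_add_self
  unfold sig
  have hfin := sig_support_finite c hFL hc
  have hs : (Function.support fun p : PrimeSpectrum B =>
      if c ∉ p.asIdeal then locLen M p * cst c p else 0) ⊆ ↑(hfin.toFinset ∪ S) := by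
    intro p hp
    rw [Finset.coe_union]
    left
    simpa using hp
  rw [finsum_eq_sum_of_support_subset _ hs]
  refine le_trans ?_ (Finset.sum_le_sum_of_subset (Finset.subset_union_right))
  refine Finset.sum_le_sum fun p hp => ?_
  rw [if_pos (hS p hp)]
  exact le_mul_of_one_le_right zero_le (one_le_cst c hc p)

/-- transfer of `𝔪 ∈ Ass` along a surjective base change. -/
theorem isAssociatedPrime_maximalIdeal_of_isBaseChange {R S M N : Type*} [CommRing R]
    [CommRing S] [IsLocalRing R] [IsLocalRing S] [IsNoetherianRing R]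
    [Algebra R S] [AddCommGroup M] [Module R M] [AddCommGroup N] [Module R N] [Module S N]
    [IsScalarTower R S N] (ψ : M →ₗ[R] N) (hψ : IsBaseChange S ψ)
    (hs : Function.Surjective (algebraMap R S))
    (h : IsAssociatedPrime (maximalIdeal R)
      (M ⧸ (RingHom.ker (algebraMap R S)) • (⊤ : Submodule R M))) :
    IsAssociatedPrime (maximalIdeal S) N := by
  have e0 : TensorProduct R S M ≃ₗ[S] N := hψ.equiv
  have hs' : Function.Surjective (Algebra.ofId R S) := hs
  have e1 : (R ⧸ RingHom.ker (Algebra.ofId R S)) ≃ₐ[R] S :=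
    Ideal.quotientKerAlgEquivOfSurjective hs'
  have e2 : TensorProduct R (R ⧸ RingHom.ker (Algebra.ofId R S)) M ≃ₗ[R] TensorProduct R S M :=
    TensorProduct.congr e1.toLinearEquiv (LinearEquiv.refl R M)
  have e3 : TensorProduct R (R ⧸ RingHom.ker (Algebra.ofId R S)) M ≃ₗ[R]
      (M ⧸ (RingHom.ker (Algebra.ofId R S)) • (⊤ : Submodule R M)) :=
    TensorProduct.quotTensorEquivQuotSMul M (RingHom.ker (Algebra.ofId R S))
  let e : (M ⧸ (RingHom.ker (algebraMap R S)) • (⊤ : Submodule R M)) ≃ₗ[R] N :=
    e3.symm ≪≫ₗ e2 ≪≫ₗ (e0.restrictScalars R)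
  refine isAssociatedPrime_maximalIdeal_of_surjective (algebraMap R S) hs e.toAddEquiv ?_ h
  intro b n
  show e (b • n) = algebraMap R S b • e n
  rw [map_smul, algebraMap_smul]

end Groth.Agent.Lib.helper16.LenSemi
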