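import Groth.Agent.Lib.Helper16.SpFun4

/-!
# `sp [F_η]_r = [F_s]_r` for a coherent module flat over a discrete valuation ring (helper16)
-/

set_option autoImplicit false
universe u
open CategoryTheory CategoryTheory.Limits AlgebraicGeometry TopologicalSpace Opposite IsLocalRing
open Pointwise

namespace Groth.Agent.Lib.helper16.SpFun

open Groth.Agent.Lib.helper16.CohStalk Groth.Agent.Lib.helper16.OrdGen
  Groth.Agent.Lib.helper16.DivSum Groth.Agent.Lib.helper16.ModLen
  Groth.Agent.Lib.helper16.StalkLoc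
  Groth.Agent.Lib.helper17.StalkPullback Groth.Agent.Lib.helper17.FibreStalk
  Groth.Agent.Lib.helper17.NodalNormal Groth.Agent.Lib.helper3.QFinTop

section general

variable {R : Type u} [CommRing R] {X : Scheme.{u}} (a : X ⟶ Spec (CommRingCat.of R))

theorem exists_fiber_point (y : Spec (CommRingCat.of R)) (ξ : X) (hξ : a ξ = y) :
    ∃ z : a.fiber y, a.fiberι y z = ξ := by
  have : ξ ∈ Set.range (a.fiberι y) := by
    rw [a.range_fiberι y]
    exact hξ
  exact this

/-- a point of the support of the restriction to a fibre lies in the support. -/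
theorem nontrivial_of_fiber (y : Spec (CommRingCat.of R)) (z : a.fiber y) (F : X.Modules)
    [F.IsQuasicoherent]
    (hnt : Nontrivial (((Scheme.Modules.pullback (a.fiberι y)).obj F).presheaf.stalk z)) :
    Nontrivial (F.presheaf.stalk (a.fiberι y z)) := by
  by_contra h
  rw [not_nontrivial_iff_subsingleton] at h
  have h1 := (length_stalk_fiber a y z F).trans Module.length_eq_zero
  exact not_subsingleton _ (Module.length_eq_zero_iff.1 h1)

theorem nontrivial_fiber_of_eq_bot (y : Spec (CommRingCat.of R)) (z : a.fiber y) (F : X.Modules)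
    [F.IsQuasicoherent] (hy : (show PrimeSpectrum R from y).asIdeal = ⊥)
    (hnt : Nontrivial (F.presheaf.stalk (a.fiberι y z))) :
    Nontrivial (((Scheme.Modules.pullback (a.fiberι y)).obj F).presheaf.stalk z) := by
  by_contra h
  rw [not_nontrivial_iff_subsingleton] at h
  have h1 := (length_stalk_fiber_of_eq_bot a y z F hy).symm.trans Module.length_eq_zero
  exact not_subsingleton _ (Module.length_eq_zero_iff.1 h1)

theorem nontrivial_fiber_of_eq_span [IsLocallyNoetherian X] (y : Spec (CommRingCat.of R))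
    (z : a.fiber y) (F : X.Modules) (hF : Coh.IsCoh F) (ϖ : R)
    (hy : (show PrimeSpectrum R from y).asIdeal = Ideal.span {ϖ})
    (hnt : Nontrivial (F.presheaf.stalk (a.fiberι y z))) :
    Nontrivial (((Scheme.Modules.pullback (a.fiberι y)).obj F).presheaf.stalk z) := by
  haveI : F.IsQuasicoherent := hF.1
  haveI : Module.Finite (X.presheaf.stalk (a.fiberι y z)) (F.presheaf.stalk (a.fiberι y z)) :=
    finite_stalk_of_isCoh F hF _
  by_contra h
  rw [not_nontrivial_iff_subsingleton] at h
  have h1 := (length_stalk_fiber_of_eq_span a y z F ϖ hy).symm.trans Module.length_eq_zero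
  rw [Module.length_eq_zero_iff, Submodule.Quotient.subsingleton_iff] at h1
  have hmem : tau a (a.fiberι y z) ϖ ∈ maximalIdeal (X.presheaf.stalk (a.fiberι y z)) := by
    have h2 := asIdeal_apply a (a.fiberι y z)
    rw [fiberι_mem] at h2
    have h3 : ϖ ∈ (show PrimeSpectrum R from y).asIdeal := by
      rw [hy]; exact Ideal.mem_span_singleton_self _
    rw [h2] at h3
    exact h3
  have h4 : (⊤ : Submodule (X.presheaf.stalk (a.fiberι y z)) (F.presheaf.stalk (a.fiberι y z))) =
      ⊥ := by
    refine Submodule.eq_bot_of_le_smul_of_le_jacobson_bot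
      (Ideal.span {tau a (a.fiberι y z) ϖ}) ⊤ Module.Finite.fg_top ?_ ?_
    · rw [Submodule.ideal_span_singleton_smul, h1]
    · rw [IsLocalRing.jacobson_eq_maximalIdeal ⊥ bot_ne_top, Ideal.span_singleton_le_iff_mem]
      exact hmem
  exact not_subsingleton _ (subsingleton_of_bot_eq_top h4.symm)

end general

variable (R : Type u) [CommRing R] [IsDomain R] [IsDiscreteValuationRing R]
  {X : Scheme.{u}} (a : X ⟶ Spec (CommRingCat.of R)) [LocallyOfFiniteType a]
  [IsLocallyNoetherian X]
  (δη : ↥(a.fiber (genericPoint ↥(Spec (CommRingCat.of R)))) → ℤ)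
  (δs : ↥(a.fiber (IsLocalRing.closedPoint R)) → ℤ)
  (hδη : Cyc.DeltaCompat (a.fiberToSpecResidueField (genericPoint ↥(Spec (CommRingCat.of R))))
    δη (fun _ => 0))
  (hδs : Cyc.DeltaCompat (a.fiberToSpecResidueField (IsLocalRing.closedPoint R)) δs (fun _ => 0))
  (r : ℤ) (F : X.Modules) (hF : Coh.IsCoh F) (hflat : FlatMod.IsFlatOver a F)
  (hdim : ∀ ζ : ↥(a.fiber (genericPoint ↥(Spec (CommRingCat.of R)))),
    Nontrivial (((Scheme.Modules.pullback
      (a.fiberι (genericPoint ↥(Spec (CommRingCat.of R))))).obj F).presheaf.stalk ζ) → δη ζ ≤ r)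

include hδη hF hdim in
/-- a point of the support over the generic point has `δ_X ≤ r`. -/
theorem deltaX_le_of_generic (ξ : X) (hξ : a ξ = genericPoint ↥(Spec (CommRingCat.of R)))
    (hnt : Nontrivial (F.presheaf.stalk ξ)) :
    ∃ ζ : ↥(a.fiber (genericPoint ↥(Spec (CommRingCat.of R)))),
      a.fiberι (genericPoint ↥(Spec (CommRingCat.of R))) ζ = ξ ∧ δη ζ ≤ r ∧
        deltaX R a ξ = δη ζ := by
  haveI : F.IsQuasicoherent := hF.1
  obtain ⟨ζ, rfl⟩ := exists_fiber_point a _ ξ hξ
  refine ⟨ζ, rfl, hdim ζ (nontrivial_fiber_of_eq_bot a _ ζ F (asIdeal_genericPoint R) hnt), ?_⟩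
  rw [deltaX_fiberι R a _ δη hδη ζ, deltaS_genericPoint, zero_add]

include hδη hδs hF hflat hdim in
/-- **dim Supp F_s ≤ r.** -/
theorem delta_le_of_nontrivial (x : ↥(a.fiber (IsLocalRing.closedPoint R)))
    (hnt : Nontrivial (((Scheme.Modules.pullback
      (a.fiberι (IsLocalRing.closedPoint R))).obj F).presheaf.stalk x)) : δs x ≤ r := by
  haveI : F.IsQuasicoherent := hF.1
  obtain ⟨ϖ, hϖ⟩ := IsDiscreteValuationRing.exists_irreducible R
  have hm : maximalIdeal R = Ideal.span {ϖ} := hϖ.maximalIdeal_eq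
  have hntx := nontrivial_of_fiber a _ x F hnt
  have hreg := injective_tau_smul R a F hflat (a.fiberι (closedPoint R) x) ϖ hϖ.ne_zero
  obtain ⟨ξ, h, hntξ, hc⟩ := exists_generization_notMem F hF _ _ hreg hntx
  have hξη : a ξ = genericPoint ↥(Spec (CommRingCat.of R)) := by
    rcases apply_eq_or R a ξ with h1 | h1
    · exact h1
    · exfalso
      apply hc
      rw [tau_mem_pOf_iff, h1]
      change ϖ ∈ maximalIdeal R
      rw [hm]
      exact Ideal.mem_span_singleton_self _
  obtain ⟨ζ, hζ, hζr, hζδ⟩ := deltaX_le_of_generic R a δη hδη r F hF hdim ξ hξη hntξ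
  have hne : ξ ≠ a.fiberι (closedPoint R) x := by
    intro he
    have h1 := fiberι_mem a (closedPoint R) x
    rw [← he, hξη] at h1
    exact genericPoint_ne_closedPoint R h1
  have h2 := (isDimFun_deltaX R a ξ _ h hne).1
  rw [deltaX_fiberι R a _ δs hδs x, deltaS_closedPoint, hζδ] at h2
  omega

end Groth.Agent.Lib.helper16.SpFun
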