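import Groth.Agent.Lib.Helper16.LenSemi2
import Groth.Agent.Lib.Helper16.SpFun5

/-!
# Maximal points of the support and associated points (helper16)

For a coherent module `F` on a locally Noetherian scheme:
* `pOf_mem_minimalPrimes_annihilator`: a maximal point `ξ` of `Supp F` generizing `x` gives a
  minimal prime of `Ann F_x`;
* `isAssociatedPrime_pOf`, `isAssPoint_of_maximal`: hence an associated prime;
* `exists_maximal_generization`: every point of `Supp F` has a maximal generization in `Supp F`;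
* `maximal_of_isAssPoint_of_noEmbedded`: without embedded points, associated points are maximal
  points of the support.
-/

set_option autoImplicit false
universe u
open CategoryTheory CategoryTheory.Limits AlgebraicGeometry TopologicalSpace Opposite IsLocalRing
open Pointwise

namespace Groth.Agent.Lib.helper16.LenSemi

open Groth.Agent.Lib.helper16.CohStalk Groth.Agent.Lib.helper16.OrdGen
  Groth.Agent.Lib.helper16.DivSum Groth.Agent.Lib.helper16.ModLen
  Groth.Agent.Lib.helper16.StalkLoc

variable {X : Scheme.{u}} [IsLocallyNoetherian X] (F : X.Modules) (hF : Coh.IsCoh F)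

include hF in
theorem pOf_mem_minimalPrimes_annihilator {x ξ : X} (h : ξ ⤳ x)
    (hnt : Nontrivial (F.presheaf.stalk ξ))
    (hmax : ∀ w : X, Nontrivial (F.presheaf.stalk w) → w ⤳ ξ → w = ξ) :
    pOf h ∈ (Module.annihilator (X.presheaf.stalk x) (F.presheaf.stalk x)).minimalPrimes := by
  haveI : F.IsQuasicoherent := hF.1
  haveI : Module.Finite (X.presheaf.stalk x) (F.presheaf.stalk x) := finite_stalk_of_isCoh F hF x
  have hp_supp := (nontrivial_stalk_iff_mem_support F h).1 hnt
  refine ⟨⟨inferInstance, Module.mem_support_iff_of_finite.1 hp_supp⟩, ?_⟩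
  rintro q ⟨hqp, hqa⟩ hqle
  have hqs : (⟨q, hqp⟩ : PrimeSpectrum (X.presheaf.stalk x)) ∈
      Module.support (X.presheaf.stalk x) (F.presheaf.stalk x) :=
    Module.mem_support_iff_of_finite.2 hqa
  have hy := specializes_fromSpecStalk x (⟨q, hqp⟩ : PrimeSpectrum _)
  have hpy : pOf hy = q := pOf_fromSpecStalk x ⟨q, hqp⟩ hy
  have hynt : Nontrivial (F.presheaf.stalk (X.fromSpecStalk x ⟨q, hqp⟩)) := by
    rw [nontrivial_stalk_iff_mem_support F hy]
    have : (⟨pOf hy, inferInstance⟩ : PrimeSpectrum (X.presheaf.stalk x)) = ⟨q, hqp⟩ :=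
      PrimeSpectrum.ext hpy
    rw [this]
    exact hqs
  have hyξ : X.fromSpecStalk x ⟨q, hqp⟩ ⤳ ξ :=
    (specializes_iff_pOf_le hy h).2 (by rw [hpy]; exact hqle)
  have hyeq := hmax _ hynt hyξ
  rw [← hpy, pOf_congr hyeq hy h]

include hF in
theorem isAssociatedPrime_pOf {x ξ : X} (h : ξ ⤳ x)
    (hnt : Nontrivial (F.presheaf.stalk ξ))
    (hmax : ∀ w : X, Nontrivial (F.presheaf.stalk w) → w ⤳ ξ → w = ξ) :
    IsAssociatedPrime (pOf h) (F.presheaf.stalk x) := by
  haveI : Module.Finite (X.presheaf.stalk x) (F.presheaf.stalk x) := finite_stalk_of_isCoh F hF x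
  exact Module.associatedPrimes.minimalPrimes_annihilator_subset_associatedPrimes _ _
    (pOf_mem_minimalPrimes_annihilator F hF h hnt hmax)

include hF in
theorem isAssPoint_of_maximal {ξ : X} (hnt : Nontrivial (F.presheaf.stalk ξ))
    (hmax : ∀ w : X, Nontrivial (F.presheaf.stalk w) → w ⤳ ξ → w = ξ) :
    Curv2.IsAssPoint F ξ := by
  have h := isAssociatedPrime_pOf F hF (specializes_rfl : ξ ⤳ ξ) hnt hmax
  rwa [(pOf_eq_maximalIdeal_iff (specializes_rfl : ξ ⤳ ξ)).2 rfl] at h

include hF in
theorem exists_maximal_generization {w : X} (hnt : Nontrivial (F.presheaf.stalk w)) :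
    ∃ ξ : X, ξ ⤳ w ∧ Nontrivial (F.presheaf.stalk ξ) ∧
      ∀ v : X, Nontrivial (F.presheaf.stalk v) → v ⤳ ξ → v = ξ := by
  haveI : F.IsQuasicoherent := hF.1
  haveI : Module.Finite (X.presheaf.stalk w) (F.presheaf.stalk w) := finite_stalk_of_isCoh F hF w
  have hann : Module.annihilator (X.presheaf.stalk w) (F.presheaf.stalk w) ≠ ⊤ := by
    rw [Ne, Module.annihilator_eq_top_iff]
    exact not_subsingleton _
  obtain ⟨⟨p, hp⟩⟩ := Ideal.nonempty_minimalPrimes hann
  have hpp : p.IsPrime := hp.1.1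
  have hsp := specializes_fromSpecStalk w (⟨p, hpp⟩ : PrimeSpectrum (X.presheaf.stalk w))
  have hpof := pOf_fromSpecStalk w (⟨p, hpp⟩ : PrimeSpectrum (X.presheaf.stalk w)) hsp
  refine ⟨X.fromSpecStalk w ⟨p, hpp⟩, hsp, ?_, ?_⟩
  · rw [nontrivial_stalk_iff_mem_support F hsp]
    have : (⟨pOf hsp, inferInstance⟩ : PrimeSpectrum (X.presheaf.stalk w)) = ⟨p, hpp⟩ :=
      PrimeSpectrum.ext hpof
    rw [this]
    exact Module.mem_support_iff_of_finite.2 hp.1.2
  · intro v hv hvξ
    have hvw : v ⤳ w := hvξ.trans hsp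
    have hle : pOf hvw ≤ pOf hsp := (specializes_iff_pOf_le hvw hsp).1 hvξ
    have hvs := (nontrivial_stalk_iff_mem_support F hvw).1 hv
    have hann_le : Module.annihilator (X.presheaf.stalk w) (F.presheaf.stalk w) ≤ pOf hvw :=
      Module.mem_support_iff_of_finite.1 hvs
    have hge : pOf hsp ≤ pOf hvw := by
      have hpof' : pOf hsp = p := hpof
      rw [hpof']
      exact hp.2 ⟨inferInstance, hann_le⟩ (by rw [← hpof']; exact hle)
    have heq : pOf hvw = pOf hsp := le_antisymm hle hge
    rw [← fromSpecStalk_pOf hvw, ← fromSpecStalk_pOf hsp]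
    congr 1
    exact PrimeSpectrum.ext heq

include hF in
theorem maximal_of_isAssPoint_of_noEmbedded (hemb : AssSch.NoEmbedded F) {z : X}
    (hz : Curv2.IsAssPoint F z) (w : X) (hw : Nontrivial (F.presheaf.stalk w)) (hwz : w ⤳ z) :
    w = z := by
  obtain ⟨ξ, hξw, hξnt, hξmax⟩ := exists_maximal_generization F hF hw
  have hξass : Curv2.IsAssPoint F ξ := isAssPoint_of_maximal F hF hξnt hξmax
  have h1 : z = ξ := hemb z hz ξ hξass (hξw.trans hwz)
  subst h1
  exact (hwz.antisymm hξw).eq

end Groth.Agent.Lib.helper16.LenSemi
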