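import Groth.Agent.Lib.Helper16.LenSemi3

/-!
# Specializing maximal points of the support to a closed fibre (helper16)

* `exists_minimal_over`: if `ξ ⤳ x₀` and `ϖ` vanishes at the image of `x₀` in `Spec R` there is
  `x` with `ξ ⤳ x ⤳ x₀`, `ϖ` vanishing at the image of `x`, and `𝔪_x` minimal over `𝔭_ξ + (ϖ)`;
* `maximal_of_fiber_maximal`: over a DVR, a maximal point of the support of the restriction to
  the generic fibre is a maximal point of the support;
* `isAssPoint_fiber`: over a DVR, for `F` flat, if `ξ` is a maximal point of `Supp F` and `𝔪_x` is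
  minimal over `𝔭_ξ + (ϖ)` then `x` is an associated point of the restriction of `F` to the closed
  fibre.
-/

set_option autoImplicit false
universe u
open CategoryTheory CategoryTheory.Limits AlgebraicGeometry TopologicalSpace Opposite IsLocalRing
open Pointwise

namespace Groth.Agent.Lib.helper16.LenSemi

open Groth.Agent.Lib.helper16.CohStalk Groth.Agent.Lib.helper16.OrdGen
  Groth.Agent.Lib.helper16.DivSum Groth.Agent.Lib.helper16.ModLen
  Groth.Agent.Lib.helper16.StalkLoc Groth.Agent.Lib.helper16.SpFun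
  Groth.Agent.Lib.helper17.StalkPullback Groth.Agent.Lib.helper17.FibreStalk
  Groth.Agent.Lib.helper17.NodalNormal Groth.Agent.Lib.helper3.QFinTop

section general

variable {R : Type u} [CommRing R] {X : Scheme.{u}} (a : X ⟶ Spec (CommRingCat.of R))

theorem tau_mem_maximalIdeal_iff (x : X) (r : R) :
    tau a x r ∈ maximalIdeal (X.presheaf.stalk x) ↔
      r ∈ (show PrimeSpectrum R from a x).asIdeal := by
  rw [asIdeal_apply a x, Ideal.mem_comap]

/-- a point of `V(ϖ) ∩ closure {ξ}` above `x₀` at which `𝔪` is minimal over `𝔭_ξ + (ϖ)`. -/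
theorem exists_minimal_over {ξ x₀ : X} (h₀ : ξ ⤳ x₀) (ϖ : R)
    (hϖ : ϖ ∈ (show PrimeSpectrum R from a x₀).asIdeal) :
    ∃ (x : X) (h : ξ ⤳ x), x ⤳ x₀ ∧ ϖ ∈ (show PrimeSpectrum R from a x).asIdeal ∧
      maximalIdeal (X.presheaf.stalk x) ∈ (pOf h ⊔ Ideal.span {tau a x ϖ}).minimalPrimes := by
  have hne : pOf h₀ ⊔ Ideal.span {tau a x₀ ϖ} ≠ ⊤ := by
    intro htop
    have hle : pOf h₀ ⊔ Ideal.span {tau a x₀ ϖ} ≤ maximalIdeal (X.presheaf.stalk x₀) :=
      sup_le (IsLocalRing.le_maximalIdeal (Ideal.IsPrime.ne_top inferInstance))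
        ((Ideal.span_singleton_le_iff_mem _).2 ((tau_mem_maximalIdeal_iff a x₀ ϖ).2 hϖ))
    rw [htop] at hle
    exact (IsLocalRing.maximalIdeal.isMaximal _).ne_top (top_le_iff.1 hle)
  obtain ⟨⟨q, hq⟩⟩ := Ideal.nonempty_minimalPrimes hne
  have hqp : q.IsPrime := hq.1.1
  have hx := specializes_fromSpecStalk x₀ (⟨q, hqp⟩ : PrimeSpectrum (X.presheaf.stalk x₀))
  have hpx : pOf hx = q := pOf_fromSpecStalk x₀ ⟨q, hqp⟩ hx
  have hle1 : pOf h₀ ≤ q := le_trans le_sup_left hq.1.2
  have hmem1 : tau a x₀ ϖ ∈ q :=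
    hq.1.2 (Ideal.mem_sup_right (Ideal.mem_span_singleton_self _))
  have hξx : ξ ⤳ X.fromSpecStalk x₀ ⟨q, hqp⟩ :=
    (specializes_iff_pOf_le h₀ hx).2 (by rw [hpx]; exact hle1)
  have hϖx : ϖ ∈ (show PrimeSpectrum R from a (X.fromSpecStalk x₀ ⟨q, hqp⟩)).asIdeal := by
    rw [← tau_mem_pOf_iff a hx ϖ, hpx]
    exact hmem1
  refine ⟨X.fromSpecStalk x₀ ⟨q, hqp⟩, hξx, hx, hϖx, ?_⟩
  set x := X.fromSpecStalk x₀ ⟨q, hqp⟩ with hxdef
  refine ⟨⟨(IsLocalRing.maximalIdeal.isMaximal _).isPrime,
    sup_le (IsLocalRing.le_maximalIdeal (Ideal.IsPrime.ne_top inferInstance))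
      ((Ideal.span_singleton_le_iff_mem _).2 ((tau_mem_maximalIdeal_iff a x ϖ).2 hϖx))⟩, ?_⟩
  rintro Q ⟨hQp, hQle⟩ -
  -- the point of `Q`
  have hw := specializes_fromSpecStalk x (⟨Q, hQp⟩ : PrimeSpectrum (X.presheaf.stalk x))
  have hpw : pOf hw = Q := pOf_fromSpecStalk x ⟨Q, hQp⟩ hw
  set w := X.fromSpecStalk x ⟨Q, hQp⟩ with hwdef
  have hξw : ξ ⤳ w :=
    (specializes_iff_pOf_le hξx hw).2 (by rw [hpw]; exact le_trans le_sup_left hQle)
  have hϖw : ϖ ∈ (show PrimeSpectrum R from a w).asIdeal := by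
    rw [← tau_mem_pOf_iff a hw ϖ, hpw]
    exact hQle (Ideal.mem_sup_right (Ideal.mem_span_singleton_self _))
  -- compare in the local ring of `x₀`
  have hw₀ : w ⤳ x₀ := hw.trans hx
  have h1 : pOf h₀ ≤ pOf hw₀ := (specializes_iff_pOf_le h₀ hw₀).1 hξw
  have h2 : tau a x₀ ϖ ∈ pOf hw₀ := (tau_mem_pOf_iff a hw₀ ϖ).2 hϖw
  have h3 : pOf hw₀ ≤ q := by
    rw [← hpx]
    exact (specializes_iff_pOf_le hw₀ hx).1 hw
  have h4 : q ≤ pOf hw₀ :=
    hq.2 ⟨inferInstance, sup_le h1 ((Ideal.span_singleton_le_iff_mem _).2 h2)⟩ h3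
  have h5 : pOf hw₀ = pOf hx := by rw [hpx]; exact le_antisymm h3 h4
  have hwx : w = x := by
    rw [← fromSpecStalk_pOf hw₀, ← fromSpecStalk_pOf hx]
    congr 1
    exact PrimeSpectrum.ext h5
  rw [← hpw, (pOf_eq_maximalIdeal_iff hw).2 hwx]

end general

section dvr

variable (R : Type u) [CommRing R] [IsDomain R] [IsDiscreteValuationRing R]
  {X : Scheme.{u}} (a : X ⟶ Spec (CommRingCat.of R)) [IsLocallyNoetherian X]
  (F : X.Modules) (hF : Coh.IsCoh F)

theorem apply_eq_closedPoint_of_mem (x : X) (ϖ : R) (hϖ0 : ϖ ≠ 0)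
    (hϖ : ϖ ∈ (show PrimeSpectrum R from a x).asIdeal) : a x = closedPoint R := by
  rcases apply_eq_or R a x with h | h
  · exfalso
    rw [h, asIdeal_genericPoint R] at hϖ
    exact hϖ0 hϖ
  · exact h

include hF in
/-- a maximal point of the support of the restriction to the generic fibre is a maximal point of
the support. -/
theorem maximal_of_fiber_maximal
    (z' : a.fiber (genericPoint ↥(Spec (CommRingCat.of R))))
    (hmax : ∀ w : a.fiber (genericPoint ↥(Spec (CommRingCat.of R))),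
      Nontrivial (((Scheme.Modules.pullback
        (a.fiberι (genericPoint ↥(Spec (CommRingCat.of R))))).obj F).presheaf.stalk w) →
        w ⤳ z' → w = z')
    (w : X) (hw : Nontrivial (F.presheaf.stalk w))
    (hwz : w ⤳ a.fiberι (genericPoint ↥(Spec (CommRingCat.of R))) z') :
    w = a.fiberι (genericPoint ↥(Spec (CommRingCat.of R))) z' := by
  haveI : F.IsQuasicoherent := hF.1
  have h1 : a w ⤳ a (a.fiberι (genericPoint ↥(Spec (CommRingCat.of R))) z') :=
    hwz.map a.continuous
  rw [fiberι_mem] at h1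
  have hwη : a w = genericPoint ↥(Spec (CommRingCat.of R)) := by
    rcases apply_eq_or R a w with h | h
    · exact h
    · exfalso
      rw [h] at h1
      have h2 := (PrimeSpectrum.le_iff_specializes
        (show PrimeSpectrum R from closedPoint R)
        (show PrimeSpectrum R from genericPoint ↥(Spec (CommRingCat.of R)))).2 h1
      have h3 : (show PrimeSpectrum R from closedPoint R).asIdeal ≤
          (show PrimeSpectrum R from genericPoint ↥(Spec (CommRingCat.of R))).asIdeal := h2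
      rw [asIdeal_genericPoint R, le_bot_iff] at h3
      exact maximalIdeal_ne_bot R h3
  obtain ⟨w', rfl⟩ := exists_fiber_point a _ w hwη
  have hnt' := nontrivial_fiber_of_eq_bot a _ w' F (asIdeal_genericPoint R) hw
  rw [fiberι_specializes_iff] at hwz
  rw [hmax w' hnt' hwz]

include hF in
/-- `x` is an associated point of the restriction of `F` to the closed fibre. -/
theorem isAssPoint_fiber (hflat : FlatMod.IsFlatOver a F) (ϖ : R) (hϖ : Irreducible ϖ)
    {ξ : X} (hnt : Nontrivial (F.presheaf.stalk ξ))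
    (hmax : ∀ w : X, Nontrivial (F.presheaf.stalk w) → w ⤳ ξ → w = ξ)
    (z : a.fiber (closedPoint R)) (h : ξ ⤳ a.fiberι (closedPoint R) z)
    (hmin : maximalIdeal (X.presheaf.stalk (a.fiberι (closedPoint R) z)) ∈
      (pOf h ⊔ Ideal.span {tau a (a.fiberι (closedPoint R) z) ϖ}).minimalPrimes) :
    Curv2.IsAssPoint ((Scheme.Modules.pullback (a.fiberι (closedPoint R))).obj F) z := by
  haveI : F.IsQuasicoherent := hF.1
  have hm : maximalIdeal R = Ideal.span {ϖ} := hϖ.maximalIdeal_eq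
  set x := a.fiberι (closedPoint R) z with hxdef
  haveI : Module.Finite (X.presheaf.stalk x) (F.presheaf.stalk x) := finite_stalk_of_isCoh F hF x
  have hreg := injective_tau_smul R a F hflat x ϖ hϖ.ne_zero
  have hcm : tau a x ϖ ∈ maximalIdeal (X.presheaf.stalk x) := by
    rw [tau_mem_maximalIdeal_iff, hxdef, fiberι_mem]
    show ϖ ∈ maximalIdeal R
    rw [hm]
    exact Ideal.mem_span_singleton_self _
  have hass := maximalIdeal_isAssociatedPrime_quot_smul (tau a x ϖ) hcm hreg (pOf h)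
    (isAssociatedPrime_pOf F hF h hnt hmax) hmin
  -- transfer to the fibre
  letI := ((a.fiberι (closedPoint R)).stalkMap z).hom.toAlgebra
  letI := FlatMod.moduleStalkOver (a.fiberι (closedPoint R))
    ((Scheme.Modules.pullback (a.fiberι (closedPoint R))).obj F) z
  haveI := isScalarTower_moduleStalkOver (a.fiberι (closedPoint R))
    ((Scheme.Modules.pullback (a.fiberι (closedPoint R))).obj F) z
  obtain ⟨ψ, hψ⟩ := exists_isBaseChange_stalk_pullback (a.fiberι (closedPoint R)) F z
  refine isAssociatedPrime_maximalIdeal_of_isBaseChange ψ hψ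
    ((a.fiberι (closedPoint R)).stalkMap_surjective z) ?_
  have hker : RingHom.ker (algebraMap (X.presheaf.stalk x)
      ((a.fiber (closedPoint R)).presheaf.stalk z)) = Ideal.span {tau a x ϖ} := by
    show RingHom.ker ((a.fiberι (closedPoint R)).stalkMap z).hom = _
    rw [ker_fiberι_stalkMap, map_maximalIdeal_stalkMap, fiberι_mem]
    show (maximalIdeal R).map _ = _
    rw [hm, Ideal.map_span, Set.image_singleton]
  rw [hker, Submodule.ideal_span_singleton_smul]
  exact hass

end dvr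

end Groth.Agent.Lib.helper16.LenSemi
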