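import Groth.Agent.Lib.Helper16.LenSemi4
import Groth.Agent.Lib.Helper16.QCohPullback2
import Groth.Agent.Lib.Helper8.SupportProper

/-!
# Lengths at the maximal points of the supports of the fibres over a DVR (helper16)

* `exists_closed_maximal`: a maximal point `z'` of `Supp F_η` specializing into the closed fibre
  specializes to a maximal point `z` of `Supp F_s` (for `F` flat, `F_s` without embedded points);
* `sum_length_le`: `Σ_{z' ⤳ z} ℓ((F_η)_{z'}) ≤ ℓ((F_s)_z)` at a maximal point `z` of `Supp F_s`;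
* `exists_specialization_closed`: for `a` universally closed every point specializes into the
  closed fibre;
* `isLocallyNoetherian_fiber`, `finite_maxPts_support`.
-/

set_option autoImplicit false
universe u
open CategoryTheory CategoryTheory.Limits AlgebraicGeometry TopologicalSpace Opposite IsLocalRing
open Pointwise

namespace Groth.Agent.Lib.helper16.LenSemi

open Groth.Agent.Lib.helper16.CohStalk Groth.Agent.Lib.helper16.OrdGen
  Groth.Agent.Lib.helper16.DivSum Groth.Agent.Lib.helper16.ModLen
  Groth.Agent.Lib.helper16.StalkLoc Groth.Agent.Lib.helper16.SpFun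
  Groth.Agent.Lib.helper17.StalkPullback Groth.Agent.Lib.helper17.FibreStalk
  Groth.Agent.Lib.helper17.NodalNormal Groth.Agent.Lib.helper3.QFinTop
  Groth.Agent.Lib.helper26.HS Groth.Agent.Lib.helper26.Chi

theorem isCoh_pullback' {Y Z : Scheme.{u}} (h : Y ⟶ Z) {F : Z.Modules} (hF : Coh.IsCoh F) :
    Coh.IsCoh ((Scheme.Modules.pullback h).obj F) := by
  haveI : F.IsQuasicoherent := hF.1
  exact ⟨Groth.Agent.Lib.helper16.QCohPullback.isQuasicoherent_pullback h F,
    Groth.Agent.Lib.helper16.QCohPullback2.isFiniteType_pullback h F hF.2⟩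

theorem isLocallyNoetherian_fiber {X Y : Scheme.{u}} (f : X ⟶ Y) [LocallyOfFiniteType f] (y : Y) :
    IsLocallyNoetherian (f.fiber y) := by
  haveI : LocallyOfFiniteType (f.fiberToSpecResidueField y) :=
    MorphismProperty.pullback_snd _ _ inferInstance
  exact LocallyOfFiniteType.isLocallyNoetherian (f.fiberToSpecResidueField y)

/-- the maximal points of the support of a coherent module on a Noetherian scheme are finite in
number. -/
theorem finite_maxPts_support {Z : Scheme.{u}} [IsNoetherian Z] (G : Z.Modules)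
    (hG : Coh.IsCoh G) :
    Finite {v : Z // Nontrivial (G.presheaf.stalk v) ∧
      ∀ w : Z, Nontrivial (G.presheaf.stalk w) → v ∈ closure {w} → w = v} := by
  haveI : G.IsQuasicoherent := hG.1
  have hcl : IsClosed {x : Z | ¬ Subsingleton (ToType (G.presheaf.stalk x))} :=
    Groth.Agent.Lib.helper8.SchemeSupport.isClosed_support G hG.2
  have hfin := finite_maxPts _ hcl
  refine Set.Finite.subset hfin ?_ |>.to_subtype
  rintro v ⟨hv, hmax⟩
  refine ⟨not_subsingleton_iff_nontrivial.2 hv, fun w hw hwv => ?_⟩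
  exact hmax w (not_subsingleton_iff_nontrivial.1 hw) (specializes_iff_mem_closure.1 hwv)

section dvr

variable (R : Type u) [CommRing R] [IsDomain R] [IsDiscreteValuationRing R]
  {X : Scheme.{u}} (a : X ⟶ Spec (CommRingCat.of R))

theorem exists_specialization_closed [UniversallyClosed a] (ξ : X) :
    ∃ x₀ : X, ξ ⤳ x₀ ∧ a x₀ = closedPoint R := by
  have hcl : IsClosed (a '' closure {ξ}) := a.isClosedMap _ isClosed_closure
  have h1 : closure {a ξ} ⊆ a '' closure {ξ} :=
    closure_minimal (Set.singleton_subset_iff.2 ⟨ξ, subset_closure rfl, rfl⟩) hcl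
  have h2 : closedPoint R ∈ closure {a ξ} :=
    specializes_iff_mem_closure.1 (IsLocalRing.specializes_closedPoint (a ξ))
  obtain ⟨x₀, hx₀, hax₀⟩ := h1 h2
  exact ⟨x₀, specializes_iff_mem_closure.2 hx₀, hax₀⟩

variable [IsLocallyNoetherian X] (F : X.Modules) (hF : Coh.IsCoh F)

include hF in
theorem exists_closed_maximal [IsLocallyNoetherian (a.fiber (closedPoint R))]
    (hflat : FlatMod.IsFlatOver a F)
    (hemb : AssSch.NoEmbedded ((Scheme.Modules.pullback (a.fiberι (closedPoint R))).obj F))
    (z' : a.fiber (genericPoint ↥(Spec (CommRingCat.of R))))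
    (hnt' : Nontrivial (((Scheme.Modules.pullback
        (a.fiberι (genericPoint ↥(Spec (CommRingCat.of R))))).obj F).presheaf.stalk z'))
    (hmax' : ∀ w : a.fiber (genericPoint ↥(Spec (CommRingCat.of R))),
      Nontrivial (((Scheme.Modules.pullback
        (a.fiberι (genericPoint ↥(Spec (CommRingCat.of R))))).obj F).presheaf.stalk w) →
        w ⤳ z' → w = z')
    (x₀ : X) (h₀ : a.fiberι (genericPoint ↥(Spec (CommRingCat.of R))) z' ⤳ x₀)
    (hx₀ : a x₀ = closedPoint R) :
    ∃ z : a.fiber (closedPoint R),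
      Nontrivial (((Scheme.Modules.pullback
        (a.fiberι (closedPoint R))).obj F).presheaf.stalk z) ∧
      (∀ w : a.fiber (closedPoint R), Nontrivial (((Scheme.Modules.pullback
        (a.fiberι (closedPoint R))).obj F).presheaf.stalk w) → w ⤳ z → w = z) ∧
      a.fiberι (genericPoint ↥(Spec (CommRingCat.of R))) z' ⤳ a.fiberι (closedPoint R) z := by
  haveI : F.IsQuasicoherent := hF.1
  obtain ⟨ϖ, hϖ⟩ := IsDiscreteValuationRing.exists_irreducible R
  have hm : maximalIdeal R = Ideal.span {ϖ} := hϖ.maximalIdeal_eq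
  have hntξ := nontrivial_of_fiber a _ z' F hnt'
  have hmaxξ := maximal_of_fiber_maximal R a F hF z' hmax'
  have hϖ₀ : ϖ ∈ (show PrimeSpectrum R from a x₀).asIdeal := by
    rw [hx₀]
    show ϖ ∈ maximalIdeal R
    rw [hm]
    exact Ideal.mem_span_singleton_self _
  obtain ⟨x, h, -, hϖx, hmin⟩ := exists_minimal_over a h₀ ϖ hϖ₀
  have hax := apply_eq_closedPoint_of_mem R a x ϖ hϖ.ne_zero hϖx
  obtain ⟨z, rfl⟩ := exists_fiber_point a _ x hax
  have hass := isAssPoint_fiber R a F hF hflat ϖ hϖ hntξ hmaxξ z h hmin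
  have hG := isCoh_pullback' (a.fiberι (closedPoint R)) hF
  refine ⟨z, ?_, maximal_of_isAssPoint_of_noEmbedded _ hG hemb hass, h⟩
  obtain ⟨hp, m, hm'⟩ := (isAssociatedPrime_iff).1 hass
  have hm0 : m ≠ 0 := by
    rintro rfl
    apply hp.ne_top
    rw [hm', Ideal.eq_top_iff_one, Submodule.mem_colon_singleton]
    simp
  exact nontrivial_of_ne m 0 hm0

open Classical in
include hF in
theorem sum_length_le (ϖ : R) (hϖ : Irreducible ϖ) (z : a.fiber (closedPoint R))
    (hzmax : ∀ w : a.fiber (closedPoint R), Nontrivial (((Scheme.Modules.pullback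
        (a.fiberι (closedPoint R))).obj F).presheaf.stalk w) → w ⤳ z → w = z)
    (S' : Finset (a.fiber (genericPoint ↥(Spec (CommRingCat.of R)))))
    (hS' : ∀ z' ∈ S', a.fiberι (genericPoint ↥(Spec (CommRingCat.of R))) z' ⤳
      a.fiberι (closedPoint R) z) :
    ∑ z' ∈ S', Module.length
        ((a.fiber (genericPoint ↥(Spec (CommRingCat.of R)))).presheaf.stalk z')
        (((Scheme.Modules.pullback
          (a.fiberι (genericPoint ↥(Spec (CommRingCat.of R))))).obj F).presheaf.stalk z') ≤
      Module.length ((a.fiber (closedPoint R)).presheaf.stalk z)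
        (((Scheme.Modules.pullback (a.fiberι (closedPoint R))).obj F).presheaf.stalk z) := by
  haveI : F.IsQuasicoherent := hF.1
  have hy : (show PrimeSpectrum R from closedPoint R).asIdeal = Ideal.span {ϖ} :=
    hϖ.maximalIdeal_eq
  set x := a.fiberι (closedPoint R) z with hxdef
  haveI : Module.Finite (X.presheaf.stalk x) (F.presheaf.stalk x) := finite_stalk_of_isCoh F hF x
  have hcm : tau a x ϖ ∈ maximalIdeal (X.presheaf.stalk x) := by
    rw [tau_mem_maximalIdeal_iff, hxdef, fiberι_mem, hy]
    exact Ideal.mem_span_singleton_self _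
  have hFL : FL (tau a x ϖ) (F.presheaf.stalk x) := by
    intro Q hQ hcQ
    have hw := specializes_fromSpecStalk x Q
    have hpw := pOf_fromSpecStalk x Q hw
    have hQeq : (⟨pOf hw, inferInstance⟩ : PrimeSpectrum (X.presheaf.stalk x)) = Q :=
      PrimeSpectrum.ext hpw
    have hnt : Nontrivial (F.presheaf.stalk (X.fromSpecStalk x Q)) := by
      rw [nontrivial_stalk_iff_mem_support F hw, hQeq]
      exact hQ
    have hϖw : ϖ ∈ (show PrimeSpectrum R from a (X.fromSpecStalk x Q)).asIdeal := by
      rw [← tau_mem_pOf_iff a hw ϖ, hpw]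
      exact hcQ
    have haw := apply_eq_closedPoint_of_mem R a _ ϖ hϖ.ne_zero hϖw
    obtain ⟨w', hw'⟩ := exists_fiber_point a _ _ haw
    have hnt' : Nontrivial (((Scheme.Modules.pullback
        (a.fiberι (closedPoint R))).obj F).presheaf.stalk w') := by
      refine nontrivial_fiber_of_eq_span a _ w' F hF ϖ hy ?_
      rw [hw']
      exact hnt
    have hsp : w' ⤳ z := by
      rw [← fiberι_specializes_iff, hw']
      exact hw
    have hwz := hzmax w' hnt' hsp
    have hwx : X.fromSpecStalk x Q = x := by rw [← hw', hwz]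
    rw [← hpw, (pOf_eq_maximalIdeal_iff hw).2 hwx]
    exact IsLocalRing.maximalIdeal.isMaximal _
  -- the primes of the points of `S'`
  let g : a.fiber (genericPoint ↥(Spec (CommRingCat.of R))) → PrimeSpectrum (X.presheaf.stalk x) :=
    fun z' => if h : a.fiberι (genericPoint ↥(Spec (CommRingCat.of R))) z' ⤳ x then
      ⟨pOf h, inferInstance⟩ else closedPoint _
  have hg : ∀ z' (h : a.fiberι (genericPoint ↥(Spec (CommRingCat.of R))) z' ⤳ x),
      g z' = ⟨pOf h, inferInstance⟩ := fun z' h => dif_pos h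
  have hinj : Set.InjOn g (S' : Set (a.fiber (genericPoint ↥(Spec (CommRingCat.of R))))) := by
    intro z₁ hz₁ z₂ hz₂ h12
    have h₁ := hS' z₁ hz₁
    have h₂ := hS' z₂ hz₂
    rw [hg z₁ h₁, hg z₂ h₂] at h12
    have h3 : pOf h₁ = pOf h₂ := congrArg PrimeSpectrum.asIdeal h12
    apply fiberι_injective a _
    rw [← fromSpecStalk_pOf h₁, ← fromSpecStalk_pOf h₂]
    congr 1
  have hS : ∀ p ∈ S'.image g, tau a x ϖ ∉ p.asIdeal := by
    intro p hp
    obtain ⟨z', hz', rfl⟩ := Finset.mem_image.1 hp
    rw [hg z' (hS' z' hz')]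
    show tau a x ϖ ∉ pOf (hS' z' hz')
    rw [tau_mem_pOf_iff, fiberι_mem, asIdeal_genericPoint R]
    exact hϖ.ne_zero
  have key := sum_locLen_le_length_quot (F.presheaf.stalk x) (tau a x ϖ) hcm hFL (S'.image g) hS
  rw [Finset.sum_image hinj] at key
  rw [length_stalk_fiber_of_eq_span a _ z F ϖ hy]
  refine le_trans (le_of_eq ?_) key
  refine Finset.sum_congr rfl fun z' hz' => ?_
  rw [length_stalk_fiber_of_eq_bot a _ z' F (asIdeal_genericPoint R),
    length_stalk_eq_locLen F (hS' z' hz'), hg z' (hS' z' hz')]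
  rfl

end dvr

end Groth.Agent.Lib.helper16.LenSemi
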