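import Groth.Agent.Lib.Helper16.LenSemi5

/-!
# Semicontinuity of the total length at the maximal points of the fibres over a DVR (helper16)

`sum_length_generic_le_closed`: for `f : X ⟶ Spec A` proper over a discrete valuation ring and `F`
coherent, `f`-flat, with `F_s` without embedded points, the sum of the lengths of `F_η` at the maximal
points of its support is at most the corresponding sum for `F_s`.
-/

set_option autoImplicit false
universe u
open CategoryTheory CategoryTheory.Limits AlgebraicGeometry TopologicalSpace Opposite IsLocalRing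
open Pointwise

namespace Groth.Agent.Lib.helper16.LenSemi

theorem sum_length_generic_le_closed {A : Type u} [CommRing A] [IsDomain A]
    [IsDiscreteValuationRing A] {X : Scheme.{u}} (f : X ⟶ Spec (CommRingCat.of A)) [IsProper f]
    (F : X.Modules) (hF : Coh.IsCoh F) (hflat : FlatMod.IsFlatOver f F)
    (hemb : AssSch.NoEmbedded
      ((Scheme.Modules.pullback (f.fiberι (IsLocalRing.closedPoint A))).obj F)) :
    ∑ᶠ z' : {v : ↥(f.fiber (genericPoint ↥(Spec (CommRingCat.of A)))) //
        Nontrivial (((Scheme.Modules.pullback
          (f.fiberι (genericPoint ↥(Spec (CommRingCat.of A))))).obj F).presheaf.stalk v) ∧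
        ∀ w : ↥(f.fiber (genericPoint ↥(Spec (CommRingCat.of A)))),
          Nontrivial (((Scheme.Modules.pullback
            (f.fiberι (genericPoint ↥(Spec (CommRingCat.of A))))).obj F).presheaf.stalk w) →
          v ∈ closure {w} → w = v},
        Module.length ((f.fiber (genericPoint ↥(Spec (CommRingCat.of A)))).presheaf.stalk z'.1)
          (((Scheme.Modules.pullback
            (f.fiberι (genericPoint ↥(Spec (CommRingCat.of A))))).obj F).presheaf.stalk z'.1) ≤
      ∑ᶠ z : {v : ↥(f.fiber (IsLocalRing.closedPoint A)) //
        Nontrivial (((Scheme.Modules.pullback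
          (f.fiberι (IsLocalRing.closedPoint A))).obj F).presheaf.stalk v) ∧
        ∀ w : ↥(f.fiber (IsLocalRing.closedPoint A)),
          Nontrivial (((Scheme.Modules.pullback
            (f.fiberι (IsLocalRing.closedPoint A))).obj F).presheaf.stalk w) →
          v ∈ closure {w} → w = v},
        Module.length ((f.fiber (IsLocalRing.closedPoint A)).presheaf.stalk z.1)
          (((Scheme.Modules.pullback
            (f.fiberι (IsLocalRing.closedPoint A))).obj F).presheaf.stalk z.1) := by
  classical
  haveI : IsLocallyNoetherian X := LocallyOfFiniteType.isLocallyNoetherian f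
  haveI hn1 : IsLocallyNoetherian (f.fiber (IsLocalRing.closedPoint A)) :=
    isLocallyNoetherian_fiber f _
  haveI hn2 : IsLocallyNoetherian (f.fiber (genericPoint ↥(Spec (CommRingCat.of A)))) :=
    isLocallyNoetherian_fiber f _
  haveI : IsNoetherian (f.fiber (IsLocalRing.closedPoint A)) := {}
  haveI : IsNoetherian (f.fiber (genericPoint ↥(Spec (CommRingCat.of A)))) := {}
  have hG := isCoh_pullback' (f.fiberι (IsLocalRing.closedPoint A)) hF
  have hG' := isCoh_pullback' (f.fiberι (genericPoint ↥(Spec (CommRingCat.of A)))) hF
  haveI hfinM := finite_maxPts_support _ hG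
  haveI hfinM' := finite_maxPts_support _ hG'
  obtain ⟨ϖ, hϖ⟩ := IsDiscreteValuationRing.exists_irreducible A
  -- choose a maximal point of the closed fibre below each maximal point of the generic fibre
  have hex : ∀ z' : {v : ↥(f.fiber (genericPoint ↥(Spec (CommRingCat.of A)))) //
        Nontrivial (((Scheme.Modules.pullback
          (f.fiberι (genericPoint ↥(Spec (CommRingCat.of A))))).obj F).presheaf.stalk v) ∧
        ∀ w : ↥(f.fiber (genericPoint ↥(Spec (CommRingCat.of A)))),
          Nontrivial (((Scheme.Modules.pullback
            (f.fiberι (genericPoint ↥(Spec (CommRingCat.of A))))).obj F).presheaf.stalk w) →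
          v ∈ closure {w} → w = v},
      ∃ z : {v : ↥(f.fiber (IsLocalRing.closedPoint A)) //
        Nontrivial (((Scheme.Modules.pullback
          (f.fiberι (IsLocalRing.closedPoint A))).obj F).presheaf.stalk v) ∧
        ∀ w : ↥(f.fiber (IsLocalRing.closedPoint A)),
          Nontrivial (((Scheme.Modules.pullback
            (f.fiberι (IsLocalRing.closedPoint A))).obj F).presheaf.stalk w) →
          v ∈ closure {w} → w = v},
        f.fiberι (genericPoint ↥(Spec (CommRingCat.of A))) z'.1 ⤳
          f.fiberι (IsLocalRing.closedPoint A) z.1 := by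
    intro z'
    obtain ⟨x₀, h₀, hx₀⟩ := exists_specialization_closed A f
      (f.fiberι (genericPoint ↥(Spec (CommRingCat.of A))) z'.1)
    obtain ⟨z, hz1, hz2, hz3⟩ := exists_closed_maximal A f F hF hflat hemb z'.1 z'.2.1
      (fun w hw hwz => z'.2.2 w hw (specializes_iff_mem_closure.1 hwz)) x₀ h₀ hx₀
    exact ⟨⟨z, hz1, fun w hw hwz => hz2 w hw (specializes_iff_mem_closure.2 hwz)⟩, hz3⟩
  choose φ hφ using hex
  letI := Fintype.ofFinite {v : ↥(f.fiber (IsLocalRing.closedPoint A)) //
        Nontrivial (((Scheme.Modules.pullback
          (f.fiberι (IsLocalRing.closedPoint A))).obj F).presheaf.stalk v) ∧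
        ∀ w : ↥(f.fiber (IsLocalRing.closedPoint A)),
          Nontrivial (((Scheme.Modules.pullback
            (f.fiberι (IsLocalRing.closedPoint A))).obj F).presheaf.stalk w) →
          v ∈ closure {w} → w = v}
  letI := Fintype.ofFinite {v : ↥(f.fiber (genericPoint ↥(Spec (CommRingCat.of A)))) //
        Nontrivial (((Scheme.Modules.pullback
          (f.fiberι (genericPoint ↥(Spec (CommRingCat.of A))))).obj F).presheaf.stalk v) ∧
        ∀ w : ↥(f.fiber (genericPoint ↥(Spec (CommRingCat.of A)))),
          Nontrivial (((Scheme.Modules.pullback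
            (f.fiberι (genericPoint ↥(Spec (CommRingCat.of A))))).obj F).presheaf.stalk w) →
          v ∈ closure {w} → w = v}
  rw [finsum_eq_sum_of_fintype, finsum_eq_sum_of_fintype]
  rw [← Finset.sum_fiberwise_of_maps_to (g := φ) (s := Finset.univ) (t := Finset.univ)
    (fun _ _ => Finset.mem_univ _)]
  refine Finset.sum_le_sum fun z _ => ?_
  have key := sum_length_le A f F hF ϖ hϖ z.1
    (fun w hw hwz => z.2.2 w hw (specializes_iff_mem_closure.1 hwz))
    ((Finset.univ.filter (fun z' => φ z' = z)).map (Function.Embedding.subtype _)) (by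
      intro z' hz'
      obtain ⟨z'', hz'', rfl⟩ := Finset.mem_map.1 hz'
      have h1 := (Finset.mem_filter.1 hz'').2
      rw [← h1]
      exact hφ z'')
  rw [Finset.sum_map] at key
  exact key

end Groth.Agent.Lib.helper16.LenSemi
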