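import Mathlib
import Groth.Prelude.Def_W4c5cptfessfintypeLocImm

/-!
# Localizing immersions: basic facts (helper16)

* `isLocHom_hom_ext`: a localizing ring map is an epimorphism of rings.
* `mono_of_isLocImmersion`: a localizing morphism which is injective on points is a monomorphism.
* `flat_of_isLocalizing`: a localizing morphism is flat.
-/

universe u

open CategoryTheory AlgebraicGeometry

namespace Groth.Agent.Lib.helper16.LocImm

open _root_.LocImm

/-- A localizing ring map is an epimorphism in the category of commutative rings. -/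
theorem isLocHom_hom_ext {A B C : Type*} [CommRing A] [CommRing B] [CommRing C] (φ : A →+* B)
    (hφ : IsLocHom φ) (j k : B →+* C) (h : j.comp φ = k.comp φ) : j = k := by
  letI := φ.toAlgebra
  obtain ⟨S, hS⟩ := hφ
  exact IsLocalization.ringHom_ext S h

theorem isLocHom_epi {A B : CommRingCat.{u}} (φ : A ⟶ B) (hφ : IsLocHom φ.hom) : Epi φ := by
  constructor
  intro C j k h
  ext1
  apply isLocHom_hom_ext φ.hom hφ
  have := congrArg CommRingCat.Hom.hom h
  simpa using this

theorem isLocHom_flat {A B : Type*} [CommRing A] [CommRing B] (φ : A →+* B)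
    (hφ : IsLocHom φ) : φ.Flat := by
  letI := φ.toAlgebra
  obtain ⟨S, hS⟩ := hφ
  exact IsLocalization.flat B S

/-- A localizing morphism that is injective on points is a monomorphism of schemes. -/
theorem mono_of_isLocImmersion {X Y : Scheme.{u}} (f : X ⟶ Y) (hf : IsLocImmersion f) : Mono f := by
  obtain ⟨hloc, hinj⟩ := hf
  constructor
  intro T g h hgh
  have hpt : ∀ t : T, g t = h t := fun t => hinj (by
    have := congrArg (fun k : T ⟶ Y => k t) hgh
    simpa using this)
  apply Scheme.hom_ext_of_forall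
  intro t
  obtain ⟨U, V, hxV, e, hφ⟩ := hloc (g t)
  have hepi := isLocHom_epi _ hφ
  refine ⟨g ⁻¹ᵁ V.1, hxV, ?_⟩
  set W : T.Opens := g ⁻¹ᵁ V.1 with hW
  have hWh : W = h ⁻¹ᵁ V.1 := by
    ext t'
    simp [hW, hpt t']
  -- both restrictions land in the affine open V
  have hg1 : Set.range (W.ι ≫ g) ⊆ Set.range V.1.ι := by
    rintro _ ⟨w, rfl⟩
    simp only [Scheme.Opens.range_ι]
    exact w.2
  have hh1 : Set.range (W.ι ≫ h) ⊆ Set.range V.1.ι := by
    rintro _ ⟨w, rfl⟩
    simp only [Scheme.Opens.range_ι]
    have : (W.ι w) ∈ h ⁻¹ᵁ V.1 := hWh ▸ w.2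
    exact this
  have hVaff : IsAffine V.1.toScheme := V.2
  rw [← IsOpenImmersion.lift_fac V.1.ι (W.ι ≫ g) hg1, ← IsOpenImmersion.lift_fac V.1.ι (W.ι ≫ h) hh1]
  congr 1
  apply ext_of_isAffine
  have hepi' : Epi (f.resLE U.1 V.1 e).appTop := by
    have := (MorphismProperty.epimorphisms CommRingCat).arrow_mk_iso_iff
      (arrowResLEAppIso f U.1 V.1 e)
    exact this.mpr hepi
  have key : IsOpenImmersion.lift V.1.ι (W.ι ≫ g) hg1 ≫ f.resLE U.1 V.1 e =
      IsOpenImmersion.lift V.1.ι (W.ι ≫ h) hh1 ≫ f.resLE U.1 V.1 e := by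
    rw [← cancel_mono U.1.ι]
    simp only [Category.assoc, Scheme.Hom.resLE_comp_ι, IsOpenImmersion.lift_fac_assoc, hgh]
  have key2 := congrArg Scheme.Hom.appTop key
  simp only [Scheme.Hom.comp_appTop] at key2
  exact (cancel_epi _).mp key2

/-- A localizing morphism is flat. -/
theorem flat_of_isLocalizing {X Y : Scheme.{u}} (f : X ⟶ Y) (hf : IsLocalizing f) : Flat f := by
  rw [HasRingHomProperty.iff_exists_appLE (P := @Flat)
    (RingHom.Flat.stableUnderComposition.stableUnderCompositionWithLocalizationAway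
      RingHom.Flat.holdsForLocalizationAway).left]
  intro x
  obtain ⟨U, V, hxV, e, hφ⟩ := hf x
  exact ⟨U, V, hxV, e, isLocHom_flat _ hφ⟩

open TopologicalSpace in
/-- A continuous injective generalizing map out of a Noetherian quasi-sober space is a
topological embedding. -/
theorem isEmbedding_of_generalizingMap {X Y : Type*} [TopologicalSpace X] [TopologicalSpace Y]
    [NoetherianSpace X] [QuasiSober X] (f : X → Y) (hc : Continuous f)
    (hinj : Function.Injective f) (hg : GeneralizingMap f) : Topology.IsEmbedding f := by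
  refine ⟨⟨?_⟩, hinj⟩
  apply le_antisymm hc.le_induced
  intro s hs
  rw [isOpen_induced_iff]
  refine ⟨(closure (f '' sᶜ))ᶜ, isClosed_closure.isOpen_compl, ?_⟩
  ext x
  simp only [Set.mem_preimage, Set.mem_compl_iff]
  constructor
  · intro hx
    by_contra hxs
    exact hx (subset_closure ⟨x, hxs, rfl⟩)
  · intro hxs hx
    obtain ⟨S, hSf, hSc, hSi, hSU⟩ :=
      NoetherianSpace.exists_finite_set_isClosed_irreducible hs.isClosed_compl
    rw [hSU, Set.sUnion_eq_biUnion, Set.image_iUnion₂, hSf.closure_biUnion] at hx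
    obtain ⟨t, htS, hxt⟩ := Set.mem_iUnion₂.mp hx
    have hgp := (hSi t htS).isGenericPoint_genericPoint (hSc t htS)
    have hgp' := hgp.image hc
    have hspec : f (hSi t htS).genericPoint ⤳ f x := hgp'.specializes hxt
    obtain ⟨a', ha', hfa'⟩ := hg hspec
    have hz : a' = (hSi t htS).genericPoint := hinj hfa'
    rw [hz] at ha'
    have hxt' : x ∈ t := hgp.specializes_iff_mem.mp ha'
    have : x ∈ sᶜ := by
      rw [hSU]
      exact ⟨t, htS, hxt'⟩
    exact this hxs

open TopologicalSpace in
/-- In a Noetherian quasi-sober space a closed set which is stable under generization is open. -/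
theorem isOpen_of_isClosed_of_stableUnderGeneralization {Y : Type*} [TopologicalSpace Y]
    [NoetherianSpace Y] [QuasiSober Y] (R : Set Y) (hc : IsClosed R)
    (hg : StableUnderGeneralization R) : IsOpen R := by
  rw [← isClosed_compl_iff]
  have hfin := NoetherianSpace.finite_irreducibleComponents (α := Y)
  have heq : Rᶜ = ⋃ Z ∈ {Z ∈ irreducibleComponents Y | Disjoint Z R}, Z := by
    ext y
    simp only [Set.mem_compl_iff, Set.mem_ofPred_eq, Set.mem_iUnion, exists_prop]
    constructor
    · intro hy
      refine ⟨irreducibleComponent y, ⟨irreducibleComponent_mem_irreducibleComponents y, ?_⟩,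
        mem_irreducibleComponent⟩
      rw [Set.disjoint_left]
      intro r hrZ hrR
      have hgp := (isIrreducible_irreducibleComponent (x := y)).isGenericPoint_genericPoint
        isClosed_irreducibleComponent
      have h1 : (isIrreducible_irreducibleComponent (x := y)).genericPoint ∈ R :=
        hg (hgp.specializes hrZ) hrR
      have h2 : irreducibleComponent y ⊆ R := (hgp.mem_closed_set_iff hc).mp h1
      exact hy (h2 mem_irreducibleComponent)
    · rintro ⟨Z, ⟨_, hZR⟩, hyZ⟩ hyR
      exact (Set.disjoint_left.mp hZR) hyZ hyR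
  rw [heq]
  exact (hfin.subset (Set.sep_subset _ _)).isClosed_biUnion
    (fun Z hZ => isClosed_of_mem_irreducibleComponents Z hZ.1)

/-- A localizing immersion has bijective (hence iso) stalk maps. -/
theorem isIso_stalkMap_of_isLocImmersion {X Y : Scheme.{u}} (f : X ⟶ Y) (hf : IsLocImmersion f)
    (x : X) : IsIso (f.stalkMap x) := by
  have hm : Mono f := mono_of_isLocImmersion f hf
  have hfl : Flat f := flat_of_isLocalizing f hf.1
  have h1 : (f.stalkMap x).hom.Flat := Flat.stalkMap f x
  have h2 : (f.stalkMap x).hom.FaithfullyFlat := by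
    algebraize [(f.stalkMap x).hom]
    have : Module.FaithfullyFlat (Y.presheaf.stalk (f x)) (X.presheaf.stalk x) :=
      @Module.FaithfullyFlat.of_flat_of_isLocalHom _ _ _ _ _ _ _
        (Flat.stalkMap f x) (f.toLRSHom.prop x)
    exact ‹RingHom.FaithfullyFlat _›
  obtain ⟨h3, h4⟩ := (flat_and_surjective_SpecMap_iff (f.stalkMap x)).mpr h2
  have h5 : Mono (Spec.map (f.stalkMap x)) := by
    have : Mono (Spec.map (f.stalkMap x) ≫ Y.fromSpecStalk _) := by
      rw [Scheme.SpecMap_stalkMap_fromSpecStalk]
      infer_instance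
    exact mono_of_mono _ (Y.fromSpecStalk _)
  have h6 : IsIso (Spec.map (f.stalkMap x)) := Flat.isIso_of_surjective_of_mono _
  have h7 := isIso_SpecMap_iff.mp h6
  exact (ConcreteCategory.isIso_iff_bijective _).mpr h7

end Groth.Agent.Lib.helper16.LocImm
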