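import Mathlib
import Groth.Agent.Lib.Helper16.LocImm

/-!
# Localizing morphisms as a `HasRingHomProperty` (helper16)

`IsLocalizing f ↔ affineLocally (Locally IsLocHom) f`, and stability under base change.
-/

universe u

open CategoryTheory AlgebraicGeometry CategoryTheory.Limits

namespace Groth.Agent.Lib.helper16.LocImm

open _root_.LocImm

theorem isLocHom_algebraMap_iff {R S : Type*} [CommRing R] [CommRing S] [Algebra R S] :
    IsLocHom (algebraMap R S) ↔ ∃ M : Submonoid R, IsLocalization M S := by
  rw [IsLocHom, toAlgebra_algebraMap]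

theorem isLocHom_comp {R S T : Type*} [CommRing R] [CommRing S] [CommRing T]
    (f : R →+* S) (g : S →+* T) (hf : IsLocHom f) (hg : IsLocHom g) : IsLocHom (g.comp f) := by
  algebraize [f, g, g.comp f]
  obtain ⟨M, hM⟩ := hf
  obtain ⟨N, hN⟩ := hg
  exact ⟨_, IsLocalization.localization_localization_isLocalization M N T⟩

theorem isLocHom_of_bijective {R S : Type*} [CommRing R] [CommRing S]
    (f : R →+* S) (hf : Function.Bijective f) : IsLocHom f := by
  algebraize [f]
  refine ⟨⊥, IsLocalization.of_le_isUnit_of_bijective ?_ hf⟩
  rintro _ ⟨x, hx, rfl⟩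
  have hx' : x = 1 := Submonoid.mem_bot.mp hx
  subst hx'
  simp

/-- The ring hom property `IsLocHom` in a fixed universe. -/
def Q : ∀ {R S : Type u} [CommRing R] [CommRing S], (R →+* S) → Prop := fun φ => IsLocHom φ

theorem Q_stableUnderComposition : RingHom.StableUnderComposition Q :=
  fun _ _ _ _ _ _ f g hf hg => isLocHom_comp f g hf hg

theorem Q_respectsIso : RingHom.RespectsIso Q :=
  Q_stableUnderComposition.respectsIso (fun e => isLocHom_of_bijective _ e.bijective)

theorem Q_holdsForLocalizationAway : RingHom.HoldsForLocalizationAway Q := by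
  intro R S _ _ _ r _
  exact isLocHom_algebraMap_iff.mpr ⟨Submonoid.powers r, inferInstance⟩

theorem Q_isStableUnderBaseChange : RingHom.IsStableUnderBaseChange Q := by
  intro R S R' S' _ _ _ _ _ _ _ _ _ _ _ hpo h
  obtain ⟨M, hM⟩ := isLocHom_algebraMap_iff.mp h
  refine isLocHom_algebraMap_iff.mpr ⟨Algebra.algebraMapSubmonoid R' M, ?_⟩
  exact (Algebra.isLocalization_iff_isPushout M S).mpr hpo.symm

theorem Q_localizationAwayPreserves : RingHom.LocalizationAwayPreserves Q :=
  Q_isStableUnderBaseChange.localizationPreserves.away

theorem Q_stableUnderCompositionWithLocalizationAway :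
    RingHom.StableUnderCompositionWithLocalizationAway Q :=
  Q_stableUnderComposition.stableUnderCompositionWithLocalizationAway Q_holdsForLocalizationAway

/-- The morphism property "localizing", packaged via `affineLocally`. -/
def P' : MorphismProperty Scheme.{u} := affineLocally (RingHom.Locally Q)

instance : HasRingHomProperty P' (RingHom.Locally Q) where
  isLocal_ringHomProperty := RingHom.locally_propertyIsLocal Q_localizationAwayPreserves
    Q_stableUnderCompositionWithLocalizationAway
  eq_affineLocally' := rfl

theorem isLocalizing_iff {X Y : Scheme.{u}} (f : X ⟶ Y) : IsLocalizing f ↔ P' f :=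
  (HasRingHomProperty.iff_exists_appLE_locally (P := P')
    Q_stableUnderCompositionWithLocalizationAway.left Q_respectsIso).symm

instance : MorphismProperty.IsStableUnderBaseChange P' :=
  HasRingHomProperty.isStableUnderBaseChange
    (RingHom.locally_isStableUnderBaseChange Q_respectsIso Q_isStableUnderBaseChange)

theorem isLocalizing_pullback_snd {X Y Y' : Scheme.{u}} (f : X ⟶ Y) (g : Y' ⟶ Y)
    (hf : IsLocalizing f) : IsLocalizing (pullback.snd f g) := by
  rw [isLocalizing_iff] at hf ⊢
  exact MorphismProperty.pullback_snd _ _ hf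

theorem isLocImmersion_pullback_snd {X Y Y' : Scheme.{u}} (f : X ⟶ Y) (g : Y' ⟶ Y)
    (hf : IsLocImmersion f) : IsLocImmersion (pullback.snd f g) := by
  have hm : Mono f := mono_of_isLocImmersion f hf
  exact ⟨isLocalizing_pullback_snd f g hf.1, (pullback.snd f g).injective⟩

end Groth.Agent.Lib.helper16.LocImm
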