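import Mathlib
import Groth.Agent.Lib.Helper16.LocImm2

/-!
# Localizing immersions: affine neighbourhoods with affine preimage (helper16)
-/

universe u

open CategoryTheory AlgebraicGeometry CategoryTheory.Limits

namespace Groth.Agent.Lib.helper16.LocImm

open _root_.LocImm

/-- Cancellation: if `ρ` and `ψ ∘ ρ` are localizing then so is `ψ`. -/
theorem isLocHom_of_comp {A A' B' : Type*} [CommRing A] [CommRing A'] [CommRing B']
    (ρ : A →+* A') (ψ : A' →+* B') (hρ : IsLocHom ρ) (h : IsLocHom (ψ.comp ρ)) : IsLocHom ψ := by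
  algebraize [ρ, ψ, ψ.comp ρ]
  obtain ⟨M, hM⟩ := hρ
  obtain ⟨N, hN⟩ := h
  have hN' : IsLocalization (N ⊔ M) B' := by
    apply IsLocalization.of_le (M := N) (N ⊔ M) le_sup_left
    intro r hr
    obtain ⟨n, hn, m, hm, rfl⟩ := Submonoid.mem_sup.mp hr
    rw [map_mul]
    refine IsUnit.mul (IsLocalization.map_units B' ⟨n, hn⟩) ?_
    rw [IsScalarTower.algebraMap_apply A A' B']
    exact (IsLocalization.map_units A' ⟨m, hm⟩).map _
  exact ⟨_, IsLocalization.isLocalization_of_submonoid_le A' B' M (N ⊔ M) le_sup_right⟩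

/-- A morphism out of an affine scheme whose global-sections map is an epimorphism is a mono. -/
theorem mono_of_epi_appTop {X Y : Scheme.{u}} [IsAffine X] (f : X ⟶ Y) (h : Epi f.appTop) :
    Mono f := by
  constructor
  intro T g k hgk
  apply ext_of_isAffine
  have := congrArg Scheme.Hom.appTop hgk
  simp only [Scheme.Hom.comp_appTop] at this
  exact (cancel_epi _).mp this

theorem eq_of_isLocHom_app {X Y : Scheme.{u}} (f : X ⟶ Y) (V : Y.Opens)
    (hfV : IsAffineOpen (f ⁻¹ᵁ V)) (h : IsLocHom (f.app V).hom) {x x' : X} (hx : f x ∈ V)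
    (hxx' : f x = f x') : x = x' := by
  haveI : IsAffine (f ⁻¹ᵁ V).toScheme := hfV
  have hepi : Epi (f.resLE V (f ⁻¹ᵁ V) le_rfl).appTop := by
    have := (MorphismProperty.epimorphisms CommRingCat).arrow_mk_iso_iff
      (arrowResLEAppIso f V (f ⁻¹ᵁ V) le_rfl)
    refine this.mpr ?_
    rw [← Scheme.Hom.app_eq_appLE]
    exact isLocHom_epi _ h
  have hmono : Mono (f.resLE V (f ⁻¹ᵁ V) le_rfl) := mono_of_epi_appTop _ hepi
  have hx' : f x' ∈ V := hxx' ▸ hx
  let a : (f ⁻¹ᵁ V).toScheme := ⟨x, hx⟩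
  let a' : (f ⁻¹ᵁ V).toScheme := ⟨x', hx'⟩
  have key : (f.resLE V (f ⁻¹ᵁ V) le_rfl) a = (f.resLE V (f ⁻¹ᵁ V) le_rfl) a' := by
    apply V.ι.injective
    rw [← Scheme.Hom.comp_apply, ← Scheme.Hom.comp_apply, Scheme.Hom.resLE_comp_ι]
    simpa using hxx'
  have := (f.resLE V (f ⁻¹ᵁ V) le_rfl).injective key
  exact congrArg Subtype.val this

/-- Around any point in the image of a localizing immersion with Noetherian source there is an
affine open whose preimage is affine and on which the map on sections is localizing. -/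
theorem exists_affine_nhd {X Y : Scheme.{u}} [IsNoetherian X] (f : X ⟶ Y)
    (hf : IsLocImmersion f) (x : X) :
    ∃ V : Y.Opens, f x ∈ V ∧ IsAffineOpen V ∧ IsAffineOpen (f ⁻¹ᵁ V) ∧
      IsLocHom (f.app V).hom := by
  have hfl : Flat f := flat_of_isLocalizing f hf.1
  have hgen : GeneralizingMap (fun x => f x) := Flat.generalizingMap f
  have hemb : Topology.IsEmbedding (fun x => f x) :=
    isEmbedding_of_generalizingMap _ f.continuous hf.2 hgen
  obtain ⟨U, V, hxV, e, hφ⟩ := hf.1 x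
  obtain ⟨W, hWo, hWV⟩ := hemb.isInducing.isOpen_iff.mp V.1.isOpen
  let W' : Y.Opens := ⟨W, hWo⟩ ⊓ U.1
  have hxW : f x ∈ W := by
    have : x ∈ (fun x => f x) ⁻¹' W := hWV ▸ hxV
    exact this
  have hxW' : f x ∈ W' := ⟨hxW, e hxV⟩
  obtain ⟨a, haW, hxa⟩ := U.2.exists_basicOpen_le (V := W') ⟨f x, hxW'⟩ (e hxV)
  have hDU : Y.basicOpen a ≤ U.1 := Y.basicOpen_le a
  have hpreV : f ⁻¹ᵁ (Y.basicOpen a) ≤ V.1 := by
    intro z hz
    have hz' : f z ∈ W := (haW hz).1
    have : z ∈ (fun x => f x) ⁻¹' W := hz'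
    rw [hWV] at this
    exact this
  have hpre : f ⁻¹ᵁ (Y.basicOpen a) = X.basicOpen ((f.appLE U.1 V.1 e).hom a) := by
    have h1 : (f.appLE U.1 V.1 e).hom a =
        (X.presheaf.map (homOfLE e).op).hom ((f.app U.1).hom a) := by
      simp [Scheme.Hom.appLE]
    rw [h1, Scheme.basicOpen_res, ← Scheme.preimage_basicOpen]
    exact (inf_eq_right.mpr hpreV).symm
  refine ⟨Y.basicOpen a, hxa, U.2.basicOpen a, ?_, ?_⟩
  · rw [hpre]
    exact V.2.basicOpen _
  · -- ring-level argument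
    have hρA : IsLocHom (Y.presheaf.map (homOfLE hDU).op).hom :=
      ⟨Submonoid.powers a, U.2.isLocalization_basicOpen a⟩
    have hρB : IsLocHom (X.presheaf.map (homOfLE hpreV).op).hom :=
      ⟨Submonoid.powers ((f.appLE U.1 V.1 e).hom a),
        V.2.isLocalization_of_eq_basicOpen _ (homOfLE hpreV) hpre⟩
    apply isLocHom_of_comp (Y.presheaf.map (homOfLE hDU).op).hom _ hρA
    have hcomm : (f.app (Y.basicOpen a)).hom.comp (Y.presheaf.map (homOfLE hDU).op).hom =
        (X.presheaf.map (homOfLE hpreV).op).hom.comp (f.appLE U.1 V.1 e).hom := by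
      rw [← CommRingCat.hom_comp, ← CommRingCat.hom_comp]
      congr 1
      rw [Scheme.Hom.appLE_map, Scheme.Hom.app_eq_appLE, Scheme.Hom.map_appLE]
    rw [hcomm]
    exact isLocHom_comp _ _ hφ hρB

end Groth.Agent.Lib.helper16.LocImm
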