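import Mathlib
import Groth.Agent.Lib.Helper16.LocImm3

/-!
# Localizing immersions: schematically dense factor (helper16)
-/

universe u

open CategoryTheory AlgebraicGeometry CategoryTheory.Limits

namespace Groth.Agent.Lib.helper16.LocImm

open _root_.LocImm

theorem isLocImmersion_of_forall_exists {X Y : Scheme.{u}} (f : X ⟶ Y)
    (h : ∀ x : X, ∃ V : Y.Opens, f x ∈ V ∧ IsAffineOpen V ∧ IsAffineOpen (f ⁻¹ᵁ V) ∧
      IsLocHom (f.app V).hom) : IsLocImmersion f := by
  refine ⟨fun x => ?_, fun x x' hxx' => ?_⟩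
  · obtain ⟨V, hxV, hV, hfV, hφ⟩ := h x
    refine ⟨⟨V, hV⟩, ⟨f ⁻¹ᵁ V, hfV⟩, hxV, le_rfl, ?_⟩
    rw [← Scheme.Hom.app_eq_appLE]
    exact hφ
  · obtain ⟨V, hxV, hV, hfV, hφ⟩ := h x
    exact eq_of_isLocHom_app f V hfV hφ hxV hxx'

theorem isNoetherianRing_of_isLocHom {A B : Type*} [CommRing A] [CommRing B] (φ : A →+* B)
    (hφ : IsLocHom φ) [IsNoetherianRing A] : IsNoetherianRing B := by
  letI := φ.toAlgebra
  obtain ⟨S, hS⟩ := hφ
  exact IsLocalization.isNoetherianRing S B inferInstance

/-- The source of a localizing morphism to a locally Noetherian scheme is locally Noetherian. -/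
theorem isLocallyNoetherian_of_isLocalizing {X Y : Scheme.{u}} (f : X ⟶ Y) (hf : IsLocalizing f)
    [IsLocallyNoetherian Y] : IsLocallyNoetherian X := by
  choose U V hxV e hφ using hf
  apply isLocallyNoetherian_of_affine_cover (S := V)
  · rw [eq_top_iff]
    intro x _
    exact TopologicalSpace.Opens.mem_iSup.mpr ⟨x, hxV x⟩
  · intro x
    haveI : IsNoetherianRing Γ(Y, (U x).1) := IsLocallyNoetherian.component_noetherian (U x)
    exact isNoetherianRing_of_isLocHom _ (hφ x)

/-- If `φ` is a localization map, `π` is surjective and `π ∘ φ` is injective then `π` is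
injective. -/
theorem injective_of_comp_injective {A A' B : Type*} [CommRing A] [CommRing A'] [CommRing B]
    (φ : A →+* A') (π : A' →+* B) (hφ : IsLocHom φ)
    (hinj : Function.Injective (π.comp φ)) : Function.Injective π := by
  letI := φ.toAlgebra
  obtain ⟨S, hS⟩ := hφ
  rw [injective_iff_map_eq_zero]
  intro a' ha'
  obtain ⟨⟨a, s⟩, has⟩ := IsLocalization.surj S a'
  have h1 : π (φ a) = 0 := by
    have : φ a = a' * φ s := has.symm
    rw [this, map_mul, ha', zero_mul]
  have h2 : a = 0 := hinj (by simpa using h1)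
  have h3 : a' * algebraMap A A' s = 0 := by
    rw [has, h2, map_zero]
  exact (IsLocalization.map_units A' s).mul_left_eq_zero.mp h3

/-- A closed immersion followed by a localizing immersion (with Noetherian middle scheme), whose
composite is schematically dense, is a localizing immersion. -/
theorem isLocImmersion_comp_of_dense {X P Y : Scheme.{u}} [IsNoetherian P] (i : X ⟶ P)
    (p : P ⟶ Y) [IsClosedImmersion i] (hp : IsLocImmersion p)
    (hd : ∀ U : Y.Opens, Function.Injective ((i ≫ p).app U).hom) : IsLocImmersion (i ≫ p) := by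
  apply isLocImmersion_of_forall_exists
  intro x
  obtain ⟨D, hxD, hD, hpD, hφ⟩ := exists_affine_nhd p hp (i x)
  refine ⟨D, by simpa using hxD, hD, hpD.preimage i, ?_⟩
  have hsurj : Function.Surjective (i.app (p ⁻¹ᵁ D)).hom := i.app_surjective _ hpD
  have hcomp : ((i ≫ p).app D).hom = (i.app (p ⁻¹ᵁ D)).hom.comp (p.app D).hom := by
    rw [Scheme.Hom.comp_app]
    rfl
  have hinj : Function.Injective (i.app (p ⁻¹ᵁ D)).hom := by
    apply injective_of_comp_injective _ _ hφ
    rw [← hcomp]
    exact hd D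
  rw [hcomp]
  exact isLocHom_comp _ _ hφ (isLocHom_of_bijective _ ⟨hinj, hsurj⟩)

end Groth.Agent.Lib.helper16.LocImm
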