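import Mathlib

set_option autoImplicit false
universe u v u' v'
open CategoryTheory CategoryTheory.Limits

namespace Groth.Agent.Lib.helper16.LocPullback

variable {C : Type u} [Category.{v} C] {D : Type u'} [Category.{v'} D]
  (L : C ⥤ D) (W : MorphismProperty C) [L.IsLocalization W] [W.HasRightCalculusOfFractions]

/-- two morphisms out of `L.obj Z` with common denominator. -/
theorem exists_common_denominator {Z A B : C} (a : L.obj Z ⟶ L.obj A) (b : L.obj Z ⟶ L.obj B) :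
    ∃ (Z' : C) (s : Z' ⟶ Z) (_ : W s) (a' : Z' ⟶ A) (b' : Z' ⟶ B),
      L.map s ≫ a = L.map a' ∧ L.map s ≫ b = L.map b' := by
  obtain ⟨φ, hφ⟩ := Localization.exists_rightFraction L W a
  obtain ⟨ψ, hψ⟩ := Localization.exists_rightFraction L W b
  obtain ⟨χ, hχ⟩ := (MorphismProperty.LeftFraction.mk ψ.s φ.s φ.hs).exists_rightFraction
  dsimp at hχ
  -- χ.s : χ.X' ⟶ ψ.X' in W, χ.f : χ.X' ⟶ φ.X',  χ.f ≫ φ.s = χ.s ≫ ψ.s
  refine ⟨χ.X', χ.f ≫ φ.s, ?_, χ.f ≫ φ.f, χ.s ≫ ψ.f, ?_, ?_⟩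
  · rw [← hχ]
    exact W.comp_mem _ _ χ.hs ψ.hs
  · rw [hφ, L.map_comp, Category.assoc, MorphismProperty.RightFraction.map_s_comp_map, L.map_comp]
  · rw [← hχ, hψ, L.map_comp, Category.assoc, MorphismProperty.RightFraction.map_s_comp_map,
      L.map_comp]


/-- two morphisms in `W` with the same target have a common refinement in `W`. -/
theorem exists_common_refinement {Z Z₁ Z₂ : C} (t : Z₁ ⟶ Z) (ht : W t) (t' : Z₂ ⟶ Z) (ht' : W t') :
    ∃ (Z₃ : C) (r : Z₃ ⟶ Z) (_ : W r) (u : Z₃ ⟶ Z₁) (u' : Z₃ ⟶ Z₂), r = u ≫ t ∧ r = u' ≫ t' := by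
  obtain ⟨χ, hχ⟩ := (MorphismProperty.LeftFraction.mk t' t ht).exists_rightFraction
  dsimp at hχ
  exact ⟨χ.X', χ.s ≫ t', W.comp_mem _ _ χ.hs ht', χ.f, χ.s, hχ, rfl⟩

section
variable {Y T X P : C} {pT : Y ⟶ T} {pX : Y ⟶ X} {g : T ⟶ P} {f : X ⟶ P}

include W in
theorem existsUnique_lift
    (hA : ∀ (Z : C) (a : Z ⟶ T) (b : Z ⟶ X), a ≫ g = b ≫ f →
      ∃ (Z' : C) (s : Z' ⟶ Z) (_ : W s) (c : Z' ⟶ Y), c ≫ pT = s ≫ a ∧ c ≫ pX = s ≫ b)
    (hB : ∀ (Z : C) (c₁ c₂ : Z ⟶ Y), c₁ ≫ pT = c₂ ≫ pT → c₁ ≫ pX = c₂ ≫ pX → c₁ = c₂)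
    (Z₀ : C) (a : L.obj Z₀ ⟶ L.obj T) (b : L.obj Z₀ ⟶ L.obj X)
    (hab : a ≫ L.map g = b ≫ L.map f) :
    ∃! c : L.obj Z₀ ⟶ L.obj Y, c ≫ L.map pT = a ∧ c ≫ L.map pX = b := by
  have hinv : ∀ {A B : C} (s : A ⟶ B), W s → IsIso (L.map s) :=
    fun s hs => Localization.inverts L W s hs
  obtain ⟨Z', s, hs, a', b', ha', hb'⟩ := exists_common_denominator L W a b
  have h1 : L.map (a' ≫ g) = L.map (b' ≫ f) := by
    rw [L.map_comp, L.map_comp, ← ha', ← hb', Category.assoc, Category.assoc, hab]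
  obtain ⟨Z'', t, ht, h2⟩ := (MorphismProperty.map_eq_iff_precomp L W _ _).mp h1
  obtain ⟨Z''', r, hr, c, hc1, hc2⟩ := hA Z'' (t ≫ a') (t ≫ b') (by simpa using h2)
  have hrts : W (r ≫ t ≫ s) := W.comp_mem _ _ hr (W.comp_mem _ _ ht hs)
  haveI := hinv _ hrts
  haveI := hinv _ hs
  have hf1 : (inv (L.map (r ≫ t ≫ s)) ≫ L.map c) ≫ L.map pT = a := by
    rw [Category.assoc, ← L.map_comp, hc1, IsIso.inv_comp_eq, L.map_comp, L.map_comp, L.map_comp,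
      L.map_comp, ← ha']
    simp only [Category.assoc]
  have hf2 : (inv (L.map (r ≫ t ≫ s)) ≫ L.map c) ≫ L.map pX = b := by
    rw [Category.assoc, ← L.map_comp, hc2, IsIso.inv_comp_eq, L.map_comp, L.map_comp, L.map_comp,
      L.map_comp, ← hb']
    simp only [Category.assoc]
  refine ⟨inv (L.map (r ≫ t ≫ s)) ≫ L.map c, ⟨hf1, hf2⟩, ?_⟩
  · -- uniqueness
    intro c' hc'
    have key : ∀ d d' : L.obj Z₀ ⟶ L.obj Y, d ≫ L.map pT = d' ≫ L.map pT →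
        d ≫ L.map pX = d' ≫ L.map pX → d = d' := by
      intro d d' e1 e2
      obtain ⟨V, v, hv, d₁, d₂, hd₁, hd₂⟩ := exists_common_denominator L W d d'
      have k1 : L.map (d₁ ≫ pT) = L.map (d₂ ≫ pT) := by
        rw [L.map_comp, L.map_comp, ← hd₁, ← hd₂, Category.assoc, Category.assoc, e1]
      have k2 : L.map (d₁ ≫ pX) = L.map (d₂ ≫ pX) := by
        rw [L.map_comp, L.map_comp, ← hd₁, ← hd₂, Category.assoc, Category.assoc, e2]
      obtain ⟨V₁, t₁, ht₁, m1⟩ := (MorphismProperty.map_eq_iff_precomp L W _ _).mp k1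
      obtain ⟨V₂, t₂, ht₂, m2⟩ := (MorphismProperty.map_eq_iff_precomp L W _ _).mp k2
      obtain ⟨V₃, q, hq, u, u', hqu, hqu'⟩ := exists_common_refinement W t₁ ht₁ t₂ ht₂
      have e : q ≫ d₁ = q ≫ d₂ := by
        apply hB
        · rw [hqu, Category.assoc, Category.assoc, Category.assoc, Category.assoc, m1]
        · rw [hqu', Category.assoc, Category.assoc, Category.assoc, Category.assoc, m2]
      haveI := hinv _ hq
      haveI := hinv _ hv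
      have e' : L.map d₁ = L.map d₂ := by
        rw [← cancel_epi (L.map q), ← L.map_comp, ← L.map_comp, e]
      rw [← cancel_epi (L.map v), hd₁, hd₂, e']
    apply key
    · rw [hc'.1, hf1]
    · rw [hc'.2, hf2]

include W in
theorem isPullback_map (sq : pT ≫ g = pX ≫ f)
    (hA : ∀ (Z : C) (a : Z ⟶ T) (b : Z ⟶ X), a ≫ g = b ≫ f →
      ∃ (Z' : C) (s : Z' ⟶ Z) (_ : W s) (c : Z' ⟶ Y), c ≫ pT = s ≫ a ∧ c ≫ pX = s ≫ b)
    (hB : ∀ (Z : C) (c₁ c₂ : Z ⟶ Y), c₁ ≫ pT = c₂ ≫ pT → c₁ ≫ pX = c₂ ≫ pX → c₁ = c₂) :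
    IsPullback (L.map pT) (L.map pX) (L.map g) (L.map f) := by
  haveI : L.EssSurj := Localization.essSurj L W
  have hsq : L.map pT ≫ L.map g = L.map pX ≫ L.map f := by
    rw [← L.map_comp, ← L.map_comp, sq]
  have main : ∀ (Z : D) (a : Z ⟶ L.obj T) (b : Z ⟶ L.obj X), a ≫ L.map g = b ≫ L.map f →
      ∃! c : Z ⟶ L.obj Y, c ≫ L.map pT = a ∧ c ≫ L.map pX = b := by
    intro Z a b hab
    let e : L.obj (L.objPreimage Z) ≅ Z := L.objObjPreimageIso Z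
    obtain ⟨c, ⟨hc1, hc2⟩, hcu⟩ := existsUnique_lift L W hA hB (L.objPreimage Z)
      (e.hom ≫ a) (e.hom ≫ b) (by rw [Category.assoc, Category.assoc, hab])
    refine ⟨e.inv ≫ c, ⟨?_, ?_⟩, ?_⟩
    · rw [Category.assoc, hc1, Iso.inv_hom_id_assoc]
    · rw [Category.assoc, hc2, Iso.inv_hom_id_assoc]
    · rintro c' ⟨h1, h2⟩
      rw [Iso.eq_inv_comp]
      apply hcu
      exact ⟨by rw [Category.assoc, h1], by rw [Category.assoc, h2]⟩
  refine ⟨⟨hsq⟩, ⟨PullbackCone.isLimitAux' _ (fun s => ?_)⟩⟩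
  have := main s.pt s.fst s.snd s.condition
  exact ⟨this.choose, this.choose_spec.1.1, this.choose_spec.1.2,
    fun {m} h1 h2 => this.choose_spec.2 m ⟨h1, h2⟩⟩

end

end Groth.Agent.Lib.helper16.LocPullback
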