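import Mathlib

/-!
# Functors out of a localization with right calculus of fractions (helper16)

`L' : A ⥤ E` a localization functor for `WA` (right calculus of fractions), `Φ : E ⥤ B`, `F : A ⥤ B` with
`L' ⋙ Φ ≅ F`.  Criteria on `F` for `Φ` to be full / faithful / essentially surjective.
-/

set_option autoImplicit false
universe v₁ v₂ v₃ u₁ u₂ u₃
open CategoryTheory

namespace Groth.Agent.Lib.helper16.LocSlice

variable {A : Type u₁} [Category.{v₁} A] (WA : MorphismProperty A) [WA.HasRightCalculusOfFractions]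
  {E : Type u₂} [Category.{v₂} E] (L' : A ⥤ E) [L'.IsLocalization WA]
  {B : Type u₃} [Category.{v₃} B] (F : A ⥤ B) (Φ : E ⥤ B) (e : L' ⋙ Φ ≅ F)

include e in
theorem map_eq_of_map_eq {x y : A} (f g : x ⟶ y) (h : Φ.map (L'.map f) = Φ.map (L'.map g)) :
    F.map f = F.map g := by
  have h1 := e.hom.naturality f
  have h2 := e.hom.naturality g
  simp only [Functor.comp_map] at h1 h2
  rw [← cancel_epi (e.hom.app x), ← h1, ← h2, h]

include e in
/-- faithfulness criterion. -/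
theorem faithful_of
    (P2 : ∀ ⦃x y : A⦄ (f g : x ⟶ y), F.map f = F.map g →
      ∃ (z : A) (σ : z ⟶ x), WA σ ∧ σ ≫ f = σ ≫ g) : Φ.Faithful := by
  haveI : Φ.op.Faithful := by
    apply Functor.faithful_of_comp_of_hasLeftCalculusOfFractions L'.op WA.op Φ.op
    intro X₁ X₂ f g h
    have h' : Φ.map (L'.map f.unop) = Φ.map (L'.map g.unop) := congrArg Quiver.Hom.unop h
    obtain ⟨z, σ, hσ, hfg⟩ := P2 f.unop g.unop (map_eq_of_map_eq L' F Φ e _ _ h')
    have : L'.map f.unop = L'.map g.unop :=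
      (MorphismProperty.map_eq_iff_precomp L' WA f.unop g.unop).mpr ⟨z, σ, hσ, hfg⟩
    exact congrArg Quiver.Hom.op this
  exact ⟨fun {X Y} f g h => Quiver.Hom.op_inj (Φ.op.map_injective (congrArg Quiver.Hom.op h))⟩

include e in
/-- fullness criterion. -/
theorem full_of
    (P1 : ∀ ⦃x y : A⦄ (ψ : F.obj x ⟶ F.obj y),
      ∃ (z : A) (σ : z ⟶ x) (_ : WA σ) (φ : z ⟶ y), F.map σ ≫ ψ = F.map φ) : Φ.Full := by
  haveI := Localization.essSurj L' WA
  refine Φ.full_of_comp_essSurj L' (fun x y ψ => ?_)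
  obtain ⟨z, σ, hσ, φ, h⟩ := P1 (e.inv.app x ≫ ψ ≫ e.hom.app y)
  refine ⟨(Localization.isoOfHom L' WA σ hσ).inv ≫ L'.map φ, ?_⟩
  have h1 := e.hom.naturality σ
  have h2 := e.hom.naturality φ
  simp only [Functor.comp_map] at h1 h2
  rw [← cancel_epi (Φ.map (Localization.isoOfHom L' WA σ hσ).hom), ← Functor.map_comp,
    Iso.hom_inv_id_assoc, Localization.isoOfHom_hom]
  -- `Φ (L' φ) = Φ (L' σ) ≫ ψ`
  rw [← cancel_mono (e.hom.app y), h2, Category.assoc]
  have h3 : ψ ≫ e.hom.app y = e.hom.app x ≫ (e.inv.app x ≫ ψ ≫ e.hom.app y) := by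
    rw [Iso.hom_inv_id_app_assoc]
  rw [h3, ← Category.assoc, h1, Category.assoc, h]

include e in
/-- essential surjectivity. -/
theorem essSurj_of [F.EssSurj] : Φ.EssSurj where
  mem_essImage b := ⟨L'.obj (F.objPreimage b), ⟨e.app _ ≪≫ F.objObjPreimageIso b⟩⟩

end Groth.Agent.Lib.helper16.LocSlice
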