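import Groth.Agent.Lib.Helper16.ModLen1
import Groth.Agent.Lib.Helper16.StalkLoc

/-!
# The module length formula at a point of a scheme (helper16)

`toNat_length_quot_module_eq_finsum_points`: for a coherent module `F`, a point `x`, `c ∈ 𝔪_x`
regular on `F_x` such that no proper generization `ξ` of `x` in `Supp F` lies on `V(c)`:
`ℓ(F_x/cF_x) = Σ_ξ ℓ(F_ξ) · ord_{O_x/𝔭_ξ}(c)`, the sum over the proper generizations of `x`.
-/

set_option autoImplicit false
universe u
open CategoryTheory CategoryTheory.Limits AlgebraicGeometry TopologicalSpace Opposite IsLocalRing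
open Pointwise

namespace Groth.Agent.Lib.helper16.ModLen

open Groth.Agent.Lib.helper16.CohStalk Groth.Agent.Lib.helper16.OrdGen
  Groth.Agent.Lib.helper16.DivSum Groth.Agent.Lib.helper16.StalkLoc
  Groth.Agent.Lib.helper26.HS Groth.Agent.Lib.helper26.Chi

variable {X : Scheme.{u}}

open Classical in
theorem toNat_length_quot_module_eq_finsum_points [IsLocallyNoetherian X] (F : X.Modules)
    (hF : Coh.IsCoh F) (x : X) (c : X.presheaf.stalk x)
    (hc : c ∈ maximalIdeal (X.presheaf.stalk x))
    (hreg : Function.Injective (fun m : F.presheaf.stalk x => c • m))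
    (hFL : ∀ (ξ : X) (h : ξ ⤳ x), Nontrivial (F.presheaf.stalk ξ) → c ∈ pOf h → ξ = x) :
    ((Module.length (X.presheaf.stalk x)
      (F.presheaf.stalk x ⧸ c • (⊤ : Submodule (X.presheaf.stalk x) (F.presheaf.stalk x)))).toNat : ℤ) =
      ∑ᶠ ξ : {ξ : X // ξ ⤳ x ∧ ξ ≠ x},
        ((Module.length (X.presheaf.stalk ξ.1) (F.presheaf.stalk ξ.1)).toNat : ℤ) *
          ((Ring.ord (Cyc.LocQuot x ξ.1 ξ.2.1) (Ideal.Quotient.mk (pOf ξ.2.1) c)).toNat : ℤ) := by
  haveI : F.IsQuasicoherent := hF.1
  haveI : Module.Finite (X.presheaf.stalk x) (F.presheaf.stalk x) := finite_stalk_of_isCoh F hF x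
  have hFL' : FL c (F.presheaf.stalk x) := by
    intro Q hQ hcQ
    have hsp := specializes_fromSpecStalk x Q
    have hpof := pOf_fromSpecStalk x Q hsp
    have hQeq : (⟨pOf hsp, inferInstance⟩ : PrimeSpectrum (X.presheaf.stalk x)) = Q :=
      PrimeSpectrum.ext hpof
    have hnt : Nontrivial (F.presheaf.stalk (X.fromSpecStalk x Q)) := by
      rw [nontrivial_stalk_iff_mem_support F hsp, hQeq]
      exact hQ
    have hx := hFL _ hsp hnt (by rw [hpof]; exact hcQ)
    rw [← hpof, (pOf_eq_maximalIdeal_iff hsp).2 hx]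
    exact IsLocalRing.maximalIdeal.isMaximal _
  rw [toNat_length_quot_smul_eq_finsum (F.presheaf.stalk x) c hc hreg hFL']
  change (Nat.castAddMonoidHom ℤ) _ = _
  rw [AddMonoidHom.map_finsum_of_injective _ Nat.cast_injective]
  -- restrict to the non-maximal primes
  rw [← finsum_mem_univ, finsum_mem_inter_support_eq' _ Set.univ
    {p : PrimeSpectrum (X.presheaf.stalk x) | p.asIdeal ≠ maximalIdeal (X.presheaf.stalk x)} (by
      intro p hp
      simp only [Set.mem_univ, true_iff, Set.mem_setOf_eq]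
      intro hpm
      apply hp
      show (Nat.castAddMonoidHom ℤ) (if c ∉ p.asIdeal then _ else 0) = 0
      rw [if_neg (by rw [not_not, hpm]; exact hc)]
      rfl), ← finsum_set_coe_eq_finsum_mem]
  symm
  refine finsum_eq_of_bijective (genToPrime x) (genToPrime_bijective x) fun ξ => ?_
  simp only [genToPrime]
  by_cases hcp : c ∈ pOf ξ.2.1
  · rw [if_neg (not_not.2 hcp)]
    have hnt : ¬ Nontrivial (F.presheaf.stalk ξ.1) := fun hnt =>
      ξ.2.2 (hFL ξ.1 ξ.2.1 hnt hcp)
    rw [not_nontrivial_iff_subsingleton] at hnt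
    rw [Module.length_eq_zero]
    simp
  · rw [if_pos hcp, length_stalk_eq_locLen F ξ.2.1]
    simp only [Nat.coe_castAddMonoidHom, Nat.cast_mul]
    rfl

end Groth.Agent.Lib.helper16.ModLen
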