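import Groth.Agent.Lib.Helper16.ModLen2
import Groth.Agent.Lib.Helper16.DivSum5
import Groth.Agent.Lib.Helper16.SecOrd6
import Groth.Agent.Lib.Helper8.StalkLen
import Groth.Agent.Lib.Helper17.StalkPullback

/-!
# `i^*[F]_{k+1} = [i^*F]_k` for the zero scheme of a regular section (helper16)
-/

set_option autoImplicit false
universe u
open CategoryTheory CategoryTheory.Limits AlgebraicGeometry TopologicalSpace Opposite IsLocalRing
open Pointwise

namespace Groth.Agent.Lib.helper16.ModLen

open Groth.Agent.Lib.helper16.CohStalk Groth.Agent.Lib.helper16.OrdGen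
  Groth.Agent.Lib.helper16.DivSum Groth.Agent.Lib.helper16.StalkLoc
  Groth.Agent.Lib.helper16.SecOrd Groth.Agent.Lib.helper8.StalkLen
  Groth.Agent.Lib.helper17.StalkPullback

variable {X D : Scheme.{u}}

/-- the length of the stalk of the pullback of a quasi-coherent module along a closed immersion. -/
theorem length_stalk_pullback_closedImmersion (i : D ⟶ X) [IsClosedImmersion i] (F : X.Modules)
    [F.IsQuasicoherent] (d : D) (f₀ : X.presheaf.stalk (i d))
    (hker : RingHom.ker (i.stalkMap d).hom = Ideal.span {f₀}) :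
    Module.length (D.presheaf.stalk d) (((Scheme.Modules.pullback i).obj F).presheaf.stalk d) =
      Module.length (X.presheaf.stalk (i d)) (F.presheaf.stalk (i d) ⧸
        f₀ • (⊤ : Submodule (X.presheaf.stalk (i d)) (F.presheaf.stalk (i d)))) := by
  letI := (i.stalkMap d).hom.toAlgebra
  letI := FlatMod.moduleStalkOver i ((Scheme.Modules.pullback i).obj F) d
  haveI := isScalarTower_moduleStalkOver i ((Scheme.Modules.pullback i).obj F) d
  obtain ⟨ψ, hψ⟩ := exists_isBaseChange_stalk_pullback i F d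
  have h1 := length_of_isBaseChange_surjective ψ hψ (i.stalkMap_surjective d)
  rw [h1]
  have hk : RingHom.ker (algebraMap (X.presheaf.stalk (i d)) (D.presheaf.stalk d)) =
      Ideal.span {f₀} := hker
  rw [hk, Submodule.ideal_span_singleton_smul]

/-- **`i^*[F]_{k+1} = [i^*F]_k`** on coefficient functions. -/
theorem gysin_sheafFun_eq (δ : X → ℤ) (hX : Cyc.IsSetup X δ) (L : X.Modules)
    (hL : PicF.IsInvertible L) (s : L.presheaf.obj (Opposite.op ⊤)) (i : D ⟶ X)
    [IsClosedImmersion i] (hD : Cyc.IsZeroSchemeOf i L s) (k : ℤ) (F : X.Modules)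
    (hF : Coh.IsCoh F) (hdim : ∀ x : X, Nontrivial (F.presheaf.stalk x) → δ x ≤ k + 1)
    (hreg : ∀ (x : X) (t : L.presheaf.stalk x) (f : X.presheaf.stalk x),
      Submodule.span (X.presheaf.stalk x) {t} = ⊤ → (L.presheaf.germ ⊤ x trivial) s = f • t →
        Function.Injective (fun m : F.presheaf.stalk x => f • m))
    (w : (ξ : X) → Cyc.secFibre L ξ) (hw : ∀ ξ, w ξ ≠ 0) (d : D) :
    Cyc.c1CapFun δ L (Cyc.sheafFun δ (k + 1) F) (Cyc.gysinChoice L s w) (i d) =
      Cyc.sheafFun (fun d => δ (i d)) k ((Scheme.Modules.pullback i).obj F) d := by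
  classical
  haveI : IsLocallyNoetherian X := hX.1
  haveI : F.IsQuasicoherent := hF.1
  have hLc := isLocCyc_of_isInvertible L hL
  show (∑ᶠ ξ : X, Cyc.sheafFun δ (k + 1) F ξ *
      Cyc.secDivFun δ L ξ (Cyc.gysinChoice L s w ξ) (i d)) =
    if δ (i d) = k then ((Module.length (D.presheaf.stalk d)
      (((Scheme.Modules.pullback i).obj F).presheaf.stalk d)).toNat : ℤ) else 0
  by_cases hk : δ (i d) = k
  · rw [if_pos hk]
    obtain ⟨t, f₀, ht, hfs, hker⟩ := hD.2 d
    have hinj := hreg (i d) t f₀ ht hfs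
    have hf₀m : f₀ ∈ maximalIdeal (X.presheaf.stalk (i d)) := by
      have hmem : f₀ ∈ RingHom.ker (i.stalkMap d).hom := by
        rw [hker]; exact Ideal.mem_span_singleton_self _
      rw [mem_maximalIdeal, mem_nonunits_iff]
      intro hu
      have h1 := hu.map (i.stalkMap d).hom
      rw [RingHom.mem_ker.1 hmem] at h1
      exact not_isUnit_zero h1
    -- points of the support on `V(f₀)` are closed in `Spec O_x`
    have hFL : ∀ (ξ : X) (h : ξ ⤳ i d), Nontrivial (F.presheaf.stalk ξ) → f₀ ∈ pOf h →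
        ξ = i d := by
      intro ξ h hnt hmem
      by_contra hne
      have h1 := (hX.2.2 ξ (i d) h hne).1
      have h2 := hdim ξ hnt
      have hmax : ∀ y : X, Nontrivial (F.presheaf.stalk y) → y ⤳ ξ → y = ξ := by
        intro y hy hyξ
        by_contra hne'
        have h3 := (hX.2.2 y ξ hyξ hne').1
        have h4 := hdim y hy
        omega
      haveI : Module.Finite (X.presheaf.stalk (i d)) (F.presheaf.stalk (i d)) :=
        finite_stalk_of_isCoh F hF (i d)
      have hp_supp := (nontrivial_stalk_iff_mem_support F h).1 hnt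
      have hmin : pOf h ∈ (Module.annihilator (X.presheaf.stalk (i d))
          (F.presheaf.stalk (i d))).minimalPrimes := by
        refine ⟨⟨inferInstance, Module.mem_support_iff_of_finite.1 hp_supp⟩, ?_⟩
        rintro q ⟨hqp, hqa⟩ hqle
        have hqs : (⟨q, hqp⟩ : PrimeSpectrum (X.presheaf.stalk (i d))) ∈
            Module.support (X.presheaf.stalk (i d)) (F.presheaf.stalk (i d)) :=
          Module.mem_support_iff_of_finite.2 hqa
        have hy := specializes_fromSpecStalk (i d) (⟨q, hqp⟩ : PrimeSpectrum _)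
        have hpy : pOf hy = q := pOf_fromSpecStalk (i d) ⟨q, hqp⟩ hy
        have hynt : Nontrivial (F.presheaf.stalk (X.fromSpecStalk (i d) ⟨q, hqp⟩)) := by
          rw [nontrivial_stalk_iff_mem_support F hy]
          have : (⟨pOf hy, inferInstance⟩ : PrimeSpectrum (X.presheaf.stalk (i d))) = ⟨q, hqp⟩ :=
            PrimeSpectrum.ext hpy
          rw [this]
          exact hqs
        have hyξ : X.fromSpecStalk (i d) ⟨q, hqp⟩ ⤳ ξ :=
          (specializes_iff_pOf_le hy h).2 (by rw [hpy]; exact hqle)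
        have hyeq := hmax _ hynt hyξ
        rw [← hpy, pOf_congr hyeq hy h]
      exact (show IsSMulRegular (F.presheaf.stalk (i d)) f₀ from hinj).notMem_of_mem_minimalPrimes
        hmin hmem
    rw [length_stalk_pullback_closedImmersion i F d f₀ hker,
      toNat_length_quot_module_eq_finsum_points F hF (i d) f₀ hf₀m hinj hFL]
    -- reindex
    let ι : {ξ : X // ξ ⤳ i d ∧ ξ ≠ i d} → X := fun ξ => ξ.1
    have hι : Function.Injective ι := Subtype.val_injective
    rw [← finsum_mem_univ, finsum_mem_inter_support_eq' _ Set.univ (Set.range ι) (by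
      intro ξ hξ
      simp only [Set.mem_univ, true_iff]
      by_cases h : ξ ⤳ i d ∧ δ (i d) + 1 = δ ξ
      · have hne : ξ ≠ i d := by
          intro he
          have := h.2
          rw [he] at this
          omega
        exact ⟨⟨ξ, h.1, hne⟩, rfl⟩
      · exfalso
        apply hξ
        show _ * Cyc.secDivFun δ L ξ _ (i d) = (0 : ℤ)
        unfold Cyc.secDivFun
        rw [dif_neg h, mul_zero]), finsum_mem_range hι]
    refine finsum_congr fun ξ => ?_
    have hξy : ξ.1 ⤳ i d := ξ.2.1
    show Cyc.sheafFun δ (k + 1) F ξ.1 * Cyc.secDivFun δ L ξ.1 _ (i d) = _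
    by_cases hnt : Nontrivial (F.presheaf.stalk ξ.1)
    · have hδξ : δ ξ.1 = k + 1 := by
        have h1 := (hX.2.2 ξ.1 (i d) hξy ξ.2.2).1
        have h2 := hdim ξ.1 hnt
        omega
      have hfp : f₀ ∉ pOf hξy := fun hmem => ξ.2.2 (hFL ξ.1 hξy hnt hmem)
      have hsh : Cyc.sheafFun δ (k + 1) F ξ.1 =
          ((Module.length (X.presheaf.stalk ξ.1) (F.presheaf.stalk ξ.1)).toNat : ℤ) := by
        unfold Cyc.sheafFun
        rw [if_pos hδξ]
      have e2 : L.presheaf.stalkSpecializes hξy ((L.presheaf.germ ⊤ (i d) trivial) s) =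
          (L.presheaf.germ ⊤ ξ.1 trivial) s :=
        ConcreteCategory.congr_hom (TopCat.Presheaf.germ_stalkSpecializes L.presheaf
          (show i d ∈ (⊤ : X.Opens) from trivial) hξy) s
      have hσeq : (Submodule.Quotient.mk ((L.presheaf.germ ⊤ ξ.1 trivial) s) :
          Cyc.secFibre L ξ.1) = (X.presheaf.stalkSpecializes hξy).hom f₀ •
            (Submodule.Quotient.mk (L.presheaf.stalkSpecializes hξy t) : Cyc.secFibre L ξ.1) := by
        rw [← e2, hfs, stalkSpecializes_smul]
        rfl
      have hunit : IsUnit ((X.presheaf.stalkSpecializes hξy).hom f₀) := by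
        by_contra hnu
        exact hfp ((mem_pOf_iff hξy f₀).2 ((IsLocalRing.mem_maximalIdeal _).2 hnu))
      have hmkt : (Submodule.Quotient.mk (L.presheaf.stalkSpecializes hξy t) :
          Cyc.secFibre L ξ.1) ≠ 0 := by
        intro h0
        obtain ⟨a, ha⟩ := exists_smul_mk_eq L ξ.1 _ (hLc.spec (i d) ξ.1 hξy t ht) (w ξ.1)
        apply hw ξ.1
        rw [ha, h0, smul_zero]
      have hσ : (Submodule.Quotient.mk ((L.presheaf.germ ⊤ ξ.1 trivial) s) :
          Cyc.secFibre L ξ.1) ≠ 0 := by
        intro h0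
        apply hmkt
        rw [hσeq] at h0
        obtain ⟨v, hv⟩ := hunit
        have := congrArg (fun z => ((v⁻¹ : (X.presheaf.stalk ξ.1)ˣ) : X.presheaf.stalk ξ.1) • z) h0
        simp only [smul_zero] at this
        rwa [← hv, smul_smul, Units.inv_mul, one_smul] at this
      have hG : Cyc.gysinChoice L s w ξ.1 =
          Submodule.Quotient.mk ((L.presheaf.germ ⊤ ξ.1 trivial) s) := by
        unfold Cyc.gysinChoice
        rw [if_pos hσ]
      have hd : Ring.KrullDimLE 1 (Cyc.LocQuot (i d) ξ.1 hξy) :=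
        krullDimLE_locQuot_of_immediate δ hX.2.2 hξy (by omega)
      unfold Cyc.secDivFun
      rw [hsh, dif_pos (⟨hξy, by omega⟩ : ξ.1 ⤳ i d ∧ δ (i d) + 1 = δ ξ.1), hG,
        secOrdAt_eq L (i d) ξ.1 hξy _ hσ t ht _ hσeq]
      congr 1
      exact ordAt_specMap hξy hd f₀ hfp
    · rw [not_nontrivial_iff_subsingleton] at hnt
      have h0 : Module.length (X.presheaf.stalk ξ.1) (F.presheaf.stalk ξ.1) = 0 :=
        Module.length_eq_zero
      have hsh : Cyc.sheafFun δ (k + 1) F ξ.1 = 0 := by
        unfold Cyc.sheafFun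
        split_ifs
        · rw [h0]; rfl
        · rfl
      rw [hsh, h0]
      simp
  · rw [if_neg hk]
    apply finsum_eq_zero_of_forall_eq_zero
    intro ξ
    unfold Cyc.sheafFun Cyc.secDivFun
    by_cases h1 : δ ξ = k + 1
    · rw [dif_neg (fun h => hk (by have := h.2; omega)), mul_zero]
    · rw [if_neg h1, zero_mul]

end Groth.Agent.Lib.helper16.ModLen
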