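import Groth.Agent.Lib.Helper16.ModifDim
import Groth.Agent.Lib.Helper27.FibreVan1
import Groth.Agent.Lib.Lead.GrothVanish
import Groth.Agent.Lib.Helper11.CoprodVan
import Groth.Agent.Lib.Helper11.AdicUnifSerre
import Groth.Agent.Lib.Helper16.Satur5
import Groth.Agent.Lib.Helper16.QCohEpi
import Groth.Agent.Lib.Helper7.CohKer
import Groth.Agent.Lib.Helper25.QCohCoprod
import Groth.Agent.Lib.Helper12.AmpleBasis

/-!
# Cohomological dimension of modifications of two-dimensional local domains (helper16)

* `exists_epi_sigma_coh`: a quasi-coherent module on a qcqs scheme is a quotient of a coproduct of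
  quasi-coherent modules of finite type.
* `subsingleton_HH_of_modification`: `A` local Noetherian domain of dimension `d + 1`, `f : X → Spec A`
  proper, `X` integral, `f` an isomorphism over a nonempty open: `H^p(X, F) = 0` for `F`
  quasi-coherent and `p > d`.
-/

set_option autoImplicit false
universe u
open CategoryTheory CategoryTheory.Limits AlgebraicGeometry TopologicalSpace Opposite

namespace Groth.Agent.Lib.helper16.ModifCoh

open Groth.Agent.Lib.helper16.ModifDim

theorem exists_epi_sigma_coh {X : Scheme.{u}} [CompactSpace X] [QuasiSeparatedSpace X]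
    (F : X.Modules) [F.IsQuasicoherent] :
    ∃ (ι : Type u) (G : ι → X.Modules) (u : ∐ G ⟶ F), (∀ j, Coh.IsCoh (G j)) ∧ Epi u := by
  classical
  have key : ∀ j : (Σ U : X.affineOpens, Γ(F, U.1)), ∃ (G : X.Modules) (i : G ⟶ F),
      Mono i ∧ G.IsQuasicoherent ∧ CohB1.IsFT G ∧ j.2 ∈ Set.range (i.app j.1.1) := by
    intro j
    obtain ⟨G, i, hm, hq, hft, h⟩ :=
      Groth.Agent.Lib.helper16.Satur.exists_ft_sub_sections F j.1.2 {j.2}
    exact ⟨G, i, hm, hq, hft, h j.2 (Finset.mem_singleton_self _)⟩
  choose G i _ hq hft hmem using key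
  refine ⟨_, G, Sigma.desc i, fun j => ⟨hq j, hft j⟩, ?_⟩
  refine Groth.Agent.Lib.helper16.QCohEpi.epi_of_surjective_on_basis _
    X.affineOpens X.isBasis_affineOpens ?_
  intro D hD s
  obtain ⟨t, ht⟩ := hmem ⟨⟨D, hD⟩, s⟩
  refine ⟨((Sigma.ι G ⟨⟨D, hD⟩, s⟩).app D).hom t, ?_⟩
  have h1 : Sigma.ι G ⟨⟨D, hD⟩, s⟩ ≫ Sigma.desc i = i ⟨⟨D, hD⟩, s⟩ := Sigma.ι_desc _ _
  have h2 := congrArg (fun v => (Scheme.Modules.Hom.app v D).hom t) h1
  exact h2.trans ht

section modification

variable (A : Type u) [CommRing A] [IsDomain A] [IsLocalRing A] [IsNoetherianRing A]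
  {X : Scheme.{u}} (f : X ⟶ Spec (CommRingCat.of A)) [IsProper f] [IsIntegral X]

/-- **cohomological dimension of a modification**: `H^p(X, F) = 0` for `p > d`, `F` quasi-coherent,
`X → Spec A` a proper birational morphism from an integral scheme, `A` local Noetherian domain of
dimension `d + 1`. -/
theorem subsingleton_HH_of_modification (d : ℕ)
    (hdim : ringKrullDim A = ((d + 1 : ℕ) : WithBot ℕ∞))
    (U₀ : (Spec (CommRingCat.of A)).Opens)
    (hne : (U₀ : Set (Spec (CommRingCat.of A))).Nonempty) [IsIso (f ∣_ U₀)]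
    (F : X.Modules) [F.IsQuasicoherent] (p : ℕ) (hp : d < p) : Subsingleton (Coh.HH X F p) := by
  letI : X.Over (Spec (CommRingCat.of A)) := ⟨f⟩
  haveI : IsProper (X ↘ Spec (CommRingCat.of A)) := inferInstanceAs (IsProper f)
  haveI : IsNoetherian X := Groth.Agent.Lib.helper27.FibreVan.isNoetherian_of_proper A X
  have hfib : topologicalKrullDim ↥((X ↘ Spec (CommRingCat.of A)) ⁻¹' {IsLocalRing.closedPoint A}) ≤
      (d : WithBot ℕ∞) := dim_closedFibre_le f d hdim U₀ hne
  have hX : topologicalKrullDim X ≤ ((d + 1 : ℕ) : WithBot ℕ∞) :=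
    hdim ▸ topologicalKrullDim_le_of_birational f U₀ hne
  have hGV : ∀ (M : X.Modules) (q : ℕ), d + 1 < q → Subsingleton (Coh.HH X M q) := fun M q hq =>
    Groth.Agent.Lib.Lead.GrothVanish.subsingleton_HH_of_dim_le X (d + 1) hX M q hq
  rcases Nat.lt_or_ge (d + 1) p with h | h
  · exact hGV F p h
  · have hpd : p = d + 1 := le_antisymm h hp
    obtain ⟨ι, G, u, hG, hu⟩ := exists_epi_sigma_coh F
    let S : ShortComplex X.Modules := ShortComplex.mk (kernel.ι u) u (kernel.condition u)
    have hS : S.ShortExact :=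
      { exact := ShortComplex.exact_kernel u
        mono_f := inferInstanceAs (Mono (kernel.ι u))
        epi_g := hu }
    refine Groth.Agent.Lib.helper11.AdicSys.subsingleton_HH_right S hS p ?_ ?_
    · exact Groth.Agent.Lib.helper11.CoprodVan.subsingleton_HH_sigma X G p (fun j =>
        Groth.Agent.Lib.helper27.FibreVan.subsingleton_HH (G j) (hG j) d hfib p hp)
    · exact hGV _ _ (by omega)

/-- if moreover `H¹(X, O_X) = 0` then `H¹(X, F) = 0` for globally generated quasi-coherent `F`. -/
theorem subsingleton_HH_one_of_globallyGenerated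
    (hdim : ringKrullDim A = ((1 + 1 : ℕ) : WithBot ℕ∞))
    (U₀ : (Spec (CommRingCat.of A)).Opens)
    (hne : (U₀ : Set (Spec (CommRingCat.of A))).Nonempty) [IsIso (f ∣_ U₀)]
    (hO : Subsingleton (Coh.HH X (Coh.structureModule X) 1))
    (F : X.Modules) [F.IsQuasicoherent] (hgg : Curv2.IsGloballyGenerated F) :
    Subsingleton (Coh.HH X F 1) := by
  letI : X.Over (Spec (CommRingCat.of A)) := ⟨f⟩
  haveI : IsProper (X ↘ Spec (CommRingCat.of A)) := inferInstanceAs (IsProper f)
  haveI : IsNoetherian X := Groth.Agent.Lib.helper27.FibreVan.isNoetherian_of_proper A X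
  obtain ⟨ι, u, hu⟩ := hgg
  haveI : (SheafOfModules.free ι : X.Modules).IsQuasicoherent :=
    Groth.Agent.Lib.helper25.QCohCoprod.isQuasicoherent_coproduct X
      (fun _ : ι => SheafOfModules.unit X.ringCatSheaf)
      (fun _ => Groth.Agent.Lib.helper12.AmpleBasis.structureModule_qcoh X)
  have hK : (kernel u).IsQuasicoherent := Groth.Agent.Lib.helper7.CohKer.isQuasicoherent_kernel u
  let S : ShortComplex X.Modules := ShortComplex.mk (kernel.ι u) u (kernel.condition u)
  have hS : S.ShortExact :=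
    { exact := ShortComplex.exact_kernel u
      mono_f := inferInstanceAs (Mono (kernel.ι u))
      epi_g := hu }
  refine Groth.Agent.Lib.helper11.AdicSys.subsingleton_HH_right S hS 1 ?_ ?_
  · exact Groth.Agent.Lib.helper11.CoprodVan.subsingleton_HH_sigma X
      (fun _ : ι => SheafOfModules.unit X.ringCatSheaf) 1 (fun _ => hO)
  · exact @subsingleton_HH_of_modification A _ _ _ _ X f _ _ 1 hdim U₀ hne _ (kernel u) hK 2 (by omega)

end modification

end Groth.Agent.Lib.helper16.ModifCoh
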