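import Groth.Agent.Lib.Helper3.ProperIsolDim
import Groth.Agent.Lib.Helper3.DimIneqSch2
import Groth.Agent.Lib.Helper3.FibreParam
import Groth.Agent.Lib.Helper20.GenericZero

/-!
# Dimension of a modification of a Noetherian integral affine scheme (helper16)

`f : X ⟶ Spec A` locally of finite type, `X` integral, `A` Noetherian, `f` an isomorphism over a
nonempty open of `Spec A`.

* `isolated_genericPoint`: the generic point of `X` is isolated in its fibre.
* `topologicalKrullDim_le_of_birational`: `dim X ≤ dim A`.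
* `dim_closedFibre_le`: if moreover `A` is local of dimension `d + 1` the closed fibre has
  dimension `≤ d`.
-/

set_option autoImplicit false
universe u
open CategoryTheory CategoryTheory.Limits AlgebraicGeometry TopologicalSpace Opposite

namespace Groth.Agent.Lib.helper16.ModifDim

open Groth.Agent.Lib.helper3.DimIneq

variable {A : Type u} [CommRing A] {X : Scheme.{u}} (f : X ⟶ Spec (CommRingCat.of A))

theorem injOn_of_isIso_restrict (U₀ : (Spec (CommRingCat.of A)).Opens) [IsIso (f ∣_ U₀)]
    (x x' : X) (hx : x ∈ f ⁻¹ᵁ U₀) (hx' : x' ∈ f ⁻¹ᵁ U₀) (h : f x = f x') : x = x' := by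
  have h1 : (f ∣_ U₀) ⟨x, hx⟩ = (f ∣_ U₀) ⟨x', hx'⟩ := by
    apply Subtype.ext
    rw [morphismRestrict_base_coe, morphismRestrict_base_coe]
    exact h
  have h2 := (f ∣_ U₀).homeomorph.injective h1
  exact congrArg Subtype.val h2

theorem genericPoint_mem [IsIntegral X] (U₀ : (Spec (CommRingCat.of A)).Opens)
    (hne : (U₀ : Set (Spec (CommRingCat.of A))).Nonempty) [IsIso (f ∣_ U₀)] :
    genericPoint X ∈ f ⁻¹ᵁ U₀ := by
  obtain ⟨y, hy⟩ := hne
  obtain ⟨x, hx⟩ := (f ∣_ U₀).homeomorph.surjective ⟨y, hy⟩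
  exact (genericPoint_specializes x.1).mem_open (f ⁻¹ᵁ U₀).isOpen x.2

theorem isolated_genericPoint [IsIntegral X] (U₀ : (Spec (CommRingCat.of A)).Opens)
    (hne : (U₀ : Set (Spec (CommRingCat.of A))).Nonempty) [IsIso (f ∣_ U₀)] :
    ∃ U : X.Opens, genericPoint X ∈ U ∧ ∀ x' ∈ U, f x' = f (genericPoint X) → x' = genericPoint X :=
  ⟨f ⁻¹ᵁ U₀, genericPoint_mem f U₀ hne, fun x' hx' h =>
    injOn_of_isIso_restrict f U₀ x' _ hx' (genericPoint_mem f U₀ hne) h⟩

/-- points with closure an irreducible component of an integral scheme are the generic point. -/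
theorem eq_genericPoint_of_closure_mem [IsIntegral X] (ξ : X)
    (h : closure ({ξ} : Set X) ∈ irreducibleComponents X) : ξ = genericPoint X := by
  have h1 : closure ({ξ} : Set X) = Set.univ := by
    have huniv : IsIrreducible (Set.univ : Set X) := IrreducibleSpace.isIrreducible_univ X
    exact (h.2 huniv (Set.subset_univ _)).antisymm (Set.subset_univ _) |>.symm ▸ rfl
  have h2 : IsGenericPoint ξ (Set.univ : Set X) := h1
  exact h2.eq (genericPoint_spec X)

theorem ringKrullDim_stalk_le [IsIntegral X] [IsNoetherianRing A] [LocallyOfFiniteType f]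
    (U₀ : (Spec (CommRingCat.of A)).Opens)
    (hne : (U₀ : Set (Spec (CommRingCat.of A))).Nonempty) [IsIso (f ∣_ U₀)] (x' : X) :
    ringKrullDim (X.presheaf.stalk x') ≤ ringKrullDim A := by
  obtain ⟨U, hU, hx'U, -⟩ := exists_isAffineOpen_mem_and_subset (x := x') (U := ⊤) trivial
  have hV : IsAffineOpen (⊤ : (Spec (CommRingCat.of A)).Opens) := isAffineOpen_top _
  have e : U ≤ f ⁻¹ᵁ ⊤ := le_top
  let eA : Γ(Spec (CommRingCat.of A), ⊤) ≃+* A :=
    (Scheme.ΓSpecIso (CommRingCat.of A)).commRingCatIsoToRingEquiv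
  haveI : IsNoetherianRing Γ(Spec (CommRingCat.of A), ⊤) :=
    isNoetherianRing_of_ringEquiv A eA.symm
  have hft : (f.appLE ⊤ U e).hom.FiniteType := LocallyOfFiniteType.finiteType_appLE f hV hU e
  obtain ⟨n, hn⟩ := exists_nat_td_residueFieldMap f x'
  rw [← td_quotientMap_eq f hV hU e x' hx'U] at hn
  have hiso := isolated_genericPoint f U₀ hne
  have hE : ∀ q0 ∈ minimalPrimes Γ(X, U), q0 ≤ (hU.primeIdealOf ⟨x', hx'U⟩).asIdeal →
      td (Ideal.quotientMap q0 (f.appLE ⊤ U e).hom le_rfl) ≤ ((0 : ℕ) : Cardinal.{u}) := by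
    intro q0 hq0 _
    haveI : q0.IsPrime := Ideal.IsMinimalPrime.isPrime hq0
    obtain ⟨ξ, hξ, hξq⟩ := exists_point_of_prime hU q0
    have h1 : closure ({ξ} : Set X) ∈ irreducibleComponents X :=
      closure_mem_irreducibleComponents hU ξ hξ (hξq ▸ hq0)
    have h2 := eq_genericPoint_of_closure_mem ξ h1
    rw [Groth.Agent.Lib.helper3.FibreParam.td_quotientMap_congr_prime _ _ _ hξq.symm, td_quotientMap_eq f hV hU e ξ hξ]
    subst h2
    exact (Groth.Agent.Lib.helper3.ProperIsolDim.td_eq_zero_of_isolated f _ hiso _ specializes_rfl).le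
  have key := height_add_le' (f.appLE ⊤ U e).hom hft (hU.primeIdealOf ⟨x', hx'U⟩).asIdeal n 0 hn hE
  rw [ringKrullDim_stalk_eq_height hU x' hx'U, ← ringKrullDim_eq_of_ringEquiv eA]
  have h3 : (hU.primeIdealOf ⟨x', hx'U⟩).asIdeal.height ≤
      ((hU.primeIdealOf ⟨x', hx'U⟩).asIdeal.comap (f.appLE ⊤ U e).hom).height := by
    calc _ ≤ (hU.primeIdealOf ⟨x', hx'U⟩).asIdeal.height + n := le_self_add
      _ ≤ _ := by simpa using key
  refine le_trans (WithBot.coe_le_coe.mpr h3) ?_
  exact Ideal.height_le_ringKrullDim_of_ne_top (Ideal.IsPrime.ne_top (Ideal.comap_isPrime _ _))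

theorem topologicalKrullDim_le_of_birational [IsIntegral X] [IsNoetherianRing A]
    [LocallyOfFiniteType f] (U₀ : (Spec (CommRingCat.of A)).Opens)
    (hne : (U₀ : Set (Spec (CommRingCat.of A))).Nonempty) [IsIso (f ∣_ U₀)] :
    topologicalKrullDim X ≤ ringKrullDim A := by
  rw [dim_eq_iSup_stalk]
  exact iSup_le fun x' => ringKrullDim_stalk_le f U₀ hne x'

/-- the closed fibre of a modification of a local Noetherian domain of dimension `d + 1` has
dimension `≤ d`. -/
theorem dim_closedFibre_le [IsIntegral X] [IsNoetherianRing A] [IsLocalRing A] [IsDomain A]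
    [LocallyOfFiniteType f] (d : ℕ) (hdim : ringKrullDim A = ((d + 1 : ℕ) : WithBot ℕ∞))
    (U₀ : (Spec (CommRingCat.of A)).Opens)
    (hne : (U₀ : Set (Spec (CommRingCat.of A))).Nonempty) [IsIso (f ∣_ U₀)] :
    topologicalKrullDim ↥(f ⁻¹' {IsLocalRing.closedPoint A}) ≤ (d : WithBot ℕ∞) := by
  have hX : topologicalKrullDim X ≤ ((d + 1 : ℕ) : WithBot ℕ∞) :=
    hdim ▸ topologicalKrullDim_le_of_birational f U₀ hne
  have hZ : IsClosed (f ⁻¹' {IsLocalRing.closedPoint A}) :=
    (IsLocalRing.isClosed_singleton_closedPoint A).preimage f.continuous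
  have hlt := Groth.Agent.Lib.Helper20.GenericZero.dim_lt_of_no_generic (T := X) (d + 1)
    (fun C _ => (Topology.IsInducing.subtypeVal.topologicalKrullDim_le).trans hX)
    (f ⁻¹' {IsLocalRing.closedPoint A}) hZ ?_
  · revert hlt
    generalize topologicalKrullDim ↥(f ⁻¹' {IsLocalRing.closedPoint A}) = t
    intro hlt
    induction t using WithBot.recBotCoe with
    | bot => exact bot_le
    | coe n =>
      have h1 : n < ((d + 1 : ℕ) : ℕ∞) := by exact_mod_cast hlt
      have h2 : n ≤ (d : ℕ∞) := by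
        rw [Nat.cast_add, Nat.cast_one] at h1
        exact (ENat.lt_add_one_iff (ENat.natCast_ne_top d)).mp h1
      exact_mod_cast h2
  · intro x hx hxZ
    have hxη := eq_genericPoint_of_closure_mem x hx
    subst hxη
    have hfη : f (genericPoint X) = IsLocalRing.closedPoint A := hxZ
    -- every point of `X` maps to the closed point
    have hall : ∀ y : X, f y = IsLocalRing.closedPoint A := by
      intro y
      have h1 : f (genericPoint X) ⤳ f y := (genericPoint_specializes y).map f.continuous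
      have hcl : closure ({IsLocalRing.closedPoint A} : Set (Spec (CommRingCat.of A))) =
          {IsLocalRing.closedPoint A} := (IsLocalRing.isClosed_singleton_closedPoint A).closure_eq
      rw [hfη, specializes_iff_mem_closure] at h1
      exact hcl.subset h1
    -- hence `U₀ = {closed point}` is open, so contains the generic point `⊥`
    obtain ⟨y, hy⟩ := hne
    obtain ⟨x', hx'⟩ := (f ∣_ U₀).homeomorph.surjective ⟨y, hy⟩
    have hy' : y = IsLocalRing.closedPoint A := by
      have h2 : ((f ∣_ U₀) x').1 = y := congrArg Subtype.val hx'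
      rw [morphismRestrict_base_coe] at h2
      rw [← h2]; exact hall _
    subst hy'
    let b : Spec (CommRingCat.of A) := (⊥ : PrimeSpectrum A)
    have hbot : b ⤳ (IsLocalRing.closedPoint A : Spec (CommRingCat.of A)) := by
      have : (⊥ : PrimeSpectrum A) ⤳ IsLocalRing.closedPoint A := by
        rw [← PrimeSpectrum.le_iff_specializes]
        exact bot_le
      exact this
    have hmem : b ∈ (U₀ : Set (Spec (CommRingCat.of A))) :=
      hbot.mem_open U₀.isOpen hy
    obtain ⟨x'', hx''⟩ := (f ∣_ U₀).homeomorph.surjective ⟨b, hmem⟩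
    have h3 : (⊥ : PrimeSpectrum A) = IsLocalRing.closedPoint A := by
      have h2 : ((f ∣_ U₀) x'').1 = b := congrArg Subtype.val hx''
      rw [morphismRestrict_base_coe] at h2
      change b = _
      rw [← h2]; exact hall _
    have h4 : IsLocalRing.maximalIdeal A = ⊥ := (congrArg PrimeSpectrum.asIdeal h3).symm
    have h5 : IsField A := IsLocalRing.isField_iff_maximalIdeal_eq.mpr h4
    have h6 := ringKrullDim_eq_zero_of_isField h5
    rw [hdim] at h6
    have : ((d + 1 : ℕ) : WithBot ℕ∞) ≠ 0 := by exact_mod_cast Nat.succ_ne_zero d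
    exact this h6

end Groth.Agent.Lib.helper16.ModifDim
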