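import Mathlib
import Groth.Prelude.Def_W4c5suslinpi1abAdj
set_option autoImplicit false
universe v u
open CategoryTheory MonoidalCategory Functor.LaxMonoidal Functor.OplaxMonoidal
open W4c5suslinpi1ab

namespace Groth.Agent.Lib.helper16.MonAdj

variable {C : Type u} [Category.{v} C] [MonoidalCategory C]
variable {D : Type u} [Category.{v} D] [MonoidalCategory D]

theorem map_projR_counit {L : C ⥤ D} {R : D ⥤ C} (adj : L ⊣ R) [L.OplaxMonoidal] [R.LaxMonoidal]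
    [adj.IsMonoidal] (A : D) (B : C) :
    L.map (projR adj A B) ≫ adj.counit.app (A ⊗ L.obj B) =
      δ L (R.obj A) B ≫ (adj.counit.app A ▷ L.obj B) := by
  have h1 := δ_natural_right L (R.obj A) (adj.unit.app B)
  dsimp at h1
  rw [projR, L.map_comp, Category.assoc, adj.map_μ_comp_counit_app_tensor,
    ← reassoc_of% h1, MonoidalCategory.tensorHom_def',
    ← MonoidalCategory.whiskerLeft_comp_assoc]
  simp

theorem map_projL_counit {L : C ⥤ D} {R : D ⥤ C} (adj : L ⊣ R) [L.OplaxMonoidal] [R.LaxMonoidal]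
    [adj.IsMonoidal] (A : C) (B : D) :
    L.map (projL adj A B) ≫ adj.counit.app (L.obj A ⊗ B) =
      δ L A (R.obj B) ≫ (L.obj A ◁ adj.counit.app B) := by
  have h1 := δ_natural_left L (adj.unit.app A) (R.obj B)
  dsimp at h1
  rw [projL, L.map_comp, Category.assoc, adj.map_μ_comp_counit_app_tensor,
    ← reassoc_of% h1, MonoidalCategory.tensorHom_def, ← MonoidalCategory.comp_whiskerRight_assoc]
  simp

theorem map_cupShriek_counit {L : C ⥤ D} {R : D ⥤ C} {S : C ⥤ D} (adj : L ⊣ R) (adj' : R ⊣ S)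
    [R.LaxMonoidal] [∀ (A : D) (B : C), IsIso (projR adj A B)] (A B : C) :
    R.map (cupShriek adj adj' A B) ≫ adj'.counit.app (A ⊗ B) =
      inv (projR adj (S.obj A) B) ≫ (adj'.counit.app A ▷ B) := by
  have h := (adj'.homEquiv _ _).symm_apply_apply
    (inv (projR adj (S.obj A) B) ≫ (adj'.counit.app A ▷ B))
  rw [Adjunction.homEquiv_counit] at h
  exact h

section Square

variable {S₀ : Type u} [Category.{v} S₀] [MonoidalCategory S₀]
variable {Y₁ : Type u} [Category.{v} Y₁] [MonoidalCategory Y₁]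
variable {Y₂ : Type u} [Category.{v} Y₂] [MonoidalCategory Y₂]
variable {X : Type u} [Category.{v} X] [MonoidalCategory X]
variable {fL : S₀ ⥤ Y₁} {fR : Y₁ ⥤ S₀} {gR : Y₂ ⥤ S₀}
variable {pL : Y₁ ⥤ X} {pR : X ⥤ Y₁} {qL : Y₂ ⥤ X} {qR : X ⥤ Y₂}
variable {fS : S₀ ⥤ Y₁} {gS : S₀ ⥤ Y₂} {pS : Y₁ ⥤ X}

theorem map_prodShriek_counit
    (adjf : fL ⊣ fR) (adjf' : fR ⊣ fS) (adjg' : gR ⊣ gS) (adjp : pL ⊣ pR) (adjp' : pR ⊣ pS)
    (adjq : qL ⊣ qR) [fR.LaxMonoidal] [pR.LaxMonoidal] (ν : qR ⋙ gR ⟶ pR ⋙ fR)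
    [∀ (A : Y₁) (B : S₀), IsIso (projR adjf A B)] [∀ (A : Y₁) (B : X), IsIso (projL adjp A B)]
    [∀ B : Y₂, IsIso ((bcMor adjf adjq ν).app B)] (A B : S₀) :
    pR.map (prodShriek adjf adjf' adjg' adjp adjp' adjq ν A B) ≫
      adjp'.counit.app (fS.obj (A ⊗ B)) =
    inv (projL adjp (fS.obj A) (qL.obj (gS.obj B))) ≫
    (fS.obj A ◁ inv ((bcMor adjf adjq ν).app (gS.obj B))) ≫
    cupShriek adjf adjf' A (gR.obj (gS.obj B)) ≫ fS.map (A ◁ adjg'.counit.app B) := by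
  have h := (adjp'.homEquiv _ _).symm_apply_apply
    (inv (projL adjp (fS.obj A) (qL.obj (gS.obj B))) ≫
    (fS.obj A ◁ inv ((bcMor adjf adjq ν).app (gS.obj B))) ≫
    cupShriek adjf adjf' A (gR.obj (gS.obj B)) ≫ fS.map (A ◁ adjg'.counit.app B))
  rw [Adjunction.homEquiv_counit] at h
  exact h

theorem extProd_prodShriek
    (adjf : fL ⊣ fR) (adjf' : fR ⊣ fS) (adjg' : gR ⊣ gS) (adjp : pL ⊣ pR) (adjp' : pR ⊣ pS)
    (adjq : qL ⊣ qR) [fR.LaxMonoidal] [pR.LaxMonoidal] (ν : qR ⋙ gR ⟶ pR ⋙ fR)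
    [∀ (A : Y₁) (B : S₀), IsIso (projR adjf A B)] [∀ (A : Y₁) (B : X), IsIso (projL adjp A B)]
    [∀ B : Y₂, IsIso ((bcMor adjf adjq ν).app B)] (A B : S₀) :
    extProd adjf adjp adjq ν (fS.obj A) (gS.obj B) ≫
      fR.map (pR.map (prodShriek adjf adjf' adjg' adjp adjp' adjq ν A B)) ≫
        fR.map (adjp'.counit.app (fS.obj (A ⊗ B))) =
    projR adjf (fS.obj A) (gR.obj (gS.obj B)) ≫
      fR.map (cupShriek adjf adjf' A (gR.obj (gS.obj B))) ≫
        fR.map (fS.map (A ◁ adjg'.counit.app B)) := by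
  rw [← fR.map_comp, map_prodShriek_counit, extProd]
  simp only [Category.assoc, ← fR.map_comp]
  congr 2
  rw [IsIso.hom_inv_id_assoc, ← MonoidalCategory.whiskerLeft_comp_assoc, IsIso.hom_inv_id,
    MonoidalCategory.whiskerLeft_id, Category.id_comp]

end Square

theorem projR_naturality_right {L : C ⥤ D} {R : D ⥤ C} (adj : L ⊣ R) [R.LaxMonoidal]
    (A : D) {B₁ B₂ : C} (b : B₁ ⟶ B₂) :
    (R.obj A ◁ b) ≫ projR adj A B₂ = projR adj A B₁ ≫ R.map (A ◁ L.map b) := by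
  have n := adj.unit.naturality b
  have m := μ_natural_right R A (L.map b)
  dsimp at n m
  rw [projR, projR, ← MonoidalCategory.whiskerLeft_comp_assoc, n,
    MonoidalCategory.whiskerLeft_comp_assoc, Category.assoc, m]

theorem projR_naturality_left {L : C ⥤ D} {R : D ⥤ C} (adj : L ⊣ R) [R.LaxMonoidal]
    {A₁ A₂ : D} (a : A₁ ⟶ A₂) (B : C) :
    (R.map a ▷ B) ≫ projR adj A₂ B = projR adj A₁ B ≫ R.map (a ▷ L.obj B) := by
  have m := μ_natural_left R a (L.obj B)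
  rw [projR, projR, Category.assoc, ← m, ← whisker_exchange_assoc]
  rfl

theorem projL_naturality_right {L : C ⥤ D} {R : D ⥤ C} (adj : L ⊣ R) [R.LaxMonoidal]
    (A : C) {B₁ B₂ : D} (b : B₁ ⟶ B₂) :
    (A ◁ R.map b) ≫ projL adj A B₂ = projL adj A B₁ ≫ R.map (L.obj A ◁ b) := by
  have m := μ_natural_right R (L.obj A) b
  rw [projL, projL, Category.assoc, ← m, whisker_exchange_assoc]
  rfl

theorem projL_naturality_left {L : C ⥤ D} {R : D ⥤ C} (adj : L ⊣ R) [R.LaxMonoidal]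
    {A₁ A₂ : C} (a : A₁ ⟶ A₂) (B : D) :
    (a ▷ R.obj B) ≫ projL adj A₂ B = projL adj A₁ B ≫ R.map (L.map a ▷ B) := by
  have n := adj.unit.naturality a
  have m := μ_natural_left R (L.map a) B
  dsimp at n m
  rw [projL, projL, ← MonoidalCategory.comp_whiskerRight_assoc, n,
    MonoidalCategory.comp_whiskerRight_assoc, Category.assoc, m]

theorem cupShriek_naturality_right {L : C ⥤ D} {R : D ⥤ C} {S : C ⥤ D} (adj : L ⊣ R)
    (adj' : R ⊣ S) [R.LaxMonoidal] [∀ (A : D) (B : C), IsIso (projR adj A B)]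
    (A : C) {B₁ B₂ : C} (b : B₁ ⟶ B₂) :
    (S.obj A ◁ L.map b) ≫ cupShriek adj adj' A B₂ = cupShriek adj adj' A B₁ ≫ S.map (A ◁ b) := by
  apply (adj'.homEquiv _ _).symm.injective
  rw [Adjunction.homEquiv_counit, Adjunction.homEquiv_counit, R.map_comp, R.map_comp,
    Category.assoc, Category.assoc, map_cupShriek_counit]
  have n1 := adj'.counit.naturality (A ◁ b)
  dsimp at n1
  rw [n1, reassoc_of% (map_cupShriek_counit adj adj' A B₁)]
  have h := projR_naturality_right adj (S.obj A) b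
  have h' : R.map (S.obj A ◁ L.map b) ≫ inv (projR adj (S.obj A) B₂) =
      inv (projR adj (S.obj A) B₁) ≫ (R.obj (S.obj A) ◁ b) := by
    rw [IsIso.comp_inv_eq, Category.assoc, h, IsIso.inv_hom_id_assoc]
  rw [reassoc_of% h', whisker_exchange]
  rfl

section Square2

variable {S₀ : Type u} [Category.{v} S₀] [MonoidalCategory S₀]
variable {Y₁ : Type u} [Category.{v} Y₁] [MonoidalCategory Y₁]
variable {Y₂ : Type u} [Category.{v} Y₂] [MonoidalCategory Y₂]
variable {X : Type u} [Category.{v} X] [MonoidalCategory X]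
variable {fL : S₀ ⥤ Y₁} {fR : Y₁ ⥤ S₀} {gR : Y₂ ⥤ S₀}
variable {pL : Y₁ ⥤ X} {pR : X ⥤ Y₁} {qL : Y₂ ⥤ X} {qR : X ⥤ Y₂}

theorem extProd_naturality (adjf : fL ⊣ fR) (adjp : pL ⊣ pR) (adjq : qL ⊣ qR) [fR.LaxMonoidal]
    [pR.LaxMonoidal] (ν : qR ⋙ gR ⟶ pR ⋙ fR) {A A' : Y₁} {B B' : Y₂} (a : A' ⟶ A) (b : B' ⟶ B) :
    extProd adjf adjp adjq ν A' B' ≫ fR.map (pR.map (pL.map a ⊗ₘ qL.map b)) =
      (fR.map a ⊗ₘ gR.map b) ≫ extProd adjf adjp adjq ν A B := by
  have nb := (bcMor adjf adjq ν).naturality b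
  dsimp at nb
  have inner : (A' ◁ (bcMor adjf adjq ν).app B') ≫ projL adjp A' (qL.obj B') ≫
      pR.map (pL.map a ⊗ₘ qL.map b) =
      (a ▷ fL.obj (gR.obj B')) ≫ (A ◁ fL.map (gR.map b)) ≫ (A ◁ (bcMor adjf adjq ν).app B) ≫
        projL adjp A (qL.obj B) := by
    rw [MonoidalCategory.tensorHom_def (pL.map a), pR.map_comp,
      ← reassoc_of% (projL_naturality_left adjp a (qL.obj B')),
      ← projL_naturality_right adjp A (qL.map b),
      ← MonoidalCategory.whiskerLeft_comp_assoc A (fL.map (gR.map b)), nb,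
      MonoidalCategory.whiskerLeft_comp_assoc]
    have we := whisker_exchange a ((bcMor adjf adjq ν).app B')
    dsimp at we
    rw [reassoc_of% we]
  rw [extProd, extProd, MonoidalCategory.tensorHom_def (fR.map a)]
  simp only [Category.assoc]
  rw [reassoc_of% (projR_naturality_right adjf A (gR.map b)),
    reassoc_of% (projR_naturality_left adjf a (gR.obj B'))]
  simp only [← fR.map_comp]
  rw [inner]

instance isIso_extProd (adjf : fL ⊣ fR) (adjp : pL ⊣ pR) (adjq : qL ⊣ qR) [fR.LaxMonoidal]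
    [pR.LaxMonoidal] (ν : qR ⋙ gR ⟶ pR ⋙ fR)
    [∀ (A : Y₁) (B : S₀), IsIso (projR adjf A B)] [∀ (A : Y₁) (B : X), IsIso (projL adjp A B)]
    [∀ B : Y₂, IsIso ((bcMor adjf adjq ν).app B)] (A : Y₁) (B : Y₂) :
    IsIso (extProd adjf adjp adjq ν A B) := by
  rw [extProd]
  infer_instance

end Square2

end Groth.Agent.Lib.helper16.MonAdj
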