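import Groth.Agent.S13634
import Mathlib.Algebra.Homology.ShortComplex.Ab
import Mathlib.CategoryTheory.Limits.Preserves.Shapes.Kernels
import Mathlib.CategoryTheory.Sites.LeftExact

/-!
# Descent of morphisms along fppf-epimorphisms of group schemes (helper16)
-/

set_option autoImplicit false
universe u
open CategoryTheory CategoryTheory.Limits MonoidalCategory CartesianMonoidalCategory MonObj
  AlgebraicGeometry Opposite

namespace Groth.Agent.Lib.helper16.MultDesc

section Desc

variable {C : Type*} [Category C] (J : GrothendieckTopology C) [J.Subcanonical]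

/-- descent of a morphism along a covering morphism `g` on whose fibres it is constant -/
theorem exists_unique_desc {A B N : C} (g : A ⟶ B)
    (hg : Sieve.generate (Presieve.singleton g) ∈ J B) (ψ : A ⟶ N)
    (hψ : ∀ {T : C} (a₁ a₂ : T ⟶ A), a₁ ≫ g = a₂ ≫ g → a₁ ≫ ψ = a₂ ≫ ψ) :
    ∃! ψ' : B ⟶ N, g ≫ ψ' = ψ := by
  have hsh : Presieve.IsSheaf J (yoneda.obj N) :=
    GrothendieckTopology.Subcanonical.isSheaf_of_isRepresentable (yoneda.obj N)
  have h1 : Presieve.IsSheafFor (yoneda.obj N) (Presieve.singleton g) := by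
    rw [Presieve.isSheafFor_iff_generate]
    exact hsh _ hg
  let x : (Presieve.singleton g).FamilyOfElements (yoneda.obj N) :=
    (Presieve.FamilyOfElements.singletonEquiv (yoneda.obj N) g).symm ψ
  have hxg : x g ⟨⟩ = ψ :=
    Presieve.FamilyOfElements.singletonEquiv_symm_apply_self (P := yoneda.obj N) g ψ
  have hx : x.Compatible := by
    rw [Presieve.FamilyOfElements.compatible_singleton_iff]
    intro Z p₁ p₂ h
    rw [hxg]
    exact hψ p₁ p₂ h
  obtain ⟨t, ht, huniq⟩ := h1 x hx
  refine ⟨t, ?_, ?_⟩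
  · have := (Presieve.FamilyOfElements.isAmalgamation_singleton_iff g x t).1 ht
    rw [hxg] at this
    exact this
  · intro t' ht'
    apply huniq
    rw [Presieve.FamilyOfElements.isAmalgamation_singleton_iff, hxg]
    exact ht'

/-- two morphisms to `N` agreeing on a covering sieve are equal -/
theorem ext_of_cover {T N : C} (R : Sieve T) (hR : R ∈ J T) (a b : T ⟶ N)
    (h : ∀ ⦃T' : C⦄ (f : T' ⟶ T), R f → f ≫ a = f ≫ b) : a = b := by
  have hsep : Presieve.IsSeparated J (yoneda.obj N) :=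
    (GrothendieckTopology.Subcanonical.isSheaf_of_isRepresentable (yoneda.obj N)).isSeparated
  exact (hsep R hR).ext (t₁ := (a : T ⟶ N)) (t₂ := (b : T ⟶ N)) (fun T' f hf => h f hf)

end Desc

section Ker

variable {S : Scheme.{u}} (K : Precoverage Scheme.{u}) [(QuotSh.J K S).Subcanonical]
variable {M' M M'' : Over S} [GrpObj M'] [IsCommMonObj M'] [GrpObj M] [IsCommMonObj M]
  [GrpObj M''] [IsCommMonObj M'']

/-- exactness of the sequence of sheaves: points killed by `π` lift locally along `j` -/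
theorem exists_cover_ker (j : M' ⟶ M) (π : M ⟶ M'') [IsMonHom j] [IsMonHom π] (w : j ≫ π = 1)
    (hex : (CGrpSh.seq K j π w).Exact) {T : Over S} (y : T ⟶ M) (hy : y ≫ π = 1) :
    ∃ R : Sieve T, R ∈ QuotSh.J K S T ∧ ∀ ⦃T' : Over S⦄ (f : T' ⟶ T), R f →
      ∃ y' : T' ⟶ M', y' ≫ j = f ≫ y := by
  set Sq := CGrpSh.seq K j π w with hSq
  have hepi : Epi Sq.toCycles := hex.epi_toCycles
  have hls : Sheaf.IsLocallySurjective Sq.toCycles :=
    (Sheaf.isLocallySurjective_iff_epi' (φ := Sq.toCycles)).mpr hepi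
  -- the element of cycles
  let F : Sheaf (QuotSh.J K S) AddCommGrpCat.{u + 1} ⥤ AddCommGrpCat.{u + 1} :=
    sheafToPresheaf _ _ ⋙ (evaluation _ _).obj (op T)
  have hk : IsLimit (KernelFork.ofι (F.map Sq.iCycles)
      (by rw [← F.map_comp, Sq.iCycles_g, F.map_zero] : F.map Sq.iCycles ≫ F.map Sq.g = 0)) :=
    isLimitForkMapOfIsLimit' F _ Sq.cyclesIsKernel
  have hexF : (ShortComplex.mk (F.map Sq.iCycles) (F.map Sq.g)
      (by rw [← F.map_comp, Sq.iCycles_g, F.map_zero])).Exact :=
    ShortComplex.exact_of_f_is_kernel _ hk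
  rw [ShortComplex.ab_exact_iff] at hexF
  obtain ⟨c, hc⟩ := hexF (ULift.up (Additive.ofMul y)) (by
    apply ULift.ext
    change Additive.ofMul (y ≫ π) = 0
    rw [hy]
    rfl)
  refine ⟨Presheaf.imageSieve Sq.toCycles.hom c, Presheaf.imageSieve_mem _ _ _, ?_⟩
  intro T' f hf
  obtain ⟨y'', hy''⟩ := hf
  refine ⟨y''.down.toMul, ?_⟩
  have h1 : Sq.toCycles ≫ Sq.iCycles = Sq.f := Sq.toCycles_i
  have h2 := congrArg (fun k => (k.hom.app (op T')) y'') h1
  have h3 : (Sq.iCycles.hom.app (op T')) ((Sq.toCycles.hom.app (op T')) y'') =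
      (Sq.f.hom.app (op T')) y'' := h2
  rw [hy''] at h3
  have h4 := congrArg (fun k => k c) (Sq.iCycles.hom.naturality f.op)
  have h5 : (Sq.iCycles.hom.app (op T')) ((Sq.cycles.obj.map f.op) c) =
      (Sq.X₂.obj.map f.op) ((Sq.iCycles.hom.app (op T)) c) := h4
  rw [h5] at h3
  have h6 : (Sq.iCycles.hom.app (op T)) c = ULift.up (Additive.ofMul y) := hc
  rw [h6] at h3
  exact (congrArg (fun z => z.down.toMul) h3).symm

end Ker

end Groth.Agent.Lib.helper16.MultDesc
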