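import Groth.Agent.Lib.Helper16.MultDesc1

/-!
# Descent of a morphism linear in one coordinate along `P ◁ (π ▷ Q)` (helper16)
-/

set_option autoImplicit false
universe u w
open CategoryTheory CategoryTheory.Limits MonoidalCategory CartesianMonoidalCategory MonObj
  AlgebraicGeometry Opposite

namespace Groth.Agent.Lib.helper16.MultDesc

variable {S : Scheme.{u}} (K : Precoverage Scheme.{u}) [(QuotSh.J K S).Subcanonical]
variable {P Q M' M M'' N : Over S} [GrpObj M'] [IsCommMonObj M'] [GrpObj M] [IsCommMonObj M]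
  [GrpObj M''] [IsCommMonObj M''] [GrpObj N] [IsCommMonObj N]

/-- `P ◁ (π ▷ Q)` generates a covering sieve when `π` is locally surjective -/
theorem generate_whisker_mem (π : M ⟶ M'') [IsMonHom π]
    (hπ : Sheaf.IsLocallySurjective (CGrpSh.ptsMap K π)) :
    Sieve.generate (Presieve.singleton (P ◁ (π ▷ Q))) ∈ QuotSh.J K S (P ⊗ (M'' ⊗ Q)) := by
  obtain ⟨R, hR, hlift⟩ := Groth.Agent.S13634.exists_cover_lifts K π hπ
    (T := P ⊗ (M'' ⊗ Q)) (r := 1) (fun _ => snd P (M'' ⊗ Q) ≫ fst M'' Q)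
  refine GrothendieckTopology.superset_covering _ ?_ hR
  intro T' f hf
  obtain ⟨z, hz⟩ := hlift f hf
  refine ⟨_, lift (f ≫ fst _ _) (lift (z 0) (f ≫ snd _ _ ≫ snd _ _)), P ◁ (π ▷ Q), ⟨⟩, ?_⟩
  apply CartesianMonoidalCategory.hom_ext
  · simp
  · apply CartesianMonoidalCategory.hom_ext
    · simp [hz 0]
    · simp

/-- a morphism additive in the `M`-coordinate and trivial on the image of `j` is constant on the
fibres of `P ◁ (π ▷ Q)` -/
theorem const_on_fibres (j : M' ⟶ M) (π : M ⟶ M'') [IsMonHom j] [IsMonHom π] (w : j ≫ π = 1)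
    (hex : (CGrpSh.seq K j π w).Exact) (ψ : P ⊗ (M ⊗ Q) ⟶ N)
    (hadd : ∀ (T : Over S) (p : T ⟶ P) (q : T ⟶ Q) (y z : T ⟶ M),
      lift p (lift (y * z) q) ≫ ψ = (lift p (lift y q) ≫ ψ) * (lift p (lift z q) ≫ ψ))
    (hvan : ∀ (T : Over S) (p : T ⟶ P) (q : T ⟶ Q) (y' : T ⟶ M'),
      lift p (lift (y' ≫ j) q) ≫ ψ = 1)
    {T : Over S} (a₁ a₂ : T ⟶ P ⊗ (M ⊗ Q)) (h : a₁ ≫ P ◁ (π ▷ Q) = a₂ ≫ P ◁ (π ▷ Q)) :
    a₁ ≫ ψ = a₂ ≫ ψ := by
  set p := a₁ ≫ fst _ _ with hp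
  set y₁ := a₁ ≫ snd _ _ ≫ fst _ _ with hy₁
  set q := a₁ ≫ snd _ _ ≫ snd _ _ with hq
  set y₂ := a₂ ≫ snd _ _ ≫ fst _ _ with hy₂
  have ha₁ : a₁ = lift p (lift y₁ q) := by
    apply CartesianMonoidalCategory.hom_ext
    · simp [hp]
    · apply CartesianMonoidalCategory.hom_ext <;> simp [hy₁, hq]
  have hp₂ : a₂ ≫ fst _ _ = p := by
    have := congrArg (fun k => k ≫ fst _ _) h
    simpa [hp] using this.symm
  have hq₂ : a₂ ≫ snd _ _ ≫ snd _ _ = q := by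
    have := congrArg (fun k => k ≫ snd _ _ ≫ snd _ _) h
    simpa [hq] using this.symm
  have hy : y₁ ≫ π = y₂ ≫ π := by
    have := congrArg (fun k => k ≫ snd _ _ ≫ fst _ _) h
    simpa [hy₁, hy₂] using this
  have ha₂ : a₂ = lift p (lift y₂ q) := by
    apply CartesianMonoidalCategory.hom_ext
    · simp [hp₂]
    · apply CartesianMonoidalCategory.hom_ext <;> simp [hy₂, hq₂]
  have hd : (y₁ * y₂⁻¹) ≫ π = 1 := by
    rw [MonObj.mul_comp, GrpObj.inv_comp, hy, mul_inv_cancel]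
  obtain ⟨R', hR', hker⟩ := exists_cover_ker K j π w hex (y₁ * y₂⁻¹) hd
  rw [ha₁, ha₂]
  apply ext_of_cover (QuotSh.J K S) R' hR'
  intro T' f hf
  obtain ⟨y', hy'⟩ := hker f hf
  rw [← Category.assoc, ← Category.assoc, comp_lift, comp_lift, comp_lift, comp_lift]
  have hsplit : f ≫ y₁ = (f ≫ (y₁ * y₂⁻¹)) * (f ≫ y₂) := by
    rw [← MonObj.comp_mul, inv_mul_cancel_right]
  rw [hsplit, hadd, ← hy', hvan, _root_.one_mul]


/-- **Descent of a morphism linear in the middle coordinate** (S13636) -/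
theorem exists_desc_linear {R : Type w} [CommRing R]
    (ρ : MultSch.RMod R M) (ρ'' : MultSch.RMod R M'') (ρN : MultSch.RMod R N)
    (j : M' ⟶ M) (π : M ⟶ M'') [IsMonHom j] [IsMonHom π]
    (hπ : ∀ a : R, π ≫ ρ''.act a = ρ.act a ≫ π)
    (w : j ≫ π = 1) (hex : (CGrpSh.seq K j π w).Exact)
    (hls : Sheaf.IsLocallySurjective (CGrpSh.ptsMap K π))
    (ψ : P ⊗ (M ⊗ Q) ⟶ N)
    (hadd : ∀ (T : Over S) (p : T ⟶ P) (q : T ⟶ Q) (y z : T ⟶ M),
      lift p (lift (y * z) q) ≫ ψ = (lift p (lift y q) ≫ ψ) * (lift p (lift z q) ≫ ψ))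
    (hlin : ∀ (T : Over S) (p : T ⟶ P) (q : T ⟶ Q) (y : T ⟶ M) (a : R),
      lift p (lift (y ≫ ρ.act a) q) ≫ ψ = (lift p (lift y q) ≫ ψ) ≫ ρN.act a)
    (hvan : ∀ (T : Over S) (p : T ⟶ P) (q : T ⟶ Q) (y' : T ⟶ M'),
      lift p (lift (y' ≫ j) q) ≫ ψ = 1) :
    ∃ ψ' : P ⊗ (M'' ⊗ Q) ⟶ N,
      (P ◁ (π ▷ Q)) ≫ ψ' = ψ ∧
      (∀ (T : Over S) (p : T ⟶ P) (q : T ⟶ Q) (y z : T ⟶ M''),
        lift p (lift (y * z) q) ≫ ψ' = (lift p (lift y q) ≫ ψ') * (lift p (lift z q) ≫ ψ')) ∧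
      (∀ (T : Over S) (p : T ⟶ P) (q : T ⟶ Q) (y : T ⟶ M'') (a : R),
        lift p (lift (y ≫ ρ''.act a) q) ≫ ψ' = (lift p (lift y q) ≫ ψ') ≫ ρN.act a) ∧
      ∀ ψ'' : P ⊗ (M'' ⊗ Q) ⟶ N, (P ◁ (π ▷ Q)) ≫ ψ'' = ψ → ψ'' = ψ' := by
  obtain ⟨ψ', hψ', huniq⟩ := exists_unique_desc (QuotSh.J K S) (P ◁ (π ▷ Q))
    (generate_whisker_mem K π hls) ψ
    (fun a₁ a₂ h => const_on_fibres K j π w hex ψ hadd hvan a₁ a₂ h)
  have hfac : ∀ {T : Over S} (p : T ⟶ P) (q : T ⟶ Q) (y : T ⟶ M),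
      lift p (lift (y ≫ π) q) ≫ ψ' = lift p (lift y q) ≫ ψ := by
    intro T p q y
    rw [← hψ', ← Category.assoc]
    congr 1
    apply CartesianMonoidalCategory.hom_ext
    · simp
    · apply CartesianMonoidalCategory.hom_ext <;> simp
  refine ⟨ψ', hψ', ?_, ?_, fun ψ'' h => huniq ψ'' h⟩
  · intro T p q y z
    obtain ⟨R', hR', hlift⟩ := Groth.Agent.S13634.exists_cover_lifts K π hls
      (T := T) (r := 2) (fun i => if i = 0 then y else z)
    apply ext_of_cover (QuotSh.J K S) R' hR'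
    intro T' f hf
    obtain ⟨t, ht⟩ := hlift f hf
    have hy : f ≫ y = t 0 ≫ π := by simpa using (ht 0).symm
    have hz : f ≫ z = t 1 ≫ π := by simpa using (ht 1).symm
    rw [MonObj.comp_mul, ← Category.assoc, ← Category.assoc, ← Category.assoc, comp_lift,
      comp_lift, comp_lift, comp_lift, comp_lift, comp_lift, MonObj.comp_mul, hy, hz,
      ← MonObj.mul_comp, hfac, hfac, hfac, hadd]
  · intro T p q y a
    obtain ⟨R', hR', hlift⟩ := Groth.Agent.S13634.exists_cover_lifts K π hls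
      (T := T) (r := 1) (fun _ => y)
    apply ext_of_cover (QuotSh.J K S) R' hR'
    intro T' f hf
    obtain ⟨t, ht⟩ := hlift f hf
    have hy : f ≫ y = t 0 ≫ π := (ht 0).symm
    rw [← Category.assoc, ← Category.assoc, ← Category.assoc, comp_lift, comp_lift, comp_lift,
      comp_lift, ← Category.assoc, hy, Category.assoc, hπ, ← Category.assoc, hfac, hfac, hlin]


end Groth.Agent.Lib.helper16.MultDesc
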