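import Groth.Agent.Lib.Helper16.MultDesc2

/-!
# Descent of multilinear alternating morphisms along `π^n` (helper16)
-/

set_option autoImplicit false
universe u w
open CategoryTheory CategoryTheory.Limits MonoidalCategory CartesianMonoidalCategory MonObj
  AlgebraicGeometry Opposite

namespace Groth.Agent.Lib.helper16.MultDesc

section Pow

variable {C : Type*} [Category C] [CartesianMonoidalCategory C]

/-- the `n`-fold power of a morphism -/
def powMap {M M' : C} (π : M ⟶ M') : (n : ℕ) → (MultSch.pow M n ⟶ MultSch.pow M' n)
  | 0 => 𝟙 _
  | n + 1 => π ⊗ₘ powMap π n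

theorem tuple_powMap {M M' T : C} (π : M ⟶ M') : ∀ {n : ℕ} (x : Fin n → (T ⟶ M)),
    MultSch.tuple x ≫ powMap π n = MultSch.tuple (fun l => x l ≫ π)
  | 0, _ => toUnit_unique _ _
  | n + 1, x => by
    change lift (x 0) (MultSch.tuple fun i => x i.succ) ≫ (π ⊗ₘ powMap π n) =
      lift (x 0 ≫ π) (MultSch.tuple fun i => x i.succ ≫ π)
    rw [lift_map, tuple_powMap π]

/-- the coordinates of a point of `M^n` -/
def coords {M T : C} : {n : ℕ} → (T ⟶ MultSch.pow M n) → Fin n → (T ⟶ M)
  | 0, _ => Fin.elim0
  | _ + 1, a => Fin.cons (a ≫ fst _ _) (coords (a ≫ snd _ _))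

theorem tuple_coords {M T : C} : ∀ {n : ℕ} (a : T ⟶ MultSch.pow M n),
    MultSch.tuple (coords a) = a
  | 0, _ => toUnit_unique _ _
  | n + 1, a => by
    change lift (coords a 0) (MultSch.tuple fun i => coords a i.succ) = a
    have h0 : coords a 0 = a ≫ fst _ _ := rfl
    have hs : (fun i : Fin n => coords a i.succ) = coords (a ≫ snd _ _) := by
      funext i
      rfl
    rw [h0, hs, tuple_coords]
    apply CartesianMonoidalCategory.hom_ext
    · rw [lift_fst]
      rfl
    · rw [lift_snd]
      rfl

theorem coords_tuple {M T : C} : ∀ {n : ℕ} (x : Fin n → (T ⟶ M)),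
    coords (MultSch.tuple x) = x
  | 0, x => by funext i; exact i.elim0
  | n + 1, x => by
    funext i
    refine Fin.cases ?_ (fun i => ?_) i
    · change MultSch.tuple x ≫ fst _ _ = x 0
      change lift (x 0) (MultSch.tuple fun i => x i.succ) ≫ fst _ _ = x 0
      simp
    · change coords (MultSch.tuple x ≫ snd _ _) i = x i.succ
      have : MultSch.tuple x ≫ snd _ _ = MultSch.tuple fun i => x i.succ := by
        change lift (x 0) (MultSch.tuple fun i => x i.succ) ≫ snd _ _ = _
        simp
      rw [this, coords_tuple]

theorem tuple_injective {M T : C} {n : ℕ} {x x' : Fin n → (T ⟶ M)}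
    (h : MultSch.tuple x = MultSch.tuple x') : x = x' := by
  rw [← coords_tuple x, ← coords_tuple x', h]

end Pow

section Alt

variable {C : Type*} [Category C] [CartesianMonoidalCategory C] [BraidedCategory C]
variable {M N : C} [GrpObj M] [GrpObj N] {n : ℕ}

theorem upd_comm {α β : Type*} [DecidableEq α] {a b : α} (h : a ≠ b) (v w : β) (f : α → β) :
    Function.update (Function.update f a v) b w = Function.update (Function.update f b w) a v :=
  Function.update_comm h v w f

/-- antisymmetry of a multilinear alternating morphism -/
theorem alt_swap_mul (φ : MultSch.pow M n ⟶ N) (hmult : MultSch.IsMultilinear φ)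
    (halt : MultSch.IsAlternating φ) {T : C} (x : Fin n → (T ⟶ M)) {i j : Fin n} (hij : i ≠ j)
    (u v : T ⟶ M) :
    (MultSch.tuple (Function.update (Function.update x i v) j u) ≫ φ) *
      (MultSch.tuple (Function.update (Function.update x i u) j v) ≫ φ) = 1 := by
  have h1 : MultSch.tuple (Function.update (Function.update x i (u * v)) j (u * v)) ≫ φ = 1 := by
    apply halt T _ i j hij
    rw [Function.update_self, Function.update_of_ne hij, Function.update_self]
  rw [hmult] at h1
  have h2 : MultSch.tuple (Function.update (Function.update x i (u * v)) j u) ≫ φ =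
      MultSch.tuple (Function.update (Function.update x i v) j u) ≫ φ := by
    rw [upd_comm hij, hmult, upd_comm hij.symm u u, upd_comm hij.symm u v]
    have : MultSch.tuple (Function.update (Function.update x i u) j u) ≫ φ = 1 := by
      apply halt T _ i j hij
      rw [Function.update_self, Function.update_of_ne hij, Function.update_self]
    rw [this, _root_.one_mul]
  have h3 : MultSch.tuple (Function.update (Function.update x i (u * v)) j v) ≫ φ =
      MultSch.tuple (Function.update (Function.update x i u) j v) ≫ φ := by
    rw [upd_comm hij, hmult, upd_comm hij.symm v u, upd_comm hij.symm v v]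
    have : MultSch.tuple (Function.update (Function.update x i v) j v) ≫ φ = 1 := by
      apply halt T _ i j hij
      rw [Function.update_self, Function.update_of_ne hij, Function.update_self]
    rw [this, _root_.mul_one]
  rw [h2, h3] at h1
  exact h1

end Alt

end Groth.Agent.Lib.helper16.MultDesc
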