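import Groth.Agent.Lib.Helper16.MultDesc3

/-!
# Descent of multilinear alternating morphisms along `π^n`, main argument (helper16)
-/

set_option autoImplicit false
universe u w
open CategoryTheory CategoryTheory.Limits MonoidalCategory CartesianMonoidalCategory MonObj
  AlgebraicGeometry Opposite

namespace Groth.Agent.Lib.helper16.MultDesc

variable {S : Scheme.{u}} (K : Precoverage Scheme.{u}) [(QuotSh.J K S).Subcanonical]
variable {M₁ M₂ M₃ N : Over S} [GrpObj M₁] [IsCommMonObj M₁] [GrpObj M₂] [IsCommMonObj M₂]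
  [GrpObj M₃] [IsCommMonObj M₃] [GrpObj N] [IsCommMonObj N] {n : ℕ}

theorem comp_update {A : Over S} {T T' : Over S} (f : T' ⟶ T) (x : Fin n → (T ⟶ A)) (i : Fin n)
    (c : T ⟶ A) :
    (fun l => f ≫ Function.update x i c l) = Function.update (fun l => f ≫ x l) i (f ≫ c) := by
  funext l
  by_cases hl : l = i
  · subst hl
    rw [Function.update_self, Function.update_self]
  · rw [Function.update_of_ne hl, Function.update_of_ne hl]

theorem lift_update {T T' : Over S} (f : T' ⟶ T) (π : M₂ ⟶ M₃) (x : Fin n → (T ⟶ M₃))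
    (x' : Fin n → (T' ⟶ M₂)) (hx : ∀ l, x' l ≫ π = f ≫ x l) (i : Fin n) (y : T ⟶ M₃)
    (y' : T' ⟶ M₂) (hy : y' ≫ π = f ≫ y) :
    ∀ l, Function.update x' i y' l ≫ π = f ≫ Function.update x i y l := by
  intro l
  by_cases hl : l = i
  · subst hl
    rw [Function.update_self, Function.update_self, hy]
  · rw [Function.update_of_ne hl, Function.update_of_ne hl, hx]

/-- vanishing when any coordinate lies in the image of `j` -/
theorem van_any (φ : MultSch.pow M₂ n ⟶ N) (hmult : MultSch.IsMultilinear φ)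
    (halt : MultSch.IsAlternating φ) (hn : 1 ≤ n) (j : M₁ ⟶ M₂)
    (hvan : ∀ (T : Over S) (y : T ⟶ M₁) (x : Fin n → (T ⟶ M₂)), x ⟨0, hn⟩ = y ≫ j →
      MultSch.tuple x ≫ φ = 1)
    {T : Over S} (x : Fin n → (T ⟶ M₂)) (i : Fin n) (y : T ⟶ M₁) (hy : x i = y ≫ j) :
    MultSch.tuple x ≫ φ = 1 := by
  by_cases hi : i = ⟨0, hn⟩
  · subst hi
    exact hvan T y x hy
  · have h := alt_swap_mul φ hmult halt x (Ne.symm hi) (x ⟨0, hn⟩) (x i)
    rw [Function.update_eq_self, Function.update_eq_self] at h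
    have h1 : MultSch.tuple (Function.update (Function.update x ⟨0, hn⟩ (x i)) i (x ⟨0, hn⟩)) ≫ φ
        = 1 := by
      apply hvan T y
      rw [Function.update_of_ne (Ne.symm hi), Function.update_self, hy]
    rw [h1, _root_.one_mul] at h
    exact h

/-- changing one coordinate within its `π`-fibre does not change the value -/
theorem one_step (j : M₁ ⟶ M₂) (π : M₂ ⟶ M₃) [IsMonHom j] [IsMonHom π] (w : j ≫ π = 1)
    (hex : (CGrpSh.seq K j π w).Exact)
    (φ : MultSch.pow M₂ n ⟶ N) (hmult : MultSch.IsMultilinear φ)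
    (halt : MultSch.IsAlternating φ) (hn : 1 ≤ n)
    (hvan : ∀ (T : Over S) (y : T ⟶ M₁) (x : Fin n → (T ⟶ M₂)), x ⟨0, hn⟩ = y ≫ j →
      MultSch.tuple x ≫ φ = 1)
    {T : Over S} (x : Fin n → (T ⟶ M₂)) (i : Fin n) (c : T ⟶ M₂) (hc : x i ≫ π = c ≫ π) :
    MultSch.tuple x ≫ φ = MultSch.tuple (Function.update x i c) ≫ φ := by
  have hd : (x i * c⁻¹) ≫ π = 1 := by
    rw [MonObj.mul_comp, GrpObj.inv_comp, hc, mul_inv_cancel]
  obtain ⟨R', hR', hker⟩ := exists_cover_ker K j π w hex (x i * c⁻¹) hd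
  apply ext_of_cover (QuotSh.J K S) R' hR'
  intro T' f hf
  obtain ⟨y', hy'⟩ := hker f hf
  rw [← Category.assoc, ← Category.assoc, Groth.Agent.S13634.comp_tuple,
    Groth.Agent.S13634.comp_tuple, comp_update]
  have hsplit : (fun l => f ≫ x l) =
      Function.update (fun l => f ≫ x l) i ((f ≫ (x i * c⁻¹)) * (f ≫ c)) := by
    rw [← MonObj.comp_mul, inv_mul_cancel_right]
    exact (Function.update_eq_self i (fun l => f ≫ x l)).symm
  calc MultSch.tuple (fun l => f ≫ x l) ≫ φ
      = MultSch.tuple (Function.update (fun l => f ≫ x l) i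
          ((f ≫ (x i * c⁻¹)) * (f ≫ c))) ≫ φ := by rw [← hsplit]
    _ = (MultSch.tuple (Function.update (fun l => f ≫ x l) i (f ≫ (x i * c⁻¹))) ≫ φ) *
          (MultSch.tuple (Function.update (fun l => f ≫ x l) i (f ≫ c)) ≫ φ) := hmult _ _ _ _ _
    _ = MultSch.tuple (Function.update (fun l => f ≫ x l) i (f ≫ c)) ≫ φ := by
        rw [van_any φ hmult halt hn j hvan _ i y' (by rw [Function.update_self, hy']),
          _root_.one_mul]

/-- the value only depends on the images of the coordinates under `π` -/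
theorem hybrid (j : M₁ ⟶ M₂) (π : M₂ ⟶ M₃) [IsMonHom j] [IsMonHom π] (w : j ≫ π = 1)
    (hex : (CGrpSh.seq K j π w).Exact)
    (φ : MultSch.pow M₂ n ⟶ N) (hmult : MultSch.IsMultilinear φ)
    (halt : MultSch.IsAlternating φ) (hn : 1 ≤ n)
    (hvan : ∀ (T : Over S) (y : T ⟶ M₁) (x : Fin n → (T ⟶ M₂)), x ⟨0, hn⟩ = y ≫ j →
      MultSch.tuple x ≫ φ = 1)
    {T : Over S} (x x' : Fin n → (T ⟶ M₂)) (h : ∀ l, x l ≫ π = x' l ≫ π) :
    MultSch.tuple x ≫ φ = MultSch.tuple x' ≫ φ := by
  classical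
  have key : ∀ s : Finset (Fin n), MultSch.tuple x ≫ φ =
      MultSch.tuple (fun l => if l ∈ s then x' l else x l) ≫ φ := by
    intro s
    induction s using Finset.induction_on with
    | empty => simp
    | insert a s ha ih =>
      rw [ih]
      have hupd : (fun l => if l ∈ insert a s then x' l else x l) =
          Function.update (fun l => if l ∈ s then x' l else x l) a (x' a) := by
        funext l
        by_cases hl : l = a
        · subst hl
          simp
        · rw [Function.update_of_ne hl]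
          simp [Finset.mem_insert, hl]
      rw [hupd]
      apply one_step K j π w hex φ hmult halt hn hvan
      simp only [if_neg ha]
      exact h a
  have := key Finset.univ
  simpa using this

/-- `π^n` generates a covering sieve when `π` is locally surjective -/
theorem generate_powMap_mem (π : M₂ ⟶ M₃) [IsMonHom π]
    (hπ : Sheaf.IsLocallySurjective (CGrpSh.ptsMap K π)) (n : ℕ) :
    Sieve.generate (Presieve.singleton (powMap π n)) ∈ QuotSh.J K S (MultSch.pow M₃ n) := by
  obtain ⟨R, hR, hlift⟩ := Groth.Agent.S13634.exists_cover_lifts K π hπ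
    (T := MultSch.pow M₃ n) (r := n) (coords (𝟙 _))
  refine GrothendieckTopology.superset_covering _ ?_ hR
  intro T' f hf
  obtain ⟨z, hz⟩ := hlift f hf
  refine ⟨_, MultSch.tuple z, powMap π n, ⟨⟩, ?_⟩
  have hz' : (fun l => z l ≫ π) = fun l => f ≫ coords (𝟙 (MultSch.pow M₃ n)) l := funext hz
  rw [tuple_powMap, hz', ← Groth.Agent.S13634.comp_tuple, tuple_coords, Category.comp_id]

/-- **Descent of multilinear alternating morphisms** (S13635), for the fppf topology -/
theorem exists_desc_alt {R : Type w} [CommRing R]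
    (ρ₂ : MultSch.RMod R M₂) (ρ₃ : MultSch.RMod R M₃) (ρN : MultSch.RMod R N)
    (j : M₁ ⟶ M₂) (π : M₂ ⟶ M₃) [IsMonHom j] [IsMonHom π]
    (hπ : ∀ a : R, π ≫ ρ₃.act a = ρ₂.act a ≫ π)
    (w : j ≫ π = 1) (hex : (CGrpSh.seq Scheme.fppfPrecoverage j π w).Exact)
    (hepi : Epi (CGrpSh.ptsMap Scheme.fppfPrecoverage π))
    (hn : 1 ≤ n) (φ : MultSch.pow M₂ n ⟶ N)
    (hmult : MultSch.IsMultilinear φ) (hlin : MultSch.IsRLinear ρ₂ ρN φ)
    (halt : MultSch.IsAlternating φ)
    (hvan : ∀ (T : Over S) (y : T ⟶ M₁) (x : Fin n → (T ⟶ M₂)), x ⟨0, hn⟩ = y ≫ j →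
      MultSch.tuple x ≫ φ = 1) :
    ∃ φ' : MultSch.pow M₃ n ⟶ N,
      (∀ (T : Over S) (x : Fin n → (T ⟶ M₂)),
        MultSch.tuple x ≫ φ = MultSch.tuple (fun l => x l ≫ π) ≫ φ') ∧
      MultSch.IsMultilinear φ' ∧ MultSch.IsRLinear ρ₃ ρN φ' ∧ MultSch.IsAlternating φ' ∧
      ∀ φ'' : MultSch.pow M₃ n ⟶ N,
        (∀ (T : Over S) (x : Fin n → (T ⟶ M₂)),
          MultSch.tuple x ≫ φ = MultSch.tuple (fun l => x l ≫ π) ≫ φ'') → φ'' = φ' := by
  have hls : Sheaf.IsLocallySurjective (CGrpSh.ptsMap Scheme.fppfPrecoverage π) :=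
    (Sheaf.isLocallySurjective_iff_epi' (φ := CGrpSh.ptsMap Scheme.fppfPrecoverage π)).mpr hepi
  obtain ⟨φ', hφ', huniq⟩ := exists_unique_desc (QuotSh.J Scheme.fppfPrecoverage S) (powMap π n)
    (generate_powMap_mem Scheme.fppfPrecoverage π hls n) φ (by
      intro T a₁ a₂ h
      rw [← tuple_coords a₁, ← tuple_coords a₂] at h ⊢
      rw [tuple_powMap, tuple_powMap] at h
      exact hybrid Scheme.fppfPrecoverage j π w hex φ hmult halt hn hvan _ _
        (fun l => congrFun (tuple_injective h) l))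
  have hfac : ∀ (T : Over S) (x : Fin n → (T ⟶ M₂)),
      MultSch.tuple x ≫ φ = MultSch.tuple (fun l => x l ≫ π) ≫ φ' := by
    intro T x
    rw [← tuple_powMap, Category.assoc, hφ']
  -- local comparison
  have hloc : ∀ {T T' : Over S} (f : T' ⟶ T) (x : Fin n → (T ⟶ M₃)) (x' : Fin n → (T' ⟶ M₂)),
      (∀ l, x' l ≫ π = f ≫ x l) → f ≫ MultSch.tuple x ≫ φ' = MultSch.tuple x' ≫ φ := by
    intro T T' f x x' hx
    rw [← Category.assoc, Groth.Agent.S13634.comp_tuple, hfac]
    congr 2
    funext l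
    exact (hx l).symm
  have hmult' : MultSch.IsMultilinear φ' := by
    intro T x i y z
    obtain ⟨R', hR', hlift⟩ := Groth.Agent.S13634.exists_cover_lifts Scheme.fppfPrecoverage π hls
      (T := T) (r := n + 2) (Fin.snoc (Fin.snoc x y) z)
    apply ext_of_cover (QuotSh.J Scheme.fppfPrecoverage S) R' hR'
    intro T' f hf
    obtain ⟨t, ht⟩ := hlift f hf
    have hx : ∀ l : Fin n, t l.castSucc.castSucc ≫ π = f ≫ x l := by
      intro l
      have := ht l.castSucc.castSucc
      simpa using this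
    have hy : t (Fin.last n).castSucc ≫ π = f ≫ y := by
      have := ht (Fin.last n).castSucc
      simpa using this
    have hz : t (Fin.last (n + 1)) ≫ π = f ≫ z := by
      have := ht (Fin.last (n + 1))
      simpa using this
    have hyz : (t (Fin.last n).castSucc * t (Fin.last (n + 1))) ≫ π = f ≫ (y * z) := by
      rw [MonObj.mul_comp, MonObj.comp_mul, hy, hz]
    rw [MonObj.comp_mul,
      hloc f _ _ (lift_update f π x _ hx i (y * z) _ hyz),
      hloc f _ _ (lift_update f π x _ hx i y _ hy),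
      hloc f _ _ (lift_update f π x _ hx i z _ hz)]
    exact hmult _ _ _ _ _
  refine ⟨φ', hfac, hmult', ?_, ?_, ?_⟩
  · intro T x i a
    obtain ⟨R', hR', hlift⟩ := Groth.Agent.S13634.exists_cover_lifts Scheme.fppfPrecoverage π hls
      (T := T) (r := n) x
    apply ext_of_cover (QuotSh.J Scheme.fppfPrecoverage S) R' hR'
    intro T' f hf
    obtain ⟨t, ht⟩ := hlift f hf
    have hi : (t i ≫ ρ₂.act a) ≫ π = f ≫ (x i ≫ ρ₃.act a) := by
      rw [Category.assoc, ← hπ, ← Category.assoc, ht, Category.assoc]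
    rw [hloc f _ _ (lift_update f π x t ht i _ _ hi), ← Category.assoc, ← Category.assoc,
      Category.assoc f, hloc f x t ht]
    exact hlin _ _ _ _
  · apply Groth.Agent.S13634.result π hepi φ' hmult'
    intro T x i j hij hxij
    rw [← hfac]
    exact halt T x i j hij hxij
  · intro φ'' h
    apply huniq
    have := h (MultSch.pow M₂ n) (coords (𝟙 _))
    rw [tuple_coords, Category.id_comp, ← tuple_powMap, tuple_coords, Category.id_comp] at this
    exact this.symm


end Groth.Agent.Lib.helper16.MultDesc
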