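import Mathlib

/-!
# Counting generators along a closed stratum (helper16), algebra part

* `exists_generators_mod`: if `(R ⧸ I) ⊗ M` is generated by `n` elements over `R ⧸ I` then `n`
  elements of `M` generate `M` modulo `I • M`.
* `exists_annihilator_of_generators_mod`: Nakayama: if `M` is finite and `n` elements generate `M`
  modulo `I • M`, some `r ≡ 1 mod I` multiplies `M` into their span.
* `span_append_eq_top`: generators of a submodule and lifts of generators of the quotient.
-/

set_option autoImplicit false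
universe u
open Submodule TensorProduct

namespace Groth.Agent.Lib.helper16.NisGen

variable {R : Type*} [CommRing R] (I : Ideal R) {M : Type*} [AddCommGroup M] [Module R M]

theorem exists_generators_mod {n : ℕ} (t : Fin n → (R ⧸ I) ⊗[R] M)
    (ht : span (R ⧸ I) (Set.range t) = ⊤) :
    ∃ m : Fin n → M, span R (Set.range m) ⊔ I • (⊤ : Submodule R M) = ⊤ := by
  have hsurj : Function.Surjective (TensorProduct.mk R (R ⧸ I) M 1) := by
    intro z
    induction z using TensorProduct.induction_on with
    | zero => exact ⟨0, map_zero _⟩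
    | tmul a x =>
      obtain ⟨r, rfl⟩ := Ideal.Quotient.mk_surjective a
      refine ⟨r • x, ?_⟩
      rw [map_smul, TensorProduct.mk_apply, TensorProduct.smul_tmul']
      congr 1
      rw [Algebra.smul_def, mul_one]
      rfl
    | add a b ha hb =>
      obtain ⟨x, rfl⟩ := ha
      obtain ⟨y, rfl⟩ := hb
      exact ⟨x + y, map_add _ _ _⟩
  choose m hm using fun j => hsurj (t j)
  refine ⟨m, ?_⟩
  rw [eq_top_iff]
  intro x _
  -- `1 ⊗ x` is in the `R`-span of the `1 ⊗ m j`
  have h1 : (span (R ⧸ I) (Set.range t)).restrictScalars R = span R (Set.range t) :=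
    Submodule.restrictScalars_span R (R ⧸ I) Ideal.Quotient.mk_surjective _
  have h2 : TensorProduct.mk R (R ⧸ I) M 1 x ∈ span R (Set.range t) := by
    rw [← h1, ht]; trivial
  have h3 : Set.range t = (TensorProduct.mk R (R ⧸ I) M 1) '' Set.range m := by
    rw [← Set.range_comp]
    congr 1
    funext j
    exact (hm j).symm
  rw [h3, ← Submodule.map_span] at h2
  obtain ⟨y, hy, hxy⟩ := h2
  have h4 : (I • (⊤ : Submodule R M)).mkQ (x - y) = 0 := by
    have := congrArg (quotTensorEquivQuotSMul M I) hxy
    rw [TensorProduct.mk_apply, TensorProduct.mk_apply, quotTensorEquivQuotSMul_mk_one_tmul,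
      quotTensorEquivQuotSMul_mk_one_tmul] at this
    rw [map_sub, Submodule.mkQ_apply, Submodule.mkQ_apply, this, sub_self]
  have h5 : x - y ∈ I • (⊤ : Submodule R M) := by
    rwa [Submodule.mkQ_apply, Submodule.Quotient.mk_eq_zero] at h4
  have : x = y + (x - y) := by abel
  rw [this]
  exact Submodule.add_mem_sup hy h5

theorem exists_annihilator_of_generators_mod [Module.Finite R M] (P : Submodule R M)
    (h : P ⊔ I • (⊤ : Submodule R M) = ⊤) :
    ∃ r : R, r - 1 ∈ I ∧ ∀ x : M, r • x ∈ P := by
  have hfg : (⊤ : Submodule R (M ⧸ P)).FG := Module.Finite.fg_top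
  have hle : (⊤ : Submodule R (M ⧸ P)) ≤ I • ⊤ := by
    rintro z -
    obtain ⟨x, rfl⟩ := P.mkQ_surjective z
    have hx : x ∈ P ⊔ I • (⊤ : Submodule R M) := by rw [h]; exact Submodule.mem_top
    obtain ⟨p, hp, q, hq, rfl⟩ := Submodule.mem_sup.mp hx
    rw [map_add, (Submodule.mkQ_apply P p).trans ((Submodule.Quotient.mk_eq_zero P).mpr hp), zero_add]
    have : P.mkQ q ∈ (I • (⊤ : Submodule R M)).map P.mkQ := ⟨q, hq, rfl⟩
    rw [Submodule.map_smul''] at this
    exact Submodule.smul_mono le_rfl le_top this
  obtain ⟨r, hr1, hr2⟩ :=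
    Submodule.exists_sub_one_mem_and_smul_eq_zero_of_fg_of_le_smul I ⊤ hfg hle
  refine ⟨r, hr1, fun x => ?_⟩
  have := hr2 (P.mkQ x) Submodule.mem_top
  rwa [← map_smul, Submodule.mkQ_apply, Submodule.Quotient.mk_eq_zero] at this

theorem span_append_eq_top {n k : ℕ} (m : Fin n → M) (x : Fin k → M)
    (h : span R (Set.range fun j => (span R (Set.range m)).mkQ (x j)) = ⊤) :
    span R (Set.range (Fin.append m x)) = ⊤ := by
  rw [eq_top_iff]
  intro z _
  have hz : (span R (Set.range m)).mkQ z ∈
      span R (Set.range fun j => (span R (Set.range m)).mkQ (x j)) := h ▸ Submodule.mem_top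
  have h1 : (Set.range fun j => (span R (Set.range m)).mkQ (x j)) =
      (span R (Set.range m)).mkQ '' Set.range x := by
    rw [← Set.range_comp]; rfl
  rw [h1, ← Submodule.map_span] at hz
  obtain ⟨y, hy, hyz⟩ := hz
  have h2 : z - y ∈ span R (Set.range m) := by
    rw [← Submodule.Quotient.mk_eq_zero, Submodule.Quotient.mk_sub]
    have : Submodule.Quotient.mk (p := span R (Set.range m)) y = Submodule.Quotient.mk z := hyz
    rw [this, sub_self]
  have hm : span R (Set.range m) ≤ span R (Set.range (Fin.append m x)) := by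
    refine Submodule.span_mono ?_
    rintro _ ⟨i, rfl⟩
    exact ⟨Fin.castAdd k i, Fin.append_left m x i⟩
  have hx : span R (Set.range x) ≤ span R (Set.range (Fin.append m x)) := by
    refine Submodule.span_mono ?_
    rintro _ ⟨i, rfl⟩
    exact ⟨Fin.natAdd n i, Fin.append_right m x i⟩
  have : z = (z - y) + y := by abel
  rw [this]
  exact Submodule.add_mem _ (hm h2) (hx hy)

end Groth.Agent.Lib.helper16.NisGen
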