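import Groth.Agent.Lib.Helper16.NisGen1
import Groth.Agent.Lib.Helper16.GenCover2
import Groth.Agent.Lib.Helper16.FLF5
import Groth.Agent.Lib.Helper16.QCohPullback

/-!
# Counting generators along a closed stratum (helper16), geometric part

* `exists_epi_pullback_comp`: an epimorphism `𝒪_U^n ⟶ f^*F` pulls back along `s : T ⟶ U` to an
  epimorphism `𝒪_T^n ⟶ (s ≫ f)^*F`.
* `exists_generators_of_epi_tilde`: an epimorphism `𝒪^n ⟶ E~` on `Spec S` gives `n` generators of `E`.
* `exists_generators_extendScalars`: an epimorphism `𝒪^n ⟶ (Spec ρ)^* M~` gives `n` generators of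
  `S ⊗_R M`.
-/

set_option autoImplicit false
universe u
open CategoryTheory CategoryTheory.Limits AlgebraicGeometry TopologicalSpace Opposite

namespace Groth.Agent.Lib.helper16.NisGen

open Scheme.Modules Groth.Agent.Lib.helper16.FLF Groth.Agent.Lib.helper16.QCohPullback
  Groth.Agent.Lib.helper16.GenCover

instance pullback_preservesEpi {X Y : Scheme.{u}} (f : X ⟶ Y) :
    (Scheme.Modules.pullback f).PreservesEpimorphisms :=
  Functor.preservesEpimorphisms_of_adjunction (Scheme.Modules.pullbackPushforwardAdjunction f)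

theorem exists_epi_pullback_comp {T U Y : Scheme.{u}} (s : T ⟶ U) (f : U ⟶ Y) (F : Y.Modules)
    (n : ℕ) (φ : FlatMod.freeMod U n ⟶ (Scheme.Modules.pullback f).obj F) [Epi φ] :
    ∃ φ' : FlatMod.freeMod T n ⟶ (Scheme.Modules.pullback (s ≫ f)).obj F, Epi φ' := by
  haveI : Epi ((Scheme.Modules.pullback s).map φ) := inferInstance
  exact ⟨(pullbackFreeModIso s n).inv ≫ (Scheme.Modules.pullback s).map φ ≫
    (Scheme.Modules.pullbackComp s f).hom.app F, inferInstance⟩

theorem exists_epi_pullback_of_eq {T U Y : Scheme.{u}} (s : T ⟶ U) (f : U ⟶ Y) (g : T ⟶ Y)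
    (h : s ≫ f = g) (F : Y.Modules)
    (n : ℕ) (φ : FlatMod.freeMod U n ⟶ (Scheme.Modules.pullback f).obj F) [Epi φ] :
    ∃ φ' : FlatMod.freeMod T n ⟶ (Scheme.Modules.pullback g).obj F, Epi φ' := by
  subst h
  exact exists_epi_pullback_comp s f F n φ

theorem exists_generators_of_epi_tilde (S : CommRingCat.{u}) (E : ModuleCat.{u} S) (n : ℕ)
    (φ : FlatMod.freeMod (Spec S) n ⟶ tilde E) [Epi φ] :
    ∃ s : Fin n → E, Submodule.span S (Set.range s) = ⊤ := by
  obtain ⟨t, ht⟩ := exists_generators_of_epi φ (W := PrimeSpectrum.basicOpen (1 : S))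
    (IsAffineOpen.Spec_basicOpen (1 : S))
  let f : E →ₗ[S] Γ(tilde E, PrimeSpectrum.basicOpen (1 : S)) :=
    (tilde.toOpen E (PrimeSpectrum.basicOpen (1 : S))).hom
  haveI : IsLocalizedModule (Submonoid.powers (1 : S)) f :=
    inferInstanceAs (IsLocalizedModule.Away (1 : S)
      (tilde.toOpen E (PrimeSpectrum.basicOpen (1 : S))).hom)
  obtain ⟨m, hm⟩ := exists_lift_generators (1 : S) Γ(Spec S, PrimeSpectrum.basicOpen (1 : S))
    (M' := Γ(tilde E, PrimeSpectrum.basicOpen (1 : S))) f t ht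
  refine ⟨m, ?_⟩
  rw [eq_top_iff]
  intro x _
  obtain ⟨N, hN⟩ := hm x
  simpa using hN

theorem exists_generators_extendScalars {R S : CommRingCat.{u}} (ρ : R ⟶ S) (M : ModuleCat.{u} R)
    (n : ℕ)
    (φ : FlatMod.freeMod (Spec S) n ⟶ (Scheme.Modules.pullback (Spec.map ρ)).obj (tilde M))
    [Epi φ] :
    ∃ s : Fin n → ((ModuleCat.extendScalars ρ.hom).obj M),
      Submodule.span S (Set.range s) = ⊤ := by
  let e : (Scheme.Modules.pullback (Spec.map ρ)).obj (tilde M) ≅
      tilde ((ModuleCat.extendScalars ρ.hom).obj M) := (tildePullbackIso ρ).app M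
  haveI : Epi (φ ≫ e.hom) := inferInstance
  exact exists_generators_of_epi_tilde S _ n (φ ≫ e.hom)

end Groth.Agent.Lib.helper16.NisGen
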