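import Groth.Agent.Lib.Helper16.NisGen2
import Groth.Prelude.Def_W4c5algebraiztannakaNis

/-!
# Counting generators along a Nisnevich cover of bounded length (helper16)

* `exists_generators_mod'`: version of `exists_generators_mod` for a surjective algebra.
* `isNisCoverLen_pullback_shift`: base change of a Nisnevich cover of length `≤ m + 1` along a morphism
  missing the first stratum is a Nisnevich cover of length `≤ m`.
* `exists_generators_of_nisCover`: `M` finite over `R`, `f : U ⟶ Spec R` a Nisnevich cover of length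
  `≤ m` with `f^* M~` a quotient of `𝒪_U^N`: `M` is generated by `N * m` elements.
-/

set_option autoImplicit false
universe u
open CategoryTheory CategoryTheory.Limits AlgebraicGeometry TopologicalSpace Opposite
open TensorProduct Topology

namespace Groth.Agent.Lib.helper16.NisGen

section algebra

variable {R : Type*} [CommRing R] {S : Type*} [CommRing S] [Algebra R S]
  {M : Type*} [AddCommGroup M] [Module R M]

theorem exists_generators_mod' (hS : Function.Surjective (algebraMap R S)) {n : ℕ}
    (t : Fin n → S ⊗[R] M) (ht : Submodule.span S (Set.range t) = ⊤) :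
    ∃ m : Fin n → M, Submodule.span R (Set.range m) ⊔
      (RingHom.ker (algebraMap R S)) • (⊤ : Submodule R M) = ⊤ := by
  set I := RingHom.ker (algebraMap R S) with hI
  let e : (R ⧸ I) ≃ₐ[R] S := Ideal.quotientKerAlgEquivOfSurjective (f := Algebra.ofId R S) hS
  let Φ : (R ⧸ I) ⊗[R] M ≃ₗ[R] S ⊗[R] M :=
    TensorProduct.congr e.toLinearEquiv (LinearEquiv.refl R M)
  have hΦ : ∀ (a : R ⧸ I) (z : (R ⧸ I) ⊗[R] M), Φ (a • z) = e a • Φ z := by
    intro a z
    induction z using TensorProduct.induction_on with
    | zero => simp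
    | tmul b x =>
      rw [TensorProduct.smul_tmul', TensorProduct.congr_tmul, TensorProduct.congr_tmul,
        TensorProduct.smul_tmul']
      simp
    | add y z hy hz => rw [smul_add, map_add, map_add, smul_add, hy, hz]
  -- transport the generators
  let t' : Fin n → (R ⧸ I) ⊗[R] M := fun j => Φ.symm (t j)
  have ht' : Submodule.span (R ⧸ I) (Set.range t') = ⊤ := by
    rw [eq_top_iff]
    intro z _
    have hz : Φ z ∈ Submodule.span S (Set.range t) := ht ▸ Submodule.mem_top
    have key : ∀ w ∈ Submodule.span S (Set.range t),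
        Φ.symm w ∈ Submodule.span (R ⧸ I) (Set.range t') := by
      intro w hw
      induction hw using Submodule.span_induction with
      | mem y hy =>
        obtain ⟨j, rfl⟩ := hy
        exact Submodule.subset_span ⟨j, rfl⟩
      | zero => rw [map_zero]; exact Submodule.zero_mem _
      | add y z _ _ hy hz => rw [map_add]; exact Submodule.add_mem _ hy hz
      | smul a y _ hy =>
        obtain ⟨b, rfl⟩ := e.surjective a
        have : Φ.symm (e b • y) = b • Φ.symm y := by
          apply Φ.injective
          rw [hΦ, LinearEquiv.apply_symm_apply, LinearEquiv.apply_symm_apply]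
        rw [this]
        exact Submodule.smul_mem _ _ hy
    have := key _ hz
    rwa [LinearEquiv.symm_apply_apply] at this
  exact exists_generators_mod I t' ht'

end algebra

section geometry

open W4c5algebraiztannaka

theorem isNisCoverLen_pullback_shift {U Y Y' : Scheme.{u}} (f : U ⟶ Y) (g : Y' ⟶ Y) (m : ℕ)
    (hét : Etale f) (Z : Fin (m + 1 + 1) → Set Y) (hZm : Z (Fin.last (m + 1)) = Set.univ)
    (hmono : Monotone Z) (hZ : ∀ k, IsClosed (Z k) ∧ IsConstructible (Z k))
    (hsec : ∀ k : Fin (m + 1), HasSectOver f (Z k.succ \ Z k.castSucc))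
    (hempty : g ⁻¹' (Z 1) = ∅) :
    IsNisCoverLen (pullback.snd f g) m := by
  refine ⟨inferInstance, fun k => g ⁻¹' (Z k.succ), ?_, ?_, ?_, ?_, ?_⟩
  · change g ⁻¹' (Z (0 : Fin (m + 1)).succ) = ∅
    rw [Fin.succ_zero_eq_one]
    exact hempty
  · change g ⁻¹' (Z (Fin.last m).succ) = Set.univ
    rw [Fin.succ_last, hZm, Set.preimage_univ]
  · intro a b hab
    exact Set.preimage_mono (hmono (Fin.succ_le_succ_iff.mpr hab))
  · intro k
    exact ⟨(hZ _).1.preimage g.continuous, g.isConstructible_preimage (hZ _).2⟩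
  · intro k
    obtain ⟨T, i, s, hi, hrange, hs⟩ := hsec k.succ
    refine ⟨pullback i g, pullback.snd i g,
      pullback.lift (pullback.fst i g ≫ s) (pullback.snd i g) ?_, inferInstance, ?_, ?_⟩
    · rw [Category.assoc, hs, pullback.condition]
    · change _ = g ⁻¹' (Z k.succ.succ) \ g ⁻¹' (Z k.castSucc.succ)
      rw [← Set.preimage_sdiff, Fin.succ_castSucc, ← hrange]
      exact Scheme.Pullback.range_snd i g
    · exact pullback.lift_snd _ _ _

open Scheme.Modules Groth.Agent.Lib.helper16.QCohPullback in
/-- the inductive statement -/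
theorem exists_generators_of_nisCover (N : ℕ) : ∀ (m : ℕ) (R : CommRingCat.{u})
    (M : ModuleCat.{u} R) [Module.Finite R M] {U : Scheme.{u}} [CompactSpace U]
    [QuasiSeparatedSpace U] (f : U ⟶ Spec R), IsNisCoverLen f m →
    (∃ φ : FlatMod.freeMod U N ⟶ (Scheme.Modules.pullback f).obj (tilde M), Epi φ) →
    ∃ s : Fin (N * m) → M, Submodule.span R (Set.range s) = ⊤ := by
  intro m
  induction m with
  | zero =>
    intro R M _ U _ _ f hf _
    obtain ⟨-, Z, hZ0, hZm, -, -, -⟩ := hf
    have hempty : IsEmpty (Spec R) := by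
      refine ⟨fun x => ?_⟩
      have hx : x ∈ Z (Fin.last 0) := hZm ▸ Set.mem_univ x
      have h0 : Fin.last 0 = 0 := rfl
      rw [h0, hZ0] at hx
      exact hx
    haveI : Subsingleton R := by
      by_contra h
      rw [not_subsingleton_iff_nontrivial] at h
      obtain ⟨p⟩ := (inferInstance : Nonempty (PrimeSpectrum R))
      exact hempty.false p
    haveI : Subsingleton M := Module.subsingleton R M
    exact ⟨fun i => i.elim0, Subsingleton.elim _ _⟩
  | succ m ih =>
    intro R M _ U _ _ f hf hgen
    obtain ⟨hét, Z, hZ0, hZm, hmono, hZ, hsec⟩ := hf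
    obtain ⟨φ, hφ⟩ := hgen
    -- the first stratum
    obtain ⟨T, g, s, hg, hrange, hs⟩ := hsec 0
    have hrange' : Set.range g = Z 1 := by
      have h1 : (0 : Fin (m + 1)).succ = 1 := Fin.succ_zero_eq_one
      have h2 : (0 : Fin (m + 1)).castSucc = 0 := Fin.castSucc_zero
      rw [h1, h2, hZ0, Set.sdiff_empty] at hrange
      exact hrange
    haveI : IsClosedImmersion g :=
      IsClosedImmersion.of_isPreimmersion g (hrange' ▸ (hZ 1).1)
    obtain ⟨I, e, hge⟩ := IsClosedImmersion.Spec_iff.mp (inferInstance : IsClosedImmersion g)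
    have hs' : (e.inv ≫ s) ≫ f = Spec.map (CommRingCat.ofHom (Ideal.Quotient.mk I)) := by
      rw [Category.assoc, hs, hge, Iso.inv_hom_id_assoc]
    obtain ⟨φ', hφ'⟩ := exists_epi_pullback_of_eq (e.inv ≫ s) f _ hs' (tilde M) N φ
    obtain ⟨t, ht⟩ := exists_generators_extendScalars
      (CommRingCat.ofHom (Ideal.Quotient.mk I)) M N φ'
    letI algI : Algebra R (R ⧸ I) := (Ideal.Quotient.mk I).toAlgebra
    have hkerI : RingHom.ker (algebraMap R (R ⧸ I)) = I := Ideal.mk_ker
    obtain ⟨m₁, hm₁⟩ := exists_generators_mod' (R := R) (S := R ⧸ I) (M := M)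
      Ideal.Quotient.mk_surjective t ht
    rw [hkerI] at hm₁
    set P : Submodule R M := Submodule.span R (Set.range m₁) with hP
    obtain ⟨r, hr1, hr2⟩ := exists_annihilator_of_generators_mod I P hm₁
    -- base change to `R ⧸ (r)`
    let J : Ideal R := Ideal.span {r}
    let ρ : R ⟶ CommRingCat.of (R ⧸ J) := CommRingCat.ofHom (Ideal.Quotient.mk J)
    let M' : ModuleCat.{u} R := ModuleCat.of R (M ⧸ P)
    have hemptyJ : (Spec.map ρ) ⁻¹' (Z 1) = ∅ := by
      rw [Set.eq_empty_iff_forall_notMem]
      intro x hx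
      rw [Set.mem_preimage, ← hrange', hge] at hx
      obtain ⟨y, hy⟩ := hx
      -- the prime `(Spec.map ρ) x` contains `I` and `r`
      have hI : I ≤ ((Spec.map ρ) x).asIdeal := by
        rw [← hy]
        change I ≤ ((Spec.map (CommRingCat.ofHom (Ideal.Quotient.mk I))) (e.hom y)).asIdeal
        intro a ha
        change Ideal.Quotient.mk I a ∈ (e.hom y).asIdeal
        rw [Ideal.Quotient.eq_zero_iff_mem.mpr ha]
        exact Ideal.zero_mem _
      have hr : r ∈ ((Spec.map ρ) x).asIdeal := by
        change Ideal.Quotient.mk J r ∈ x.asIdeal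
        rw [Ideal.Quotient.eq_zero_iff_mem.mpr (Ideal.mem_span_singleton_self r)]
        exact Ideal.zero_mem _
      have h1 : (1 : R) ∈ ((Spec.map ρ) x).asIdeal := by
        have : (1 : R) = r - (r - 1) := by ring
        rw [this]
        exact Ideal.sub_mem _ hr (hI hr1)
      exact ((Spec.map ρ) x).isPrime.ne_top ((Ideal.eq_top_iff_one _).mpr h1)
    have hNis : IsNisCoverLen (pullback.snd f (Spec.map ρ)) m :=
      isNisCoverLen_pullback_shift f (Spec.map ρ) m hét Z hZm hmono hZ hsec hemptyJ
    -- the generating epimorphism after base change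
    let π : M ⟶ M' := ModuleCat.ofHom P.mkQ
    haveI : Epi π := (ModuleCat.epi_iff_surjective π).mpr P.mkQ_surjective
    haveI : (tilde.functor R).PreservesEpimorphisms :=
      Functor.preservesEpimorphisms_of_adjunction tilde.adjunction
    haveI : Epi ((tilde.functor R).map π) := inferInstance
    have hπ' : Epi ((Scheme.Modules.pullback f).map ((tilde.functor R).map π)) :=
      Functor.map_epi _ _
    let ψ : FlatMod.freeMod U N ⟶ (Scheme.Modules.pullback f).obj (tilde M') :=
      φ ≫ (Scheme.Modules.pullback f).map ((tilde.functor R).map π)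
    haveI : Epi ψ := epi_comp' hφ hπ'
    obtain ⟨ψ', hψ'⟩ := exists_epi_pullback_of_eq (pullback.fst f (Spec.map ρ)) f
      (pullback.snd f (Spec.map ρ) ≫ Spec.map ρ) pullback.condition (tilde M') N ψ
    let ε : (Scheme.Modules.pullback (pullback.snd f (Spec.map ρ) ≫ Spec.map ρ)).obj (tilde M') ≅
        (Scheme.Modules.pullback (pullback.snd f (Spec.map ρ))).obj
          (tilde ((ModuleCat.extendScalars ρ.hom).obj M')) :=
      ((Scheme.Modules.pullbackComp (pullback.snd f (Spec.map ρ)) (Spec.map ρ)).app
        (tilde M')).symm ≪≫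
      (Scheme.Modules.pullback (pullback.snd f (Spec.map ρ))).mapIso ((tildePullbackIso ρ).app M')
    haveI : Epi (ψ' ≫ ε.hom) := epi_comp _ _
    -- qcqs
    haveI : CompactSpace ↥(pullback f (Spec.map ρ)) :=
      QuasiCompact.compactSpace_of_compactSpace (pullback.fst f (Spec.map ρ))
    haveI : QuasiSeparatedSpace ↥(pullback f (Spec.map ρ)) :=
      quasiSeparatedSpace_of_quasiSeparated (pullback.fst f (Spec.map ρ))
    letI algJ : Algebra R (R ⧸ J) := (Ideal.Quotient.mk J).toAlgebra
    haveI : Module.Finite R (M ⧸ P) := Module.Finite.of_surjective P.mkQ P.mkQ_surjective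
    haveI : Module.Finite (R ⧸ J) ((ModuleCat.extendScalars ρ.hom).obj M') :=
      Module.Finite.base_change R (R ⧸ J) (M ⧸ P)
    obtain ⟨t₂, ht₂⟩ := ih (CommRingCat.of (R ⧸ J)) ((ModuleCat.extendScalars ρ.hom).obj M')
      (pullback.snd f (Spec.map ρ)) hNis ⟨ψ' ≫ ε.hom, inferInstance⟩
    have hkerJ : RingHom.ker (algebraMap R (R ⧸ J)) = J := Ideal.mk_ker
    obtain ⟨x', hx'⟩ := exists_generators_mod' (R := R) (S := R ⧸ J) (M := M ⧸ P)
      Ideal.Quotient.mk_surjective t₂ ht₂
    rw [hkerJ] at hx'
    have hJ0 : J • (⊤ : Submodule R (M ⧸ P)) = ⊥ := by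
      rw [eq_bot_iff, Submodule.smul_le]
      intro a ha z _
      obtain ⟨c, rfl⟩ := Ideal.mem_span_singleton'.mp ha
      obtain ⟨y, rfl⟩ := P.mkQ_surjective z
      rw [Submodule.mem_bot, ← _root_.map_smul, Submodule.mkQ_apply, Submodule.Quotient.mk_eq_zero,
        mul_smul]
      exact P.smul_mem c (hr2 y)
    rw [hJ0, sup_bot_eq] at hx'
    choose x hx using fun j => P.mkQ_surjective (x' j)
    have hfin : Submodule.span R (Set.range (Fin.append m₁ x)) = ⊤ := by
      apply span_append_eq_top
      rw [← hx']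
      congr 2
      funext j
      exact hx j
    have hNm : N + N * m = N * (m + 1) := by ring
    refine ⟨Fin.append m₁ x ∘ Fin.cast hNm.symm, ?_⟩
    have hsurj : Function.Surjective (Fin.cast hNm.symm) := (finCongr hNm.symm).surjective
    rw [hsurj.range_comp]
    exact hfin

end geometry

end Groth.Agent.Lib.helper16.NisGen
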