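import Mathlib

/-!
# Rings without embedded associated primes (helper16)

* `NoEmbRing R`: the associated primes of `R` are pairwise incomparable.
* `eq_of_le_of_comap_bot`: incomparability for primes lying over `0` in an algebraic extension of a
  domain.
* `noEmbRing_of_isAlgebraic`: a torsion-free algebraic algebra over a domain has no embedded primes.
* `NoEmbRing.of_ringEquiv`: transfer along ring isomorphisms.
-/

set_option autoImplicit false
universe u
open TensorProduct Polynomial

namespace Groth.Agent.Lib.helper16.NoEmb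

/-- a ring has no embedded associated primes -/
def NoEmbRing (R : Type*) [CommRing R] : Prop :=
  ∀ p ∈ associatedPrimes R R, ∀ q ∈ associatedPrimes R R, q ≤ p → q = p

theorem mem_ass_iff' {R : Type*} [CommRing R] (p : Ideal R) :
    p ∈ associatedPrimes R R ↔ p.IsPrime ∧ ∃ r : R, ∀ a : R, a ∈ p ↔ ∃ n : ℕ, a ^ n * r = 0 := by
  constructor
  · rintro ⟨hpp, r, hr⟩
    refine ⟨hpp, r, fun a => ?_⟩
    rw [hr]
    constructor
    · rintro ⟨n, hn⟩
      rw [Submodule.mem_colon_singleton] at hn
      exact ⟨n, by simpa using hn⟩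
    · rintro ⟨n, hn⟩
      refine ⟨n, ?_⟩
      rw [Submodule.mem_colon_singleton]
      simpa using hn
  · rintro ⟨hpp, r, hr⟩
    refine ⟨hpp, r, ?_⟩
    ext a
    rw [hr a]
    constructor
    · rintro ⟨n, hn⟩
      refine ⟨n, ?_⟩
      rw [Submodule.mem_colon_singleton]
      simpa using hn
    · rintro ⟨n, hn⟩
      rw [Submodule.mem_colon_singleton] at hn
      exact ⟨n, by simpa using hn⟩

theorem comap_eq_bot_of_mem_ass {D R : Type*} [CommRing D] [IsDomain D] [CommRing R] [Algebra D R]
    (htf : ∀ d : D, d ≠ 0 → ∀ r : R, algebraMap D R d * r = 0 → r = 0)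
    {p : Ideal R} (hp : p ∈ associatedPrimes R R) (d : D) (hd : algebraMap D R d ∈ p) : d = 0 := by
  obtain ⟨hpp, r, hr⟩ := (mem_ass_iff' p).1 hp
  by_contra hd0
  obtain ⟨n, hn⟩ := (hr _).1 hd
  have h1 : algebraMap D R (d ^ n) * r = 0 := by rw [map_pow]; exact hn
  have h2 : r = 0 := htf (d ^ n) (pow_ne_zero n hd0) r h1
  apply hpp.ne_top
  rw [Ideal.eq_top_iff_one]
  rw [hr 1]
  exact ⟨0, by rw [h2, mul_zero]⟩

theorem eq_of_le_of_comap_bot {D R : Type*} [CommRing D] [IsDomain D] [CommRing R] [Algebra D R]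
    [Algebra.IsAlgebraic D R] {p q : Ideal R} [p.IsPrime] [hq : q.IsPrime]
    (hp : ∀ d : D, algebraMap D R d ∈ p → d = 0) (hqp : q ≤ p) : q = p := by
  by_contra hne
  obtain ⟨x, hxp, hxq⟩ : ∃ x ∈ p, x ∉ q := by
    by_contra hcon
    push_neg at hcon
    exact hne (le_antisymm hqp hcon)
  have hex : ∃ n : ℕ, ∃ f : D[X], f ≠ 0 ∧ aeval x f ∈ q ∧ f.natDegree = n := by
    obtain ⟨f, hf0, hf⟩ := Algebra.IsAlgebraic.isAlgebraic (R := D) x
    exact ⟨_, f, hf0, by rw [hf]; exact q.zero_mem, rfl⟩
  classical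
  obtain ⟨f, hf0, hfq, hfn⟩ := Nat.find_spec hex
  have hmin := fun m hm => Nat.find_min hex (m := m) hm
  have hdecomp : f = divX f * X + C (f.coeff 0) := (divX_mul_X_add f).symm
  by_cases hd : f.coeff 0 = 0
  · have h1 : f = divX f * X := by
      rw [hd, C_0, add_zero] at hdecomp
      exact hdecomp
    have h2 : divX f ≠ 0 := by
      intro h
      rw [h, zero_mul] at h1
      exact hf0 h1
    have h3 : aeval x (divX f) * x ∈ q := by
      have : aeval x f = aeval x (divX f) * x := by
        conv_lhs => rw [h1]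
        simp
      rwa [this] at hfq
    have h4 : aeval x (divX f) ∈ q := (hq.mem_or_mem h3).resolve_right hxq
    have h5 : (divX f).natDegree < Nat.find hex := by
      rw [← hfn]
      conv_rhs => rw [h1]
      rw [natDegree_mul_X h2]
      omega
    exact hmin _ h5 ⟨divX f, h2, h4, rfl⟩
  · have h1 : aeval x f = aeval x (divX f) * x + algebraMap D R (f.coeff 0) := by
      conv_lhs => rw [hdecomp]
      simp
    have h2 : algebraMap D R (f.coeff 0) ∈ p := by
      have h3 : aeval x f ∈ p := hqp hfq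
      rw [h1] at h3
      have h4 : aeval x (divX f) * x ∈ p := p.mul_mem_left _ hxp
      exact (Submodule.add_mem_iff_right p h4).mp h3
    exact hd (hp _ h2)

theorem noEmbRing_of_isAlgebraic (D R : Type*) [CommRing D] [IsDomain D] [CommRing R] [Algebra D R]
    [Algebra.IsAlgebraic D R]
    (htf : ∀ d : D, d ≠ 0 → ∀ r : R, algebraMap D R d * r = 0 → r = 0) : NoEmbRing R := by
  intro p hp q hq hqp
  haveI := hp.isPrime
  haveI := hq.isPrime
  exact eq_of_le_of_comap_bot (D := D) (fun d hd => comap_eq_bot_of_mem_ass htf hp d hd) hqp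

theorem comap_mem_ass {R S : Type*} [CommRing R] [CommRing S] (e : R ≃+* S) {p : Ideal R}
    (hp : p ∈ associatedPrimes R R) :
    p.comap (e.symm : S →+* R) ∈ associatedPrimes S S := by
  obtain ⟨hpp, r, hr⟩ := (mem_ass_iff' p).1 hp
  rw [mem_ass_iff']
  refine ⟨Ideal.comap_isPrime _ _, e r, fun a => ?_⟩
  rw [Ideal.mem_comap, hr]
  constructor
  · rintro ⟨n, hn⟩
    refine ⟨n, ?_⟩
    have := congrArg e hn
    simpa using this
  · rintro ⟨n, hn⟩
    refine ⟨n, ?_⟩
    apply e.injective
    simpa using hn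

theorem NoEmbRing.of_ringEquiv {R S : Type*} [CommRing R] [CommRing S] (e : R ≃+* S)
    (h : NoEmbRing S) : NoEmbRing R := by
  intro p hp q hq hqp
  have h1 := h _ (comap_mem_ass e hp) _ (comap_mem_ass e hq) (Ideal.comap_mono hqp)
  ext a
  have h2 : e a ∈ q.comap (e.symm : S →+* R) ↔ e a ∈ p.comap (e.symm : S →+* R) := by rw [h1]
  simpa using h2

end Groth.Agent.Lib.helper16.NoEmb
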