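import Mathlib
import Groth.Agent.Lib.Helper16.NoEmb1

/-!
# The tensor product of two domains over a field has no embedded primes (helper16)
-/

set_option autoImplicit false
universe u
open TensorProduct Polynomial

namespace Groth.Agent.Lib.helper16.NoEmb

/-- torsion-freeness of `D ⊗[C] B` over `D` for `D` flat over `C` and `C ⊆ B` domains. -/
theorem tf_tensor {C B D : Type*} [CommRing C] [CommRing B] [CommRing D] [IsDomain C] [IsDomain B]
    [IsDomain D] [Algebra C B] [FaithfulSMul C B] [Algebra C D] [Module.Flat C D]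
    (d : D) (hd : d ≠ 0) (r : D ⊗[C] B) (hr : algebraMap D (D ⊗[C] B) d * r = 0) : r = 0 := by
  let L := FractionRing B
  haveI : FaithfulSMul B L := (faithfulSMul_iff_algebraMap_injective B L).mpr
    (IsFractionRing.injective B L)
  haveI : FaithfulSMul C L := FaithfulSMul.trans C B L
  letI := FractionRing.liftAlgebra C L
  haveI : IsScalarTower C (FractionRing C) L := FractionRing.isScalarTower_liftAlgebra C L
  haveI : Module.Flat C (FractionRing C) := IsLocalization.flat _ (nonZeroDivisors C)
  haveI : Module.Flat C L := Module.Flat.trans C (FractionRing C) L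
  let ι : B →ₗ[C] L := (IsScalarTower.toAlgHom C B L).toLinearMap
  have hι : Function.Injective ι := IsFractionRing.injective B L
  let m : D →ₗ[C] D := LinearMap.mulLeft C d
  have hm : Function.Injective m := fun a b hab => mul_left_cancel₀ hd hab
  have hf2 : Function.Injective (ι.lTensor D) :=
    Module.Flat.lTensor_preserves_injective_linearMap ι hι
  have hf3 : Function.Injective (m.rTensor L) :=
    Module.Flat.rTensor_preserves_injective_linearMap m hm
  have hf1 : ∀ s : D ⊗[C] B, m.rTensor B s = algebraMap D (D ⊗[C] B) d * s := by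
    intro s
    induction s using TensorProduct.induction_on with
    | zero => simp
    | tmul a b =>
      rw [LinearMap.rTensor_tmul, Algebra.TensorProduct.algebraMap_apply,
        Algebra.TensorProduct.tmul_mul_tmul, one_mul]
      rfl
    | add s t hs ht => rw [map_add, hs, ht, mul_add]
  have hsq : ι.lTensor D (m.rTensor B r) = m.rTensor L (ι.lTensor D r) := by
    have h1 := LinearMap.lTensor_comp_rTensor (R := C) D m ι
    have h2 := LinearMap.rTensor_comp_lTensor (R := C) D m ι
    have h3 := congrArg (fun φ => φ r) (h1.trans h2.symm)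
    exact h3
  have h4 : m.rTensor L (ι.lTensor D r) = 0 := by
    rw [← hsq, hf1, hr, map_zero]
  have h5 : ι.lTensor D r = 0 := hf3 (by rw [h4, map_zero])
  exact hf2 (by rw [h5, map_zero])

theorem noEmbRing_tensor_of_isAlgebraic {C B D : Type*} [CommRing C] [CommRing B] [CommRing D]
    [IsDomain C] [IsDomain B] [IsDomain D] [Algebra C B] [FaithfulSMul C B] [Algebra C D]
    [Module.Flat C D] [FaithfulSMul C D] [Algebra.IsAlgebraic C B] : NoEmbRing (D ⊗[C] B) :=
  noEmbRing_of_isAlgebraic D (D ⊗[C] B) (fun d hd r hr => tf_tensor d hd r hr)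

end Groth.Agent.Lib.helper16.NoEmb

namespace Groth.Agent.Lib.helper16.NoEmb

/-- **Main ring statement**: the tensor product of two domains over a field has no embedded
associated primes. -/
theorem noEmbRing_tensor (k A B : Type u) [Field k] [CommRing A] [CommRing B] [IsDomain A]
    [IsDomain B] [Algebra k A] [Algebra k B] : NoEmbRing (A ⊗[k] B) := by
  obtain ⟨ι, x, hx⟩ := exists_isTranscendenceBasis' k B
  let C : Subalgebra k B := Algebra.adjoin k (Set.range x)
  haveI : Algebra.IsAlgebraic C B := hx.isAlgebraic
  let D := C ⊗[k] A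
  let eD : D ≃ₐ[k] MvPolynomial ι A :=
    (Algebra.TensorProduct.comm k C A).trans
      ((Algebra.TensorProduct.congr (AlgEquiv.refl (R := k) (A₁ := A)) hx.1.aevalEquiv.symm).trans
        (MvPolynomial.scalarRTensorAlgEquiv.restrictScalars k))
  haveI : IsDomain D := MulEquiv.isDomain (MvPolynomial ι A) eD.toMulEquiv
  haveI : FaithfulSMul C D := (faithfulSMul_iff_algebraMap_injective C D).mpr
    (Algebra.TensorProduct.includeLeft_injective (R := k) (S := C) (A := C) (B := A)
      (FaithfulSMul.algebraMap_injective k A))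
  have h1 : NoEmbRing (D ⊗[C] B) := noEmbRing_tensor_of_isAlgebraic
  let e1 : D ⊗[C] B ≃ₐ[C] B ⊗[C] D := Algebra.TensorProduct.comm C D B
  let e2 : B ⊗[C] D ≃ₐ[C] B ⊗[k] A := Algebra.TensorProduct.cancelBaseChange k C C B A
  let e3 : B ⊗[k] A ≃ₐ[k] A ⊗[k] B := Algebra.TensorProduct.comm k B A
  let e : A ⊗[k] B ≃+* D ⊗[C] B :=
    (e3.symm.toRingEquiv.trans e2.symm.toRingEquiv).trans e1.symm.toRingEquiv
  exact h1.of_ringEquiv e

end Groth.Agent.Lib.helper16.NoEmb
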