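import Groth.Agent.Lib.Helper16.PrimDec2
import Groth.Agent.Lib.Helper16.QCohEpi
import Groth.Agent.Lib.Helper7.CohKer
import Groth.Agent.S0046

/-!
# Primary decomposition of coherent sheaves, part 3: the key construction (helper16)

* `mem_ass_iff`: dictionary `Ass F ∩ U ↔ Ass_{Γ(X,U)} Γ(F,U)` on affine opens (locally Noetherian).
* `ass_subset_of_mono`: `Ass` of a quasi-coherent submodule.
* `exists_sub_ass_sheaf`: for coherent `M` and `x ∈ Ass M` there is a coherent `N ⊆ M` with
  `x ∉ Ass N` and `Ass (M/N) = {x}`.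
-/

set_option autoImplicit false
universe u
open CategoryTheory CategoryTheory.Limits AlgebraicGeometry TopologicalSpace Opposite
open Scheme.Modules

namespace Groth.Agent.Lib.helper16.PrimDec

open Groth.Agent.Lib.helper16.Satur Groth.Agent.Lib.helper16.CohFinite Groth.Agent.Lib.helper7
open Groth.Agent.Lib.helper16.QCohAss

variable {X : Scheme.{u}}

theorem colon_bot_eq_ann {A : Type*} [CommRing A] {P : Type*} [AddCommGroup P] [Module A P] (m : P) :
    (⊥ : Submodule A P).colon {m} = ann A m := by
  ext r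
  rw [Submodule.mem_colon_singleton, LinearMap.mem_ker, LinearMap.toSpanSingleton_apply,
    Submodule.mem_bot]

theorem exists_affine_mem (y : X) : ∃ U : X.Opens, IsAffineOpen U ∧ y ∈ U := by
  obtain ⟨_, ⟨W, hW, rfl⟩, hyW, -⟩ :=
    X.isBasis_affineOpens.exists_subset_of_mem_open (Set.mem_univ y) isOpen_univ
  exact ⟨W, hW, hyW⟩

/-- **Dictionary**: associated points in an affine open are the associated primes of the sections. -/
theorem mem_ass_iff [IsLocallyNoetherian X] (F : X.Modules) [F.IsQuasicoherent] {U : X.Opens}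
    (hU : IsAffineOpen U) (y : X) (hy : y ∈ U) :
    y ∈ AssSch.Ass F ↔
      (hU.primeIdealOf ⟨y, hy⟩).asIdeal ∈ associatedPrimes Γ(X, U) Γ(F, U) := by
  haveI : IsNoetherianRing Γ(X, U) := IsLocallyNoetherian.component_noetherian ⟨U, hU⟩
  constructor
  · intro h
    have hw : Curv2.IsWeakAssPoint F y := (isAssPoint_iff_isWeakAssPoint F y).1 h
    obtain ⟨m, hm⟩ := (isWeakAssPoint_iff F hU y hy).1 hw
    rw [← colon_bot_eq_ann] at hm
    obtain ⟨m', hm'⟩ := Submodule.exists_eq_colon_of_mem_minimalPrimes hm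
    change IsAssociatedPrime _ _
    rw [isAssociatedPrime_iff]
    exact ⟨inferInstance, m', hm'⟩
  · intro h
    change IsAssociatedPrime _ _ at h
    rw [isAssociatedPrime_iff] at h
    obtain ⟨hp, m, hm⟩ := h
    apply (isAssPoint_iff_isWeakAssPoint F y).2
    apply (isWeakAssPoint_iff F hU y hy).2
    refine ⟨m, ?_⟩
    rw [← colon_bot_eq_ann, ← hm, Ideal.minimalPrimes_eq_subsingleton_self]
    exact Set.mem_singleton _

/-- the associated points of a quasi-coherent submodule are associated points of the module. -/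
theorem ass_subset_of_mono [IsLocallyNoetherian X] {N M : X.Modules} [N.IsQuasicoherent]
    [M.IsQuasicoherent] (ι : N ⟶ M) [Mono ι] : AssSch.Ass N ⊆ AssSch.Ass M := by
  intro y hy
  obtain ⟨U, hU, hyU⟩ := exists_affine_mem y
  rw [mem_ass_iff N hU y hyU] at hy
  rw [mem_ass_iff M hU y hyU]
  exact associatedPrimes.subset_of_injective (f := secLin ι U)
    (Groth.Agent.Lib.helper16.Satur.injective_app_of_mono ι U) hy

theorem ass_eq_of_iso [IsLocallyNoetherian X] {N M : X.Modules} [N.IsQuasicoherent]
    [M.IsQuasicoherent] (e : N ≅ M) : AssSch.Ass N = AssSch.Ass M :=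
  Set.Subset.antisymm (ass_subset_of_mono e.hom) (ass_subset_of_mono e.inv)

/-- **Key construction.** -/
theorem exists_sub_ass_sheaf [IsLocallyNoetherian X] (M : X.Modules) (hM : Coh.IsCoh M) (x : X)
    (hx : x ∈ AssSch.Ass M) :
    ∃ (N : X.Modules) (ι : N ⟶ M), Mono ι ∧ Coh.IsCoh N ∧ x ∉ AssSch.Ass N ∧
      AssSch.Ass (cokernel ι) = {x} := by
  haveI : M.IsQuasicoherent := hM.1
  obtain ⟨U, hU, hxU⟩ := exists_affine_mem x
  haveI : IsNoetherianRing Γ(X, U) := IsLocallyNoetherian.component_noetherian ⟨U, hU⟩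
  haveI : Module.Finite Γ(X, U) Γ(M, U) := finite_sections_of_isCoh M hM hU
  haveI : IsNoetherian Γ(X, U) Γ(M, U) := isNoetherian_of_isNoetherianRing_of_finite _ _
  have hp := (mem_ass_iff M hU x hxU).1 hx
  obtain ⟨Q, hQ1, hQ2⟩ := exists_sub_ass (hU.primeIdealOf ⟨x, hxU⟩).asIdeal hp
  obtain ⟨N, ι, hmono, hNq, hrange, hsat⟩ := exists_sub_of_submodule M hU Q
  haveI := hmono
  haveI := hNq
  have hNc : Coh.IsCoh N := Groth.Agent.S0046.result X M N ι hM hNq
  haveI hGq : (cokernel ι).IsQuasicoherent := Groth.Agent.Lib.helper7.CohKer.isQuasicoherent_cokernel ι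
  -- sections of `N` over `U`
  have hinj : Function.Injective (secLin ι U) :=
    Groth.Agent.Lib.helper16.Satur.injective_app_of_mono ι U
  let c : Γ(N, U) →ₗ[Γ(X, U)] Q :=
    (secLin ι U).codRestrict Q (fun n => (hrange _).1 ⟨n, rfl⟩)
  have hcbij : Function.Bijective c := by
    constructor
    · intro a b hab
      exact hinj (congrArg Subtype.val hab)
    · rintro ⟨q, hq⟩
      obtain ⟨n, hn⟩ := (hrange q).2 hq
      exact ⟨n, Subtype.ext hn⟩
  have hassN : associatedPrimes Γ(X, U) Γ(N, U) = associatedPrimes Γ(X, U) Q :=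
    LinearEquiv.AssociatedPrimes.eq (LinearEquiv.ofBijective c hcbij)
  -- sections of the cokernel over `U`
  have hsurj : Function.Surjective (secLin (cokernel.π ι) U) :=
    Groth.Agent.Lib.helper16.QCohEpi.surjective_app_of_epi (cokernel.π ι) hU
  have hker : Q = LinearMap.ker (secLin (cokernel.π ι) U) := by
    ext s
    rw [LinearMap.mem_ker, ← hrange s, mem_range_iff_cokernel ι U s]
    rfl
  have hassG : associatedPrimes Γ(X, U) Γ(cokernel ι, U) =
      {(hU.primeIdealOf ⟨x, hxU⟩).asIdeal} := by
    rw [← hQ2]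
    exact (LinearEquiv.AssociatedPrimes.eq ((Submodule.quotEquivOfEq _ _ hker).trans
      (LinearMap.quotKerEquivOfSurjective _ hsurj))).symm
  refine ⟨N, ι, hmono, hNc, ?_, ?_⟩
  · intro hc
    rw [mem_ass_iff N hU x hxU, hassN] at hc
    exact hQ1 hc
  · apply Set.Subset.antisymm
    · intro y hy
      rw [Set.mem_singleton_iff]
      by_cases hyU : y ∈ U
      · rw [mem_ass_iff (cokernel ι) hU y hyU, hassG, Set.mem_singleton_iff] at hy
        have h1 : hU.primeIdealOf ⟨y, hyU⟩ = hU.primeIdealOf ⟨x, hxU⟩ := PrimeSpectrum.ext hy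
        have h2 := congrArg (fun z => hU.fromSpec z) h1
        simp only [] at h2
        rwa [hU.fromSpec_primeIdealOf ⟨y, hyU⟩, hU.fromSpec_primeIdealOf ⟨x, hxU⟩] at h2
      · exfalso
        obtain ⟨V, hV, hyV⟩ := exists_affine_mem y
        haveI : IsNoetherianRing Γ(X, V) := IsLocallyNoetherian.component_noetherian ⟨V, hV⟩
        have hq := (mem_ass_iff (cokernel ι) hV y hyV).1 hy
        change IsAssociatedPrime _ _ at hq
        rw [isAssociatedPrime_iff] at hq
        obtain ⟨hqp, g, hg⟩ := hq
        rw [colon_bot_eq_ann] at hg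
        obtain ⟨s, hs⟩ := Groth.Agent.Lib.helper16.QCohEpi.surjective_app_of_epi
          (cokernel.π ι) hV g
        have hg0 : g ≠ 0 := by
          intro h0
          apply hqp.ne_top
          rw [hg, h0]
          ext r
          simp [mem_ann]
        have hs1 : s ∉ Set.range (ι.app V) := by
          intro hc
          rw [mem_range_iff_cokernel ι V s] at hc
          exact hg0 (hs.symm.trans hc)
        have hle : V ⊓ U ≤ V := inf_le_left
        have hs2 : M.presheaf.map (homOfLE hle).op s ∉ Set.range (ι.app (V ⊓ U)) :=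
          fun hc => hs1 (hsat V (V ⊓ U) hle le_rfl s hc)
        rw [mem_range_iff_cokernel ι (V ⊓ U)] at hs2
        have hnat := Groth.Agent.Lib.helper16.QCohEpi.app_map (cokernel.π ι) hle s
        have hs3 : (cokernel ι).presheaf.map (homOfLE hle).op g ≠ 0 := by
          rw [← hs, ← hnat]
          exact hs2
        have : ∃ (u : X) (hu : u ∈ V ⊓ U),
            ((cokernel ι).presheaf.germ (V ⊓ U) u hu).hom
              ((cokernel ι).presheaf.map (homOfLE hle).op g) ≠ 0 := by
          by_contra hcon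
          push_neg at hcon
          exact hs3 (section_eq_zero_of_germ_eq_zero (cokernel ι) (V ⊓ U) _ hcon)
        obtain ⟨u, hu, hne⟩ := this
        rw [TopCat.Presheaf.germ_res_apply] at hne
        letI := TopCat.Presheaf.algebra_section_stalk X.presheaf (⟨u, hu.1⟩ : V)
        haveI : IsLocalization.AtPrime (X.presheaf.stalk u) (hV.primeIdealOf ⟨u, hu.1⟩).asIdeal :=
          hV.isLocalization_stalk ⟨u, hu.1⟩
        have hann := (locData (cokernel ι) hV u hu.1).ann_le g hne
        rw [← hg] at hann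
        have hspec : y ⤳ u := specializes_of_le hV u y hu.1 hyV hann
        exact hyU (hspec.mem_open U.isOpen hu.2)
    · intro y hy
      rw [Set.mem_singleton_iff] at hy
      rw [hy, mem_ass_iff (cokernel ι) hU x hxU, hassG]
      exact Set.mem_singleton _

end Groth.Agent.Lib.helper16.PrimDec
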