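import Mathlib
import Groth.Prelude
import Groth.Agent.Lib.Helper16.NoEmb2
import Groth.Agent.Lib.Helper16.PrimDec3
import Groth.Agent.Lib.Helper16.CodimDiv1
import Groth.Agent.Lib.Helper8.DevCond

/-!
# The product of two integral schemes over a field has no embedded points (helper16)
-/

set_option autoImplicit false
universe u
open TensorProduct CategoryTheory CategoryTheory.Limits AlgebraicGeometry

namespace Groth.Agent.Lib.helper16.NoEmb

/-- no embedded associated points of the structure sheaf can be checked on affine charts. -/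
theorem noEmbedded_of_affine_charts {P : Scheme.{u}} [IsLocallyNoetherian P]
    (h : ∀ x : P, ∃ U : P.Opens, IsAffineOpen U ∧ x ∈ U ∧ NoEmbRing Γ(P, U)) :
    AssSch.NoEmbedded (Coh.structureModule P) := by
  intro x hx y hy hyx
  obtain ⟨U, hU, hxU, hne⟩ := h x
  obtain ⟨hyU, hle⟩ := CodimDiv.le_primeIdealOf_of_specializes hU hyx hxU
  have : (Coh.structureModule P).IsQuasicoherent :=
    Groth.Agent.Lib.helper8.Dev.isQuasicoherent_structureModule P
  have h1 := (PrimDec.mem_ass_iff (Coh.structureModule P) hU x hxU).1 hx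
  have h2 := (PrimDec.mem_ass_iff (Coh.structureModule P) hU y hyU).1 hy
  have h3 := hne _ h1 _ h2 hle
  exact (CodimDiv.eq_of_primeIdealOf_eq hU hxU hyU h3).symm


/-- the ring of global sections of the product of two integral affine schemes over a field has no
embedded primes -/
theorem noEmbRing_pullback_affine {k : Type u} [Field k] {X Z : Scheme.{u}} [IsAffine X]
    [IsAffine Z] [IsIntegral X] [IsIntegral Z] (p : X ⟶ Spec (.of k)) (q : Z ⟶ Spec (.of k)) :
    NoEmbRing Γ(pullback p q, ⊤) := by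
  let A : CommRingCat.{u} := Γ(X, ⊤)
  let B : CommRingCat.{u} := Γ(Z, ⊤)
  let φA : CommRingCat.of k ⟶ A := (Scheme.ΓSpecIso (.of k)).inv ≫ p.appTop
  let φB : CommRingCat.of k ⟶ B := (Scheme.ΓSpecIso (.of k)).inv ≫ q.appTop
  have hA : X.isoSpec.hom ≫ Spec.map φA = p := by
    rw [Spec.map_comp, Scheme.isoSpec_hom, ← Category.assoc, ← Scheme.toSpecΓ_naturality,
      Category.assoc, toSpecΓ_SpecMap_ΓSpecIso_inv, Category.comp_id]
  have hB : Z.isoSpec.hom ≫ Spec.map φB = q := by
    rw [Spec.map_comp, Scheme.isoSpec_hom, ← Category.assoc, ← Scheme.toSpecΓ_naturality,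
      Category.assoc, toSpecΓ_SpecMap_ΓSpecIso_inv, Category.comp_id]
  let _ : Algebra k A := φA.hom.toAlgebra
  let _ : Algebra k B := φB.hom.toAlgebra
  haveI : Nonempty (⊤ : X.Opens) := ⟨⟨Classical.arbitrary X, trivial⟩⟩
  haveI : Nonempty (⊤ : Z.Opens) := ⟨⟨Classical.arbitrary Z, trivial⟩⟩
  haveI : IsDomain A := inferInstanceAs (IsDomain Γ(X, ⊤))
  haveI : IsDomain B := inferInstanceAs (IsDomain Γ(Z, ⊤))
  have hne : NoEmbRing (A ⊗[k] B) := noEmbRing_tensor k A B
  let e₁ : pullback p q ⟶ pullback (Spec.map (CommRingCat.ofHom (algebraMap k A)))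
      (Spec.map (CommRingCat.ofHom (algebraMap k B))) :=
    pullback.map p q _ _ X.isoSpec.hom Z.isoSpec.hom (𝟙 _) (by rw [Category.comp_id]; exact hA.symm)
      (by rw [Category.comp_id]; exact hB.symm)
  have : IsIso e₁ := by unfold e₁; infer_instance
  let φ : pullback p q ⟶ Spec (CommRingCat.of (A ⊗[k] B)) := e₁ ≫ (pullbackSpecIso k A B).hom
  have : IsIso φ := by unfold φ; infer_instance
  let ψ : Γ(pullback p q, ⊤) ≅ CommRingCat.of (A ⊗[k] B) :=
    (Scheme.Γ.mapIso (asIso φ).op).symm ≪≫ Scheme.ΓSpecIso _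
  exact hne.of_ringEquiv ψ.commRingCatIsoToRingEquiv

/-- affine charts of the product of two integral schemes over a field -/
theorem exists_chart {k : Type u} [Field k] {X Y : Scheme.{u}} (f : X ⟶ Spec (CommRingCat.of k))
    (g : Y ⟶ Spec (CommRingCat.of k)) [IsIntegral X] [IsIntegral Y] (z : ↥(pullback f g)) :
    ∃ U : (pullback f g).Opens, IsAffineOpen U ∧ z ∈ U ∧ NoEmbRing Γ(pullback f g, U) := by
  let 𝒰 := Scheme.Pullback.openCoverOfLeftRight X.affineCover Y.affineCover f g
  obtain ⟨⟨i, j⟩, w, hw⟩ := 𝒰.exists_eq z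
  let W := pullback (X.affineCover.f i ≫ f) (Y.affineCover.f j ≫ g)
  let ι : W ⟶ pullback f g := 𝒰.f (i, j)
  have : IsOpenImmersion ι := 𝒰.map_prop (i, j)
  have : IsAffine (X.affineCover.X i) := inferInstance
  have : IsAffine (Y.affineCover.X j) := inferInstance
  haveI : Nonempty (X.affineCover.X i) :=
    ⟨pullback.fst (X.affineCover.f i ≫ f) (Y.affineCover.f j ≫ g) w⟩
  haveI : Nonempty (Y.affineCover.X j) :=
    ⟨pullback.snd (X.affineCover.f i ≫ f) (Y.affineCover.f j ≫ g) w⟩
  have : IsIntegral (X.affineCover.X i) := isIntegral_of_isOpenImmersion (X.affineCover.f i)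
  have : IsIntegral (Y.affineCover.X j) := isIntegral_of_isOpenImmersion (Y.affineCover.f j)
  have : IsAffine W := inferInstance
  refine ⟨ι.opensRange, isAffineOpen_opensRange ι, ⟨w, hw⟩, ?_⟩
  have hne : NoEmbRing Γ(W, ⊤) :=
    noEmbRing_pullback_affine (X.affineCover.f i ≫ f) (Y.affineCover.f j ≫ g)
  let ψ : Γ(pullback f g, ι.opensRange) ≅ Γ(W, ⊤) :=
    (pullback f g).presheaf.mapIso (eqToIso (by rw [Scheme.Hom.image_top_eq_opensRange])) ≪≫
      ι.appIso ⊤
  exact hne.of_ringEquiv ψ.commRingCatIsoToRingEquiv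

/-- **S4635**: the product of two integral locally Noetherian schemes over a field has no
embedded associated points (when it is locally Noetherian). -/
theorem main {k : Type u} [Field k] {X Y : Scheme.{u}}
    (f : X ⟶ Spec (CommRingCat.of k)) (g : Y ⟶ Spec (CommRingCat.of k)) [IsIntegral X]
    [IsIntegral Y] [IsLocallyNoetherian (pullback f g)] :
    AssSch.NoEmbedded (Coh.structureModule (pullback f g)) :=
  noEmbedded_of_affine_charts (fun z => exists_chart f g z)

end Groth.Agent.Lib.helper16.NoEmb
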