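import Mathlib
import Groth.Agent.Lib.Helper16.NoEmb1

/-!
# Associated primes in a free extension (helper16)

`A → R` a ring map making `R` a free `A`-module.
* `comap_mem_ass_of_free`: the contraction of an associated prime of `R` is an associated prime
  of `A`.
* `mem_ass_of_mem_minimalPrimes_map`: for `p = ann a` an associated prime of `A`, the minimal
  primes over `pR` are associated primes of `R`.
* `comap_eq_of_mem_minimalPrimes_map`: they contract to `p` (going-down).
* `noEmbRing_of_noEmbRing_free`: `R` without embedded primes implies `A` without embedded primes.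
-/

set_option autoImplicit false
universe u
open TensorProduct

namespace Groth.Agent.Lib.helper16.NoEmb

section free

variable {A R : Type*} [CommRing A] [CommRing R] [Algebra A R]

theorem comap_mem_ass_of_free [Module.Free A R] {q : Ideal R} (hq : q ∈ associatedPrimes R R) :
    q.comap (algebraMap A R) ∈ associatedPrimes A A := by
  classical
  obtain ⟨hqp, y, hy⟩ := (mem_ass_iff' q).1 hq
  let b := Module.Free.chooseBasis A R
  let c := b.repr y
  have hkey : ∀ (a : A) (n : ℕ), (algebraMap A R a) ^ n * y = 0 ↔ ∀ t ∈ c.support, a ^ n * c t = 0 := by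
    intro a n
    have h1 : (algebraMap A R a) ^ n * y = (a ^ n) • y := by
      rw [Algebra.smul_def, map_pow]
    rw [h1, ← b.repr.map_eq_zero_iff, map_smul]
    constructor
    · intro h t _
      have := congrArg (fun f => f t) h
      simpa using this
    · intro h
      ext t
      by_cases ht : t ∈ c.support
      · simpa using h t ht
      · have : c t = 0 := Finsupp.notMem_support_iff.mp ht
        simp [c, this] at *
  have hprime : (q.comap (algebraMap A R)).IsPrime := Ideal.comap_isPrime _ _
  -- the ideals `I t`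
  let I : (Module.Free.ChooseBasisIndex A R) → Ideal A := fun t =>
    Ideal.radical (LinearMap.ker (LinearMap.toSpanSingleton A A (c t)) : Ideal A)
  have hI : ∀ t (a : A), a ∈ I t ↔ ∃ n : ℕ, a ^ n * c t = 0 := by
    intro t a
    constructor
    · rintro ⟨n, hn⟩
      exact ⟨n, by simpa [LinearMap.mem_ker, LinearMap.toSpanSingleton_apply] using hn⟩
    · rintro ⟨n, hn⟩
      exact ⟨n, by simpa [LinearMap.mem_ker, LinearMap.toSpanSingleton_apply] using hn⟩
  have hle : ∀ t ∈ c.support, q.comap (algebraMap A R) ≤ I t := by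
    intro t ht a ha
    rw [Ideal.mem_comap, hy] at ha
    obtain ⟨n, hn⟩ := ha
    exact (hI t a).2 ⟨n, (hkey a n).1 hn t ht⟩
  have hinf : c.support.inf I ≤ q.comap (algebraMap A R) := by
    intro a ha
    rw [Ideal.mem_comap, hy]
    have h1 : ∀ t ∈ c.support, ∃ n : ℕ, a ^ n * c t = 0 := fun t ht =>
      (hI t a).1 ((Finset.inf_le ht : c.support.inf I ≤ I t) ha)
    choose! n hn using h1
    refine ⟨c.support.sup n, (hkey a _).2 (fun t ht => ?_)⟩
    have h2 : n t ≤ c.support.sup n := Finset.le_sup ht
    obtain ⟨m, hm⟩ := Nat.exists_eq_add_of_le h2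
    rw [hm, pow_add, mul_comm (a ^ n t), mul_assoc, hn t ht, mul_zero]
  obtain ⟨t, ht, hIt⟩ := (Ideal.IsPrime.inf_le' hprime).1 hinf
  have heq : q.comap (algebraMap A R) = I t := le_antisymm (hle t ht) hIt
  rw [mem_ass_iff']
  refine ⟨hprime, c t, fun a => ?_⟩
  rw [heq]
  exact hI t a

theorem colon_algebraMap_eq_map [Module.Free A R] (p : Ideal A) (a : A)
    (hp : ∀ x, x ∈ p ↔ x * a = 0) :
    (⊥ : Submodule R R).colon {algebraMap A R a} = p.map (algebraMap A R) := by
  classical
  apply le_antisymm
  · intro r hr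
    rw [Submodule.mem_colon_singleton] at hr
    have hr' : r * algebraMap A R a = 0 := by simpa using hr
    let b := Module.Free.chooseBasis A R
    have h1 : a • r = 0 := by rw [Algebra.smul_def, mul_comm]; exact hr'
    have h2 : ∀ t, b.repr r t ∈ p := by
      intro t
      rw [hp]
      have := congrArg (fun f => f t) (congrArg b.repr h1)
      simp only [map_smul, Finsupp.smul_apply, smul_eq_mul, map_zero, Finsupp.coe_zero,
        Pi.zero_apply] at this
      rw [mul_comm]; exact this
    have h3 : r = Finsupp.linearCombination A b (b.repr r) := (b.linearCombination_repr r).symm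
    rw [h3, Finsupp.linearCombination_apply, Finsupp.sum]
    refine Ideal.sum_mem _ (fun t _ => ?_)
    rw [Algebra.smul_def]
    exact Ideal.mul_mem_right _ _ (Ideal.mem_map_of_mem _ (h2 t))
  · rw [Ideal.map_le_iff_le_comap]
    intro x hx
    rw [Ideal.mem_comap, Submodule.mem_colon_singleton]
    have : algebraMap A R x * algebraMap A R a = 0 := by
      rw [← map_mul, (hp x).1 hx, map_zero]
    simpa using this

theorem mem_ass_of_mem_minimalPrimes_map [Module.Free A R] [IsNoetherianRing R] (p : Ideal A)
    (a : A) (hp : ∀ x, x ∈ p ↔ x * a = 0) {q : Ideal R}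
    (hq : q ∈ (p.map (algebraMap A R)).minimalPrimes) : q ∈ associatedPrimes R R := by
  rw [← colon_algebraMap_eq_map p a hp] at hq
  have hqp : q.IsPrime := hq.1.1
  obtain ⟨x', hx'⟩ := Submodule.exists_eq_colon_of_mem_minimalPrimes hq
  exact (Submodule.isAssociatedPrime_iff).2 ⟨hqp, x', hx'⟩

theorem comap_eq_of_mem_minimalPrimes_map [Module.Flat A R] (p : Ideal A) [p.IsPrime]
    {q : Ideal R} (hq : q ∈ (p.map (algebraMap A R)).minimalPrimes) :
    q.comap (algebraMap A R) = p := by
  haveI hqp : q.IsPrime := hq.1.1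
  have hle : p ≤ q.comap (algebraMap A R) := Ideal.map_le_iff_le_comap.1 hq.1.2
  haveI : (q.comap (algebraMap A R)).IsPrime := Ideal.comap_isPrime _ _
  haveI : q.LiesOver (q.comap (algebraMap A R)) := ⟨rfl⟩
  obtain ⟨P, hPq, hPp, hPo⟩ := Ideal.exists_ideal_le_liesOver_of_le (p := p) q hle
  have h1 : p = P.comap (algebraMap A R) := hPo.over
  have h2 : p.map (algebraMap A R) ≤ P := Ideal.map_le_iff_le_comap.2 (le_of_eq h1)
  have h3 : q ≤ P := hq.2 ⟨hPp, h2⟩ hPq
  have h4 : q = P := le_antisymm h3 hPq
  rw [h4, ← h1]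

/-- descent of the absence of embedded primes along a free extension -/
theorem noEmbRing_of_noEmbRing_free [IsNoetherianRing A] [IsNoetherianRing R] [Module.Free A R]
    [Nontrivial R] (hR : NoEmbRing R) : NoEmbRing A := by
  intro p hp p' hp' hle
  haveI hpp : p.IsPrime := hp.isPrime
  haveI hpp' : p'.IsPrime := hp'.isPrime
  obtain ⟨-, a, ha⟩ := (Submodule.isAssociatedPrime_iff).1 hp
  obtain ⟨-, a', ha'⟩ := (Submodule.isAssociatedPrime_iff).1 hp'
  have hpa : ∀ x, x ∈ p ↔ x * a = 0 := by
    intro x
    rw [ha, Submodule.mem_colon_singleton]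
    simp
  have hpa' : ∀ x, x ∈ p' ↔ x * a' = 0 := by
    intro x
    rw [ha', Submodule.mem_colon_singleton]
    simp
  have hne : p.map (algebraMap A R) ≠ ⊤ := by
    intro h
    have h1 := Ideal.comap_map_eq_self_of_faithfullyFlat (B := R) p
    rw [h, Ideal.comap_top] at h1
    exact hpp.ne_top h1.symm
  obtain ⟨M, hM, hMle⟩ := Ideal.exists_le_maximal _ hne
  haveI := hM.isPrime
  obtain ⟨q, hq, hqM⟩ := Ideal.exists_minimalPrimes_le hMle
  have hqass : q ∈ associatedPrimes R R := mem_ass_of_mem_minimalPrimes_map p a hpa hq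
  have hqc : q.comap (algebraMap A R) = p := comap_eq_of_mem_minimalPrimes_map p hq
  haveI hqp : q.IsPrime := hq.1.1
  haveI : q.LiesOver p := ⟨hqc.symm⟩
  obtain ⟨P, hPq, hPp, hPo⟩ := Ideal.exists_ideal_le_liesOver_of_le (p := p') q hle
  have h1 : p' = P.comap (algebraMap A R) := hPo.over
  have h2 : p'.map (algebraMap A R) ≤ P := Ideal.map_le_iff_le_comap.2 (le_of_eq h1)
  obtain ⟨q', hq', hq'P⟩ := Ideal.exists_minimalPrimes_le h2
  have hq'ass : q' ∈ associatedPrimes R R := mem_ass_of_mem_minimalPrimes_map p' a' hpa' hq'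
  have hq'c : q'.comap (algebraMap A R) = p' := comap_eq_of_mem_minimalPrimes_map p' hq'
  have h3 : q' = q := hR q hqass q' hq'ass (hq'P.trans hPq)
  rw [← hq'c, ← hqc, h3]

end free

end Groth.Agent.Lib.helper16.NoEmb
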