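import Mathlib
import Groth.Agent.Lib.Helper16.NoEmbBC1

/-!
# Fibre rings `R ⊗[A] κ` of an algebra over a prime (helper16)

`κ` a field which is "a fraction field of `A ⧸ p`" in the weak sense `hκ1`, `hκ2` below.
* `exists_mul_eq_tmul_one`: every element of `R ⊗[A] κ` is a unit multiple of an element of `R`.
* `isPrime_of_comap`, `mem_ass_of_comap`, `le_of_comap_le`: transfer between ideals of `R` and
  annihilator ideals of `R ⊗[A] κ`.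
-/

set_option autoImplicit false
universe u
open TensorProduct

namespace Groth.Agent.Lib.helper16.NoEmb

section fibre

variable {A R κ : Type*} [CommRing A] [CommRing R] [Algebra A R] [Field κ] [Algebra A κ]
  (p : Ideal A)

/-- every element of the fibre ring is a unit multiple of an element coming from `R`. -/
theorem exists_mul_eq_tmul_one
    (hκ1 : ∀ x : κ, ∃ a s : A, s ∉ p ∧ x * algebraMap A κ s = algebraMap A κ a)
    (hp : ∀ s t : A, s ∉ p → t ∉ p → s * t ∉ p) (h1 : (1 : A) ∉ p)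
    (z : R ⊗[A] κ) :
    ∃ (r : R) (s : A), s ∉ p ∧ z * ((1 : R) ⊗ₜ[A] algebraMap A κ s) = r ⊗ₜ[A] (1 : κ) := by
  induction z using TensorProduct.induction_on with
  | zero => exact ⟨0, 1, h1, by simp⟩
  | tmul r x =>
    obtain ⟨a, s, hs, hx⟩ := hκ1 x
    refine ⟨a • r, s, hs, ?_⟩
    rw [Algebra.TensorProduct.tmul_mul_tmul, mul_one, hx, TensorProduct.smul_tmul,
      Algebra.smul_def, mul_one]
  | add z₁ z₂ h₁ h₂ =>
    obtain ⟨r₁, s₁, hs₁, e₁⟩ := h₁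
    obtain ⟨r₂, s₂, hs₂, e₂⟩ := h₂
    refine ⟨s₂ • r₁ + s₁ • r₂, s₁ * s₂, hp _ _ hs₁ hs₂, ?_⟩
    have hs : ((1 : R) ⊗ₜ[A] algebraMap A κ (s₁ * s₂)) =
        ((1 : R) ⊗ₜ[A] algebraMap A κ s₁) * ((1 : R) ⊗ₜ[A] algebraMap A κ s₂) := by
      rw [Algebra.TensorProduct.tmul_mul_tmul, mul_one, map_mul]
    have hsm : ∀ (s : A) (r : R), (s • r) ⊗ₜ[A] (1 : κ) =
        (r ⊗ₜ[A] (1 : κ)) * ((1 : R) ⊗ₜ[A] algebraMap A κ s) := by
      intro s r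
      rw [Algebra.TensorProduct.tmul_mul_tmul, mul_one, one_mul, TensorProduct.smul_tmul,
        Algebra.smul_def, mul_one]
    rw [hs, add_mul, TensorProduct.add_tmul, hsm, hsm, ← e₁, ← e₂]
    ring

theorem isUnit_one_tmul (hκ2 : ∀ s : A, s ∉ p → algebraMap A κ s ≠ 0) (s : A) (hs : s ∉ p) :
    IsUnit ((1 : R) ⊗ₜ[A] algebraMap A κ s) := by
  refine IsUnit.of_mul_eq_one ((1 : R) ⊗ₜ[A] (algebraMap A κ s)⁻¹) ?_
  rw [Algebra.TensorProduct.tmul_mul_tmul, mul_one, mul_inv_cancel₀ (hκ2 s hs)]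
  rfl

variable (hκ1 : ∀ x : κ, ∃ a s : A, s ∉ p ∧ x * algebraMap A κ s = algebraMap A κ a)
  (hκ2 : ∀ s : A, s ∉ p → algebraMap A κ s ≠ 0) [hpp : p.IsPrime]

include hκ1 hκ2 hpp

/-- an ideal of the fibre ring whose contraction to `R` is prime is prime. -/
theorem isPrime_of_comap (𝔞 : Ideal (R ⊗[A] κ))
    (h : (𝔞.comap (algebraMap R (R ⊗[A] κ))).IsPrime) : 𝔞.IsPrime := by
  have hmul : ∀ s t : A, s ∉ p → t ∉ p → s * t ∉ p := fun s t hs ht hst =>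
    (hpp.mem_or_mem hst).elim hs ht
  have h1 : (1 : A) ∉ p := fun h => hpp.ne_top ((Ideal.eq_top_iff_one _).2 h)
  constructor
  · intro htop
    apply h.ne_top
    rw [htop, Ideal.comap_top]
  · intro z₁ z₂ hz
    obtain ⟨r₁, s₁, hs₁, e₁⟩ := exists_mul_eq_tmul_one (R := R) p hκ1 hmul h1 z₁
    obtain ⟨r₂, s₂, hs₂, e₂⟩ := exists_mul_eq_tmul_one (R := R) p hκ1 hmul h1 z₂
    have hu₁ := isUnit_one_tmul (R := R) p hκ2 s₁ hs₁
    have hu₂ := isUnit_one_tmul (R := R) p hκ2 s₂ hs₂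
    have h2 : algebraMap R (R ⊗[A] κ) (r₁ * r₂) ∈ 𝔞 := by
      rw [map_mul]
      change (r₁ ⊗ₜ[A] (1 : κ)) * (r₂ ⊗ₜ[A] (1 : κ)) ∈ 𝔞
      rw [← e₁, ← e₂]
      have : z₁ * ((1 : R) ⊗ₜ[A] algebraMap A κ s₁) * (z₂ * ((1 : R) ⊗ₜ[A] algebraMap A κ s₂)) =
          (z₁ * z₂) * (((1 : R) ⊗ₜ[A] algebraMap A κ s₁) * ((1 : R) ⊗ₜ[A] algebraMap A κ s₂)) := by
        ring
      rw [this]
      exact 𝔞.mul_mem_right _ hz
    have h3 : r₁ * r₂ ∈ 𝔞.comap (algebraMap R (R ⊗[A] κ)) := h2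
    rcases h.mem_or_mem h3 with h4 | h4
    · left
      have h5 : z₁ * ((1 : R) ⊗ₜ[A] algebraMap A κ s₁) ∈ 𝔞 := by rw [e₁]; exact h4
      exact (Ideal.mul_unit_mem_iff_mem 𝔞 hu₁).1 h5
    · right
      have h5 : z₂ * ((1 : R) ⊗ₜ[A] algebraMap A κ s₂) ∈ 𝔞 := by rw [e₂]; exact h4
      exact (Ideal.mul_unit_mem_iff_mem 𝔞 hu₂).1 h5

/-- comparison of ideals of the fibre ring through their contractions. -/
theorem le_of_comap_le (𝔞 𝔟 : Ideal (R ⊗[A] κ))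
    (h : 𝔞.comap (algebraMap R (R ⊗[A] κ)) ≤ 𝔟.comap (algebraMap R (R ⊗[A] κ))) : 𝔞 ≤ 𝔟 := by
  have hmul : ∀ s t : A, s ∉ p → t ∉ p → s * t ∉ p := fun s t hs ht hst =>
    (hpp.mem_or_mem hst).elim hs ht
  have h1 : (1 : A) ∉ p := fun h => hpp.ne_top ((Ideal.eq_top_iff_one _).2 h)
  intro z hz
  obtain ⟨r, s, hs, e⟩ := exists_mul_eq_tmul_one (R := R) p hκ1 hmul h1 z
  have hu := isUnit_one_tmul (R := R) p hκ2 s hs
  have h2 : r ∈ 𝔞.comap (algebraMap R (R ⊗[A] κ)) := by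
    change r ⊗ₜ[A] (1 : κ) ∈ 𝔞
    rw [← e]
    exact 𝔞.mul_mem_right _ hz
  have h3 : r ⊗ₜ[A] (1 : κ) ∈ 𝔟 := h h2
  rw [← e] at h3
  exact (Ideal.mul_unit_mem_iff_mem 𝔟 hu).1 h3

end fibre

end Groth.Agent.Lib.helper16.NoEmb
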