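import Mathlib
import Groth.Agent.Lib.Helper16.NoEmbBC2

/-!
# Annihilators in `R ⊗[A] N` via an embedding of `N` into a vector space (helper16)
-/

set_option autoImplicit false
universe u
open TensorProduct

namespace Groth.Agent.Lib.helper16.NoEmb

section lift

variable {A R : Type*} [CommRing A] [CommRing R] [Algebra A R]

/-- an element of a free `A`-algebra `R` whose coordinates lie in the ideal `N` comes from
`R ⊗[A] N`, with the same annihilator. -/
theorem exists_lift [Module.Free A R] (N : Ideal A) (y : R)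
    (hy : ∀ t, (Module.Free.chooseBasis A R).repr y t ∈ N) :
    ∃ y' : R ⊗[A] N, ∀ r : R, r * y = 0 ↔ r • y' = 0 := by
  classical
  let b := Module.Free.chooseBasis A R
  let j : R ⊗[A] N →ₗ[R] R :=
    (TensorProduct.AlgebraTensorModule.rid A R R).toLinearMap ∘ₗ
      (LinearMap.baseChange R (Submodule.subtype N))
  have hj : Function.Injective j := by
    have h1 : Function.Injective (LinearMap.baseChange R (Submodule.subtype N)) := by
      rw [LinearMap.baseChange_eq_ltensor]
      exact Module.Flat.lTensor_preserves_injective_linearMap _ Subtype.val_injective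
    exact (TensorProduct.AlgebraTensorModule.rid A R R).injective.comp h1
  let c := b.repr y
  let y' : R ⊗[A] N := ∑ t ∈ c.support, (b t) ⊗ₜ[A] (⟨c t, hy t⟩ : N)
  have hjy : j y' = y := by
    have h1 : ∀ t, j ((b t) ⊗ₜ[A] (⟨c t, hy t⟩ : N)) = c t • b t := by
      intro t
      simp only [j, LinearMap.coe_comp, LinearEquiv.coe_coe, Function.comp_apply,
        LinearMap.baseChange_tmul, Submodule.subtype_apply,
        TensorProduct.AlgebraTensorModule.rid_tmul]
    rw [map_sum]
    simp only [h1]
    have h2 := b.linearCombination_repr y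
    rw [Finsupp.linearCombination_apply, Finsupp.sum] at h2
    exact h2
  refine ⟨y', fun r => ?_⟩
  rw [← hjy, ← smul_eq_mul, ← map_smul]
  constructor
  · intro h
    exact hj (by rw [h, map_zero])
  · intro h
    rw [h, map_zero]

end lift

section family

universe w

variable {A R κ : Type*} {W : Type w} [CommRing A] [CommRing R] [Algebra A R] [Field κ]
  [Algebra A κ] [AddCommGroup W] [Module A W] [Module κ W] [IsScalarTower A κ W]

/-- annihilators in `R ⊗[A] N` for `N` embedded in a `κ`-vector space are finite intersections of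
contractions of annihilators of elements of the fibre ring `R ⊗[A] κ`. -/
theorem exists_family [Module.Flat A R] (N : Ideal A) (θ : N →ₗ[A] W)
    (hθ : Function.Injective θ) (y' : R ⊗[A] N) :
    ∃ (J : Type w) (s : Finset J) (v : J → R ⊗[A] κ),
      ∀ r : R, r • y' = 0 ↔ ∀ j ∈ s, algebraMap R (R ⊗[A] κ) r * v j = 0 := by
  classical
  let 𝔟 := Module.Free.chooseBasis κ W
  let J := Module.Free.ChooseBasisIndex κ W
  let θ' : N →ₗ[A] (J →₀ κ) := (𝔟.repr.toLinearMap.restrictScalars A) ∘ₗ θ
  have hθ' : Function.Injective θ' := 𝔟.repr.injective.comp hθ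
  let Ψ : R ⊗[A] N →ₗ[R] (J →₀ R ⊗[A] κ) :=
    (TensorProduct.finsuppRight A R R κ J).toLinearMap ∘ₗ (LinearMap.baseChange R θ')
  have hΨ : Function.Injective Ψ := by
    have h1 : Function.Injective (LinearMap.baseChange R θ') := by
      rw [LinearMap.baseChange_eq_ltensor]
      exact Module.Flat.lTensor_preserves_injective_linearMap _ hθ'
    exact (TensorProduct.finsuppRight A R R κ J).injective.comp h1
  refine ⟨J, (Ψ y').support, fun j => Ψ y' j, fun r => ?_⟩
  have h1 : r • y' = 0 ↔ r • Ψ y' = 0 := by
    rw [← map_smul]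
    constructor
    · intro h; rw [h, map_zero]
    · intro h; exact hΨ (by rw [h, map_zero])
  rw [h1]
  constructor
  · intro h j _
    have := congrArg (fun f => f j) h
    simp only [Finsupp.smul_apply, Finsupp.coe_zero, Pi.zero_apply] at this
    rw [← Algebra.smul_def]
    exact this
  · intro h
    ext j
    simp only [Finsupp.smul_apply, Finsupp.coe_zero, Pi.zero_apply]
    by_cases hj : j ∈ (Ψ y').support
    · rw [Algebra.smul_def]
      exact h j hj
    · rw [Finsupp.notMem_support_iff.mp hj, smul_zero]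

/-- if moreover the annihilator is prime, a single element of the fibre ring suffices. -/
theorem exists_single [Module.Flat A R] (N : Ideal A) (θ : N →ₗ[A] W)
    (hθ : Function.Injective θ) (y' : R ⊗[A] N) (q : Ideal R) [hq : q.IsPrime]
    (hqy : ∀ r : R, r ∈ q ↔ r • y' = 0) :
    ∃ v : R ⊗[A] κ, ∀ r : R, r ∈ q ↔ algebraMap R (R ⊗[A] κ) r * v = 0 := by
  classical
  obtain ⟨J, s, v, hv⟩ := exists_family (κ := κ) N θ hθ y'
  let I : J → Ideal R := fun j =>
    Ideal.comap (algebraMap R (R ⊗[A] κ)) ((⊥ : Submodule (R ⊗[A] κ) (R ⊗[A] κ)).colon {v j})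
  have hI : ∀ j r, r ∈ I j ↔ algebraMap R (R ⊗[A] κ) r * v j = 0 := by
    intro j r
    simp only [I, Ideal.mem_comap, Submodule.mem_colon_singleton, smul_eq_mul, Submodule.mem_bot]
  have hinf : s.inf I ≤ q := by
    intro r hr
    rw [hqy, hv]
    intro j hj
    exact (hI j r).1 ((Finset.inf_le hj : s.inf I ≤ I j) hr)
  obtain ⟨j, hj, hjq⟩ := (Ideal.IsPrime.inf_le' hq).1 hinf
  refine ⟨v j, fun r => ⟨fun hr => ?_, fun hr => hjq ((hI j r).2 hr)⟩⟩
  exact (hv r).1 ((hqy r).1 hr) j hj

end family

end Groth.Agent.Lib.helper16.NoEmb
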