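import Mathlib
import Groth.Agent.Lib.Helper16.NoEmbBC3

/-!
# Ascent of the absence of embedded primes along a free extension with good fibres (helper16)
-/

set_option autoImplicit false
universe u
open TensorProduct

namespace Groth.Agent.Lib.helper16.NoEmb

section model

variable {A : Type u} [CommRing A] (p : Ideal A) [hpp : p.IsPrime]

local notation "Ap" => Localization.AtPrime p
local notation "𝔪" => IsLocalRing.maximalIdeal (Localization.AtPrime p)
local notation "κ" => (Localization.AtPrime p ⧸ IsLocalRing.maximalIdeal (Localization.AtPrime p))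

theorem kappa_surj (x : κ) :
    ∃ a s : A, s ∉ p ∧ x * algebraMap A κ s = algebraMap A κ a := by
  obtain ⟨z, rfl⟩ := Ideal.Quotient.mk_surjective x
  obtain ⟨⟨a, s⟩, rfl⟩ := IsLocalization.mk'_surjective p.primeCompl z
  refine ⟨a, s.1, s.2, ?_⟩
  rw [IsScalarTower.algebraMap_apply A Ap κ, IsScalarTower.algebraMap_apply A Ap κ,
    Ideal.Quotient.algebraMap_eq, ← map_mul]
  congr 1
  exact IsLocalization.mk'_spec Ap a s

theorem kappa_ne_zero (s : A) (hs : s ∉ p) : algebraMap A κ s ≠ 0 := by
  rw [IsScalarTower.algebraMap_apply A Ap κ, Ideal.Quotient.algebraMap_eq, Ne,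
    Ideal.Quotient.eq_zero_iff_mem]
  intro h
  have hu : IsUnit (algebraMap A Ap s) := IsLocalization.map_units Ap (⟨s, hs⟩ : p.primeCompl)
  exact (IsLocalRing.mem_maximalIdeal _).1 h hu

variable (N : Ideal A)

local notation "Np" => LocalizedModule p.primeCompl N
local notation "W" => (LocalizedModule p.primeCompl N ⧸ (IsLocalRing.maximalIdeal (Localization.AtPrime p) • (⊤ : Submodule (Localization.AtPrime p) (LocalizedModule p.primeCompl N))))

/-- the embedding of the torsion-free socle-type ideal `N` into a vector space over the residue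
field. -/
noncomputable def theta : N →ₗ[A] W :=
  ((𝔪 • (⊤ : Submodule Ap Np)).mkQ.restrictScalars A) ∘ₗ
    (LocalizedModule.mkLinearMap p.primeCompl N)

theorem theta_injective (hN : ∀ n ∈ N, ∀ a ∈ p, a * n = 0)
    (htf : ∀ s : A, s ∉ p → ∀ n ∈ N, s * n = 0 → n = 0) :
    Function.Injective (theta p N) := by
  have hbot : (𝔪 • (⊤ : Submodule Ap Np)) = ⊥ := by
    rw [eq_bot_iff]
    rw [Submodule.smul_le]
    intro x hx z _
    rw [Submodule.mem_bot]
    induction z using LocalizedModule.induction_on with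
    | h n t =>
      obtain ⟨a, s, rfl⟩ := IsLocalization.exists_mk'_eq p.primeCompl x
      have ha : a ∈ p := (IsLocalization.AtPrime.mk'_mem_maximal_iff Ap p a s).1 hx
      have h0 : a • n = 0 := by
        apply Subtype.ext
        change a * (n : A) = 0
        exact hN n n.2 a ha
      rw [← Localization.mk_eq_mk', LocalizedModule.mk_smul_mk, h0, LocalizedModule.zero_mk]
  have h1 : Function.Injective (LocalizedModule.mkLinearMap p.primeCompl N) := by
    rw [← LinearMap.ker_eq_bot, LinearMap.ker_eq_bot']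
    intro n hn
    obtain ⟨c, hc⟩ := (IsLocalizedModule.eq_zero_iff p.primeCompl
      (LocalizedModule.mkLinearMap p.primeCompl N)).1 hn
    have h2 : (c : A) * (n : A) = 0 := congrArg Subtype.val hc
    exact Subtype.ext (htf c c.2 n n.2 h2)
  intro n₁ n₂ h
  apply h1
  have h3 : (𝔪 • (⊤ : Submodule Ap Np)).mkQ (LocalizedModule.mkLinearMap p.primeCompl N n₁) =
      (𝔪 • (⊤ : Submodule Ap Np)).mkQ (LocalizedModule.mkLinearMap p.primeCompl N n₂) := h
  have h4 := (Submodule.Quotient.eq _).1 h3
  rw [hbot, Submodule.mem_bot, sub_eq_zero] at h4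
  exact h4

end model


section main

variable {A R : Type u} [CommRing A] [CommRing R] [Algebra A R]

/-- the ideal `ann p` is torsion-free modulo `p` when `A` has no embedded primes. -/
theorem annihilator_torsionFree [IsNoetherianRing A] (hA : NoEmbRing A) {p : Ideal A}
    (hp : p ∈ associatedPrimes A A) (s : A) (hs : s ∉ p) (n : A)
    (hn : n ∈ Submodule.annihilator p) (hsn : s * n = 0) : n = 0 := by
  by_contra hn0
  obtain ⟨P, hP, hle⟩ := exists_le_isAssociatedPrime_of_isNoetherianRing A n hn0
  have h1 : p ≤ P := by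
    intro a ha
    apply hle
    rw [Submodule.mem_colon_singleton, Submodule.mem_bot, smul_eq_mul, mul_comm]
    exact (Submodule.mem_annihilator.1 hn) a ha
  have h2 : s ∈ P := by
    apply hle
    rw [Submodule.mem_colon_singleton, Submodule.mem_bot, smul_eq_mul]
    exact hsn
  have h3 : p = P := hA P hP p hp h1
  exact hs (h3 ▸ h2)

/-- the key step: an associated prime `q = ann y` of `R` over the associated prime `p` of `A` is
the contraction of the annihilator of an element of the fibre ring. -/
theorem exists_fibre_element [IsNoetherianRing A] [Module.Free A R] (hA : NoEmbRing A)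
    (p : Ideal A) [hpp : p.IsPrime] (hp : p ∈ associatedPrimes A A) (q : Ideal R) [hq : q.IsPrime]
    (y : R) (hqy : ∀ r : R, r ∈ q ↔ r * y = 0) (hpq : ∀ a ∈ p, algebraMap A R a ∈ q) :
    ∃ v : R ⊗[A] (Localization.AtPrime p ⧸ IsLocalRing.maximalIdeal (Localization.AtPrime p)),
      ∀ r : R, r ∈ q ↔ algebraMap R (R ⊗[A] (Localization.AtPrime p ⧸
        IsLocalRing.maximalIdeal (Localization.AtPrime p))) r * v = 0 := by
  classical
  letI : Field (Localization.AtPrime p ⧸ IsLocalRing.maximalIdeal (Localization.AtPrime p)) :=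
    Ideal.Quotient.field _
  let N : Ideal A := Submodule.annihilator p
  have hN : ∀ n ∈ N, ∀ a ∈ p, a * n = 0 := by
    intro n hn a ha
    rw [mul_comm]
    exact (Submodule.mem_annihilator.1 hn) a ha
  have htf : ∀ s : A, s ∉ p → ∀ n ∈ N, s * n = 0 → n = 0 := fun s hs n hn hsn =>
    annihilator_torsionFree hA hp s hs n hn hsn
  have hcoord : ∀ t, (Module.Free.chooseBasis A R).repr y t ∈ N := by
    intro t
    rw [Submodule.mem_annihilator]
    intro a ha
    have h1 : algebraMap A R a * y = 0 := (hqy _).1 (hpq a ha)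
    have h2 : a • y = 0 := by rw [Algebra.smul_def]; exact h1
    have h3 := congrArg (fun f => f t) (congrArg (Module.Free.chooseBasis A R).repr h2)
    simp only [map_smul, Finsupp.smul_apply, smul_eq_mul, map_zero, Finsupp.coe_zero,
      Pi.zero_apply] at h3
    rw [smul_eq_mul, mul_comm]
    exact h3
  obtain ⟨y', hy'⟩ := exists_lift N y hcoord
  exact exists_single N (theta p N) (theta_injective p N hN htf) y' q
    (fun r => (hqy r).trans (hy' r))

/-- **Ascent**: a free extension `A → R` of Noetherian rings whose fibre rings over the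
associated primes of `A` have no embedded primes preserves the absence of embedded primes. -/
theorem noEmbRing_of_fibres [IsNoetherianRing A] [IsNoetherianRing R] [Module.Free A R]
    (hA : NoEmbRing A)
    (hfib : ∀ (p : Ideal A) [p.IsPrime], NoEmbRing
      (R ⊗[A] (Localization.AtPrime p ⧸ IsLocalRing.maximalIdeal (Localization.AtPrime p)))) :
    NoEmbRing R := by
  intro q hq q' hq' hle
  haveI hqp : q.IsPrime := hq.isPrime
  haveI hqp' : q'.IsPrime := hq'.isPrime
  have hp : q.comap (algebraMap A R) ∈ associatedPrimes A A := comap_mem_ass_of_free hq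
  have hp' : q'.comap (algebraMap A R) ∈ associatedPrimes A A := comap_mem_ass_of_free hq'
  have hpe : q'.comap (algebraMap A R) = q.comap (algebraMap A R) :=
    hA _ hp _ hp' (Ideal.comap_mono hle)
  set p := q.comap (algebraMap A R) with hpdef
  haveI hpp : p.IsPrime := hp.isPrime
  letI : Field (Localization.AtPrime p ⧸ IsLocalRing.maximalIdeal (Localization.AtPrime p)) :=
    Ideal.Quotient.field _
  obtain ⟨-, y, hy⟩ := (Submodule.isAssociatedPrime_iff).1 hq
  obtain ⟨-, y', hy'⟩ := (Submodule.isAssociatedPrime_iff).1 hq'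
  have hqy : ∀ r : R, r ∈ q ↔ r * y = 0 := by
    intro r
    rw [hy, Submodule.mem_colon_singleton]
    simp
  have hqy' : ∀ r : R, r ∈ q' ↔ r * y' = 0 := by
    intro r
    rw [hy', Submodule.mem_colon_singleton]
    simp
  obtain ⟨v, hv⟩ := exists_fibre_element hA p hp q y hqy (fun a ha => ha)
  obtain ⟨v', hv'⟩ := exists_fibre_element hA p hp q' y' hqy'
    (fun a ha => by
      have : a ∈ q'.comap (algebraMap A R) := by rw [hpe]; exact ha
      exact this)
  let Rκ := R ⊗[A] (Localization.AtPrime p ⧸ IsLocalRing.maximalIdeal (Localization.AtPrime p))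
  let 𝔞 : Ideal Rκ := (⊥ : Submodule Rκ Rκ).colon {v}
  let 𝔞' : Ideal Rκ := (⊥ : Submodule Rκ Rκ).colon {v'}
  have hc : 𝔞.comap (algebraMap R Rκ) = q := by
    ext r
    rw [Ideal.mem_comap, Submodule.mem_colon_singleton, Submodule.mem_bot, smul_eq_mul, hv]
  have hc' : 𝔞'.comap (algebraMap R Rκ) = q' := by
    ext r
    rw [Ideal.mem_comap, Submodule.mem_colon_singleton, Submodule.mem_bot, smul_eq_mul, hv']
  have hκ1 := kappa_surj p
  have hκ2 := kappa_ne_zero p
  have h𝔞p : 𝔞.IsPrime := isPrime_of_comap (R := R) p hκ1 hκ2 𝔞 (by rw [hc]; exact hqp)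
  have h𝔞p' : 𝔞'.IsPrime := isPrime_of_comap (R := R) p hκ1 hκ2 𝔞' (by rw [hc']; exact hqp')
  have hass : 𝔞 ∈ associatedPrimes Rκ Rκ := by
    rw [mem_ass_iff']
    refine ⟨h𝔞p, v, fun z => ⟨fun hz => ⟨1, ?_⟩, fun ⟨n, hn⟩ => ?_⟩⟩
    · rw [pow_one]
      have := (Submodule.mem_colon_singleton).1 hz
      simpa using this
    · apply h𝔞p.mem_of_pow_mem n
      rw [Submodule.mem_colon_singleton, Submodule.mem_bot, smul_eq_mul]
      exact hn
  have hass' : 𝔞' ∈ associatedPrimes Rκ Rκ := by
    rw [mem_ass_iff']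
    refine ⟨h𝔞p', v', fun z => ⟨fun hz => ⟨1, ?_⟩, fun ⟨n, hn⟩ => ?_⟩⟩
    · rw [pow_one]
      have := (Submodule.mem_colon_singleton).1 hz
      simpa using this
    · apply h𝔞p'.mem_of_pow_mem n
      rw [Submodule.mem_colon_singleton, Submodule.mem_bot, smul_eq_mul]
      exact hn
  have hle' : 𝔞' ≤ 𝔞 := le_of_comap_le (R := R) p hκ1 hκ2 𝔞' 𝔞 (by rw [hc, hc']; exact hle)
  have heq : 𝔞' = 𝔞 := hfib p 𝔞 hass 𝔞' hass' hle'
  rw [← hc, ← hc', heq]

end main

end Groth.Agent.Lib.helper16.NoEmb
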