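import Mathlib
import Groth.Agent.Lib.Helper16.NoEmbBC4
import Groth.Agent.Lib.Helper16.NoEmb2

/-!
# Embedded primes and extension of the base field (helper16)
-/

set_option autoImplicit false
universe u
open TensorProduct

namespace Groth.Agent.Lib.helper16.NoEmb

/-- **Ring form of S2513**: for a Noetherian algebra `A` over a field `k` and a field extension
`K` with `A ⊗[k] K` Noetherian, `A` has no embedded primes iff `A ⊗[k] K` has none. -/
theorem noEmbRing_baseChange_iff (k K A : Type u) [Field k] [Field K] [Algebra k K] [CommRing A]
    [Algebra k A] [IsNoetherianRing A] [IsNoetherianRing (A ⊗[k] K)] :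
    NoEmbRing A ↔ NoEmbRing (A ⊗[k] K) := by
  constructor
  · intro hA
    refine noEmbRing_of_fibres hA (fun p hp => ?_)
    letI : Field (Localization.AtPrime p ⧸ IsLocalRing.maximalIdeal (Localization.AtPrime p)) :=
      Ideal.Quotient.field _
    have h1 : NoEmbRing ((Localization.AtPrime p ⧸
        IsLocalRing.maximalIdeal (Localization.AtPrime p)) ⊗[k] K) := noEmbRing_tensor k _ K
    let e1 := Algebra.TensorProduct.comm A (A ⊗[k] K)
      (Localization.AtPrime p ⧸ IsLocalRing.maximalIdeal (Localization.AtPrime p))
    let e2 := Algebra.TensorProduct.cancelBaseChange k A A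
      (Localization.AtPrime p ⧸ IsLocalRing.maximalIdeal (Localization.AtPrime p)) K
    exact h1.of_ringEquiv (e1.toRingEquiv.trans e2.toRingEquiv)
  · intro hR
    rcases subsingleton_or_nontrivial A with hs | hn
    · intro p hp
      exact absurd (Subsingleton.elim (1 : A) 0 ▸ p.zero_mem : (1 : A) ∈ p)
        (fun h => hp.isPrime.ne_top ((Ideal.eq_top_iff_one _).2 h))
    · haveI : Nontrivial (A ⊗[k] K) :=
        (Algebra.TensorProduct.includeLeft_injective (R := k) (S := k) (A := A) (B := K)
          (FaithfulSMul.algebraMap_injective k K)).nontrivial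
      exact noEmbRing_of_noEmbRing_free hR

end Groth.Agent.Lib.helper16.NoEmb
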