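import Mathlib
import Groth.Prelude
import Groth.Agent.Lib.Helper16.NoEmbBC5
import Groth.Agent.Lib.Helper16.NoEmb3
import Groth.Agent.Lib.Helper16.QCohAss

/-!
# Embedded points and extension of the base field (helper16)
-/

set_option autoImplicit false
universe u
open TensorProduct CategoryTheory CategoryTheory.Limits AlgebraicGeometry

namespace Groth.Agent.Lib.helper16.NoEmb

/-- converse of `noEmbedded_of_affine_charts`. -/
theorem noEmbRing_of_noEmbedded {P : Scheme.{u}} [IsLocallyNoetherian P]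
    (h : AssSch.NoEmbedded (Coh.structureModule P)) {U : P.Opens} (hU : IsAffineOpen U) :
    NoEmbRing Γ(P, U) := by
  intro p hp q hq hqp
  have : (Coh.structureModule P).IsQuasicoherent :=
    Groth.Agent.Lib.helper8.Dev.isQuasicoherent_structureModule P
  haveI := hp.isPrime
  haveI := hq.isPrime
  let Pp : PrimeSpectrum Γ(P, U) := ⟨p, inferInstance⟩
  let Qq : PrimeSpectrum Γ(P, U) := ⟨q, inferInstance⟩
  have hxU := QCohAss.fromSpec_mem hU Pp
  have hyU := QCohAss.fromSpec_mem hU Qq
  have e1 := QCohAss.primeIdealOf_fromSpec hU Pp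
  have e2 := QCohAss.primeIdealOf_fromSpec hU Qq
  have hx : hU.fromSpec Pp ∈ AssSch.Ass (Coh.structureModule P) := by
    rw [PrimDec.mem_ass_iff (Coh.structureModule P) hU _ hxU, e1]
    exact hp
  have hy : hU.fromSpec Qq ∈ AssSch.Ass (Coh.structureModule P) := by
    rw [PrimDec.mem_ass_iff (Coh.structureModule P) hU _ hyU, e2]
    exact hq
  have hspec : hU.fromSpec Qq ⤳ hU.fromSpec Pp := by
    apply QCohAss.specializes_of_le hU _ _ hxU hyU
    rw [e1, e2]
    exact hqp
  have h1 := h _ hx _ hy hspec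
  have h2 : Pp = Qq := hU.fromSpec.isOpenEmbedding.injective h1
  exact (congrArg PrimeSpectrum.asIdeal h2).symm

/-- sections over the image of an open immersion from an affine scheme. -/
theorem noEmbRing_opensRange_iff {W P : Scheme.{u}} (ι : W ⟶ P) [IsOpenImmersion ι] :
    NoEmbRing Γ(P, ι.opensRange) ↔ NoEmbRing Γ(W, ⊤) := by
  let ψ : Γ(P, ι.opensRange) ≅ Γ(W, ⊤) :=
    P.presheaf.mapIso (eqToIso (by rw [Scheme.Hom.image_top_eq_opensRange])) ≪≫ ι.appIso ⊤
  exact ⟨fun h => h.of_ringEquiv ψ.symm.commRingCatIsoToRingEquiv,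
    fun h => h.of_ringEquiv ψ.commRingCatIsoToRingEquiv⟩

variable {k K : Type u} [Field k] [Field K] [Algebra k K]

/-- the affine case -/
theorem noEmbRing_chart_iff {X : Scheme.{u}} [IsAffine X] (p : X ⟶ Spec (CommRingCat.of k))
    [IsNoetherianRing Γ(X, ⊤)]
    [IsNoetherianRing Γ(pullback p (Spec.map (CommRingCat.ofHom (algebraMap k K))), ⊤)] :
    NoEmbRing Γ(X, ⊤) ↔
      NoEmbRing Γ(pullback p (Spec.map (CommRingCat.ofHom (algebraMap k K))), ⊤) := by
  let A : CommRingCat.{u} := Γ(X, ⊤)
  let φA : CommRingCat.of k ⟶ A := (Scheme.ΓSpecIso (.of k)).inv ≫ p.appTop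
  have hA : X.isoSpec.hom ≫ Spec.map φA = p := by
    rw [Spec.map_comp, Scheme.isoSpec_hom, ← Category.assoc, ← Scheme.toSpecΓ_naturality,
      Category.assoc, toSpecΓ_SpecMap_ΓSpecIso_inv, Category.comp_id]
  let _ : Algebra k A := φA.hom.toAlgebra
  let e₁ : pullback p (Spec.map (CommRingCat.ofHom (algebraMap k K))) ⟶
      pullback (Spec.map (CommRingCat.ofHom (algebraMap k A)))
        (Spec.map (CommRingCat.ofHom (algebraMap k K))) :=
    pullback.map p _ _ _ X.isoSpec.hom (𝟙 _) (𝟙 _) (by rw [Category.comp_id]; exact hA.symm)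
      (by rw [Category.comp_id, Category.id_comp])
  have : IsIso e₁ := by unfold e₁; infer_instance
  let φ : pullback p (Spec.map (CommRingCat.ofHom (algebraMap k K))) ⟶
      Spec (CommRingCat.of (A ⊗[k] K)) := e₁ ≫ (pullbackSpecIso k A K).hom
  have : IsIso φ := by unfold φ; infer_instance
  let ψ : Γ(pullback p (Spec.map (CommRingCat.ofHom (algebraMap k K))), ⊤) ≅
      CommRingCat.of (A ⊗[k] K) :=
    (Scheme.Γ.mapIso (asIso φ).op).symm ≪≫ Scheme.ΓSpecIso _
  haveI : IsNoetherianRing A := inferInstanceAs (IsNoetherianRing Γ(X, ⊤))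
  haveI : IsNoetherianRing (A ⊗[k] K) :=
    isNoetherianRing_of_ringEquiv _ ψ.commRingCatIsoToRingEquiv
  exact (noEmbRing_baseChange_iff k K A).trans
    ⟨fun h => h.of_ringEquiv ψ.commRingCatIsoToRingEquiv,
      fun h => h.of_ringEquiv ψ.symm.commRingCatIsoToRingEquiv⟩


/-- **S2513**: absence of embedded points is insensitive to extension of the base field. -/
theorem main_baseChange {X : Scheme.{u}} (f : X ⟶ Spec (CommRingCat.of k)) [IsLocallyNoetherian X]
    [IsLocallyNoetherian ↑(pullback f (Spec.map (CommRingCat.ofHom (algebraMap k K))))] :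
    AssSch.NoEmbedded (Coh.structureModule X) ↔
      AssSch.NoEmbedded (Coh.structureModule
        ↑(pullback f (Spec.map (CommRingCat.ofHom (algebraMap k K))))) := by
  let g : Spec (CommRingCat.of K) ⟶ Spec (CommRingCat.of k) :=
    Spec.map (CommRingCat.ofHom (algebraMap k K))
  let 𝒰 := Scheme.Pullback.openCoverOfLeft X.affineCover f g
  -- the chart-wise equivalence
  have hchart : ∀ i : X.affineCover.I₀,
      NoEmbRing Γ(X, (X.affineCover.f i).opensRange) ↔
        NoEmbRing Γ(pullback f g, (𝒰.f i).opensRange) := by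
    intro i
    have : IsOpenImmersion (𝒰.f i) := 𝒰.map_prop i
    have : IsAffine (X.affineCover.X i) := inferInstance
    have : IsLocallyNoetherian (X.affineCover.X i) :=
      isLocallyNoetherian_of_isOpenImmersion (X.affineCover.f i)
    have hln : IsLocallyNoetherian (𝒰.X i) := isLocallyNoetherian_of_isOpenImmersion (𝒰.f i)
    have : IsLocallyNoetherian (pullback (X.affineCover.f i ≫ f) g) := hln
    have : IsAffine (pullback (X.affineCover.f i ≫ f) g) := inferInstance
    haveI : IsNoetherianRing Γ(X.affineCover.X i, ⊤) :=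
      IsLocallyNoetherian.component_noetherian ⟨⊤, isAffineOpen_top _⟩
    haveI : IsNoetherianRing Γ(pullback (X.affineCover.f i ≫ f) g, ⊤) :=
      IsLocallyNoetherian.component_noetherian ⟨⊤, isAffineOpen_top _⟩
    exact (noEmbRing_opensRange_iff (X.affineCover.f i)).trans
      ((noEmbRing_chart_iff (K := K) (X.affineCover.f i ≫ f)).trans
        (noEmbRing_opensRange_iff (𝒰.f i)).symm)
  constructor
  · intro hX
    refine noEmbedded_of_affine_charts (fun z => ?_)
    obtain ⟨i, w, hw⟩ := 𝒰.exists_eq z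
    have : IsOpenImmersion (𝒰.f i) := 𝒰.map_prop i
    have haff : IsAffine (pullback (X.affineCover.f i ≫ f) g) := inferInstance
    have : IsAffine (𝒰.X i) := haff
    refine ⟨(𝒰.f i).opensRange, isAffineOpen_opensRange (𝒰.f i), ⟨w, hw⟩, ?_⟩
    exact (hchart i).1 (noEmbRing_of_noEmbedded hX (isAffineOpen_opensRange (X.affineCover.f i)))
  · intro hP
    refine noEmbedded_of_affine_charts (fun x => ?_)
    obtain ⟨i, w, hw⟩ := X.affineCover.exists_eq x
    have : IsOpenImmersion (𝒰.f i) := 𝒰.map_prop i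
    have haff : IsAffine (pullback (X.affineCover.f i ≫ f) g) := inferInstance
    have : IsAffine (𝒰.X i) := haff
    refine ⟨(X.affineCover.f i).opensRange, isAffineOpen_opensRange (X.affineCover.f i),
      ⟨w, hw⟩, ?_⟩
    exact (hchart i).2 (noEmbRing_of_noEmbedded hP (isAffineOpen_opensRange (𝒰.f i)))

end Groth.Agent.Lib.helper16.NoEmb
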