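import Mathlib
import Groth.Prelude.Def_CurvBase
import Groth.Agent.S4442

/-!
# Normal completion of a normal curve, part 1 (helper16)

The function field of an integral algebraic curve over `k` is a finitely generated extension of
transcendence degree one.
-/

set_option autoImplicit false
universe u
open CategoryTheory CategoryTheory.Limits AlgebraicGeometry

namespace Groth.Agent.Lib.helper16.NormCompl

variable (k : Type u) [Field k] (X : Scheme.{u}) [X.Over (Spec (CommRingCat.of k))]

attribute [local instance] Curv2.stalkAlgebra Curv2.resAlgebra

/-- the residue map at the generic point as a `k`-algebra isomorphism -/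
noncomputable def residueAlgEquiv [IsIntegral X] :
    X.presheaf.stalk (genericPoint X) ≃ₐ[k] X.residueField (genericPoint X) :=
  AlgEquiv.ofBijective
    { toRingHom := (X.residue (genericPoint X)).hom
      commutes' := fun c => rfl }
    ⟨by
      letI : Field (X.presheaf.stalk (genericPoint X)) :=
        (inferInstance : Field X.functionField)
      exact RingHom.injective (X.residue (genericPoint X)).hom,
      X.residue_surjective (genericPoint X)⟩

theorem trdeg_functionField [IsIntegral X] [LocallyOfFiniteType (X ↘ (Spec (CommRingCat.of k)))]
    [QuasiCompact (X ↘ (Spec (CommRingCat.of k)))]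
    (hcurve : ∀ x : X, IsClosed ({x} : Set X) → ringKrullDim (X.presheaf.stalk x) = 1) :
    Algebra.trdeg k (X.presheaf.stalk (genericPoint X)) = 1 := by
  rw [(residueAlgEquiv k X).trdeg_eq]
  refine (Groth.Agent.S4442.result k X).mpr hcurve (genericPoint X) ?_
  rw [genericPoint_spec X]
  have : irreducibleComponents (X : Type u) = {Set.univ} := irreducibleComponents_eq_singleton
  rw [this]
  rfl

end Groth.Agent.Lib.helper16.NormCompl
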