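import Mathlib

set_option autoImplicit false

namespace Groth.Agent.Lib.helper16.NormCurve

universe u

open Polynomial

section alg

variable (k : Type u) [Field k] (K : Type u) [Field K] [Algebra k K]

/-- A field extension of transcendence degree one contains a transcendental element `t` over whose
adjoined subalgebra it is algebraic. -/
theorem exists_transcendental_isAlgebraic (htr : Algebra.trdeg k K = 1) :
    ∃ t : K, Transcendental k t ∧ Algebra.IsAlgebraic (Algebra.adjoin k {t}) K := by
  have h1 : Algebra.Transcendental k K := by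
    rw [← trdeg_ne_zero_iff, htr]
    exact one_ne_zero
  obtain ⟨t, ht⟩ := h1.transcendental
  refine ⟨t, ht, ?_⟩
  have hind : AlgebraicIndependent k (fun _ : PUnit.{u+1} => t) := by
    rw [algebraicIndependent_unique_type_iff]
    exact ht
  have hb : IsTranscendenceBasis k (fun _ : PUnit.{u+1} => t) := by
    apply hind.isTranscendenceBasis_of_trdeg_le_of_finite
    rw [htr]
    simp
  have := hb.isAlgebraic
  have h2 : Set.range (fun _ : PUnit.{u+1} => t) = {t} := by
    ext z; simp [eq_comm]
  rw [h2] at this
  exact this

variable {k K}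

/-- If `K` is algebraic over `k[t]` and `φ : A → K` is a `k`-algebra map with `t` in its range, then
every element of `K` has a multiple by a nonzero element of the range which is integral over `A`. -/
theorem exists_integral_multiple_of_mem_range {t : K}
    (halg : Algebra.IsAlgebraic (Algebra.adjoin k {t}) K)
    {A : Type*} [CommRing A] [Algebra k A] (φ : A →ₐ[k] K) (ht : t ∈ φ.range) (y : K) :
    ∃ a : A, φ a ≠ 0 ∧ φ.toRingHom.IsIntegralElem (φ a * y) := by
  have hle : Algebra.adjoin k {t} ≤ φ.range := Algebra.adjoin_le (by simpa using ht)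
  obtain ⟨s, hs0, hint⟩ := (halg.isAlgebraic y).exists_integral_multiple
  obtain ⟨a, ha⟩ := hle s.2
  replace ha : φ a = (s : K) := ha
  refine ⟨a, ?_, ?_⟩
  · rw [ha]
    intro h
    exact hs0 (Subtype.ext h)
  · obtain ⟨p, hp, hpy⟩ := hint
    -- the polynomial with coefficients in `K`
    set P : K[X] := p.map (algebraMap (Algebra.adjoin k {t}) K) with hP
    have hPm : P.Monic := hp.map _
    have hPl : P ∈ Polynomial.lifts φ.toRingHom := by
      rw [Polynomial.lifts_iff_coeff_lifts]
      intro n
      rw [hP, Polynomial.coeff_map]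
      obtain ⟨b, hb⟩ := hle (p.coeff n).2
      exact ⟨b, hb⟩
    obtain ⟨q, hq, -, hqm⟩ := Polynomial.lifts_and_degree_eq_and_monic hPl hPm
    refine ⟨q, hqm, ?_⟩
    rw [← Polynomial.eval_map, hq, hP, Polynomial.eval_map, ha]
    rw [Algebra.smul_def] at hpy
    exact hpy

end alg

end Groth.Agent.Lib.helper16.NormCurve
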