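import Mathlib
import Groth.Prelude.Def_CohB1
import Groth.Agent.Lib.Helper19.ProjSpaceProper

set_option autoImplicit false

namespace Groth.Agent.Lib.helper16.NormCurve

universe u

open CategoryTheory CategoryTheory.Limits AlgebraicGeometry HomogeneousLocalization

noncomputable section

variable (k : Type u) [Field k] (K : Type u) [Field K] [Algebra k K] (t : K)

/-- evaluation `X₀ ↦ 1`, `X₁ ↦ t`. -/
def ev : MvPolynomial (Fin 2) k →ₐ[k] K := MvPolynomial.aeval ![1, t]

lemma ev_X0 : ev k K t (MvPolynomial.X 0) = 1 := by simp [ev]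

lemma ev_X1 : ev k K t (MvPolynomial.X 1) = t := by simp [ev]

lemma isUnit_ev_X0 : IsUnit ((ev k K t).toRingHom (MvPolynomial.X 0)) := by
  show IsUnit (ev k K t (MvPolynomial.X 0))
  rw [ev_X0]; exact isUnit_one

lemma X_mem (i : Fin 2) : (MvPolynomial.X i : MvPolynomial (Fin 2) k) ∈ CohB1.polyGrading 1 k 1 :=
  MvPolynomial.isHomogeneous_X k i

/-- the chart ring map `k[X₀,X₁]_(X₀) → K`. -/
def phi0 : Away (CohB1.polyGrading 1 k) (MvPolynomial.X 0 : MvPolynomial (Fin 2) k) →+* K :=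
  (IsLocalization.Away.lift (S := Localization.Away (MvPolynomial.X 0 : MvPolynomial (Fin 2) k))
    (MvPolynomial.X 0 : MvPolynomial (Fin 2) k) (isUnit_ev_X0 k K t)).comp
    (algebraMap _ (Localization.Away (MvPolynomial.X 0 : MvPolynomial (Fin 2) k)))

lemma phi0_mk (n : ℕ) (a : MvPolynomial (Fin 2) k) (ha : a ∈ CohB1.polyGrading 1 k (n • 1)) :
    phi0 k K t (Away.mk (CohB1.polyGrading 1 k) (X_mem k 0) n a ha) = ev k K t a := by
  simp only [phi0, RingHom.comp_apply, HomogeneousLocalization.algebraMap_apply, Away.val_mk]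
  rw [Localization.mk_eq_mk', IsLocalization.Away.lift, IsLocalization.lift_mk'_spec]
  simp [ev_X0]

lemma mem_range_phi0 : t ∈ (phi0 k K t).range := by
  refine ⟨Away.mk (CohB1.polyGrading 1 k) (X_mem k 0) 1 (MvPolynomial.X 1) (by simpa using X_mem k 1), ?_⟩
  rw [phi0_mk, ev_X1]

lemma phi0_fromZero (c : k) :
    phi0 k K t (fromZeroRingHom (CohB1.polyGrading 1 k) _ (algebraMap k (CohB1.polyGrading 1 k 0) c)) =
      algebraMap k K c := by
  simp only [phi0, RingHom.comp_apply, HomogeneousLocalization.algebraMap_apply, fromZeroRingHom]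
  show (IsLocalization.Away.lift (MvPolynomial.X 0) _)
    (HomogeneousLocalization.mk ⟨0, algebraMap k (CohB1.polyGrading 1 k 0) c, 1, _⟩).val = _
  rw [HomogeneousLocalization.val_mk, Localization.mk_eq_mk', IsLocalization.Away.lift,
    IsLocalization.lift_mk'_spec]
  show ev k K t (algebraMap k (MvPolynomial (Fin 2) k) c) = _
  simp [ev]

/-- the chart `Spec k[X₀,X₁]_(X₀) → P¹`. -/
def j0 : Spec (CommRingCat.of (Away (CohB1.polyGrading 1 k)
    (MvPolynomial.X 0 : MvPolynomial (Fin 2) k))) ⟶ CohB1.ProjSpace 1 k :=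
  Proj.awayι (CohB1.polyGrading 1 k) (MvPolynomial.X 0) (X_mem k 0) one_pos

instance : IsOpenImmersion (j0 k) := by
  unfold j0
  exact inferInstanceAs (IsOpenImmersion (Proj.awayι (CohB1.polyGrading 1 k) (MvPolynomial.X 0)
    (X_mem k 0) one_pos))

/-- the `K`-point `(1 : t)` of `P¹_k`. -/
def g : Spec (CommRingCat.of K) ⟶ CohB1.ProjSpace 1 k :=
  Spec.map (CommRingCat.ofHom (phi0 k K t)) ≫ j0 k

lemma g_toSpec : g k K t ≫ CohB1.ProjSpace.toSpec 1 k =
    Spec.map (CommRingCat.ofHom (algebraMap k K)) := by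
  have h := Proj.awayι_toSpecZero (CohB1.polyGrading 1 k) (MvPolynomial.X 0) (X_mem k 0) one_pos
  have h2 : g k K t ≫ CohB1.ProjSpace.toSpec 1 k = Spec.map (CommRingCat.ofHom (phi0 k K t)) ≫
      ((Proj.awayι (CohB1.polyGrading 1 k) (MvPolynomial.X 0) (X_mem k 0) one_pos ≫
        Proj.toSpecZero (CohB1.polyGrading 1 k)) ≫
          Spec.map (CommRingCat.ofHom (algebraMap k (CohB1.polyGrading 1 k 0)))) := by
    simp only [g, j0, CohB1.ProjSpace.toSpec, Category.assoc]
    rfl
  rw [h2, h, ← Spec.map_comp, ← Spec.map_comp]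
  congr 1
  ext c
  exact phi0_fromZero k K t c

instance : QuasiSeparated (g k K t) := by
  haveI : QuasiSeparated (g k K t ≫ CohB1.ProjSpace.toSpec 1 k) := by
    rw [g_toSpec]; infer_instance
  exact QuasiSeparated.of_comp _ (CohB1.ProjSpace.toSpec 1 k)

instance : QuasiCompact (g k K t) := by
  haveI : QuasiCompact (g k K t ≫ CohB1.ProjSpace.toSpec 1 k) := by
    rw [g_toSpec]; infer_instance
  haveI : IsProper (CohB1.ProjSpace.toSpec 1 k) :=
    Groth.Agent.Lib.helper19.ProjSpaceProper.proper_toSpec 1 k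
  exact MorphismProperty.of_postcomp (W := @QuasiCompact) (W' := @QuasiSeparated) _
    (CohB1.ProjSpace.toSpec 1 k) inferInstance inferInstance

end

end Groth.Agent.Lib.helper16.NormCurve
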