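import Mathlib
import Groth.Agent.Lib.Helper16.NormCurve1
import Groth.Agent.Lib.Helper16.NormCurve2

set_option autoImplicit false

namespace Groth.Agent.Lib.helper16.NormCurve

universe u

open CategoryTheory CategoryTheory.Limits AlgebraicGeometry HomogeneousLocalization

noncomputable section

variable (k : Type u) [Field k] (K : Type u) [Field K] [Algebra k K] (t : K)

/-- the standard chart `D₊(X₀)` of `P¹_k`. -/
def U0 : (CohB1.ProjSpace 1 k).Opens := (j0 k).opensRange

lemma isAffineOpen_U0 : IsAffineOpen (U0 k) := isAffineOpen_opensRange (j0 k)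

lemma g_preimage_U0 : g k K t ⁻¹ᵁ U0 k = ⊤ := by
  rw [eq_top_iff]
  intro x _
  show (g k K t) x ∈ (j0 k).opensRange
  rw [g, Scheme.Hom.comp_apply]
  exact ⟨_, rfl⟩

lemma j0_preimage_U0 : j0 k ⁻¹ᵁ U0 k = ⊤ := by
  rw [eq_top_iff]
  intro x _
  exact ⟨x, rfl⟩

/-- sections over the chart, evaluated in `K`. -/
def gamma : Γ(CohB1.ProjSpace 1 k, U0 k) →+* K :=
  (Scheme.ΓSpecIso (CommRingCat.of K)).hom.hom.comp
    ((g k K t).appLE (U0 k) ⊤ (by rw [g_preimage_U0])).hom

/-- the chart isomorphism on sections. -/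
def beta : Γ(CohB1.ProjSpace 1 k, U0 k) →+*
    Away (CohB1.polyGrading 1 k) (MvPolynomial.X 0 : MvPolynomial (Fin 2) k) :=
  (Scheme.ΓSpecIso (CommRingCat.of (Away (CohB1.polyGrading 1 k)
    (MvPolynomial.X 0 : MvPolynomial (Fin 2) k)))).hom.hom.comp
    ((j0 k).appLE (U0 k) ⊤ (by rw [j0_preimage_U0])).hom

lemma beta_surjective : Function.Surjective (beta k) := by
  have h1 : IsIso ((j0 k).appLE (U0 k) ⊤ (by rw [j0_preimage_U0])) := by
    rw [Scheme.Hom.appLE]
    haveI := (j0 k).isIso_app (U0 k) le_rfl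
    haveI : IsIso (homOfLE (show (⊤ : (Spec (CommRingCat.of (Away (CohB1.polyGrading 1 k)
        (MvPolynomial.X 0 : MvPolynomial (Fin 2) k)))).Opens) ≤ j0 k ⁻¹ᵁ U0 k by
          rw [j0_preimage_U0])) :=
      ⟨⟨homOfLE le_top, Subsingleton.elim _ _, Subsingleton.elim _ _⟩⟩
    infer_instance
  have h2 : Function.Bijective ((j0 k).appLE (U0 k) ⊤ (by rw [j0_preimage_U0])).hom :=
    ConcreteCategory.bijective_of_isIso _
  have h3 : Function.Bijective (Scheme.ΓSpecIso (CommRingCat.of (Away (CohB1.polyGrading 1 k)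
      (MvPolynomial.X 0 : MvPolynomial (Fin 2) k)))).hom.hom :=
    ConcreteCategory.bijective_of_isIso _
  exact h3.surjective.comp h2.surjective

lemma gamma_eq : gamma k K t = (phi0 k K t).comp (beta k) := by
  have h := Scheme.Hom.appLE_comp_appLE (Spec.map (CommRingCat.ofHom (phi0 k K t))) (j0 k) (U0 k) ⊤ ⊤
    (by rw [j0_preimage_U0]) le_top
  have h' : (g k K t).appLE (U0 k) ⊤ (by rw [g_preimage_U0]) =
      (j0 k).appLE (U0 k) ⊤ (by rw [j0_preimage_U0]) ≫
        (Spec.map (CommRingCat.ofHom (phi0 k K t))).appLE ⊤ ⊤ le_top := h.symm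
  ext s
  simp only [gamma, beta, RingHom.comp_apply, h', CommRingCat.hom_comp]
  have h4 := Scheme.ΓSpecIso_naturality (CommRingCat.ofHom (phi0 k K t))
  have h5 := congrArg (fun f => f.hom (((j0 k).appLE (U0 k) ⊤ (by rw [j0_preimage_U0])).hom s)) h4
  simp only [CommRingCat.hom_comp, RingHom.comp_apply, CommRingCat.hom_ofHom] at h5
  exact h5

lemma mem_range_gamma : t ∈ (gamma k K t).range := by
  obtain ⟨a, ha⟩ := mem_range_phi0 k K t
  obtain ⟨s, rfl⟩ := beta_surjective k a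
  exact ⟨s, by rw [gamma_eq]; exact ha⟩

end

end Groth.Agent.Lib.helper16.NormCurve
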