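import Mathlib
import Groth.Agent.Lib.Helper16.NormCurve3

set_option autoImplicit false

namespace Groth.Agent.Lib.helper16.NormCurve

universe u

open CategoryTheory CategoryTheory.Limits AlgebraicGeometry HomogeneousLocalization

noncomputable section

section general

variable (k : Type u) [CommRing k]

/-- the structure sections `k → Γ(X, U)` of a scheme over `Spec k`. -/
def sec {X : Scheme.{u}} (p : X ⟶ Spec (CommRingCat.of k)) (U : X.Opens) : k →+* Γ(X, U) :=
  (p.appLE ⊤ U le_top).hom.comp (Scheme.ΓSpecIso (CommRingCat.of k)).inv.hom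

lemma appLE_sec {X Y : Scheme.{u}} (p : X ⟶ Spec (CommRingCat.of k))
    (q : Y ⟶ Spec (CommRingCat.of k)) (f : Y ⟶ X) (hf : f ≫ p = q) (U : X.Opens) (V : Y.Opens)
    (e : V ≤ f ⁻¹ᵁ U) (c : k) : (f.appLE U V e).hom (sec k p U c) = sec k q V c := by
  subst hf
  have h := Scheme.Hom.appLE_comp_appLE f p ⊤ U V le_top e
  simp only [sec, RingHom.comp_apply]
  rw [← h]
  rfl

lemma map_sec {X : Scheme.{u}} (p : X ⟶ Spec (CommRingCat.of k)) (U V : X.Opens) (i : Opposite.op U ⟶ Opposite.op V)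
    (c : k) : (X.presheaf.map i).hom (sec k p U c) = sec k p V c := by
  have h := Scheme.Hom.appLE_map p (U := ⊤) (V := U) (V' := V) le_top i
  simp only [sec, RingHom.comp_apply]
  rw [← h]
  rfl

lemma sec_top_eq_toGlobal {X : Scheme.{u}} (p : X ⟶ Spec (CommRingCat.of k)) :
    sec k p ⊤ = Coh.toGlobal p := by
  ext c
  simp only [sec, Coh.toGlobal, RingHom.comp_apply, Scheme.Hom.appLE]
  simp

/-- A subring-of-field criterion for the integral closure to have the whole field as fraction field. -/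
theorem isFractionRing_integralClosure_of_exists {A L : Type*} [CommRing A] [Field L] [Algebra A L]
    (h : ∀ y : L, ∃ a : A, algebraMap A L a ≠ 0 ∧ IsIntegral A (algebraMap A L a * y)) :
    IsFractionRing (integralClosure A L) L where
  map_units := fun ⟨y, hy⟩ => by
    refine IsUnit.mk0 _ ?_
    intro h0
    apply mem_nonZeroDivisors_iff_ne_zero.mp hy
    exact Subtype.ext h0
  surj := fun z => by
    obtain ⟨a, ha0, hint⟩ := h z
    refine ⟨⟨⟨algebraMap A L a * z, hint⟩, ⟨⟨algebraMap A L a, isIntegral_algebraMap⟩, ?_⟩⟩, ?_⟩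
    · apply mem_nonZeroDivisors_of_ne_zero
      intro h0
      exact ha0 (congrArg Subtype.val h0)
    · show z * algebraMap A L a = algebraMap A L a * z
      exact mul_comm _ _
  exists_of_eq := fun {x y} hxy => ⟨1, by
    have : x = y := Subtype.ext hxy
    rw [this]⟩

end general

section specific

variable (k : Type u) [Field k] (K : Type u) [Field K] [Algebra k K] (t : K)

lemma gamma_sec (c : k) :
    gamma k K t (sec k (CohB1.ProjSpace.toSpec 1 k) (U0 k) c) = algebraMap k K c := by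
  simp only [gamma, RingHom.comp_apply]
  rw [appLE_sec k (CohB1.ProjSpace.toSpec 1 k) _ (g k K t) (g_toSpec k K t)]
  simp only [sec, RingHom.comp_apply]
  have h4 := Scheme.ΓSpecIso_naturality (CommRingCat.ofHom (algebraMap k K))
  have h5 := congrArg (fun f => f.hom ((Scheme.ΓSpecIso (CommRingCat.of k)).inv.hom c)) h4
  simp only [CommRingCat.hom_comp, RingHom.comp_apply, CommRingCat.hom_ofHom] at h5
  refine Eq.trans ?_ (h5.trans ?_)
  · rfl
  · congr 1
    exact congrArg (fun f => f.hom c) (Scheme.ΓSpecIso (CommRingCat.of k)).inv_hom_id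

/-- `Γ(Spec K, g⁻¹ U₀) → K`. -/
def eps : Γ(Spec (CommRingCat.of K), g k K t ⁻¹ᵁ U0 k) →+* K :=
  (Scheme.ΓSpecIso (CommRingCat.of K)).hom.hom.comp
    ((Spec (CommRingCat.of K)).presheaf.map
      (homOfLE (show (⊤ : (Spec (CommRingCat.of K)).Opens) ≤ g k K t ⁻¹ᵁ U0 k by
        rw [g_preimage_U0])).op).hom

lemma eps_bijective : Function.Bijective (eps k K t) := by
  haveI : IsIso (homOfLE (show (⊤ : (Spec (CommRingCat.of K)).Opens) ≤ g k K t ⁻¹ᵁ U0 k by
      rw [g_preimage_U0])) :=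
    ⟨⟨homOfLE le_top, Subsingleton.elim _ _, Subsingleton.elim _ _⟩⟩
  have h2 : Function.Bijective ((Spec (CommRingCat.of K)).presheaf.map
      (homOfLE (show (⊤ : (Spec (CommRingCat.of K)).Opens) ≤ g k K t ⁻¹ᵁ U0 k by
        rw [g_preimage_U0])).op).hom :=
    ConcreteCategory.bijective_of_isIso _
  have h3 : Function.Bijective (Scheme.ΓSpecIso (CommRingCat.of K)).hom.hom :=
    ConcreteCategory.bijective_of_isIso _
  exact h3.comp h2

lemma eps_app (s : Γ(CohB1.ProjSpace 1 k, U0 k)) :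
    eps k K t ((g k K t).app (U0 k) s) = gamma k K t s := rfl

/-- The integral closure of `Γ(P¹, U₀)` in `Γ(Spec K, g⁻¹U₀)` has the latter as fraction ring,
provided `K` is algebraic over `k[t]`. -/
theorem isFractionRing_chart (halg : Algebra.IsAlgebraic (Algebra.adjoin k {t}) K) :
    letI := ((g k K t).app (U0 k)).hom.toAlgebra
    IsFractionRing (integralClosure Γ(CohB1.ProjSpace 1 k, U0 k)
      Γ(Spec (CommRingCat.of K), g k K t ⁻¹ᵁ U0 k)) Γ(Spec (CommRingCat.of K), g k K t ⁻¹ᵁ U0 k) := by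
  letI alg := ((g k K t).app (U0 k)).hom.toAlgebra
  let E : Γ(Spec (CommRingCat.of K), g k K t ⁻¹ᵁ U0 k) ≃+* K :=
    RingEquiv.ofBijective (eps k K t) (eps_bijective k K t)
  have hF : IsField Γ(Spec (CommRingCat.of K), g k K t ⁻¹ᵁ U0 k) :=
    E.toMulEquiv.isField (Field.toIsField K)
  letI := hF.toField
  letI algk : Algebra k Γ(CohB1.ProjSpace 1 k, U0 k) :=
    (sec k (CohB1.ProjSpace.toSpec 1 k) (U0 k)).toAlgebra
  let φ : Γ(CohB1.ProjSpace 1 k, U0 k) →ₐ[k] K :=
    { gamma k K t with commutes' := fun c => gamma_sec k K t c }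
  have ht : t ∈ φ.range := by
    obtain ⟨s, hs⟩ := mem_range_gamma k K t
    exact ⟨s, hs⟩
  apply isFractionRing_integralClosure_of_exists
  intro y
  obtain ⟨a, ha0, p, hpm, hp⟩ := exists_integral_multiple_of_mem_range halg φ ht (E y)
  have hE : ∀ s, E (algebraMap Γ(CohB1.ProjSpace 1 k, U0 k) _ s) = gamma k K t s := fun s => rfl
  refine ⟨a, ?_, p, hpm, ?_⟩
  · intro h0
    apply ha0
    show gamma k K t a = 0
    rw [← hE, h0, map_zero]
  · apply E.injective
    rw [map_zero]
    have h1 := Polynomial.hom_eval₂ p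
      (algebraMap Γ(CohB1.ProjSpace 1 k, U0 k) Γ(Spec (CommRingCat.of K), g k K t ⁻¹ᵁ U0 k))
      (E : Γ(Spec (CommRingCat.of K), g k K t ⁻¹ᵁ U0 k) →+* K)
      (algebraMap Γ(CohB1.ProjSpace 1 k, U0 k) Γ(Spec (CommRingCat.of K), g k K t ⁻¹ᵁ U0 k) a * y)
    refine h1.trans ?_
    rw [map_mul]
    exact hp

end specific

end

end Groth.Agent.Lib.helper16.NormCurve
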