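import Mathlib
import Groth.Agent.Lib.Helper16.NormCurve4
import Groth.Agent.Lib.Helper26.DimFormula7

set_option autoImplicit false

namespace Groth.Agent.Lib.helper16.NormCurve

universe u

open CategoryTheory CategoryTheory.Limits AlgebraicGeometry

noncomputable section

variable (k : Type u) [Field k]

lemma sec_finiteType {X : Scheme.{u}} (p : X ⟶ Spec (CommRingCat.of k)) [LocallyOfFiniteType p]
    {U : X.Opens} (hU : IsAffineOpen U) : (sec k p U).FiniteType := by
  refine RingHom.FiniteType.comp
    (LocallyOfFiniteType.finiteType_appLE _ (isAffineOpen_top _) hU (by simp)) ?_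
  apply RingHom.FiniteType.of_surjective
  exact (ConcreteCategory.bijective_of_isIso (Scheme.ΓSpecIso (CommRingCat.of k)).inv).surjective

/-- On an integral scheme locally of finite type over a field whose function field is (compatibly)
isomorphic to a field `L` of transcendence degree `n`, the local rings at closed points have
dimension `n`. -/
theorem ringKrullDim_stalk_of_isClosed {X : Scheme.{u}} [IsIntegral X]
    (p : X ⟶ Spec (CommRingCat.of k)) [LocallyOfFiniteType p]
    (L : Type u) [Field L] [Algebra k L] (e : X.functionField ≃+* L)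
    (he : ∀ c : k, e ((X.presheaf.germ ⊤ (genericPoint X) trivial).hom (Coh.toGlobal p c)) =
      algebraMap k L c) (n : ℕ) (hn : Algebra.trdeg k L = n)
    (x : X) (hx : IsClosed ({x} : Set X)) : ringKrullDim (X.presheaf.stalk x) = n := by
  obtain ⟨U, hU, hxU, -⟩ := exists_isAffineOpen_mem_and_subset (x := x) (U := ⊤) trivial
  haveI : Nonempty U := ⟨⟨x, hxU⟩⟩
  haveI : IsDomain Γ(X, U) := IsIntegral.component_integral U
  letI algkS : Algebra k Γ(X, U) := (sec k p U).toAlgebra
  haveI : Algebra.FiniteType k Γ(X, U) := sec_finiteType k p hU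
  letI algSL : Algebra Γ(X, U) L := (e.toRingHom.comp (X.germToFunctionField U).hom).toAlgebra
  have hmem : genericPoint X ∈ U :=
    ((genericPoint_spec X).mem_open_set_iff U.2).mpr ⟨x, trivial, hxU⟩
  haveI : IsScalarTower k Γ(X, U) L := by
    refine IsScalarTower.of_algebraMap_eq fun c => ?_
    rw [← he c]
    show _ = e ((X.germToFunctionField U).hom (sec k p U c))
    congr 1
    rw [← sec_top_eq_toGlobal, ← map_sec k p ⊤ U (homOfLE le_top).op c]
    exact (TopCat.Presheaf.germ_res_apply X.presheaf (homOfLE le_top) (genericPoint X) hmem _).symm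
  haveI hfr : IsFractionRing Γ(X, U) X.functionField :=
    functionField_isFractionRing_of_isAffineOpen X U hU
  let e' : X.functionField ≃ₐ[Γ(X, U)] L := { e with commutes' := fun s => rfl }
  haveI hfrL : IsFractionRing Γ(X, U) L :=
    IsLocalization.isLocalization_of_algEquiv (nonZeroDivisors Γ(X, U)) e'
  have halg : Algebra.IsAlgebraic Γ(X, U) L :=
    IsLocalization.isAlgebraic L (nonZeroDivisors Γ(X, U))
  haveI : FaithfulSMul Γ(X, U) L :=
    (faithfulSMul_iff_algebraMap_injective _ _).mpr (IsFractionRing.injective Γ(X, U) L)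
  haveI : FaithfulSMul k Γ(X, U) :=
    (faithfulSMul_iff_algebraMap_injective _ _).mpr (algebraMap k Γ(X, U)).injective
  have T := trdeg_add_eq k Γ(X, U) (A := L)
  have t0 : Algebra.trdeg Γ(X, U) L = 0 := trdeg_eq_zero
  rw [t0, add_zero, hn] at T
  haveI hm : (hU.primeIdealOf ⟨x, hxU⟩).asIdeal.IsMaximal :=
    hU.primeIdealOf_isMaximal_of_isClosed ⟨x, hxU⟩ hx
  have key := (Groth.Agent.Lib.helper26.DimFormula.ringKrullDim_eq_of_trdeg k Γ(X, U) n T).2
    (hU.primeIdealOf ⟨x, hxU⟩).asIdeal
  letI := X.presheaf.algebra_section_stalk ⟨x, hxU⟩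
  haveI := hU.isLocalization_stalk ⟨x, hxU⟩
  rw [IsLocalization.AtPrime.ringKrullDim_eq_height (hU.primeIdealOf ⟨x, hxU⟩).asIdeal
    (X.presheaf.stalk x)]
  rw [IsLocalization.AtPrime.ringKrullDim_eq_height (hU.primeIdealOf ⟨x, hxU⟩).asIdeal
    (Localization.AtPrime (hU.primeIdealOf ⟨x, hxU⟩).asIdeal)] at key
  exact key

end

end Groth.Agent.Lib.helper16.NormCurve
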