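import Mathlib
import Groth.Agent.Lib.Helper16.NormCompl1
import Groth.Agent.Lib.Helper16.NormCurve7

/-!
# Normal completion of a normal curve, part 2 (helper16)

The function field of an integral scheme locally of finite type over `k` is a finitely generated
field extension of `k`.
-/

set_option autoImplicit false
universe u
open CategoryTheory CategoryTheory.Limits AlgebraicGeometry

namespace Groth.Agent.Lib.helper16.NormCompl

open Groth.Agent.Lib.helper16.NormCurve

variable (k : Type u) [Field k] (X : Scheme.{u}) [X.Over (Spec (CommRingCat.of k))]

attribute [local instance] Curv2.stalkAlgebra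

theorem fg_top_functionField [IsIntegral X] [LocallyOfFiniteType (X ↘ (Spec (CommRingCat.of k)))] :
    (⊤ : IntermediateField k X.functionField).FG := by
  obtain ⟨U, hU, hxU, -⟩ :=
    exists_isAffineOpen_mem_and_subset (x := genericPoint X) (U := ⊤) trivial
  haveI : Nonempty U := ⟨⟨genericPoint X, hxU⟩⟩
  set p := X ↘ Spec (CommRingCat.of k) with hp
  letI algkS : Algebra k Γ(X, U) := (sec k p U).toAlgebra
  haveI : Algebra.FiniteType k Γ(X, U) := sec_finiteType k p hU
  haveI hfr : IsFractionRing Γ(X, U) X.functionField :=
    functionField_isFractionRing_of_isAffineOpen X U hU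
  haveI : IsScalarTower k Γ(X, U) X.functionField := by
    refine IsScalarTower.of_algebraMap_eq fun c => ?_
    show (X.presheaf.germ ⊤ (genericPoint X) trivial).hom (Coh.toGlobal p c) =
      (X.germToFunctionField U).hom (sec k p U c)
    rw [← sec_top_eq_toGlobal, ← map_sec k p ⊤ U (homOfLE le_top).op c]
    exact (TopCat.Presheaf.germ_res_apply X.presheaf (homOfLE le_top) (genericPoint X) hxU _).symm
  haveI : Algebra.EssFiniteType Γ(X, U) X.functionField :=
    Algebra.EssFiniteType.of_isLocalization _ (nonZeroDivisors Γ(X, U))
  haveI : Algebra.EssFiniteType k X.functionField :=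
    Algebra.EssFiniteType.comp k Γ(X, U) X.functionField
  exact IntermediateField.fg_top k X.functionField

end Groth.Agent.Lib.helper16.NormCompl
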