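import Mathlib
import Groth.Agent.Lib.Helper16.NormCurve4
import Groth.Agent.S9674
import Groth.Agent.Lib.Helper13.PIns3
import Groth.Agent.Lib.Helper13.Normal7
import Groth.Agent.Lib.Helper3.FTFieldDim

set_option autoImplicit false

namespace Groth.Agent.Lib.helper16.NormCurve

universe u

open CategoryTheory CategoryTheory.Limits AlgebraicGeometry HomogeneousLocalization

noncomputable section

variable (k : Type u) [Field k] (K : Type u) [Field K] [Algebra k K] (t : K)

lemma isNagata_sections (U : (CohB1.ProjSpace 1 k).affineOpens) :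
    CAlg.IsNagata Γ(CohB1.ProjSpace 1 k, U) := by
  haveI : IsProper (CohB1.ProjSpace.toSpec 1 k) :=
    Groth.Agent.Lib.helper19.ProjSpaceProper.proper_toSpec 1 k
  obtain ⟨ρ, hρ⟩ := Groth.Agent.Lib.helper13.PIns.exists_finiteType_sections k
    (CohB1.ProjSpace.toSpec 1 k) U.1 U.2
  letI : Algebra k Γ(CohB1.ProjSpace 1 k, U.1) := ρ.toAlgebra
  haveI : Algebra.FiniteType k Γ(CohB1.ProjSpace 1 k, U.1) := hρ
  refine ⟨Algebra.FiniteType.isNoetherianRing k _, fun p _ => ?_⟩
  haveI : Algebra.FiniteType k (Γ(CohB1.ProjSpace 1 k, U.1) ⧸ p) :=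
    Algebra.FiniteType.of_surjective (Ideal.Quotient.mkₐ k p) Ideal.Quotient.mk_surjective
  exact Groth.Agent.Lib.helper13.PIns.isN2_of_finiteType_field k _

lemma essFiniteType_residueFieldMap (hfg : (⊤ : IntermediateField k K).FG)
    (x : Spec (CommRingCat.of K)) : ((g k K t).residueFieldMap x).hom.EssFiniteType := by
  have h1 := Groth.Agent.Lib.helper3.FTField.resMap_comp k (CohB1.ProjSpace.toSpec 1 k)
    (Spec.map (CommRingCat.ofHom (algebraMap k K))) (g k K t) (g_toSpec k K t) x
  refine RingHom.EssFiniteType.of_comp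
    (@Curv2.resMap k _ (CohB1.ProjSpace 1 k) ⟨CohB1.ProjSpace.toSpec 1 k⟩ ((g k K t) x)) ?_
  rw [← h1]
  have h2 : @Curv2.resMap k _ (Spec (CommRingCat.of K))
      ⟨Spec.map (CommRingCat.ofHom (algebraMap k K))⟩ x =
      (((Spec (CommRingCat.of K)).evaluation ⊤ x trivial).hom.comp
        (Scheme.ΓSpecIso (CommRingCat.of K)).inv.hom).comp (algebraMap k K) := by
    ext c
    simp only [Curv2.resMap, Curv2.stalkMap, Coh.toGlobal, RingHom.comp_apply, Scheme.evaluation,
      CommRingCat.hom_comp]
    congr 2
    have h4 := Scheme.ΓSpecIso_inv_naturality (CommRingCat.ofHom (algebraMap k K))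
    have h5 := congrArg (fun f => f.hom c) h4
    simp only [CommRingCat.hom_comp, RingHom.comp_apply, CommRingCat.hom_ofHom] at h5
    exact h5.symm
  rw [h2]
  have h3 : (algebraMap k K).EssFiniteType := by
    rw [RingHom.essFiniteType_algebraMap]
    exact IntermediateField.fg_top_iff.mp hfg
  refine h3.comp (RingHom.EssFiniteType.comp ?_ ?_)
  · apply RingHom.FiniteType.essFiniteType
    apply RingHom.FiniteType.of_surjective
    exact (ConcreteCategory.bijective_of_isIso (Scheme.ΓSpecIso (CommRingCat.of K)).inv).surjective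
  · exact Groth.Agent.Lib.helper13.Nag.essFiniteType_evaluation ⊤ (isAffineOpen_top _) x trivial

theorem isFinite_fromNormalization (hfg : (⊤ : IntermediateField k K).FG) :
    IsFinite (g k K t).fromNormalization := by
  refine Groth.Agent.S9674.result (g k K t) (isNagata_sections k) ?_
    (fun x _ => essFiniteType_residueFieldMap k K t hfg x)
  haveI : Unique ↥(Spec (CommRingCat.of K)) := inferInstanceAs (Unique (PrimeSpectrum K))
  haveI : Finite (Set ↥(Spec (CommRingCat.of K))) := inferInstance
  haveI : Finite ↥(irreducibleComponents ↥(Spec (CommRingCat.of K))) := inferInstance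
  exact locallyFinite_of_finite _

/-- the normal projective model of `K`. -/
abbrev Xn : Scheme.{u} := (g k K t).normalization

/-- the structure morphism of the model. -/
def XnToSpec : Xn k K t ⟶ Spec (CommRingCat.of k) :=
  (g k K t).fromNormalization ≫ CohB1.ProjSpace.toSpec 1 k

theorem isProper_XnToSpec (hfg : (⊤ : IntermediateField k K).FG) :
    IsProper (XnToSpec k K t) := by
  haveI : IsProper (CohB1.ProjSpace.toSpec 1 k) :=
    Groth.Agent.Lib.helper19.ProjSpaceProper.proper_toSpec 1 k
  haveI := isFinite_fromNormalization k K t hfg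
  unfold XnToSpec
  infer_instance

theorem isNormalScheme_Xn : Pi1.IsNormalScheme (Xn k K t) :=
  Groth.Agent.Lib.helper13.Normal.isNormalScheme_normalization_of_isField
    (Field.toIsField K) (g k K t)

lemma toNormalization_XnToSpec :
    (g k K t).toNormalization ≫ XnToSpec k K t = Spec.map (CommRingCat.ofHom (algebraMap k K)) := by
  rw [XnToSpec, Scheme.Hom.toNormalization_fromNormalization_assoc, g_toSpec]

end

end Groth.Agent.Lib.helper16.NormCurve
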