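import Mathlib
import Groth.Agent.Lib.Helper16.NormCurve5

set_option autoImplicit false

namespace Groth.Agent.Lib.helper16.NormCurve

universe u

open CategoryTheory CategoryTheory.Limits AlgebraicGeometry HomogeneousLocalization

noncomputable section

variable (k : Type u) [Field k] (K : Type u) [Field K] [Algebra k K] (t : K)

lemma ΓSpecIso_sec_top (c : k) :
    (Scheme.ΓSpecIso (CommRingCat.of K)).hom.hom
      (sec k (Spec.map (CommRingCat.ofHom (algebraMap k K))) ⊤ c) = algebraMap k K c := by
  simp only [sec, RingHom.comp_apply]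
  have h4 := Scheme.ΓSpecIso_naturality (CommRingCat.ofHom (algebraMap k K))
  have h5 := congrArg (fun f => f.hom ((Scheme.ΓSpecIso (CommRingCat.of k)).inv.hom c)) h4
  simp only [CommRingCat.hom_comp, RingHom.comp_apply, CommRingCat.hom_ofHom] at h5
  refine Eq.trans ?_ (h5.trans ?_)
  · rfl
  · congr 1
    exact congrArg (fun f => f.hom c) (Scheme.ΓSpecIso (CommRingCat.of k)).inv_hom_id

lemma eps_sec (c : k) :
    eps k K t (sec k (Spec.map (CommRingCat.ofHom (algebraMap k K))) (g k K t ⁻¹ᵁ U0 k) c) =
      algebraMap k K c := by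
  simp only [eps, RingHom.comp_apply]
  rw [map_sec]
  exact ΓSpecIso_sec_top k K c

/-- the affine open of the model over the chart `U₀`. -/
def V0 : (Xn k K t).Opens := (g k K t).fromNormalization ⁻¹ᵁ U0 k

lemma isAffineOpen_V0 : IsAffineOpen (V0 k K t) :=
  (isAffineOpen_U0 k).preimage (g k K t).fromNormalization

instance : Nonempty (V0 k K t) := by
  haveI : Unique ↥(Spec (CommRingCat.of K)) := inferInstanceAs (Unique (PrimeSpectrum K))
  refine ⟨⟨(g k K t).toNormalization default, ?_⟩⟩
  show (g k K t).fromNormalization ((g k K t).toNormalization default) ∈ U0 k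
  rw [← Scheme.Hom.comp_apply, Scheme.Hom.toNormalization_fromNormalization]
  have : (default : ↥(Spec (CommRingCat.of K))) ∈ g k K t ⁻¹ᵁ U0 k := by
    rw [g_preimage_U0]; trivial
  exact this

/-- sections of the model over `V₀` as the integral closure. -/
def hV0 : letI := ((g k K t).app (U0 k)).hom.toAlgebra
    Γ(Xn k K t, V0 k K t) ≃+* integralClosure Γ(CohB1.ProjSpace 1 k, U0 k)
      Γ(Spec (CommRingCat.of K), g k K t ⁻¹ᵁ U0 k) :=
  ((g k K t).normalizationObjIso (isAffineOpen_U0 k)).commRingCatIsoToRingEquiv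

lemma hV0_val (s : Γ(Xn k K t, V0 k K t)) :
    ((hV0 k K t s : _) : Γ(Spec (CommRingCat.of K), g k K t ⁻¹ᵁ U0 k)) =
      ((g k K t).toNormalization.appLE (V0 k K t) (g k K t ⁻¹ᵁ U0 k)
        (by simp [V0, ← Scheme.Hom.comp_preimage])).hom s := by
  have h := (g k K t).normalizationObjIso_hom_val (isAffineOpen_U0 k)
  exact congrArg (fun f => f.hom s) h

/-- the function field of the model is `K`. -/
def funE (halg : Algebra.IsAlgebraic (Algebra.adjoin k {t}) K) :
    (Xn k K t).functionField ≃+* K :=
  letI := ((g k K t).app (U0 k)).hom.toAlgebra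
  haveI := isFractionRing_chart k K t halg
  haveI := functionField_isFractionRing_of_isAffineOpen (Xn k K t) (V0 k K t)
    (isAffineOpen_V0 k K t)
  (IsFractionRing.ringEquivOfRingEquiv (hV0 k K t)).trans
    (RingEquiv.ofBijective (eps k K t) (eps_bijective k K t))

lemma funE_germ (halg : Algebra.IsAlgebraic (Algebra.adjoin k {t}) K)
    (s : Γ(Xn k K t, V0 k K t)) :
    funE k K t halg ((Xn k K t).germToFunctionField (V0 k K t) s) =
      eps k K t (((g k K t).toNormalization.appLE (V0 k K t) (g k K t ⁻¹ᵁ U0 k)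
        (by simp [V0, ← Scheme.Hom.comp_preimage])).hom s) := by
  letI := ((g k K t).app (U0 k)).hom.toAlgebra
  haveI := isFractionRing_chart k K t halg
  haveI := functionField_isFractionRing_of_isAffineOpen (Xn k K t) (V0 k K t)
    (isAffineOpen_V0 k K t)
  simp only [funE, RingEquiv.trans_apply, RingEquiv.ofBijective_apply]
  congr 1
  have h1 := IsFractionRing.ringEquivOfRingEquiv_algebraMap
    (K := (Xn k K t).functionField) (L := Γ(Spec (CommRingCat.of K), g k K t ⁻¹ᵁ U0 k))
    (hV0 k K t) s
  rw [← hV0_val]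
  exact h1

theorem funE_algebraMap (halg : Algebra.IsAlgebraic (Algebra.adjoin k {t}) K) (c : k) :
    funE k K t halg (((Xn k K t).presheaf.germ ⊤ (genericPoint (Xn k K t)) trivial).hom
      (Coh.toGlobal (XnToSpec k K t) c)) = algebraMap k K c := by
  have hmem : genericPoint (Xn k K t) ∈ V0 k K t :=
    ((genericPoint_spec (Xn k K t)).mem_open_set_iff (V0 k K t).2).mpr (by
      obtain ⟨⟨x, hx⟩⟩ := (inferInstance : Nonempty (V0 k K t))
      exact ⟨x, trivial, hx⟩)
  have h1 : ((Xn k K t).presheaf.germ ⊤ (genericPoint (Xn k K t)) trivial).hom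
      (Coh.toGlobal (XnToSpec k K t) c) =
      (Xn k K t).germToFunctionField (V0 k K t) (sec k (XnToSpec k K t) (V0 k K t) c) := by
    rw [← sec_top_eq_toGlobal, ← map_sec k (XnToSpec k K t) ⊤ (V0 k K t) (homOfLE le_top).op c]
    exact (TopCat.Presheaf.germ_res_apply (Xn k K t).presheaf (homOfLE le_top)
      (genericPoint (Xn k K t)) hmem _).symm
  rw [h1, funE_germ, appLE_sec k (XnToSpec k K t) _ (g k K t).toNormalization
    (toNormalization_XnToSpec k K t), eps_sec]

end

end Groth.Agent.Lib.helper16.NormCurve
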