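import Mathlib
import Groth.Agent.Lib.Helper16.NormCompl2
import Groth.Agent.S2345
import Groth.Agent.S4445
import Groth.Agent.S2346
import Groth.Agent.S2347

/-!
# Normal completion of a normal curve, part 3 (helper16): the integral case
-/

set_option autoImplicit false
universe u
open CategoryTheory CategoryTheory.Limits AlgebraicGeometry

namespace Groth.Agent.Lib.helper16.NormCompl

attribute [local instance] Curv2.stalkAlgebra

/-- the canonical map from the spectrum of the local ring at the generic point of an irreducible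
scheme into an open containing it is dominant -/
theorem isDominant_fromSpecStalkOfMem {Y : Scheme.{u}} [IrreducibleSpace Y] (U : Y.Opens)
    (h : genericPoint Y ∈ U) : IsDominant (U.fromSpecStalkOfMem (genericPoint Y) h) := by
  constructor
  rw [DenseRange, dense_iff_inter_open]
  rintro W hW ⟨w, hw⟩
  refine ⟨⟨genericPoint Y, h⟩, ?_, ?_⟩
  · obtain ⟨W', hW', rfl⟩ := isOpen_induced_iff.mp hW
    exact ((genericPoint_spec Y).mem_open_set_iff hW').mpr ⟨w.1, trivial, hw⟩
  · refine ⟨IsLocalRing.closedPoint _, ?_⟩
    apply Subtype.ext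
    have h1 := Scheme.Opens.fromSpecStalkOfMem_ι U (genericPoint Y) h
    have h2 := congrArg (fun f => f.base (IsLocalRing.closedPoint _)) h1
    simp only [Scheme.Hom.comp_base, TopCat.comp_app] at h2
    rw [Scheme.fromSpecStalk_closedPoint] at h2
    exact h2

theorem exists_completion_of_isIntegral (k : Type u) [Field k] (X : Scheme.{u})
    [X.Over (Spec (CommRingCat.of k))] [LocallyOfFiniteType (X ↘ (Spec (CommRingCat.of k)))]
    [QuasiCompact (X ↘ (Spec (CommRingCat.of k)))] [IsSeparated (X ↘ (Spec (CommRingCat.of k)))]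
    [IsIntegral X]
    (hcurve : ∀ x : X, IsClosed ({x} : Set X) → ringKrullDim (X.presheaf.stalk x) = 1)
    (hnorm : Pi1.IsNormalScheme X) :
    ∃ (Xc : Scheme.{u}) (sc : Xc ⟶ Spec (CommRingCat.of k)) (j : X ⟶ Xc), IsOpenImmersion j ∧
      Dense (Set.range j.base) ∧
      j ≫ sc = X ↘ (Spec (CommRingCat.of k)) ∧ IsProper sc ∧ Pi1.IsNormalScheme Xc ∧
      ∀ x : Xc, IsClosed ({x} : Set Xc) → ringKrullDim (Xc.presheaf.stalk x) = 1 := by
  obtain ⟨Y, hYover, hYint, hYproper, hYnorm, hYcurve, e, he⟩ :=
    Groth.Agent.S2345.result k X.functionField (fg_top_functionField k X)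
      (trdeg_functionField k X hcurve)
  let φ : Y.functionField →ₐ[k] X.functionField :=
    { e.toRingHom with commutes' := fun c => he c }
  obtain ⟨u, ⟨hu1, hu2, hu3⟩, -⟩ := Groth.Agent.S4445.result k X Y hcurve hnorm hYcurve φ
  -- `u` is dominant
  haveI hdom : IsDominant u := by
    constructor
    rw [DenseRange, ← dense_closure]
    have h1 : closure {u.base (genericPoint X)} ⊆ closure (Set.range u.base) :=
      closure_mono (by rintro _ rfl; exact ⟨_, rfl⟩)
    rw [hu2, genericPoint_spec Y] at h1
    rw [dense_iff_closure_eq, closure_closure]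
    exact Set.eq_univ_of_univ_subset h1
  have hfin := (Groth.Agent.S2346.result k X Y hcurve hYcurve u hu1).mp hdom
  haveI : LocallyOfFiniteType (u ≫ (Y ↘ Spec (CommRingCat.of k))) := by rw [hu1]; infer_instance
  haveI : LocallyOfFiniteType u := locallyOfFiniteType_of_comp u (Y ↘ Spec (CommRingCat.of k))
  haveI : IsSeparated (u ≫ (Y ↘ Spec (CommRingCat.of k))) := by rw [hu1]; infer_instance
  haveI : IsSeparated u := IsSeparated.of_comp u (Y ↘ Spec (CommRingCat.of k))
  haveI : QuasiCompact (u ≫ (Y ↘ Spec (CommRingCat.of k))) := by rw [hu1]; infer_instance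
  haveI : QuasiCompact u := QuasiCompact.of_comp u (Y ↘ Spec (CommRingCat.of k))
  haveI : LocallyQuasiFinite u := LocallyQuasiFinite.of_finite_preimage_singleton u hfin
  haveI : IsOpenImmersion u.toNormalization := inferInstance
  -- the isomorphism of function fields
  let θ : Y.presheaf.stalk (genericPoint Y) ⟶ X.presheaf.stalk (genericPoint X) :=
    Y.presheaf.stalkSpecializes (specializes_of_eq hu2) ≫ u.stalkMap (genericPoint X)
  have hθ : θ.hom = e.toRingHom := hu3
  haveI : IsIso θ := by
    have hb : Function.Bijective θ.hom := by rw [hθ]; exact e.bijective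
    exact (ConcreteCategory.isIso_iff_bijective θ).mpr hb
  have hstar : Spec.map θ ≫ Y.fromSpecStalk (genericPoint Y) =
      X.fromSpecStalk (genericPoint X) ≫ u := by
    simp only [θ, Spec.map_comp, Category.assoc]
    rw [Scheme.SpecMap_stalkSpecializes_fromSpecStalk, Scheme.SpecMap_stalkMap_fromSpecStalk]
  have hstar2 : Spec.map (inv θ) ≫ X.fromSpecStalk (genericPoint X) ≫ u =
      Y.fromSpecStalk (genericPoint Y) := by
    rw [← hstar, ← Category.assoc, ← Spec.map_comp, IsIso.hom_inv_id, Spec.map_id,
      Category.id_comp]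
  -- spread out the inverse
  obtain ⟨U, hηU, s₀, hs₀, hs₀'⟩ := spread_out_of_isGermInjective' (Y ↘ Spec (CommRingCat.of k)) (X ↘ Spec (CommRingCat.of k))
    (x := genericPoint Y) (Spec.map (inv θ) ≫ X.fromSpecStalk (genericPoint X)) (by
      rw [Category.assoc, ← hu1, ← hstar2]
      simp only [Category.assoc])
  haveI := isDominant_fromSpecStalkOfMem U hηU
  have hsu : s₀ ≫ u = U.ι := by
    refine ext_of_isDominant_of_isSeparated (Y ↘ Spec (CommRingCat.of k)) ?_ (U.fromSpecStalkOfMem (genericPoint Y) hηU) ?_
    · rw [Category.assoc, hu1, hs₀']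
    · rw [← Category.assoc, ← hs₀, Category.assoc, hstar2, Scheme.Opens.fromSpecStalkOfMem_ι]
  have hUdense : Dense (U : Set Y) :=
    (U.2.dense ⟨genericPoint Y, hηU⟩)
  haveI : IsIso u.fromNormalization :=
    Groth.Agent.S2347.result hYnorm u.fromNormalization U hUdense (s₀ ≫ u.toNormalization) (by
      rw [Category.assoc, u.toNormalization_fromNormalization, hsu])
  haveI : IsOpenImmersion u := by
    rw [← u.toNormalization_fromNormalization]
    infer_instance
  exact ⟨Y, (Y ↘ Spec (CommRingCat.of k)), u, inferInstance, hdom.1, hu1, hYproper, hYnorm, hYcurve⟩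

end Groth.Agent.Lib.helper16.NormCompl
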