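import Mathlib
import Groth.Prelude.Def_Pi1
import Groth.Agent.Lib.Helper16.HCart
import Groth.Agent.Lib.Helper13.Normal1

/-!
# Normal completion of a normal curve, part 4 (helper16): disjoint unions
-/

set_option autoImplicit false
universe u
open CategoryTheory CategoryTheory.Limits AlgebraicGeometry

namespace Groth.Agent.Lib.helper16.NormCompl

/-- `HasCompl k X p`: the `k`-scheme `(X, p)` embeds as a dense open into a normal curve proper
over `k`. -/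
def HasCompl (k : Type u) [Field k] (X : Scheme.{u}) (p : X ⟶ Spec (CommRingCat.of k)) : Prop :=
  ∃ (Xc : Scheme.{u}) (sc : Xc ⟶ Spec (CommRingCat.of k)) (j : X ⟶ Xc), IsOpenImmersion j ∧
      Dense (Set.range j.base) ∧ j ≫ sc = p ∧ IsProper sc ∧ Pi1.IsNormalScheme Xc ∧
      ∀ x : Xc, IsClosed ({x} : Set Xc) → ringKrullDim (Xc.presheaf.stalk x) = 1

/-- Krull dimension of stalks is invariant under open immersions. -/
theorem ringKrullDim_stalk_of_isOpenImmersion {U X : Scheme.{u}} (f : U ⟶ X) [IsOpenImmersion f]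
    (x : U) : ringKrullDim (X.presheaf.stalk (f x)) = ringKrullDim (U.presheaf.stalk x) :=
  ringKrullDim_eq_of_ringEquiv (asIso (f.stalkMap x)).commRingCatIsoToRingEquiv

theorem hasCompl_of_isCompl (k : Type u) [Field k] {W W₁ W₂ : Scheme.{u}}
    (p : W ⟶ Spec (CommRingCat.of k)) (f₁ : W₁ ⟶ W) (f₂ : W₂ ⟶ W) [IsOpenImmersion f₁]
    [IsOpenImmersion f₂] (hc : IsCompl f₁.opensRange f₂.opensRange)
    (h₁ : HasCompl k W₁ (f₁ ≫ p)) (h₂ : HasCompl k W₂ (f₂ ≫ p)) : HasCompl k W p := by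
  obtain ⟨X₁, s₁, j₁, hj₁, hd₁, hjs₁, hp₁, hn₁, hc₁⟩ := h₁
  obtain ⟨X₂, s₂, j₂, hj₂, hd₂, hjs₂, hp₂, hn₂, hc₂⟩ := h₂
  obtain ⟨hcol⟩ := nonempty_isColimit_binaryCofanMk_of_isCompl f₁ f₂ hc
  let ι : W₁ ⨿ W₂ ≅ W := (coprodIsCoprod W₁ W₂).coconePointUniqueUpToIso hcol
  have hι₁ : coprod.inl ≫ ι.hom = f₁ :=
    (coprodIsCoprod W₁ W₂).comp_coconePointUniqueUpToIso_hom hcol ⟨WalkingPair.left⟩
  have hι₂ : coprod.inr ≫ ι.hom = f₂ :=
    (coprodIsCoprod W₁ W₂).comp_coconePointUniqueUpToIso_hom hcol ⟨WalkingPair.right⟩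
  let j : W ⟶ X₁ ⨿ X₂ := ι.inv ≫ coprod.map j₁ j₂
  have hf₁ : f₁ ≫ j = j₁ ≫ coprod.inl := by
    rw [← hι₁]; simp [j]
  have hf₂ : f₂ ≫ j = j₂ ≫ coprod.inr := by
    rw [← hι₂]; simp [j]
  haveI := HCart.isProper_coprodDesc s₁ s₂
  refine ⟨X₁ ⨿ X₂, coprod.desc s₁ s₂, j, inferInstance, ?_, ?_, inferInstance, ?_, ?_⟩
  · -- density
    rw [dense_iff_closure_eq, Set.eq_univ_iff_forall]
    intro x
    obtain ⟨(a | b), rfl⟩ := (coprodMk X₁ X₂).surjective x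
    · rw [coprodMk_inl]
      have h1 : (coprod.inl : X₁ ⟶ X₁ ⨿ X₂).base a ∈
          (coprod.inl : X₁ ⟶ X₁ ⨿ X₂).base '' closure (Set.range j₁.base) :=
        ⟨a, hd₁ a, rfl⟩
      refine closure_mono ?_ (image_closure_subset_closure_image
        (coprod.inl : X₁ ⟶ X₁ ⨿ X₂).continuous h1)
      rintro _ ⟨_, ⟨w, rfl⟩, rfl⟩
      refine ⟨f₁.base w, ?_⟩
      rw [← Scheme.Hom.comp_apply, ← Scheme.Hom.comp_apply, hf₁]
    · rw [coprodMk_inr]
      have h1 : (coprod.inr : X₂ ⟶ X₁ ⨿ X₂).base b ∈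
          (coprod.inr : X₂ ⟶ X₁ ⨿ X₂).base '' closure (Set.range j₂.base) :=
        ⟨b, hd₂ b, rfl⟩
      refine closure_mono ?_ (image_closure_subset_closure_image
        (coprod.inr : X₂ ⟶ X₁ ⨿ X₂).continuous h1)
      rintro _ ⟨_, ⟨w, rfl⟩, rfl⟩
      refine ⟨f₂.base w, ?_⟩
      rw [← Scheme.Hom.comp_apply, ← Scheme.Hom.comp_apply, hf₂]
  · -- structure morphism
    apply BinaryCofan.IsColimit.hom_ext hcol
    · change f₁ ≫ j ≫ coprod.desc s₁ s₂ = f₁ ≫ p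
      rw [← Category.assoc, hf₁, Category.assoc, coprod.inl_desc, hjs₁]
    · change f₂ ≫ j ≫ coprod.desc s₁ s₂ = f₂ ≫ p
      rw [← Category.assoc, hf₂, Category.assoc, coprod.inr_desc, hjs₂]
  · -- normality
    refine Groth.Agent.Lib.helper13.Normal.of_openCover (coprodOpenCover.{u, 0} X₁ X₂) ?_
    rintro (i | i)
    · exact hn₁
    · exact hn₂
  · -- dimension
    intro x hx
    obtain ⟨(a | b), rfl⟩ := (coprodMk X₁ X₂).surjective x
    · rw [coprodMk_inl] at hx ⊢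
      rw [ringKrullDim_stalk_of_isOpenImmersion]
      refine hc₁ a ?_
      have := hx.preimage (coprod.inl : X₁ ⟶ X₁ ⨿ X₂).continuous
      rwa [← Set.image_singleton, Set.preimage_image_eq _
        (coprod.inl : X₁ ⟶ X₁ ⨿ X₂).isOpenEmbedding.injective] at this
    · rw [coprodMk_inr] at hx ⊢
      rw [ringKrullDim_stalk_of_isOpenImmersion]
      refine hc₂ b ?_
      have := hx.preimage (coprod.inr : X₂ ⟶ X₁ ⨿ X₂).continuous
      rwa [← Set.image_singleton, Set.preimage_image_eq _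
        (coprod.inr : X₂ ⟶ X₁ ⨿ X₂).isOpenEmbedding.injective] at this

end Groth.Agent.Lib.helper16.NormCompl
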