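import Mathlib
import Groth.Agent.Lib.Helper16.NormCompl3
import Groth.Agent.Lib.Helper16.NormCompl4
import Groth.Agent.Lib.Helper13.Normal10

/-!
# Normal completion of a normal curve, part 5 (helper16): the general case
-/

set_option autoImplicit false
universe u
open CategoryTheory CategoryTheory.Limits AlgebraicGeometry TopologicalSpace

namespace Groth.Agent.Lib.helper16.NormCompl

variable (k : Type u) [Field k] (X : Scheme.{u}) (p : X ⟶ Spec (CommRingCat.of k))

/-- the connected case -/
theorem hasCompl_of_connected [LocallyOfFiniteType p] [QuasiCompact p] [IsSeparated p]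
    [ConnectedSpace X]
    (hcurve : ∀ x : X, IsClosed ({x} : Set X) → ringKrullDim (X.presheaf.stalk x) = 1)
    (hnorm : Pi1.IsNormalScheme X) : HasCompl k X p := by
  haveI : IsLocallyNoetherian X := LocallyOfFiniteType.isLocallyNoetherian p
  haveI : IsIntegral X := Groth.Agent.Lib.helper13.Normal.isIntegral_of_connected hnorm
    (Groth.Agent.Lib.helper13.Normal.finite_irreducibleComponents_of_isLocallyNoetherian X)
  letI : X.Over (Spec (CommRingCat.of k)) := ⟨p⟩
  haveI h1 : LocallyOfFiniteType (X ↘ Spec (CommRingCat.of k)) := ‹LocallyOfFiniteType p›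
  haveI h2 : QuasiCompact (X ↘ Spec (CommRingCat.of k)) := ‹QuasiCompact p›
  haveI h3 : IsSeparated (X ↘ Spec (CommRingCat.of k)) := ‹IsSeparated p›
  exact exists_completion_of_isIntegral k X hcurve hnorm


theorem hasCompl_opens [LocallyOfFiniteType p] [QuasiCompact p] [IsSeparated p]
    (hcurve : ∀ x : X, IsClosed ({x} : Set X) → ringKrullDim (X.presheaf.stalk x) = 1)
    (hnorm : Pi1.IsNormalScheme X) :
    ∀ Z : Closeds X, ∀ hZ : IsOpen (Z : Set X), (Z : Set X).Nonempty →
      HasCompl k ((⟨Z, hZ⟩ : X.Opens) : Scheme.{u}) (Scheme.Opens.ι (⟨Z, hZ⟩ : X.Opens) ≫ p) := by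
  haveI : IsLocallyNoetherian X := LocallyOfFiniteType.isLocallyNoetherian p
  haveI : CompactSpace X := QuasiCompact.compactSpace_of_compactSpace p
  haveI : IsNoetherian X := {}
  haveI : NoetherianSpace X := IsNoetherian.noetherianSpace
  intro Z
  induction Z using WellFoundedLT.induction with
  | ind Z ih =>
    intro hZ hne
    set U : X.Opens := ⟨Z, hZ⟩ with hU
    have hce : Topology.IsClosedEmbedding (Subtype.val : U → X) :=
      Z.isClosed.isClosedEmbedding_subtypeVal
    have hoe : Topology.IsOpenEmbedding (Subtype.val : U → X) :=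
      hZ.isOpenEmbedding_subtypeVal
    haveI : QuasiCompact U.ι := inferInstance
    by_cases hconn : PreconnectedSpace U
    · -- connected
      haveI : Nonempty U := hne.to_subtype
      haveI : ConnectedSpace U := ConnectedSpace.mk ‹_›
      refine hasCompl_of_connected k U.toScheme (U.ι ≫ p) ?_
        (Groth.Agent.Lib.helper13.Normal.opens hnorm U)
      intro x hx
      rw [← ringKrullDim_stalk_of_isOpenImmersion U.ι x]
      refine hcurve _ ?_
      have := hce.isClosedMap _ hx
      convert this using 1
      exact (Set.image_singleton (f := (Subtype.val : U → X)) (a := x)).symm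
    · rw [preconnectedSpace_iff_clopen] at hconn
      push Not at hconn
      obtain ⟨s, hs, hs0, hs1⟩ := hconn
      -- the two pieces
      have key : ∀ t : Set U, IsClopen t → t.Nonempty → t ≠ Set.univ →
          ∃ (V : X.Opens) (hV : V ≤ U), (U.ι ⁻¹ᵁ V : Set U) = t ∧ HasCompl k V (V.ι ≫ p) := by
        intro t ht htne htuniv
        let Z₁ : Closeds X := ⟨Subtype.val '' t, hce.isClosedMap _ ht.1⟩
        have hZ₁ : IsOpen (Z₁ : Set X) := hoe.isOpenMap _ ht.2
        have hlt : Z₁ < Z := by
          refine lt_of_le_of_ne ?_ ?_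
          · rintro _ ⟨x, -, rfl⟩
            exact x.2
          · intro h
            apply htuniv
            rw [Set.eq_univ_iff_forall]
            intro x
            have hx : x.1 ∈ (Z₁ : Set X) := by rw [h]; exact x.2
            obtain ⟨y, hy, hyx⟩ := hx
            rwa [← Subtype.ext hyx]
        have := ih Z₁ hlt hZ₁ (htne.image _)
        refine ⟨⟨Z₁, hZ₁⟩, ?_, ?_, this⟩
        · rintro _ ⟨x, -, rfl⟩
          exact x.2
        · ext x
          constructor
          · rintro ⟨y, hy, hyx⟩
            rwa [← Subtype.ext hyx]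
          · intro hx
            exact ⟨x, hx, rfl⟩
      obtain ⟨V₁, hV₁, e₁, H₁⟩ := key s hs hs0 hs1
      obtain ⟨V₂, hV₂, e₂, H₂⟩ := key sᶜ hs.compl
        (Set.nonempty_iff_ne_empty.mpr (fun h => hs1 (Set.compl_empty_iff.mp h)))
        (fun h => hs0.ne_empty (Set.compl_univ_iff.mp h))
      refine hasCompl_of_isCompl k (U.ι ≫ p) (X.homOfLE hV₁) (X.homOfLE hV₂) ?_ ?_ ?_
      · rw [Scheme.opensRange_homOfLE, Scheme.opensRange_homOfLE, isCompl_iff]
        constructor
        · rw [disjoint_iff_inf_le]
          rintro x ⟨hx1, hx2⟩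
          have h1 : x ∈ (U.ι ⁻¹ᵁ V₁ : Set U) := hx1
          have h2 : x ∈ (U.ι ⁻¹ᵁ V₂ : Set U) := hx2
          rw [e₁] at h1
          rw [e₂] at h2
          exact (h2 h1).elim
        · rw [codisjoint_iff_le_sup]
          intro x _
          by_cases hx : x ∈ s
          · left
            show x ∈ (U.ι ⁻¹ᵁ V₁ : Set U)
            rw [e₁]; exact hx
          · right
            show x ∈ (U.ι ⁻¹ᵁ V₂ : Set U)
            rw [e₂]; exact hx
      · rw [← Category.assoc, X.homOfLE_ι]; exact H₁
      · rw [← Category.assoc, X.homOfLE_ι]; exact H₂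

end Groth.Agent.Lib.helper16.NormCompl
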