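import Groth.Agent.Lib.Helper16.SecOrd6
import Groth.Agent.Lib.Helper16.CycOpen2

/-!
# Orders along an arbitrary specialization (helper16)

Generalizes `SecOrd6` (generic point of an integral scheme) to an arbitrary specialization
`ξ ⤳ x` of points of a scheme `X`, with `𝔭 = pOf h` the prime of `ξ` in `O_{X,x}`:

* `isLocalization_stalkSpecializes`: `O_{X,ξ}` is the localization of `O_{X,x}` at `𝔭`;
* `isFractionRing_locQuot`: `κ(ξ)` is the fraction field of `O_{X,x}/𝔭`;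
* `ordAt_specMap`, `ordAt_div`: orders of (quotients of) elements of `O_{X,x}` outside `𝔭`;
* `ordAt_specMap_of_isUnit`: units have order zero.
-/

set_option autoImplicit false
universe u
open CategoryTheory CategoryTheory.Limits AlgebraicGeometry TopologicalSpace Opposite

namespace Groth.Agent.Lib.helper16.OrdGen

open Groth.Agent.Lib.helper16.SecOrd Groth.Agent.Lib.helper16.CycOpen

variable {X : Scheme.{u}}

/-- the prime of `ξ` in `O_{X,x}`. -/
noncomputable abbrev pOf {x ξ : X} (h : ξ ⤳ x) : Ideal (X.presheaf.stalk x) := RingHom.ker (Cyc.specMap x ξ h)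

instance {x ξ : X} (h : ξ ⤳ x) : (pOf h).IsPrime := RingHom.ker_isPrime _

theorem mem_pOf_iff {x ξ : X} (h : ξ ⤳ x) (b : X.presheaf.stalk x) :
    b ∈ pOf h ↔ X.presheaf.stalkSpecializes h b ∈
      IsLocalRing.maximalIdeal (X.presheaf.stalk ξ) := by
  rw [RingHom.mem_ker]
  exact IsLocalRing.residue_eq_zero_iff _

theorem isLocalization_stalkSpecializes {x ξ : X} (h : ξ ⤳ x) :
    letI := (X.presheaf.stalkSpecializes h).hom.toAlgebra
    IsLocalization.AtPrime (X.presheaf.stalk ξ) (pOf h) := by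
  obtain ⟨_, ⟨U, hU : IsAffineOpen U, rfl⟩, hxU, -⟩ :=
    X.isBasis_affineOpens.exists_subset_of_mem_open (Set.mem_univ x) isOpen_univ
  have hξU : ξ ∈ U := h.mem_open U.isOpen hxU
  letI a1 : Algebra Γ(X, U) (X.presheaf.stalk x) :=
    TopCat.Presheaf.algebra_section_stalk X.presheaf ⟨x, hxU⟩
  letI a2 : Algebra Γ(X, U) (X.presheaf.stalk ξ) :=
    TopCat.Presheaf.algebra_section_stalk X.presheaf ⟨ξ, hξU⟩
  letI a3 : Algebra (X.presheaf.stalk x) (X.presheaf.stalk ξ) :=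
    (X.presheaf.stalkSpecializes h).hom.toAlgebra
  have hgerm : ∀ r : Γ(X, U), X.presheaf.stalkSpecializes h (algebraMap Γ(X, U)
      (X.presheaf.stalk x) r) = algebraMap Γ(X, U) (X.presheaf.stalk ξ) r := by
    intro r
    exact TopCat.Presheaf.germ_stalkSpecializes_apply X.presheaf hxU h r
  haveI : IsScalarTower Γ(X, U) (X.presheaf.stalk x) (X.presheaf.stalk ξ) :=
    IsScalarTower.of_algebraMap_eq fun r => (hgerm r).symm
  haveI l1 : IsLocalization.AtPrime (X.presheaf.stalk x) (hU.primeIdealOf ⟨x, hxU⟩).asIdeal :=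
    hU.isLocalization_stalk ⟨x, hxU⟩
  haveI l2 : IsLocalization.AtPrime (X.presheaf.stalk ξ) (hU.primeIdealOf ⟨ξ, hξU⟩).asIdeal :=
    hU.isLocalization_stalk ⟨ξ, hξU⟩
  have hle : (hU.primeIdealOf ⟨x, hxU⟩).asIdeal.primeCompl ≤
      (hU.primeIdealOf ⟨ξ, hξU⟩).asIdeal.primeCompl := by
    intro r hr
    have hu : IsUnit (algebraMap Γ(X, U) (X.presheaf.stalk x) r) :=
      IsLocalization.map_units (X.presheaf.stalk x)
        (⟨r, hr⟩ : (hU.primeIdealOf ⟨x, hxU⟩).asIdeal.primeCompl)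
    have hu' : IsUnit (algebraMap Γ(X, U) (X.presheaf.stalk ξ) r) := by
      rw [← hgerm r]
      exact hu.map (X.presheaf.stalkSpecializes h).hom
    intro hmem
    have := (IsLocalization.AtPrime.to_map_mem_maximal_iff (X.presheaf.stalk ξ)
      (hU.primeIdealOf ⟨ξ, hξU⟩).asIdeal r).mpr hmem
    exact (IsLocalRing.mem_maximalIdeal _).mp this hu'
  haveI l3 : IsLocalization ((hU.primeIdealOf ⟨ξ, hξU⟩).asIdeal.primeCompl.map
      (algebraMap Γ(X, U) (X.presheaf.stalk x))) (X.presheaf.stalk ξ) :=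
    IsLocalization.isLocalization_of_submonoid_le (X.presheaf.stalk x) (X.presheaf.stalk ξ)
      _ _ hle
  refine IsLocalization.of_le (M := (hU.primeIdealOf ⟨ξ, hξU⟩).asIdeal.primeCompl.map
      (algebraMap Γ(X, U) (X.presheaf.stalk x))) (pOf h).primeCompl ?_ ?_
  · rintro _ ⟨s, hs, rfl⟩
    show _ ∉ pOf h
    rw [mem_pOf_iff, hgerm]
    have hu' : IsUnit (algebraMap Γ(X, U) (X.presheaf.stalk ξ) s) :=
      IsLocalization.map_units (X.presheaf.stalk ξ)
        (⟨s, hs⟩ : (hU.primeIdealOf ⟨ξ, hξU⟩).asIdeal.primeCompl)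
    exact fun hm => (IsLocalRing.mem_maximalIdeal _).mp hm hu'
  · intro r hr
    have : X.presheaf.stalkSpecializes h r ∉ IsLocalRing.maximalIdeal (X.presheaf.stalk ξ) :=
      fun hm => hr ((mem_pOf_iff h r).mpr hm)
    exact (IsLocalRing.notMem_maximalIdeal).mp this

theorem specMap_ne_zero {x ξ : X} (h : ξ ⤳ x) {a : X.presheaf.stalk x} (ha : a ∉ pOf h) :
    Cyc.specMap x ξ h a ≠ 0 := fun h0 => ha (RingHom.mem_ker.mpr h0)

theorem algebraMap_locQuot {x ξ : X} (h : ξ ⤳ x) (a : X.presheaf.stalk x) :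
    algebraMap (Cyc.LocQuot x ξ h) (X.residueField ξ) (Ideal.Quotient.mk _ a) =
      Cyc.specMap x ξ h a := rfl

theorem algebraMap_locQuot_injective {x ξ : X} (h : ξ ⤳ x) :
    Function.Injective (algebraMap (Cyc.LocQuot x ξ h) (X.residueField ξ)) := by
  intro a b hab
  obtain ⟨a, rfl⟩ := Ideal.Quotient.mk_surjective a
  obtain ⟨b, rfl⟩ := Ideal.Quotient.mk_surjective b
  rw [algebraMap_locQuot, algebraMap_locQuot] at hab
  rw [Ideal.Quotient.eq, RingHom.mem_ker, map_sub, hab, sub_self]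

theorem isFractionRing_locQuot {x ξ : X} (h : ξ ⤳ x) :
    IsFractionRing (Cyc.LocQuot x ξ h) (X.residueField ξ) := by
  haveI : FaithfulSMul (Cyc.LocQuot x ξ h) (X.residueField ξ) :=
    (faithfulSMul_iff_algebraMap_injective _ _).2 (algebraMap_locQuot_injective h)
  refine IsFractionRing.of_field _ _ fun z => ?_
  obtain ⟨w, rfl⟩ := X.residue_surjective ξ z
  letI := (X.presheaf.stalkSpecializes h).hom.toAlgebra
  haveI := isLocalization_stalkSpecializes h
  obtain ⟨b, s, hbs⟩ := IsLocalization.exists_mk'_eq (pOf h).primeCompl w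
  refine ⟨Ideal.Quotient.mk _ b, Ideal.Quotient.mk _ (s : X.presheaf.stalk x), ?_⟩
  rw [algebraMap_locQuot, algebraMap_locQuot]
  have hs : Cyc.specMap x ξ h (s : X.presheaf.stalk x) ≠ 0 := specMap_ne_zero h s.2
  rw [eq_div_iff hs]
  have h1 : w * X.presheaf.stalkSpecializes h (s : X.presheaf.stalk x) =
      X.presheaf.stalkSpecializes h b := by
    rw [← hbs]
    exact IsLocalization.mk'_spec (X.presheaf.stalk ξ) b s
  have h2 := congrArg (X.residue ξ).hom h1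
  rw [map_mul] at h2
  exact h2

theorem cond_locQuot [IsLocallyNoetherian X] {x ξ : X} (h : ξ ⤳ x)
    (hd : Ring.KrullDimLE 1 (Cyc.LocQuot x ξ h)) :
    IsNoetherianRing (Cyc.LocQuot x ξ h) ∧ Ring.KrullDimLE 1 (Cyc.LocQuot x ξ h) ∧
      Nontrivial (Cyc.LocQuot x ξ h) ∧
      IsFractionRing (Cyc.LocQuot x ξ h) (X.residueField ξ) :=
  ⟨inferInstance, hd, Ideal.Quotient.nontrivial_iff.mpr (Ideal.IsPrime.ne_top inferInstance),
    isFractionRing_locQuot h⟩

theorem mk_ne_zero {x ξ : X} (h : ξ ⤳ x) {a : X.presheaf.stalk x} (ha : a ∉ pOf h) :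
    (Ideal.Quotient.mk (pOf h) a) ≠ 0 := by
  rwa [Ne, Ideal.Quotient.eq_zero_iff_mem]

theorem ordAt_specMap [IsLocallyNoetherian X] {x ξ : X} (h : ξ ⤳ x)
    (hd : Ring.KrullDimLE 1 (Cyc.LocQuot x ξ h)) (a : X.presheaf.stalk x) (ha : a ∉ pOf h) :
    Cyc.ordAt x ξ h (Cyc.specMap x ξ h a) =
      ((Ring.ord (Cyc.LocQuot x ξ h) (Ideal.Quotient.mk (pOf h) a)).toNat : ℤ) := by
  have hc := cond_locQuot h hd
  unfold Cyc.ordAt CycAlg.ordFrac
  rw [dif_pos hc]
  haveI := hc.1; haveI := hc.2.1; haveI := hc.2.2.1; haveI := hc.2.2.2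
  haveI : IsDomain (Cyc.LocQuot x ξ h) :=
    (IsFractionRing.injective _ (X.residueField ξ)).isDomain
  have hf' : (Ideal.Quotient.mk (pOf h) a) ≠ 0 := mk_ne_zero h ha
  rw [← algebraMap_locQuot h a, Ring.ordFrac_eq_ord _ hf',
    Ring.ordMonoidWithZeroHom_eq_ord (mem_nonZeroDivisors_iff_ne_zero.mpr hf')]
  have hfin : Ring.ord (Cyc.LocQuot x ξ h) (Ideal.Quotient.mk (pOf h) a) ≠ ⊤ :=
    Ring.ord_ne_top (mem_nonZeroDivisors_iff_ne_zero.mpr hf')
  obtain ⟨n, hn⟩ := ENat.ne_top_iff_exists.mp hfin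
  rw [← hn]
  simp

theorem ord_ne_top [IsLocallyNoetherian X] {x ξ : X} (h : ξ ⤳ x)
    (hd : Ring.KrullDimLE 1 (Cyc.LocQuot x ξ h)) (a : X.presheaf.stalk x) (ha : a ∉ pOf h) :
    Ring.ord (Cyc.LocQuot x ξ h) (Ideal.Quotient.mk (pOf h) a) ≠ ⊤ := by
  have hc := cond_locQuot h hd
  haveI := hc.1; haveI := hc.2.1; haveI := hc.2.2.1; haveI := hc.2.2.2
  haveI : IsDomain (Cyc.LocQuot x ξ h) :=
    (IsFractionRing.injective _ (X.residueField ξ)).isDomain
  exact Ring.ord_ne_top (mem_nonZeroDivisors_iff_ne_zero.mpr (mk_ne_zero h ha))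

theorem ordAt_div [IsLocallyNoetherian X] {x ξ : X} (h : ξ ⤳ x)
    (hd : Ring.KrullDimLE 1 (Cyc.LocQuot x ξ h)) (a b : X.presheaf.stalk x)
    (ha : a ∉ pOf h) (hb : b ∉ pOf h) :
    Cyc.ordAt x ξ h (Cyc.specMap x ξ h a / Cyc.specMap x ξ h b) =
      ((Ring.ord (Cyc.LocQuot x ξ h) (Ideal.Quotient.mk (pOf h) a)).toNat : ℤ) -
        ((Ring.ord (Cyc.LocQuot x ξ h) (Ideal.Quotient.mk (pOf h) b)).toNat : ℤ) := by
  rw [← ordAt_specMap h hd a ha, ← ordAt_specMap h hd b hb, div_eq_mul_inv]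
  unfold Cyc.ordAt
  rw [ordFrac_mul' _ _ (specMap_ne_zero h ha) (inv_ne_zero (specMap_ne_zero h hb)),
    ordFrac_inv' _ _ (specMap_ne_zero h hb)]
  ring

theorem ordAt_specMap_of_isUnit {x ξ : X} (h : ξ ⤳ x) (a : X.presheaf.stalk x)
    (ha : IsUnit a) : Cyc.ordAt x ξ h (Cyc.specMap x ξ h a) = 0 := by
  unfold Cyc.ordAt
  rw [← algebraMap_locQuot h a]
  exact ordFrac_algebraMap_of_isUnit _ _ (ha.map (Ideal.Quotient.mk (pOf h)))

theorem exists_div_eq {x ξ : X} (h : ξ ⤳ x) (g : X.residueField ξ) (hg : g ≠ 0) :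
    ∃ a b : X.presheaf.stalk x, a ∉ pOf h ∧ b ∉ pOf h ∧
      g = Cyc.specMap x ξ h a / Cyc.specMap x ξ h b := by
  haveI := isFractionRing_locQuot h
  obtain ⟨a', b', hb', hab⟩ := IsFractionRing.div_surjective (A := Cyc.LocQuot x ξ h) g
  obtain ⟨a, rfl⟩ := Ideal.Quotient.mk_surjective a'
  obtain ⟨b, rfl⟩ := Ideal.Quotient.mk_surjective b'
  have hab' : g = Cyc.specMap x ξ h a / Cyc.specMap x ξ h b := hab.symm
  refine ⟨a, b, ?_, ?_, hab'⟩
  · intro hmem
    apply hg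
    rw [hab', RingHom.mem_ker.mp hmem, zero_div]
  · intro hmem
    apply hg
    rw [hab', RingHom.mem_ker.mp hmem, div_zero]

end Groth.Agent.Lib.helper16.OrdGen
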