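import Mathlib
import Groth.Agent.Lib.Helper16.CycOpen1

/-!
# Weil divisors and open subschemes (helper16)

* `ringOrdFrac_ringEquiv`: Mathlib's `Ring.ordFrac` is invariant under compatible isomorphisms.
* `fieldMap j`: for an open immersion `j : U ⟶ X` of integral schemes, the induced isomorphism
  `K(X) → K(U)`; `ord_fieldMap`: `Scheme.ord (fieldMap j f) u = Scheme.ord f (j u)`.
-/

set_option autoImplicit false
universe u

open AlgebraicGeometry CategoryTheory

namespace Groth.Agent.Lib.helper16.WeilOpen

open Groth.Agent.Lib.helper16.CycOpen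

theorem ringOrdFrac_ringEquiv {R R' : Type*} [CommRing R] [CommRing R'] [IsDomain R] [IsDomain R']
    [IsNoetherianRing R] [IsNoetherianRing R'] [Ring.KrullDimLE 1 R] [Ring.KrullDimLE 1 R']
    {K K' : Type*} [Field K] [Field K'] [Algebra R K] [Algebra R' K'] [IsFractionRing R K]
    [IsFractionRing R' K'] (e : R ≃+* R') (σ : K →+* K')
    (hσ : ∀ r, σ (algebraMap R K r) = algebraMap R' K' (e r)) (f : K) :
    Ring.ordFrac R f = Ring.ordFrac R' (σ f) := by
  obtain ⟨a, b, hb, rfl⟩ := IsFractionRing.div_surjective (A := R) f
  have key : ∀ x : R, Ring.ordFrac R (algebraMap R K x) =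
      Ring.ordFrac R' (algebraMap R' K' (e x)) := by
    intro x
    by_cases hx : x = 0
    · subst hx; simp
    · have hx' : e x ≠ 0 := by simpa using hx
      rw [Ring.ordFrac_eq_ord R hx, Ring.ordFrac_eq_ord R' hx',
        Ring.ordMonoidWithZeroHom_eq_ord (mem_nonZeroDivisors_of_ne_zero hx),
        Ring.ordMonoidWithZeroHom_eq_ord (mem_nonZeroDivisors_of_ne_zero hx'),
        ord_ringEquiv e x]
  rw [map_div₀, map_div₀, hσ, hσ, map_div₀, key a, key b]

section

variable {U X : Scheme.{u}} (j : U ⟶ X) [IsOpenImmersion j] [IsIntegral U] [IsIntegral X]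

/-- The map `K(X) → K(U)` induced by an open immersion of integral schemes. -/
noncomputable def fieldMap : X.functionField →+* U.functionField :=
  (X.presheaf.stalkSpecializes
    (specializes_of_eq (genericPoint_eq_of_isOpenImmersion j)) ≫
      j.stalkMap (genericPoint U)).hom

theorem fieldMap_bijective : Function.Bijective (fieldMap j) := by
  haveI : IsIso (X.presheaf.stalkSpecializes
      (specializes_of_eq (genericPoint_eq_of_isOpenImmersion j))) := by
    have h := genericPoint_eq_of_isOpenImmersion j
    exact ⟨⟨X.presheaf.stalkSpecializes (specializes_of_eq h.symm), by simp, by simp⟩⟩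
  exact ConcreteCategory.bijective_of_isIso
    (X.presheaf.stalkSpecializes
      (specializes_of_eq (genericPoint_eq_of_isOpenImmersion j)) ≫ j.stalkMap (genericPoint U))

theorem fieldMap_algebraMap (u : U) (r : X.presheaf.stalk (j u)) :
    fieldMap j (algebraMap (X.presheaf.stalk (j u)) X.functionField r) =
      algebraMap (U.presheaf.stalk u) U.functionField ((j.stalkMap u).hom r) := by
  simp only [fieldMap, RingHom.algebraMap_toAlgebra]
  have h1 : X.presheaf.stalkSpecializes ((genericPoint_spec X).specializes trivial) ≫
      X.presheaf.stalkSpecializes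
        (specializes_of_eq (genericPoint_eq_of_isOpenImmersion j)) ≫
          j.stalkMap (genericPoint U) =
      j.stalkMap u ≫ U.presheaf.stalkSpecializes
        ((genericPoint_spec U).specializes trivial) := by
    rw [← Category.assoc, TopCat.Presheaf.stalkSpecializes_comp]
    exact Scheme.Hom.stalkSpecializes_stalkMap j (genericPoint U) u _
  have := congrArg (fun φ => φ.hom r) h1
  simpa using this

theorem ord_fieldMap [IsLocallyNoetherian U] [IsLocallyNoetherian X] (f : X.functionField) (u : U) :
    Scheme.ord (fieldMap j f) u = Scheme.ord f (j u) := by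
  have hco : Order.coheight (j u) = Order.coheight u := coheight_eq_of_isOpenImmersion j
  by_cases hu : Order.coheight u = 1
  · have hju : Order.coheight (j u) = 1 := hco.trans hu
    rw [Scheme.ord_eq_ordHom_of_coheight_eq_one hu, Scheme.ord_eq_ordHom_of_coheight_eq_one hju]
    congr 2
    unfold Scheme.ordHom
    haveI : Ring.KrullDimLE 1 (X.presheaf.stalk (j u)) := krullDimLE_of_coheight_le hju.le
    haveI : Ring.KrullDimLE 1 (U.presheaf.stalk u) := krullDimLE_of_coheight_le hu.le
    exact (ringOrdFrac_ringEquiv (asIso (j.stalkMap u)).commRingCatIsoToRingEquiv (fieldMap j)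
      (fun r => fieldMap_algebraMap j u r) f).symm
  · have hju : Order.coheight (j u) ≠ 1 := fun h => hu (hco.symm.trans h)
    rw [Scheme.ord_eq_zero_of_coheight_neq_one hu, Scheme.ord_eq_zero_of_coheight_neq_one hju]

end

end Groth.Agent.Lib.helper16.WeilOpen
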