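import Groth.Agent.Lib.Helper16.SecOrd6
import Groth.Agent.Lib.Helper16.WeilOpen
import Groth.Agent.Lib.Helper2.CDivLib10
import Groth.Agent.Lib.Helper18.InvGen

/-!
# Rational sections with principal Weil divisor on a normal scheme (helper16)

* `ordAt_residue_eq_ord`: on an integral locally Noetherian scheme the order `Cyc.ordAt x η`
  of a rational function at a point of codimension one is Mathlib's `Scheme.ord`;
* `exists_unit_of_secOrdAt_eq`: on a normal scheme, if the rational section `s` of the invertible
  module `L` has the same orders as the rational function `f`, then near every point `x` the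
  rational section `f⁻¹ s` is a unit multiple of a local generator of `L`.
-/

set_option autoImplicit false
universe u
open CategoryTheory CategoryTheory.Limits AlgebraicGeometry TopologicalSpace Opposite

namespace Groth.Agent.Lib.helper16.PicCl

open Groth.Agent.Lib.helper16.SecOrd Groth.Agent.Lib.helper16.WeilOpen
  Groth.Agent.Lib.helper16.CycOpen Groth.Agent.Lib.helper2.CDivLib
  Groth.Agent.Lib.Helper18.InvGen

variable {X : Scheme.{u}} [IsIntegral X] [IsLocallyNoetherian X]

/-- `Cyc.ordAt` at a point of codimension one of an integral scheme is `Scheme.ord`. -/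
theorem ordAt_residue_eq_ord (x : X) (hx : Order.coheight x = 1) (h : genericPoint X ⤳ x)
    (φ : X.functionField) (hφ : φ ≠ 0) :
    Cyc.ordAt x (genericPoint X) h (X.residue (genericPoint X) φ) = Scheme.ord φ x := by
  have hc := cond_locQuot x h hx.le
  unfold Cyc.ordAt CycAlg.ordFrac
  rw [dif_pos hc]
  haveI := hc.1; haveI := hc.2.1; haveI := hc.2.2.1; haveI := hc.2.2.2
  haveI : IsDomain (Cyc.LocQuot x (genericPoint X) h) :=
    (IsFractionRing.injective _ (X.residueField (genericPoint X))).isDomain
  haveI : Ring.KrullDimLE 1 (X.presheaf.stalk x) := krullDimLE_of_coheight_le hx.le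
  rw [Scheme.ord_eq_ordHom_of_coheight_eq_one hx]
  unfold Scheme.ordHom
  have key := ringOrdFrac_ringEquiv (locQuotGenericEquiv x h) (X.residue (genericPoint X)).hom
    (fun r => rfl) φ
  have hz : Ring.ordFrac (X.presheaf.stalk x) φ ≠ 0 := (map_ne_zero _).2 hφ
  obtain ⟨z, hz'⟩ := WithZero.ne_zero_iff_exists.1 hz
  show WithZero.recZeroCoe (motive := fun _ => ℤ) 0 (fun z => Multiplicative.toAdd z)
    (Ring.ordFrac (Cyc.LocQuot x (genericPoint X) h) ((X.residue (genericPoint X)).hom φ)) = _
  rw [← key, ← hz']
  rfl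

/-- the rational section `f⁻¹ s` is a unit multiple of every local generator. -/
theorem exists_unit_germ (hX : Pi1.IsNormalScheme X) (L : X.Modules)
    (s : Cyc.secFibre L (genericPoint X)) (hs : s ≠ 0) (f : X.functionField) (hf : f ≠ 0)
    (h : ∀ x : X, Order.coheight x = 1 →
      Cyc.secOrdAt L (genericPoint X) x (genericPoint_specializes x) s = Scheme.ord f x)
    (σ : L.presheaf.stalk (genericPoint X))
    (hσ : s = Submodule.Quotient.mk ((f : X.presheaf.stalk (genericPoint X)) • σ))
    (x : X) (W : X.Opens) (hxW : x ∈ W) (ℓ : Γ(L, W)) (hℓ : IsGen L W ℓ) :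
    ∃ u : (X.presheaf.stalk x)ˣ,
      (algebraMap (X.presheaf.stalk x) X.functionField (u : X.presheaf.stalk x) :
        X.presheaf.stalk (genericPoint X)) •
        (L.presheaf.germ W (genericPoint X) (generic_mem W x hxW) ℓ :
          L.presheaf.stalk (genericPoint X)) = σ := by
  have hηW : genericPoint X ∈ W := generic_mem W x hxW
  obtain ⟨c, hc⟩ := (hℓ (genericPoint X) hηW).2 σ
  have hc : c • (L.presheaf.germ W (genericPoint X) hηW ℓ : L.presheaf.stalk (genericPoint X)) =
      σ := hc
  have hσ0 : σ ≠ 0 := by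
    rintro rfl
    apply hs
    rw [hσ, smul_zero]
    rfl
  have hc0 : (c : X.functionField) ≠ 0 := by
    rintro rfl
    rw [zero_smul] at hc
    exact hσ0 hc.symm
  have hord : ∀ x' : X, x' ⤳ x → Order.coheight x' = 1 →
      Scheme.ord (c : X.functionField) x' = 0 := by
    intro x' hx'x hx'
    have hx'W : x' ∈ W := hx'x.mem_open W.isOpen hxW
    have hsp := genericPoint_specializes x'
    have hg' : Submodule.span (X.presheaf.stalk x')
        {(L.presheaf.germ W x' hx'W ℓ : L.presheaf.stalk x')} = ⊤ := by
      rw [eq_top_iff]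
      intro m _
      obtain ⟨a, ha⟩ := (hℓ x' hx'W).2 m
      rw [Submodule.mem_span_singleton]
      exact ⟨a, ha⟩
    have hspec : L.presheaf.stalkSpecializes hsp (L.presheaf.germ W x' hx'W ℓ) =
        L.presheaf.germ W (genericPoint X) hηW ℓ :=
      ConcreteCategory.congr_hom (TopCat.Presheaf.germ_stalkSpecializes L.presheaf hx'W hsp) ℓ
    have hs' : s = ((f : X.presheaf.stalk (genericPoint X)) * c) •
        (Submodule.Quotient.mk (L.presheaf.stalkSpecializes hsp (L.presheaf.germ W x' hx'W ℓ)) :
          Cyc.secFibre L (genericPoint X)) := by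
      rw [hspec, hσ, ← hc, mul_smul]
      rfl
    have h1 := secOrdAt_eq L x' (genericPoint X) hsp s hs _ hg' _ hs'
    rw [h x' hx', ordAt_residue_eq_ord x' hx' hsp (f * c) (mul_ne_zero hf hc0),
      Scheme.ord_mul hf hc0] at h1
    omega
  have h1 : (c : X.functionField) ∈ Ox x :=
    mem_Ox_of_forall_coheight_one hX x c (fun x' hx'x hx' =>
      ((ord_eq_zero_iff hX x' hx' c hc0).1 (hord x' hx'x hx')).1)
  have h2 : (c : X.functionField)⁻¹ ∈ Ox x :=
    mem_Ox_of_forall_coheight_one hX x _ (fun x' hx'x hx' =>
      ((ord_eq_zero_iff hX x' hx' c hc0).1 (hord x' hx'x hx')).2)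
  obtain ⟨u, hu⟩ := (mem_stalkUnits_iff x (Units.mk0 (c : X.functionField) hc0)).2
    ⟨h1, by simpa using h2⟩
  refine ⟨u, ?_⟩
  have hu' : algebraMap (X.presheaf.stalk x) X.functionField (u : X.presheaf.stalk x) = c :=
    congrArg Units.val hu
  rw [hu']
  exact hc

end Groth.Agent.Lib.helper16.PicCl
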