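import Groth.Agent.Lib.Helper16.PicCl1
import Groth.Agent.Lib.Helper18.GenTriv

/-!
# `Pic X → Cl X` is injective on a normal scheme (helper16)

* `nonempty_iso_of_isGen`: a module with a global section generating all its stalks freely is
  trivial;
* `stalkSpecializes_injective_of_isInvertible`: for `L` invertible on an integral scheme the
  generization maps `L_z → L_η` are injective;
* `nonempty_iso_of_secOrdAt_eq`: if the Weil divisor of a rational section `s` of the invertible
  module `L` on a normal scheme is the divisor of a rational function, then `L ≅ O_X`.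
-/

set_option autoImplicit false
universe u
open CategoryTheory CategoryTheory.Limits AlgebraicGeometry TopologicalSpace Opposite

namespace Groth.Agent.Lib.helper16.PicCl

open Groth.Agent.Lib.helper16.SecOrd Groth.Agent.Lib.helper2.CDivLib
  Groth.Agent.Lib.Helper18.InvGen Groth.Agent.Lib.helper7 Groth.Agent.Lib.helper28.LocalGen

section triv

variable {X : Scheme.{u}}

/-- a module with a global section generating all its stalks freely is trivial. -/
theorem nonempty_iso_of_isGen (L : X.Modules) (a : Γ(L, ⊤)) (ha : IsGen L ⊤ a) :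
    Nonempty (L ≅ Coh.structureModule X) := by
  let ψ : Coh.structureModule X ⟶ L :=
    (SheafOfModules.unitHomEquiv (R := X.ringCatSheaf) L).symm (LocalLift.secOfTop L a)
  have hψ1 : secOf L ψ = a := by
    change (1 : Γ(X, ⊤)) • (L.presheaf.map (homOfLE (le_top : (⊤ : X.Opens) ≤ ⊤)).op a) = a
    rw [one_smul]
    have : (homOfLE (le_top : (⊤ : X.Opens) ≤ ⊤)).op = 𝟙 _ := rfl
    rw [this, L.presheaf.map_id]
    rfl
  have happ : ∀ (V : X.Opens) (r : Γ(X, V)),
      (ψ.app V).hom (show Γ(Coh.structureModule X, V) from r) =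
        r • L.presheaf.map (homOfLE (le_top : V ≤ ⊤)).op a := by
    intro V r
    have h1 := unit_hom_app L ψ V r
    have h2 : (ψ.app ⊤).hom (show Γ(Coh.structureModule X, ⊤) from (1 : Γ(X, ⊤))) = a := hψ1
    rw [h2] at h1
    exact h1
  haveI : IsIso ψ := by
    refine Groth.Agent.Lib.helper2.ModSec.isIso_of_bijective_basis ψ Set.univ ?_ ?_
    · exact Opens.isBasis_iff_nbhd.mpr (fun {V x} hx => ⟨V, trivial, hx, le_rfl⟩)
    · intro V _
      constructor
      · intro r r' hrr'
        have e : (ψ.app V).hom (show Γ(Coh.structureModule X, V) from r) =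
            (ψ.app V).hom (show Γ(Coh.structureModule X, V) from r') := hrr'
        exact ha.smul_injective le_top r r' ((happ V r).symm.trans (e.trans (happ V r')))
      · intro t
        obtain ⟨c, hc⟩ := ha.exists_smul_eq le_top (show Γ(L, V) from t)
        exact ⟨(show Γ(X, V) from c), (happ V c).trans hc⟩
  exact ⟨(asIso ψ).symm⟩

end triv

variable {X : Scheme.{u}} [IsIntegral X]

/-- for `L` invertible on an integral scheme the generization maps `L_z → L_η` are injective. -/
theorem stalkSpecializes_injective_of_isInvertible (L : X.Modules) (hL : PicF.IsInvertible L)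
    (z : X) (h : genericPoint X ⤳ z) :
    Function.Injective (L.presheaf.stalkSpecializes h) := by
  obtain ⟨W, ℓ, -, hzW, -, hℓ⟩ := exists_isGen hL z ⊤ trivial
  have hηW : genericPoint X ∈ W := generic_mem W z hzW
  have hspec : L.presheaf.stalkSpecializes h (L.presheaf.germ W z hzW ℓ) =
      L.presheaf.germ W (genericPoint X) hηW ℓ :=
    ConcreteCategory.congr_hom (TopCat.Presheaf.germ_stalkSpecializes L.presheaf hzW h) ℓ
  intro m m' hmm
  obtain ⟨a, rfl⟩ := (hℓ z hzW).2 m
  obtain ⟨a', rfl⟩ := (hℓ z hzW).2 m'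
  have e1 := stalkSpecializes_smul L h a (L.presheaf.germ W z hzW ℓ)
  have e2 := stalkSpecializes_smul L h a' (L.presheaf.germ W z hzW ℓ)
  have hmm' : L.presheaf.stalkSpecializes h (a • (L.presheaf.germ W z hzW ℓ : L.presheaf.stalk z)) =
      L.presheaf.stalkSpecializes h (a' • (L.presheaf.germ W z hzW ℓ : L.presheaf.stalk z)) := hmm
  rw [e1, e2, hspec] at hmm'
  have h3 := (hℓ (genericPoint X) hηW).1 hmm'
  have h4 : a = a' := stalkSpecializes_injective h h3
  show a • _ = a' • _
  rw [h4]

theorem bijective_smul_unit_smul {R M : Type*} [CommRing R] [AddCommGroup M] [Module R M]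
    (u : Rˣ) (g : M) (hg : Function.Bijective (fun c : R => c • g)) :
    Function.Bijective (fun c : R => c • ((u : R) • g)) := by
  have : (fun c : R => c • ((u : R) • g)) = (fun c : R => c • g) ∘ (fun c : R => c * (u : R)) := by
    funext c
    simp [mul_smul]
  rw [this]
  refine hg.comp ⟨fun c c' h => ?_, fun c => ⟨c * ((u⁻¹ : Rˣ) : R), ?_⟩⟩
  · exact (IsUnit.mul_left_inj u.isUnit).1 h
  · simp [mul_assoc]

variable [IsLocallyNoetherian X]

/-- **`Pic X → Cl X` is injective for `X` normal.** -/
theorem nonempty_iso_of_secOrdAt_eq (hX : Pi1.IsNormalScheme X) (L : X.Modules)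
    (hL : PicF.IsInvertible L) (s : Cyc.secFibre L (genericPoint X)) (hs : s ≠ 0)
    (f : X.functionField) (hf : f ≠ 0)
    (h : ∀ x : X, Order.coheight x = 1 →
      Cyc.secOrdAt L (genericPoint X) x (genericPoint_specializes x) s = Scheme.ord f x) :
    Nonempty (L ≅ Coh.structureModule X) := by
  obtain ⟨s', hs'⟩ := Submodule.Quotient.mk_surjective _ s
  set σ : L.presheaf.stalk (genericPoint X) :=
    ((f : X.functionField)⁻¹ : X.presheaf.stalk (genericPoint X)) • s' with hσdef
  have hσ : s = Submodule.Quotient.mk ((f : X.presheaf.stalk (genericPoint X)) • σ) := by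
    rw [hσdef, ← hs']
    congr 1
    exact (smul_inv_smul₀ (α := X.functionField) hf s').symm
  -- local data
  have hloc : ∀ x : X, ∃ (V : X.Opens) (hxV : x ∈ V) (b : Γ(L, V)),
      (L.presheaf.germ V (genericPoint X) (generic_mem V x hxV) b :
        L.presheaf.stalk (genericPoint X)) = σ ∧
      Function.Bijective (fun c : X.presheaf.stalk x =>
        c • (L.presheaf.germ V x hxV b : L.presheaf.stalk x)) := by
    intro x
    obtain ⟨W, ℓ, -, hxW, -, hℓ⟩ := exists_isGen hL x ⊤ trivial
    obtain ⟨u, hu⟩ := exists_unit_germ hX L s hs f hf h σ hσ x W hxW ℓ hℓ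
    obtain ⟨V₁, hxV₁, u', hu'⟩ := X.presheaf.exists_germ_eq (u : X.presheaf.stalk x)
    have hxV : x ∈ V₁ ⊓ W := ⟨hxV₁, hxW⟩
    have hηV₁ : genericPoint X ∈ V₁ := generic_mem V₁ x hxV₁
    refine ⟨V₁ ⊓ W, hxV, X.presheaf.map (homOfLE (inf_le_left : V₁ ⊓ W ≤ V₁)).op u' •
      L.presheaf.map (homOfLE (inf_le_right : V₁ ⊓ W ≤ W)).op ℓ, ?_, ?_⟩
    · rw [germ_smul_res L ℓ inf_le_right _ (genericPoint X) (generic_mem _ x hxV),
        TopCat.Presheaf.germ_res_apply X.presheaf (homOfLE (inf_le_left : V₁ ⊓ W ≤ V₁))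
          (genericPoint X) (generic_mem _ x hxV) u']
      have e1 : X.presheaf.germ V₁ (genericPoint X) hηV₁ u' =
          algebraMap (X.presheaf.stalk x) X.functionField (u : X.presheaf.stalk x) := by
        rw [← hu']
        exact (ConcreteCategory.congr_hom (TopCat.Presheaf.germ_stalkSpecializes X.presheaf hxV₁
          ((genericPoint_spec X).specializes trivial)) u').symm
      rw [e1]
      exact hu
    · rw [germ_smul_res L ℓ inf_le_right _ x hxV,
        TopCat.Presheaf.germ_res_apply X.presheaf (homOfLE (inf_le_left : V₁ ⊓ W ≤ V₁)) x hxV u',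
        hu']
      exact bijective_smul_unit_smul u _ (hℓ x hxW)
  choose V hxV b hbσ hbbij using hloc
  -- compatibility
  have compat : TopCat.Presheaf.IsCompatible L.presheaf V b := by
    intro x y
    apply TopCat.Presheaf.section_ext ⟨L.presheaf, L.isSheaf⟩ (V x ⊓ V y)
    intro z hz
    apply stalkSpecializes_injective_of_isInvertible L hL z (genericPoint_specializes z)
    have hη : genericPoint X ∈ V x ⊓ V y := generic_mem _ z hz
    have key : ∀ (t : Γ(L, V x ⊓ V y)),
        L.presheaf.stalkSpecializes (genericPoint_specializes z)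
          (L.presheaf.germ (V x ⊓ V y) z hz t) = L.presheaf.germ (V x ⊓ V y) (genericPoint X) hη t :=
      fun t => ConcreteCategory.congr_hom
        (TopCat.Presheaf.germ_stalkSpecializes L.presheaf hz (genericPoint_specializes z)) t
    show L.presheaf.stalkSpecializes (genericPoint_specializes z)
        (L.presheaf.germ (V x ⊓ V y) z hz
          (L.presheaf.map (homOfLE (inf_le_left : V x ⊓ V y ≤ V x)).op (b x))) =
      L.presheaf.stalkSpecializes (genericPoint_specializes z)
        (L.presheaf.germ (V x ⊓ V y) z hz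
          (L.presheaf.map (homOfLE (inf_le_right : V x ⊓ V y ≤ V y)).op (b y)))
    rw [key, key, TopCat.Presheaf.germ_res_apply L.presheaf
        (homOfLE (inf_le_left : V x ⊓ V y ≤ V x)) (genericPoint X) hη (b x),
      TopCat.Presheaf.germ_res_apply L.presheaf
        (homOfLE (inf_le_right : V x ⊓ V y ≤ V y)) (genericPoint X) hη (b y)]
    exact (hbσ x).trans (hbσ y).symm
  have hcov : (⊤ : X.Opens) ≤ iSup V := fun y _ => (le_iSup V y) (hxV y)
  obtain ⟨a, ha, -⟩ : ∃! a : Γ(L, ⊤), ∀ i : X, L.presheaf.map (homOfLE (le_top : V i ≤ ⊤)).op a = b i :=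
    TopCat.Sheaf.existsUnique_gluing' (⟨L.presheaf, L.isSheaf⟩ : TopCat.Sheaf _ _) V ⊤
      (fun i => homOfLE le_top) hcov b compat
  refine nonempty_iso_of_isGen L a ?_
  intro y hy
  have e : L.presheaf.germ ⊤ y hy a = L.presheaf.germ (V y) y (hxV y) (b y) := by
    rw [← ha y]
    exact (TopCat.Presheaf.germ_res_apply L.presheaf (homOfLE (le_top : V y ≤ ⊤)) y (hxV y) a).symm
  rw [e]
  exact hbbij y

end Groth.Agent.Lib.helper16.PicCl
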