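import Mathlib
import Groth.Agent.Lib.Helper16.IrrDec1

/-!
# Primary decomposition of coherent sheaves, part 1: algebra and the dictionary (helper16)

* `exists_sub_ass`: for a Noetherian module `P` over a Noetherian ring and `p ∈ Ass P` there is a
  submodule `Q` with `p ∉ Ass Q` and `Ass (P ⧸ Q) = {p}` (Bourbaki AC IV §1 no 1 Prop. 4).
* `mem_ass_iff`: on a locally Noetherian scheme, for a quasi-coherent module `F` and an affine open
  `U ∋ y`: `y ∈ Ass F ↔ p_y ∈ Ass_{Γ(X,U)} Γ(F,U)`.
-/

set_option autoImplicit false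
universe u
open CategoryTheory CategoryTheory.Limits AlgebraicGeometry TopologicalSpace Opposite

namespace Groth.Agent.Lib.helper16.PrimDec

section Alg

variable {A : Type*} [CommRing A] [IsNoetherianRing A] {P : Type*} [AddCommGroup P] [Module A P]

/-- the exact sequence step: enlarging `Q` by a copy of `A ⧸ p'` inside `P ⧸ Q`. -/
theorem ass_comap_subset (Q : Submodule A P) (p' : Ideal A) [p'.IsPrime]
    (h : A ⧸ p' →ₗ[A] P ⧸ Q) (hh : Function.Injective h) :
    associatedPrimes A ↥(Submodule.comap Q.mkQ (LinearMap.range h)) ⊆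
      associatedPrimes A ↥Q ∪ {p'} := by
  set Q' := Submodule.comap Q.mkQ (LinearMap.range h) with hQ'
  have hle : Q ≤ Q' := by
    intro y hy
    rw [hQ', Submodule.mem_comap]
    have : Q.mkQ y = 0 := (Submodule.Quotient.mk_eq_zero Q).mpr hy
    rw [this]; exact Submodule.zero_mem _
  let e : (A ⧸ p') ≃ₗ[A] ↥(LinearMap.range h) := LinearEquiv.ofInjective h hh
  let g0 : ↥Q' →ₗ[A] ↥(LinearMap.range h) :=
    (Q.mkQ.comp Q'.subtype).codRestrict (LinearMap.range h) (fun y => y.2)
  let g : ↥Q' →ₗ[A] (A ⧸ p') := e.symm.toLinearMap.comp g0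
  let f : ↥Q →ₗ[A] ↥Q' := Submodule.inclusion hle
  have hf : Function.Injective f := Submodule.inclusion_injective hle
  have hfg : Function.Exact f g := by
    intro y
    constructor
    · intro hy
      have h0 : g0 y = 0 := by
        have : e.symm (g0 y) = 0 := hy
        exact (LinearEquiv.map_eq_zero_iff e.symm).mp this
      have h1 : Q.mkQ y.1 = 0 := congrArg Subtype.val h0
      have h2 : y.1 ∈ Q := (Submodule.Quotient.mk_eq_zero Q).mp h1
      exact ⟨⟨y.1, h2⟩, Subtype.ext rfl⟩
    · rintro ⟨z, rfl⟩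
      have h0 : g0 (f z) = 0 := by
        apply Subtype.ext
        change Q.mkQ z.1 = 0
        exact (Submodule.Quotient.mk_eq_zero Q).mpr z.2
      change e.symm (g0 (f z)) = 0
      rw [h0, map_zero]
  have := associatedPrimes.subset_union_of_exact hf hfg
  refine this.trans ?_
  have hprim : associatedPrimes A (A ⧸ p') = {p'} := by
    have := associatedPrimes.eq_singleton_of_isPrimary (Ideal.IsPrime.isPrimary (I := p') inferInstance)
    rwa [Ideal.IsPrime.radical inferInstance] at this
  rw [hprim]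

/-- **Bourbaki AC IV §1 no 1 Prop. 4** for a single associated prime. -/
theorem exists_sub_ass [IsNoetherian A P] (p : Ideal A) (hp : p ∈ associatedPrimes A P) :
    ∃ Q : Submodule A P, p ∉ associatedPrimes A ↥Q ∧ associatedPrimes A (P ⧸ Q) = {p} := by
  obtain ⟨Q, hQ, hmax⟩ := set_has_maximal_iff_noetherian.mpr (inferInstance : IsNoetherian A P)
    {Q : Submodule A P | p ∉ associatedPrimes A ↥Q}
    ⟨⊥, by
      change p ∉ associatedPrimes A ↥(⊥ : Submodule A P)
      rw [associatedPrimes.eq_empty_of_subsingleton]; exact Set.notMem_empty _⟩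
  have hQ : p ∉ associatedPrimes A ↥Q := hQ
  have hsub : associatedPrimes A (P ⧸ Q) ⊆ {p} := by
    intro p' hp'
    haveI : p'.IsPrime := hp'.isPrime
    obtain ⟨-, h, hh⟩ := (isAssociatedPrime_iff_exists_injective_linearMap p' (P ⧸ Q)).mp hp'
    set Q' := Submodule.comap Q.mkQ (LinearMap.range h) with hQ'
    have hle : Q ≤ Q' := by
      intro y hy
      rw [hQ', Submodule.mem_comap]
      have : Q.mkQ y = 0 := (Submodule.Quotient.mk_eq_zero Q).mpr hy
      rw [this]; exact Submodule.zero_mem _
    have hlt : Q < Q' := by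
      refine lt_of_le_of_ne hle ?_
      intro heq
      obtain ⟨y, hy⟩ := Q.mkQ_surjective (h 1)
      have hyQ' : y ∈ Q' := by
        rw [hQ', Submodule.mem_comap, hy]; exact ⟨1, rfl⟩
      rw [← heq] at hyQ'
      have h0 : Q.mkQ y = 0 := (Submodule.Quotient.mk_eq_zero Q).mpr hyQ'
      rw [hy] at h0
      have h1 : (1 : A ⧸ p') = 0 := hh (by rw [h0, map_zero])
      have : (1 : A) ∈ p' := by
        have := (Submodule.Quotient.mk_eq_zero p' (x := (1 : A))).mp h1
        exact this
      exact (Ideal.IsPrime.ne_top inferInstance) ((Ideal.eq_top_iff_one p').mpr this)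
    have hnot : ¬ (p ∉ associatedPrimes A ↥Q') := fun hc => hmax Q' hc hlt
    have hin : p ∈ associatedPrimes A ↥Q' := not_not.mp hnot
    rcases ass_comap_subset Q p' h hh hin with h1 | h1
    · exact absurd h1 hQ
    · exact (Set.mem_singleton_iff.mp h1).symm ▸ rfl
  have hnt : Nontrivial (P ⧸ Q) := by
    by_contra hc
    rw [not_nontrivial_iff_subsingleton] at hc
    have htop : Q = ⊤ := Submodule.Quotient.subsingleton_iff.mp hc
    apply hQ
    rw [htop, LinearEquiv.AssociatedPrimes.eq (Submodule.topEquiv (R := A) (M := P))]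
    exact hp
  obtain ⟨q, hq⟩ := associatedPrimes.nonempty A (P ⧸ Q)
  refine ⟨Q, hQ, Set.Subset.antisymm hsub ?_⟩
  intro p'' hp''
  rw [Set.mem_singleton_iff] at hp''
  rw [hp'']
  have := hsub hq
  rw [Set.mem_singleton_iff] at this
  exact this ▸ hq

end Alg

end Groth.Agent.Lib.helper16.PrimDec
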