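import Groth.Agent.Lib.Helper16.PrimDec1
import Groth.Agent.Lib.Helper16.Satur7

/-!
# Primary decomposition of coherent sheaves, part 2: the submodule sheaf attached to a submodule of
sections over an affine open (helper16)

`exists_sub_of_submodule`: for a quasi-coherent `M` on a locally Noetherian scheme, an affine open `U`
and a submodule `Q ⊆ Γ(M, U)` there is a quasi-coherent submodule `N ⊆ M` with `Γ(N, U) = Q` which is
saturated with respect to `U` (the largest one).
-/

set_option autoImplicit false
universe u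
open CategoryTheory CategoryTheory.Limits AlgebraicGeometry TopologicalSpace Opposite
open Scheme.Modules

namespace Groth.Agent.Lib.helper16.PrimDec

open Groth.Agent.Lib.helper16.Satur Groth.Agent.Lib.helper16.CohFinite Groth.Agent.Lib.helper7

section Spec

variable {R : CommRingCat.{u}} (M : (Spec R).Modules) [M.IsQuasicoherent]
  (N₀ : Submodule R ((modulesSpecToSheaf.obj M).presheaf.obj (.op ⊤)))

omit [M.IsQuasicoherent] in
/-- the image under `subTildeι` of the canonical section attached to `n ∈ N₀`. -/
theorem subTildeι_app_toOpen (U : (Spec R).Opens) (n : N₀) :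
    (subTildeι M N₀).app U
      (show Γ(subTilde M N₀, U) from (tilde.toOpen (ModuleCat.of R N₀) U).hom n) =
    M.presheaf.map (homOfLE (le_top : U ≤ ⊤)).op (show Γ(M, ⊤) from n.1) := by
  have h1 := tilde.toOpen_map_app (ModuleCat.ofHom N₀.subtype) U
  have h2 := Scheme.Modules.toOpen_fromTildeΓ_app M U
  have h1' := congr_arg (fun φ => φ.hom n) h1
  have h2' := congr_arg (fun φ => φ.hom n.1) h2
  simp only [ModuleCat.hom_comp, LinearMap.comp_apply] at h1' h2'
  change (M.fromTildeΓ.app U) ((tilde.map (ModuleCat.ofHom N₀.subtype)).app U _) = _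
  refine Eq.trans ?_ h2'
  exact congr_arg (fun z => ((modulesSpecToSheaf.map M.fromTildeΓ).hom.app (op U)).hom z) h1'

omit [M.IsQuasicoherent] in
/-- sections of `subTilde` over (an open equal to) the whole space come from `N₀`. -/
theorem subTildeι_app_of_eq_top (W : (Spec R).Opens) (hW : W = ⊤) (t : Γ(subTilde M N₀, W)) :
    ∃ n : N₀, (subTildeι M N₀).app W t =
      M.presheaf.map (homOfLE (le_top : W ≤ ⊤)).op (show Γ(M, ⊤) from n.1) := by
  subst hW
  obtain ⟨n, hn⟩ := (ConcreteCategory.bijective_of_isIso
    (tilde.toOpen (ModuleCat.of R N₀) ⊤)).2 t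
  refine ⟨n, ?_⟩
  rw [← subTildeι_app_toOpen M N₀ ⊤ n]
  exact congrArg _ hn.symm

end Spec

variable {X : Scheme.{u}}

/-- **The saturated quasi-coherent submodule with prescribed sections over an affine open.** -/
theorem exists_sub_of_submodule [IsLocallyNoetherian X] (M : X.Modules) [M.IsQuasicoherent]
    {U : X.Opens} (hU : IsAffineOpen U) (Q : Submodule Γ(X, U) Γ(M, U)) :
    ∃ (N : X.Modules) (ι : N ⟶ M), Mono ι ∧ N.IsQuasicoherent ∧
      (∀ s : Γ(M, U), s ∈ Set.range (ι.app U) ↔ s ∈ Q) ∧
      ∀ (W' W'' : X.Opens) (hle : W'' ≤ W') (_ : W' ⊓ U ≤ W'') (s : Γ(M, W')),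
        M.presheaf.map (homOfLE hle).op s ∈ Set.range (ι.app W'') →
          s ∈ Set.range (ι.app W') := by
  let j := hU.fromSpec
  haveI : (M.restrict j).IsQuasicoherent := inferInstance
  let Q' : Submodule Γ(X, U) ((modulesSpecToSheaf.obj (M.restrict j)).presheaf.obj (.op ⊤)) :=
    Q.map (toSpecSections M hU)
  let i := subTildeι (M.restrict j) Q'
  haveI : Mono i := inferInstanceAs (Mono (subTildeι (M.restrict j) Q'))
  haveI : (subTilde (M.restrict j) Q').IsQuasicoherent := inferInstance
  have hpre : j ⁻¹ᵁ U = ⊤ := hU.fromSpec_preimage_self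
  -- key identity
  have key : ∀ q : Γ(M, U),
      (M.restrict j).presheaf.map (homOfLE (le_top : j ⁻¹ᵁ U ≤ ⊤)).op
        (show Γ(M.restrict j, ⊤) from toSpecSections M hU q) =
      ((restrictAdjunction j).unit.app M).app U q := by
    intro q
    rw [restrictAdjunction_unit_app_app, restrict_map]
    exact map_map M (image_top_eq hU).le (j.image_mono (le_top : j ⁻¹ᵁ U ≤ ⊤)) q
  refine ⟨satur j i, saturι j i, inferInstance, isQuasicoherent_satur j i, ?_, ?_⟩
  · intro s
    rw [mem_range_saturι_iff]
    constructor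
    · rintro ⟨t, ht⟩
      obtain ⟨n, hn⟩ := subTildeι_app_of_eq_top (M.restrict j) Q' (j ⁻¹ᵁ U) hpre t
      obtain ⟨q, hqQ, hq⟩ := n.2
      have h1 : ((restrictAdjunction j).unit.app M).app U s =
          ((restrictAdjunction j).unit.app M).app U q := by
        rw [← key q, ← ht]
        refine hn.trans ?_
        exact congrArg _ hq.symm
      have hinj : Function.Injective (((restrictAdjunction j).unit.app M).app U) := by
        intro a b hab
        rw [restrictAdjunction_unit_app_app] at hab
        have e : j ''ᵁ (j ⁻¹ᵁ U) = U := by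
          rw [hpre]; exact image_top_eq hU
        exact map_injective_of_eq M e.symm hab
      rw [hinj h1]
      exact hqQ
    · intro hs
      let n : Q' := ⟨toSpecSections M hU s, ⟨s, hs, rfl⟩⟩
      refine ⟨(show Γ(subTilde (M.restrict j) Q', j ⁻¹ᵁ U) from
        (tilde.toOpen (ModuleCat.of Γ(X, U) Q') (j ⁻¹ᵁ U)).hom n), ?_⟩
      rw [← key s]
      exact subTildeι_app_toOpen (M.restrict j) Q' (j ⁻¹ᵁ U) n
  · intro W' W'' hle hge s hs
    refine mem_range_saturι_of_restrict j i W' W'' hle ?_ s hs
    intro y hy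
    have hy1 : j y ∈ U := by
      have : j y ∈ j.opensRange := ⟨y, rfl⟩
      rwa [hU.opensRange_fromSpec] at this
    exact hge ⟨hy, hy1⟩

end Groth.Agent.Lib.helper16.PrimDec
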