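import Groth.Agent.Lib.Helper16.PrimDec5

/-!
# Embedded components, part 1: minimal associated points (helper16)

`MinAss F`: the associated points of `F` without proper associated generization (the generic points
of the irreducible components of `Supp F`); `EmbAss F` the others.
-/

set_option autoImplicit false
universe u
open CategoryTheory CategoryTheory.Limits AlgebraicGeometry TopologicalSpace Opposite
open Scheme.Modules

namespace Groth.Agent.Lib.helper16.PrimDec

open Groth.Agent.Lib.helper16.Satur Groth.Agent.Lib.helper16.CohFinite Groth.Agent.Lib.helper7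
open Groth.Agent.Lib.helper16.QCohAss

variable {X : Scheme.{u}}

/-- minimal associated points. -/
def MinAss (F : X.Modules) : Set X :=
  {ξ | ξ ∈ AssSch.Ass F ∧ ∀ y ∈ AssSch.Ass F, y ⤳ ξ → y = ξ}

/-- embedded associated points. -/
def EmbAss (F : X.Modules) : Set X := AssSch.Ass F \ MinAss F

theorem ass_subset_support (F : X.Modules) : AssSch.Ass F ⊆ CohB1.support F := by
  intro x hx hsub
  haveI : Subsingleton ↑(F.presheaf.stalk x) := hsub
  exact not_isAssociatedPrime_of_subsingleton hx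

/-- every point of the support has an associated generization. -/
theorem exists_ass_specializes (F : X.Modules) [F.IsQuasicoherent] (x : X)
    (hx : x ∈ CohB1.support F) : ∃ y ∈ AssSch.Ass F, y ⤳ x := by
  have hx' : ¬ Subsingleton ↑(F.presheaf.stalk x) := hx
  rw [not_subsingleton_iff_nontrivial] at hx'
  obtain ⟨n, hn⟩ := exists_ne (0 : ↑(F.presheaf.stalk x))
  obtain ⟨V, hxV, t, rfl⟩ := F.presheaf.exists_germ_eq n
  obtain ⟨y, -, hyx, hy, -⟩ :=
    Groth.Agent.Lib.helper16.IrrDec.exists_assPoint_of_germ_ne_zero F V t x hxV hn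
  exact ⟨y, hy, hyx⟩

/-- the support of a quasi-coherent module is stable under specialization. -/
theorem support_specializes (F : X.Modules) [F.IsQuasicoherent] {x u : X} (h : x ⤳ u)
    (hx : x ∈ CohB1.support F) : u ∈ CohB1.support F := by
  obtain ⟨V, hV, huV⟩ := exists_affine_mem u
  have hxV : x ∈ V := h.mem_open V.isOpen huV
  have hx' : ¬ Subsingleton ↑(F.presheaf.stalk x) := hx
  rw [not_subsingleton_iff_nontrivial] at hx'
  obtain ⟨n, hn⟩ := exists_ne (0 : ↑(F.presheaf.stalk x))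
  letI := TopCat.Presheaf.algebra_section_stalk X.presheaf (⟨x, hxV⟩ : V)
  haveI : IsLocalization.AtPrime (X.presheaf.stalk x) (hV.primeIdealOf ⟨x, hxV⟩).asIdeal :=
    hV.isLocalization_stalk ⟨x, hxV⟩
  obtain ⟨a, m, ha, ham⟩ := surj_germ F hV x hxV n
  have hm : (F.presheaf.germ V x hxV).hom m ≠ 0 := by
    intro h0
    rw [h0] at ham
    exact hn (((isUnit_of_notMem (R := X.presheaf.stalk x) ha).smul_eq_zero).1 ham)
  have hann := (locData F hV x hxV).ann_le m hm
  letI := TopCat.Presheaf.algebra_section_stalk X.presheaf (⟨u, huV⟩ : V)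
  haveI : IsLocalization.AtPrime (X.presheaf.stalk u) (hV.primeIdealOf ⟨u, huV⟩).asIdeal :=
    hV.isLocalization_stalk ⟨u, huV⟩
  have hle : (hV.primeIdealOf ⟨x, hxV⟩).asIdeal ≤ (hV.primeIdealOf ⟨u, huV⟩).asIdeal := by
    have h1 : hV.primeIdealOf ⟨x, hxV⟩ ⤳ hV.primeIdealOf ⟨u, huV⟩ := by
      have h0 : hV.fromSpec (hV.primeIdealOf ⟨x, hxV⟩) ⤳ hV.fromSpec (hV.primeIdealOf ⟨u, huV⟩) := by
        rw [hV.fromSpec_primeIdealOf ⟨x, hxV⟩, hV.fromSpec_primeIdealOf ⟨u, huV⟩]
        exact h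
      exact (hV.fromSpec.isOpenEmbedding.isInducing.specializes_iff).1 h0
    exact (PrimeSpectrum.le_iff_specializes _ _).2 h1
  have hne := (locData F hV u huV).map_ne_zero_of_ann_le m (hann.trans hle)
  intro hsub
  haveI : Subsingleton ↑(F.presheaf.stalk u) := hsub
  exact hne (Subsingleton.elim _ _)

/-- every associated point of a coherent module has a minimal associated generization. -/
theorem exists_minAss_specializes [IsLocallyNoetherian X] (F : X.Modules) (hF : Coh.IsCoh F)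
    (y : X) (hy : y ∈ AssSch.Ass F) : ∃ ξ ∈ MinAss F, ξ ⤳ y := by
  obtain ⟨V, hV, hyV⟩ := exists_affine_mem y
  letI := specializationPreorder X
  let T : Set X := {z | (z ∈ AssSch.Ass F ∧ z ∈ V) ∧ z ⤳ y}
  have hTfin : T.Finite :=
    (Groth.Agent.Lib.helper16.IrrDec.finite_ass_inter F hF hV).subset (fun z hz => hz.1)
  have hTne : T.Nonempty := ⟨y, ⟨hy, hyV⟩, specializes_rfl⟩
  obtain ⟨ξ, hξT, hξmax⟩ := hTfin.exists_maximal hTne
  refine ⟨ξ, ⟨hξT.1.1, fun z hz hzξ => ?_⟩, hξT.2⟩
  have hzy : z ⤳ y := hzξ.trans hξT.2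
  have hzT : z ∈ T := ⟨⟨hz, hzy.mem_open V.isOpen hyV⟩, hzy⟩
  have h2 : ξ ⤳ z := hξmax hzT hzξ
  exact (hzξ.antisymm h2).eq

/-- a minimal associated point does not lie in the closure of the embedded points. -/
theorem minAss_notMem_closure_embAss [IsLocallyNoetherian X] (F : X.Modules) (hF : Coh.IsCoh F)
    (ξ : X) (hξ : ξ ∈ MinAss F) : ξ ∉ closure (EmbAss F) := by
  intro hc
  obtain ⟨V, hV, hξV⟩ := exists_affine_mem ξ
  have h1 : ξ ∈ closure (EmbAss F ∩ (V : Set X)) := by
    rw [mem_closure_iff] at hc ⊢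
    intro O hO hξO
    obtain ⟨z, hzOV, hzE⟩ := hc (O ∩ V) (hO.inter V.isOpen) ⟨hξO, hξV⟩
    exact ⟨z, hzOV.1, hzE, hzOV.2⟩
  have hfin : (EmbAss F ∩ (V : Set X)).Finite :=
    (Groth.Agent.Lib.helper16.IrrDec.finite_ass_inter F hF hV).subset
      (fun z hz => ⟨hz.1.1, hz.2⟩)
  rw [← Set.biUnion_of_singleton (EmbAss F ∩ (V : Set X)), hfin.closure_biUnion] at h1
  obtain ⟨z, hz, hξz⟩ := Set.mem_iUnion₂.mp h1
  have hzξ : z ⤳ ξ := specializes_iff_mem_closure.mpr hξz
  have := hξ.2 z hz.1.1 hzξ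
  rw [this] at hz
  exact hz.1.2 hξ

end Groth.Agent.Lib.helper16.PrimDec
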