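import Groth.Agent.Lib.Helper16.PrimDec6

/-!
# Embedded components, part 2: the subsheaf of sections vanishing on an open (helper16)

For an open `U₀` the subsheaf `H⁰_{X∖U₀}(F) ⊆ F` of sections vanishing on `U₀`, with its sectionwise
characterization (`IsVanishingSub`), and sectionwise lemmas on supports.
-/

set_option autoImplicit false
universe u
open CategoryTheory CategoryTheory.Limits AlgebraicGeometry TopologicalSpace Opposite
open Scheme.Modules ZeroObject

namespace Groth.Agent.Lib.helper16.PrimDec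

open Groth.Agent.Lib.helper16.Satur Groth.Agent.Lib.helper16.CohFinite Groth.Agent.Lib.helper7
open Groth.Agent.Lib.helper16.QCohAss

variable {X : Scheme.{u}}

/-! ### germs and supports via sections -/

theorem germ_eq_zero_iff (M : X.Modules) (V : X.Opens) (x : X) (hx : x ∈ V) (t : Γ(M, V)) :
    (M.presheaf.germ V x hx).hom t = 0 ↔
      ∃ (W : X.Opens) (hW : W ≤ V), x ∈ W ∧ M.presheaf.map (homOfLE hW).op t = 0 := by
  constructor
  · intro h
    have h' : (M.presheaf.germ V x hx).hom t = (M.presheaf.germ V x hx).hom 0 := by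
      rw [h, map_zero]
    obtain ⟨W, hxW, iU, iV, e⟩ := TopCat.Presheaf.germ_eq M.presheaf x hx hx t 0 h'
    refine ⟨W, iU.le, hxW, ?_⟩
    have : M.presheaf.map iV.op (0 : Γ(M, V)) = 0 := map_zero _
    rw [this] at e
    exact e
  · rintro ⟨W, hW, hxW, h0⟩
    have := TopCat.Presheaf.germ_res_apply M.presheaf (homOfLE hW) x hxW t
    rw [← this, h0, map_zero]

theorem mem_support_iff (M : X.Modules) (x : X) :
    x ∈ CohB1.support M ↔
      ∃ (V : X.Opens) (hx : x ∈ V) (t : Γ(M, V)), (M.presheaf.germ V x hx).hom t ≠ 0 := by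
  constructor
  · intro h
    have h' : ¬ Subsingleton ↑(M.presheaf.stalk x) := h
    rw [not_subsingleton_iff_nontrivial] at h'
    obtain ⟨n, hn⟩ := exists_ne (0 : ↑(M.presheaf.stalk x))
    obtain ⟨V, hxV, t, rfl⟩ := M.presheaf.exists_germ_eq n
    exact ⟨V, hxV, t, hn⟩
  · rintro ⟨V, hx, t, ht⟩ hsub
    haveI : Subsingleton ↑(M.presheaf.stalk x) := hsub
    exact ht (Subsingleton.elim _ _)

/-- restriction commutes with morphisms (`homOfLE` form). -/
theorem app_res {A B : X.Modules} (φ : A ⟶ B) {W V : X.Opens} (h : W ≤ V) (s : Γ(A, V)) :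
    φ.app W (A.presheaf.map (homOfLE h).op s) = B.presheaf.map (homOfLE h).op (φ.app V s) :=
  Groth.Agent.Lib.helper16.QCohEpi.app_map φ h s

theorem support_subset_of_injective {A B : X.Modules} (φ : A ⟶ B)
    (hinj : ∀ W : X.Opens, Function.Injective (φ.app W)) :
    CohB1.support A ⊆ CohB1.support B := by
  intro x hx
  rw [mem_support_iff] at hx ⊢
  obtain ⟨V, hxV, t, ht⟩ := hx
  refine ⟨V, hxV, φ.app V t, fun h0 => ht ?_⟩
  rw [germ_eq_zero_iff] at h0 ⊢
  obtain ⟨W, hW, hxW, h1⟩ := h0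
  refine ⟨W, hW, hxW, hinj W ?_⟩
  rw [app_res, h1, map_zero]

theorem support_subset_of_surjective_affine {A B : X.Modules} (φ : A ⟶ B)
    (hsurj : ∀ V : X.Opens, IsAffineOpen V → Function.Surjective (φ.app V)) :
    CohB1.support B ⊆ CohB1.support A := by
  intro x hx
  rw [mem_support_iff] at hx ⊢
  obtain ⟨V, hxV, g, hg⟩ := hx
  obtain ⟨_, ⟨V', hV', rfl⟩, hxV', hV'V⟩ :=
    X.isBasis_affineOpens.exists_subset_of_mem_open (show x ∈ (V : Set X) from hxV) V.2
  have hle : V' ≤ V := hV'V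
  have hg' : (B.presheaf.germ V' x hxV').hom (B.presheaf.map (homOfLE hle).op g) ≠ 0 := by
    rw [TopCat.Presheaf.germ_res_apply]; exact hg
  obtain ⟨s, hs⟩ := hsurj V' hV' (B.presheaf.map (homOfLE hle).op g)
  refine ⟨V', hxV', s, fun h0 => hg' ?_⟩
  rw [germ_eq_zero_iff] at h0 ⊢
  obtain ⟨W, hW, hxW, h1⟩ := h0
  refine ⟨W, hW, hxW, ?_⟩
  rw [← hs, ← app_res, h1, map_zero]

/-! ### the subsheaf of sections vanishing on `U₀` -/

/-- `κ : K₀ ⟶ F` is (the inclusion of) the subsheaf of sections vanishing on `U₀`. -/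
def IsVanishingSub (F : X.Modules) (U₀ : X.Opens) {K₀ : X.Modules} (κ : K₀ ⟶ F) : Prop :=
  ∀ (V : X.Opens) (s : Γ(F, V)), s ∈ Set.range (κ.app V) ↔
    ∀ (W : X.Opens) (hWV : W ≤ V), W ≤ U₀ → F.presheaf.map (homOfLE hWV).op s = 0

theorem exists_vanishingSub [IsLocallyNoetherian X] (F : X.Modules) [F.IsQuasicoherent]
    (U₀ : X.Opens) :
    ∃ (K₀ : X.Modules) (κ : K₀ ⟶ F), Mono κ ∧ K₀.IsQuasicoherent ∧ IsVanishingSub F U₀ κ := by
  let j := U₀.ι
  let Z0 : (↑U₀ : Scheme.{u}).Modules := 0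
  haveI : Z0.IsQuasicoherent := CohKer.isQuasicoherent_of_isZero (isZero_zero _)
  let i : Z0 ⟶ F.restrict j := 0
  haveI : Mono i := by
    refine ⟨fun a b _ => ?_⟩
    exact (isZero_zero _).eq_of_tgt a b
  refine ⟨satur j i, saturι j i, inferInstance, isQuasicoherent_satur j i, ?_⟩
  intro V s
  rw [mem_range_saturι_iff]
  constructor
  · rintro ⟨t, ht⟩ W hWV hWU
    have h : ((restrictAdjunction j).unit.app F).app V s = 0 := by
      rw [← ht]; rfl
    rw [restrictAdjunction_unit_app_app] at h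
    have hle : W ≤ j ''ᵁ (j ⁻¹ᵁ V) := by
      intro x hx
      exact ⟨⟨x, hWU hx⟩, hWV hx, rfl⟩
    have e := map_map F (j.image_preimage_le V) hle s
    exact e.symm.trans ((congrArg (F.presheaf.map (homOfLE hle).op) h).trans (map_zero _))
  · intro h
    refine ⟨0, ?_⟩
    rw [map_zero, restrictAdjunction_unit_app_app]
    exact (h (j ''ᵁ (j ⁻¹ᵁ V)) (j.image_preimage_le V) (U₀.ι_image_le _)).symm

section Abstract

variable (F : X.Modules) (U₀ : X.Opens) {K₀ : X.Modules} (κ : K₀ ⟶ F) [Mono κ]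
  (hκ : IsVanishingSub F U₀ κ)

include hκ

/-- sections of `K₀` over opens inside `U₀` vanish. -/
theorem IsVanishingSub.sections_eq_zero {W : X.Opens} (hW : W ≤ U₀) (t : Γ(K₀, W)) : t = 0 := by
  have h1 := (hκ W (κ.app W t)).1 ⟨t, rfl⟩ W le_rfl hW
  rw [map_self] at h1
  apply Groth.Agent.Lib.helper16.Satur.injective_app_of_mono κ W
  rw [h1, map_zero]

/-- the projection to the cokernel is injective on sections over opens inside `U₀`. -/
theorem IsVanishingSub.coker_injective {W : X.Opens} (hW : W ≤ U₀) (s : Γ(F, W))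
    (h : (cokernel.π κ).app W s = 0) : s = 0 := by
  obtain ⟨t, rfl⟩ := (mem_range_iff_cokernel κ W s).2 h
  rw [hκ.sections_eq_zero F U₀ κ hW t, map_zero]

/-- the support of `K₀` misses `U₀`. -/
theorem IsVanishingSub.support_subset : CohB1.support K₀ ⊆ (U₀ : Set X)ᶜ := by
  intro x hx hxU
  rw [mem_support_iff] at hx
  obtain ⟨V, hxV, t, ht⟩ := hx
  apply ht
  rw [germ_eq_zero_iff]
  exact ⟨V ⊓ U₀, inf_le_left, ⟨hxV, hxU⟩, hκ.sections_eq_zero F U₀ κ inf_le_right _⟩

/-- a section whose restriction to `V ⊓ U₀` vanishes lies in `K₀`. -/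
theorem IsVanishingSub.mem_range_of_res_eq_zero {V : X.Opens} (s : Γ(F, V))
    (h : F.presheaf.map (homOfLE (inf_le_left : V ⊓ U₀ ≤ V)).op s = 0) :
    s ∈ Set.range (κ.app V) := by
  rw [hκ V s]
  intro W hWV hWU
  have hle : W ≤ V ⊓ U₀ := le_inf hWV hWU
  have := map_map F (inf_le_left : V ⊓ U₀ ≤ V) hle s
  rw [h, map_zero] at this
  exact this.symm

end Abstract

/-- transport of `IsVanishingSub` along an isomorphism of the source. -/
theorem IsVanishingSub.of_iso {F : X.Modules} {U₀ : X.Opens} {K₀ K₁ : X.Modules} {κ : K₀ ⟶ F}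
    (hκ : IsVanishingSub F U₀ κ) (e : K₁ ≅ K₀) : IsVanishingSub F U₀ (e.hom ≫ κ) := by
  intro V s
  rw [← hκ V s]
  constructor
  · rintro ⟨t, rfl⟩
    exact ⟨e.hom.app V t, rfl⟩
  · rintro ⟨t, rfl⟩
    refine ⟨e.inv.app V t, ?_⟩
    have h1 : (e.inv ≫ e.hom ≫ κ).app V = κ.app V := by rw [Iso.inv_hom_id_assoc]
    exact congr($(h1) t)

end Groth.Agent.Lib.helper16.PrimDec
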