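import Groth.Agent.Lib.Helper16.PrimDec7

/-!
# Embedded components, part 3: the maximal submodule with nowhere dense support (helper16)

For coherent `F` on a locally Noetherian scheme, `K = H⁰_Z(F)` with `Z` the closure of the set of
embedded associated points is the largest coherent submodule whose support is nowhere dense in
`Supp F`; `F/K` has the same support, no embedded points, and `F → F/K` is an isomorphism over the
dense open `X ∖ Z` (EGA IV 3.1.x / Stacks 0AVL-type).
-/

set_option autoImplicit false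
universe u
open CategoryTheory CategoryTheory.Limits AlgebraicGeometry TopologicalSpace Opposite
open Scheme.Modules ZeroObject

namespace Groth.Agent.Lib.helper16.PrimDec

open Groth.Agent.Lib.helper16.Satur Groth.Agent.Lib.helper16.CohFinite Groth.Agent.Lib.helper7
open Groth.Agent.Lib.helper16.QCohAss

variable {X : Scheme.{u}} [IsLocallyNoetherian X]

/-- the open complement of the closure of the embedded points. -/
def embOpen (F : X.Modules) : X.Opens := ⟨(closure (EmbAss F))ᶜ, isClosed_closure.isOpen_compl⟩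

theorem mem_embOpen (F : X.Modules) (x : X) : x ∈ embOpen F ↔ x ∉ closure (EmbAss F) := Iff.rfl

theorem minAss_mem_embOpen (F : X.Modules) (hF : Coh.IsCoh F) {ξ : X} (hξ : ξ ∈ MinAss F) :
    ξ ∈ embOpen F := minAss_notMem_closure_embAss F hF ξ hξ

/-- every point of the support has a minimal associated generization. -/
theorem exists_minAss_of_mem_support (F : X.Modules) (hF : Coh.IsCoh F) (x : X)
    (hx : x ∈ CohB1.support F) : ∃ ξ ∈ MinAss F, ξ ⤳ x := by
  haveI : F.IsQuasicoherent := hF.1
  obtain ⟨y, hy, hyx⟩ := exists_ass_specializes F x hx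
  obtain ⟨ξ, hξ, hξy⟩ := exists_minAss_specializes F hF y hy
  exact ⟨ξ, hξ, hξy.trans hyx⟩

section Abstract

variable (F : X.Modules) (hF : Coh.IsCoh F) {K₀ : X.Modules} (κ : K₀ ⟶ F) [Mono κ]
  [K₀.IsQuasicoherent] (hκ : IsVanishingSub F (embOpen F) κ)

include hF hκ

/-- (P2) the support of `K₀` is nowhere dense in `Supp F`. -/
theorem nowhereDense_support (U : X.Opens)
    (hU : (U : Set X) ∩ CohB1.support F ⊆ CohB1.support K₀) :
    (U : Set X) ∩ CohB1.support F = ∅ := by
  by_contra hne
  obtain ⟨u, huU, huF⟩ := Set.nonempty_iff_ne_empty.mpr hne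
  obtain ⟨ξ, hξ, hξu⟩ := exists_minAss_of_mem_support F hF u huF
  have hξU : ξ ∈ U := hξu.mem_open U.isOpen huU
  have hξF : ξ ∈ CohB1.support F := ass_subset_support F hξ.1
  have := hκ.support_subset F (embOpen F) κ (hU ⟨hξU, hξF⟩)
  exact this (minAss_mem_embOpen F hF hξ)

/-- (P3) maximality. -/
theorem exists_lift_of_nowhereDense {K' : X.Modules} (κ' : K' ⟶ F) [Mono κ'] (hK' : Coh.IsCoh K')
    (hnd : ∀ U : X.Opens, (U : Set X) ∩ CohB1.support F ⊆ CohB1.support K' →
      (U : Set X) ∩ CohB1.support F = ∅) : ∃ l : K' ⟶ K₀, l ≫ κ = κ' := by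
  haveI : F.IsQuasicoherent := hF.1
  haveI : K'.IsQuasicoherent := hK'.1
  -- step a: no minimal associated point of `F` is associated to `K'`
  have ha : ∀ ξ ∈ MinAss F, ξ ∉ AssSch.Ass K' := by
    intro ξ hξ hξK'
    obtain ⟨V, hV, hξV⟩ := exists_affine_mem ξ
    let T : Set X := {z | (z ∈ AssSch.Ass F ∧ z ∈ V) ∧ ¬ ξ ⤳ z}
    have hTfin : T.Finite :=
      (Groth.Agent.Lib.helper16.IrrDec.finite_ass_inter F hF hV).subset (fun z hz => hz.1)
    let C : Set X := ⋃ z ∈ T, closure {z}
    have hC : IsClosed C := hTfin.isClosed_biUnion (fun z _ => isClosed_closure)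
    let U : X.Opens := V ⊓ ⟨Cᶜ, hC.isOpen_compl⟩
    have hξC : ξ ∉ C := by
      intro hc
      obtain ⟨z, hzT, hξz⟩ := Set.mem_iUnion₂.mp hc
      have hzξ : z ⤳ ξ := specializes_iff_mem_closure.mpr hξz
      have := hξ.2 z hzT.1.1 hzξ
      rw [this] at hzT
      exact hzT.2 specializes_rfl
    have hξK's : ξ ∈ CohB1.support K' := ass_subset_support K' hξK'
    have hsub : (U : Set X) ∩ CohB1.support F ⊆ CohB1.support K' := by
      rintro u ⟨⟨huV, huC⟩, huF⟩
      obtain ⟨y, hy, hyu⟩ := exists_ass_specializes F u huF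
      have hyV : y ∈ V := hyu.mem_open V.isOpen huV
      by_cases hξy : ξ ⤳ y
      · exact support_specializes K' (hξy.trans hyu) hξK's
      · exfalso
        apply huC
        exact Set.mem_iUnion₂.mpr ⟨y, ⟨⟨hy, hyV⟩, hξy⟩, specializes_iff_mem_closure.mp hyu⟩
    have hempty := hnd U hsub
    have : ξ ∈ (U : Set X) ∩ CohB1.support F := ⟨⟨hξV, hξC⟩, ass_subset_support F hξ.1⟩
    rw [hempty] at this
    exact this
  -- step b
  have hb : AssSch.Ass K' ⊆ closure (EmbAss F) := by
    intro y hy
    have hyF : y ∈ AssSch.Ass F := ass_subset_of_mono κ' hy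
    apply subset_closure
    exact ⟨hyF, fun hmin => ha y hmin hy⟩
  -- step c
  apply exists_lift_of_range_le κ' κ
  rintro V _ ⟨t, rfl⟩
  rw [hκ V]
  intro W hWV hWU
  rw [← app_res]
  have ht0 : K'.presheaf.map (homOfLE hWV).op t = 0 := by
    by_contra hne
    obtain ⟨y, hyW, hy, -⟩ :=
      Groth.Agent.Lib.helper16.IrrDec.exists_assPoint_of_ne_zero K' W _ hne
    exact (hWU hyW) (hb hy)
  rw [ht0, map_zero]

/-- (P4) the quotient has the same support. -/
theorem support_cokernel_eq : CohB1.support (cokernel κ) = CohB1.support F := by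
  haveI : F.IsQuasicoherent := hF.1
  haveI : (cokernel κ).IsQuasicoherent := CohKer.isQuasicoherent_cokernel κ
  apply Set.Subset.antisymm
  · exact support_subset_of_surjective_affine (cokernel.π κ)
      (fun V hV => Groth.Agent.Lib.helper16.QCohEpi.surjective_app_of_epi (cokernel.π κ) hV)
  · intro x hx
    obtain ⟨ξ, hξ, hξx⟩ := exists_minAss_of_mem_support F hF x hx
    refine support_specializes (cokernel κ) hξx ?_
    have hξF : ξ ∈ CohB1.support F := ass_subset_support F hξ.1
    rw [mem_support_iff] at hξF ⊢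
    obtain ⟨V, hξV, t, ht⟩ := hξF
    refine ⟨V, hξV, (cokernel.π κ).app V t, fun h0 => ht ?_⟩
    rw [germ_eq_zero_iff] at h0 ⊢
    obtain ⟨W, hW, hξW, h1⟩ := h0
    refine ⟨W ⊓ embOpen F, inf_le_left.trans hW, ⟨hξW, minAss_mem_embOpen F hF hξ⟩, ?_⟩
    apply hκ.coker_injective F (embOpen F) κ inf_le_right
    rw [app_res]
    have e := map_map (cokernel κ) hW (inf_le_left : W ⊓ embOpen F ≤ W) ((cokernel.π κ).app V t)
    rw [← e, h1, map_zero]

/-- (P5) the associated points of the quotient are minimal associated points of `F`. -/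
theorem ass_cokernel_subset : AssSch.Ass (cokernel κ) ⊆ MinAss F := by
  haveI : F.IsQuasicoherent := hF.1
  haveI : (cokernel κ).IsQuasicoherent := CohKer.isQuasicoherent_cokernel κ
  intro y hy
  by_cases hyU : y ∈ embOpen F
  · obtain ⟨_, ⟨V, hV, rfl⟩, hyV, hVU⟩ :=
      X.isBasis_affineOpens.exists_subset_of_mem_open
        (show y ∈ ((embOpen F : X.Opens) : Set X) from hyU) (embOpen F).2
    have hVU' : V ≤ embOpen F := hVU
    have hbij : Function.Bijective (secLin (cokernel.π κ) V) :=
      ⟨fun a b hab => by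
        have h0 : (cokernel.π κ).app V (a - b) = 0 := by
          rw [map_sub, sub_eq_zero]; exact hab
        exact sub_eq_zero.mp (hκ.coker_injective F (embOpen F) κ hVU' _ h0),
        Groth.Agent.Lib.helper16.QCohEpi.surjective_app_of_epi (cokernel.π κ) hV⟩
    have hyF : y ∈ AssSch.Ass F := by
      rw [mem_ass_iff F hV y hyV,
        LinearEquiv.AssociatedPrimes.eq (LinearEquiv.ofBijective _ hbij)]
      exact (mem_ass_iff (cokernel κ) hV y hyV).1 hy
    refine ⟨hyF, ?_⟩
    by_contra hnot
    exact hyU (subset_closure ⟨hyF, fun hmin => hnot hmin.2⟩)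
  · exfalso
    have hyZ : y ∈ closure (EmbAss F) := not_not.mp hyU
    obtain ⟨V, hV, hyV⟩ := exists_affine_mem y
    haveI : IsNoetherianRing Γ(X, V) := IsLocallyNoetherian.component_noetherian ⟨V, hV⟩
    have hq := (mem_ass_iff (cokernel κ) hV y hyV).1 hy
    change IsAssociatedPrime _ _ at hq
    rw [isAssociatedPrime_iff] at hq
    obtain ⟨hqp, g, hg⟩ := hq
    rw [colon_bot_eq_ann] at hg
    obtain ⟨s, hs⟩ := Groth.Agent.Lib.helper16.QCohEpi.surjective_app_of_epi
      (cokernel.π κ) hV g
    have hg0 : g ≠ 0 := by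
      intro h0
      apply hqp.ne_top
      rw [hg, h0]
      ext r
      simp [mem_ann]
    have hle : V ⊓ embOpen F ≤ V := inf_le_left
    have hs3 : (cokernel κ).presheaf.map (homOfLE hle).op g ≠ 0 := by
      intro h0
      apply hg0
      rw [← hs, ← app_res] at h0
      have h1 := hκ.coker_injective F (embOpen F) κ inf_le_right _ h0
      have h2 := hκ.mem_range_of_res_eq_zero F (embOpen F) κ s h1
      rw [← hs]
      exact (mem_range_iff_cokernel κ V s).1 h2
    have : ∃ (u : X) (hu : u ∈ V ⊓ embOpen F),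
        ((cokernel κ).presheaf.germ (V ⊓ embOpen F) u hu).hom
          ((cokernel κ).presheaf.map (homOfLE hle).op g) ≠ 0 := by
      by_contra hcon
      push Not at hcon
      exact hs3 (section_eq_zero_of_germ_eq_zero (cokernel κ) (V ⊓ embOpen F) _ hcon)
    obtain ⟨u, hu, hne⟩ := this
    rw [TopCat.Presheaf.germ_res_apply] at hne
    letI := TopCat.Presheaf.algebra_section_stalk X.presheaf (⟨u, hu.1⟩ : V)
    haveI : IsLocalization.AtPrime (X.presheaf.stalk u) (hV.primeIdealOf ⟨u, hu.1⟩).asIdeal :=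
      hV.isLocalization_stalk ⟨u, hu.1⟩
    have hann := (locData (cokernel κ) hV u hu.1).ann_le g hne
    rw [← hg] at hann
    have hspec : y ⤳ u := specializes_of_le hV u y hu.1 hyV hann
    exact hu.2 (hspec.mem_closed isClosed_closure hyZ)

/-- (P5') no embedded points in the quotient. -/
theorem noEmbedded_cokernel (x y : X) (hx : Curv2.IsAssPoint (cokernel κ) x)
    (hy : Curv2.IsAssPoint (cokernel κ) y) (hyx : y ⤳ x) : y = x := by
  have hx' := ass_cokernel_subset F hF κ hκ hx
  have hy' := ass_cokernel_subset F hF κ hκ hy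
  exact hx'.2 y hy'.1 hyx

/-- (P6) the dense open. -/
theorem dense_embOpen : Dense ((embOpen F : X.Opens) : Set X) := by
  rw [dense_iff_inter_open]
  intro O hO hOne
  obtain ⟨x, hxO⟩ := hOne
  by_cases hx : x ∈ embOpen F
  · exact ⟨x, hxO, hx⟩
  · have hxZ : x ∈ closure (EmbAss F) := not_not.mp hx
    obtain ⟨z, hzO, hzE⟩ := mem_closure_iff.mp hxZ O hO hxO
    obtain ⟨ξ, hξ, hξz⟩ := exists_minAss_specializes F hF z hzE.1
    exact ⟨ξ, hξz.mem_open hO hzO, minAss_mem_embOpen F hF hξ⟩

theorem support_subset_closure :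
    CohB1.support F ⊆ closure (((embOpen F : X.Opens) : Set X) ∩ CohB1.support F) := by
  intro x hx
  obtain ⟨ξ, hξ, hξx⟩ := exists_minAss_of_mem_support F hF x hx
  have h1 : x ∈ closure ({ξ} : Set X) := specializes_iff_mem_closure.mp hξx
  refine closure_mono ?_ h1
  rw [Set.singleton_subset_iff]
  exact ⟨minAss_mem_embOpen F hF hξ, ass_subset_support F hξ.1⟩

theorem isIso_restrict_cokernel_π :
    IsIso ((Scheme.Modules.restrictFunctor (embOpen F).ι).map (cokernel.π κ)) := by
  haveI : F.IsQuasicoherent := hF.1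
  haveI : (cokernel κ).IsQuasicoherent := CohKer.isQuasicoherent_cokernel κ
  rw [← isoOn_iff_isIso_restrict]
  have hall : IsoOn (cokernel.π κ)
      (⨆ D : {D : X.affineOpens // D.1 ≤ embOpen F}, (D.1.1 : X.Opens)) := by
    refine IsoOn.iSup (fun D => ?_)
    refine isoOn_of_bijective_affine (cokernel.π κ) D.1.1 D.1.2 ⟨fun a b hab => ?_,
      Groth.Agent.Lib.helper16.QCohEpi.surjective_app_of_epi (cokernel.π κ) D.1.2⟩
    have h0 : (cokernel.π κ).app D.1.1 (a - b) = 0 := by
      rw [map_sub, sub_eq_zero]; exact hab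
    exact sub_eq_zero.mp (hκ.coker_injective F (embOpen F) κ D.2 _ h0)
  refine hall.mono ?_
  intro x hx
  obtain ⟨_, ⟨V, hV, rfl⟩, hxV, hVU⟩ :=
    X.isBasis_affineOpens.exists_subset_of_mem_open
      (show x ∈ ((embOpen F : X.Opens) : Set X) from hx) (embOpen F).2
  exact Opens.mem_iSup.mpr ⟨⟨⟨V, hV⟩, hVU⟩, hxV⟩

end Abstract

end Groth.Agent.Lib.helper16.PrimDec
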