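import Groth.Agent.Lib.Helper16.PrimDec8

/-!
# Embedded components, part 4: assembly (helper16)
-/

set_option autoImplicit false
universe u
open CategoryTheory CategoryTheory.Limits AlgebraicGeometry TopologicalSpace Opposite
open Scheme.Modules ZeroObject

namespace Groth.Agent.Lib.helper16.PrimDec

open Groth.Agent.Lib.helper16.Satur Groth.Agent.Lib.helper16.CohFinite Groth.Agent.Lib.helper7

/-- **The maximal coherent submodule with nowhere dense support** and its quotient. -/
theorem main_emb (X : Scheme.{u}) [IsLocallyNoetherian X] (F : X.Modules) (hF : Coh.IsCoh F) :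
    ∃ K : Subobject F, Coh.IsCoh (K : X.Modules) ∧
      (∀ U : X.Opens, (U : Set ↥X) ∩ CohB1.support F ⊆ CohB1.support (K : X.Modules) →
        (U : Set ↥X) ∩ CohB1.support F = ∅) ∧
      (∀ K' : Subobject F, Coh.IsCoh (K' : X.Modules) →
        (∀ U : X.Opens, (U : Set ↥X) ∩ CohB1.support F ⊆ CohB1.support (K' : X.Modules) →
          (U : Set ↥X) ∩ CohB1.support F = ∅) →
        K' ≤ K) ∧
      CohB1.support (cokernel K.arrow) = CohB1.support F ∧
      (∀ x : ↥X, Curv2.IsAssPoint (cokernel K.arrow) x →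
        ∀ y : ↥X, Curv2.IsAssPoint (cokernel K.arrow) y → y ⤳ x → y = x) ∧
      ∃ U : X.Opens, Dense (U : Set ↥X) ∧
        CohB1.support F ⊆ closure ((U : Set ↥X) ∩ CohB1.support F) ∧
        IsIso ((Scheme.Modules.restrictFunctor U.ι).map (cokernel.π K.arrow)) := by
  haveI : F.IsQuasicoherent := hF.1
  obtain ⟨K₀, κ, hmono, hq, hκ⟩ := exists_vanishingSub F (embOpen F)
  haveI := hmono
  let K : Subobject F := Subobject.mk κ
  let e : (K : X.Modules) ≅ K₀ := Subobject.underlyingIso κ
  have harrow : e.hom ≫ κ = K.arrow := Subobject.underlyingIso_hom_comp_eq_mk κ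
  have hκ' : IsVanishingSub F (embOpen F) K.arrow := by
    rw [← harrow]; exact hκ.of_iso e
  have hKq : (K : X.Modules).IsQuasicoherent :=
    (SheafOfModules.isQuasicoherent X.ringCatSheaf).prop_of_iso e.symm hq
  haveI := hKq
  have hKc : Coh.IsCoh (K : X.Modules) := Groth.Agent.S0046.result X F _ K.arrow hF hKq
  refine ⟨K, hKc, nowhereDense_support F hF K.arrow hκ', ?_, support_cokernel_eq F hF K.arrow hκ',
    fun x hx y hy hyx => noEmbedded_cokernel F hF K.arrow hκ' x y hx hy hyx,
    embOpen F, dense_embOpen F hF K.arrow hκ', support_subset_closure F hF K.arrow hκ',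
    isIso_restrict_cokernel_π F hF K.arrow hκ'⟩
  intro K' hK' hnd
  obtain ⟨l, hl⟩ := exists_lift_of_nowhereDense F hF K.arrow hκ' K'.arrow hK' hnd
  exact Subobject.le_of_comm l hl

end Groth.Agent.Lib.helper16.PrimDec
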