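import Groth.Agent.Lib.Helper18.ProjFormulaLF
import Groth.Agent.Lib.Helper11.TensorASec2
import Groth.Agent.Lib.Helper8.PullbackUnit
import Groth.Agent.Lib.Helper8.ClosedImmUnit
import Groth.Agent.Lib.Helper16.QCohAffinePush

/-!
# The projection formula for an affine morphism and quasi-coherent modules (helper16)

For `f : X ⟶ Y` affine, `P` quasi-coherent on `X`, `M` quasi-coherent on `Y`, helper18's projection
morphism `projHom f P M : f_*P ⊗ M ⟶ f_*(P ⊗ f^*M)` is an isomorphism (`isIso_projHom`); on affine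
opens it is bijective on sections (`bijective_projHom_app`).
-/

set_option autoImplicit false
set_option linter.style.haveILetI false
universe u

open CategoryTheory AlgebraicGeometry Opposite TopologicalSpace TensorProduct

namespace Groth.Agent.Lib.helper16.ProjFormulaAff

open Scheme.Modules Groth.Agent.Lib.Helper18.ProjFormulaLF Groth.Agent.Lib.helper11.TensorASec
  Groth.Agent.Lib.helper8.PullbackUnit Groth.Agent.Lib.helper12.PullTensor

variable {X Y : Scheme.{u}} (f : X ⟶ Y) [IsAffineHom f] (P : X.Modules) [P.IsQuasicoherent]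
  (M : Y.Modules) [M.IsQuasicoherent]

theorem bijective_projHom_app {V : Y.Opens} (hV : IsAffineOpen V) :
    Function.Bijective ((projHom f P M).app V).hom := by
  haveI : ((pushforward f).obj P).IsQuasicoherent :=
    Groth.Agent.Lib.helper16.QCohAffinePush.isQuasicoherent_push f P
  haveI : ((Scheme.Modules.pullback f).obj M).IsQuasicoherent :=
    Groth.Agent.Lib.helper16.QCohPullback.isQuasicoherent_pullback f M
  have hW : IsAffineOpen (f ⁻¹ᵁ V) := hV.preimage f
  have h1 := bijective_cW ((pushforward f).obj P) M V hV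
  have h2 := bijective_cW P ((Scheme.Modules.pullback f).obj M) (f ⁻¹ᵁ V) hW
  letI : Algebra Γ(Y, V) Γ(X, f ⁻¹ᵁ V) := (f.app V).hom.toAlgebra
  letI : Module Γ(X, f ⁻¹ᵁ V) Γ((pushforward f).obj P, V) :=
    inferInstanceAs (Module Γ(X, f ⁻¹ᵁ V) Γ(P, f ⁻¹ᵁ V))
  haveI : IsScalarTower Γ(Y, V) Γ(X, f ⁻¹ᵁ V) Γ((pushforward f).obj P, V) :=
    IsScalarTower.of_algebraMap_smul (fun r x => rfl)
  have h3 : IsScalarTower Γ(Y, V) Γ(X, f ⁻¹ᵁ V) Γ((pushforward f).obj P, V) := inferInstance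
  have hdbg := @bijective_of_isBC Γ(Y, V) Γ(X, f ⁻¹ᵁ V) _ _ _
      Γ((pushforward f).obj P, V) Γ(M, V) Γ((Scheme.Modules.pullback f).obj M, f ⁻¹ᵁ V) Γ(CohB1.tensorMod P ((Scheme.Modules.pullback f).obj M), f ⁻¹ᵁ V) _ _ _ h3
  have hk : IsBC (algebraMap Γ(Y, V) Γ(X, f ⁻¹ᵁ V)) (ρ f (le_refl (f ⁻¹ᵁ V)) M) := by
    have := isBC_ρ f hV hW (le_refl (f ⁻¹ᵁ V)) M
    rwa [← Scheme.Hom.app_eq_appLE] at this
  have hρ : ∀ m : Γ(M, V), ρ f (le_refl (f ⁻¹ᵁ V)) M m = unitSec f M V m := by
    intro m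
    rw [ρ_apply]
    have : (homOfLE (le_refl (f ⁻¹ᵁ V))).op = 𝟙 (op (f ⁻¹ᵁ V)) := rfl
    rw [this]
    erw [((Scheme.Modules.pullback f).obj M).presheaf.map_id]
    rfl
  let b : Γ((pushforward f).obj P, V) ⊗[Γ(Y, V)] Γ(M, V) →+
      Γ(CohB1.tensorMod P ((Scheme.Modules.pullback f).obj M), f ⁻¹ᵁ V) :=
    (AddMonoidHom.mk' (fun x => ((projHom f P M).app V).hom x) (fun x y => map_add _ x y)).comp
      (cW ((pushforward f).obj P) M V).toAddMonoidHom
  have hb : Function.Bijective b := by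
    refine hdbg (ρ f (le_refl (f ⁻¹ᵁ V)) M) hk
      (cW P ((Scheme.Modules.pullback f).obj M) (f ⁻¹ᵁ V)) h2 b ?_
    intro s m
    rw [hρ]
    exact projHom_tmul f P M V s m
  have hb' : (b : _ → _) = (fun x => ((projHom f P M).app V).hom x) ∘ (cW ((pushforward f).obj P) M V) := rfl
  rw [hb'] at hb
  exact (Function.Bijective.of_comp_iff _ h1).mp hb

/-- **Projection formula for an affine morphism and quasi-coherent modules**:
`f_*P ⊗ M ⟶ f_*(P ⊗ f^*M)` is an isomorphism. -/
theorem isIso_projHom : IsIso (projHom f P M) := by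
  rw [Groth.Agent.Lib.helper8.ClosedImmUnit.isIso_iff_bijective_app_affine]
  intro V hV
  exact bijective_projHom_app f P M hV

end Groth.Agent.Lib.helper16.ProjFormulaAff
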