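import Groth.Agent.Lib.Helper16.RegDim
import Groth.Agent.Lib.Helper16.EffCartier
import Groth.Agent.Lib.Helper24.CatEquidim
import Groth.Prelude.Def_BlowUp2

/-!
# Effective Cartier divisors meet integral closed subschemes properly (catenary case) (helper16)
-/

set_option autoImplicit false
universe u
open CategoryTheory CategoryTheory.Limits AlgebraicGeometry TopologicalSpace Opposite IsLocalRing

namespace Groth.Agent.Lib.helper16.PropInt

open Groth.Agent.Lib.helper16.OrdGen Groth.Agent.Lib.helper16.GenFib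
  Groth.Agent.Lib.helper16.FinDeg Groth.Agent.Lib.helper16.DivSum
  Groth.Agent.Lib.helper16.RegDim

variable {X : Scheme.{u}}

/-- local equation of an effective Cartier divisor at a point -/
theorem exists_local_eq {𝓘 : X.IdealSheafData} (hY : BlowUp.IsEffCartierIdeal 𝓘) (ζ : X) :
    ∃ a : X.presheaf.stalk ζ, a ∈ nonZeroDivisors (X.presheaf.stalk ζ) ∧
      ∀ (z : X) (h : z ⤳ ζ), z ∈ 𝓘.support ↔ a ∈ pOf h := by
  obtain ⟨U, hζU, f, hf, hIU⟩ := hY ζ
  refine ⟨X.presheaf.germ U.1 ζ hζU f, ?_, ?_⟩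
  · letI := TopCat.Presheaf.algebra_section_stalk X.presheaf (⟨ζ, hζU⟩ : U.1)
    haveI : IsLocalization.AtPrime (X.presheaf.stalk ζ) (U.2.primeIdealOf ⟨ζ, hζU⟩).asIdeal :=
      U.2.isLocalization_stalk ⟨ζ, hζU⟩
    exact IsLocalization.map_nonZeroDivisors_le (U.2.primeIdealOf ⟨ζ, hζU⟩).asIdeal.primeCompl
      (X.presheaf.stalk ζ) ⟨f, hf, rfl⟩
  · intro z h
    have hzU : z ∈ U.1 := h.mem_open U.1.isOpen hζU
    rw [Scheme.IdealSheafData.mem_support_iff_of_mem hzU, hIU, mem_pOf_iff]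
    rw [Scheme.zeroLocus_span, Scheme.mem_zeroLocus_iff]
    simp only [Set.mem_singleton_iff, forall_eq]
    rw [Scheme.mem_basicOpen _ _ _ hzU, mem_maximalIdeal, mem_nonunits_iff]
    have : X.presheaf.stalkSpecializes h (X.presheaf.germ U.1 ζ hζU f) =
        X.presheaf.germ U.1 z hzU f := by
      rw [← CommRingCat.comp_apply, TopCat.Presheaf.germ_stalkSpecializes]
    rw [this]

theorem mem_maximalIdeal_of_mem_support {𝓘 : X.IdealSheafData} {ζ : X} {a : X.presheaf.stalk ζ}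
    (hiff : ∀ (z : X) (h : z ⤳ ζ), z ∈ 𝓘.support ↔ a ∈ pOf h) (hζ : ζ ∈ 𝓘.support) :
    a ∈ maximalIdeal (X.presheaf.stalk ζ) := by
  have h1 := (hiff ζ specializes_rfl).mp hζ
  rwa [(pOf_eq_maximalIdeal_iff (specializes_rfl : ζ ⤳ ζ)).mpr rfl] at h1

theorem nonpos_of_not_one_le {d : WithBot ℕ∞} (h : ¬ (1 : WithBot ℕ∞) ≤ d) : d ≤ 0 := by
  rw [not_le] at h
  cases hd : d with
  | bot => exact bot_le
  | coe n =>
    rw [hd] at h
    have h1 : n < 1 := by exact_mod_cast h
    have h2 : n = 0 := Order.lt_one_iff.mp h1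
    rw [h2]
    rfl

/-- a point of an effective Cartier divisor has a local ring of dimension `≥ 1`. -/
theorem one_le_dim_of_mem_support {𝓘 : X.IdealSheafData} (hY : BlowUp.IsEffCartierIdeal 𝓘) (y : X)
    (hy : y ∈ 𝓘.support) : 1 ≤ ringKrullDim (X.presheaf.stalk y) := by
  obtain ⟨a, ha, hiff⟩ := exists_local_eq hY y
  have ham := mem_maximalIdeal_of_mem_support hiff hy
  by_contra hlt
  haveI : Ring.KrullDimLE 0 (X.presheaf.stalk y) :=
    Ring.krullDimLE_iff.mpr (nonpos_of_not_one_le hlt)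
  have hnil : IsNilpotent a := Ring.KrullDimLE.isNilpotent_iff_mem_maximalIdeal.mpr ham
  obtain ⟨n, hn⟩ := hnil
  have h1 : a ^ n ∈ nonZeroDivisors (X.presheaf.stalk y) := pow_mem ha n
  rw [hn] at h1
  exact zero_notMem_nonZeroDivisors h1

/-- every point of an effective Cartier divisor on a locally Noetherian scheme has a generization
on the divisor whose local ring has dimension `≤ 1`. -/
theorem exists_mem_support_dim_le_one [IsLocallyNoetherian X] {𝓘 : X.IdealSheafData}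
    (hY : BlowUp.IsEffCartierIdeal 𝓘) (ζ : X) (hζ : ζ ∈ 𝓘.support) :
    ∃ y : X, y ∈ 𝓘.support ∧ ringKrullDim (X.presheaf.stalk y) ≤ 1 := by
  obtain ⟨a, ha, hiff⟩ := exists_local_eq hY ζ
  have ham := mem_maximalIdeal_of_mem_support hiff hζ
  have hne : Ideal.span {a} ≠ (⊤ : Ideal (X.presheaf.stalk ζ)) := by
    intro h
    have h1 : Ideal.span {a} ≤ maximalIdeal (X.presheaf.stalk ζ) :=
      (Ideal.span_singleton_le_iff_mem _).mpr ham
    rw [h] at h1
    exact (maximalIdeal.isMaximal (X.presheaf.stalk ζ)).ne_top (top_le_iff.mp h1)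
  obtain ⟨q, hq⟩ := Ideal.nonempty_minimalPrimes hne
  haveI : q.IsPrime := hq.1.1
  have hht : q.height ≤ 1 :=
    Ideal.height_le_one_of_isPrincipal_of_mem_minimalPrimes (Ideal.span {a}) q hq
  have hy : X.fromSpecStalk ζ (⟨q, inferInstance⟩ : PrimeSpectrum (X.presheaf.stalk ζ)) ⤳ ζ :=
    specializes_fromSpecStalk ζ _
  have hp : pOf hy = q := pOf_fromSpecStalk ζ ⟨q, inferInstance⟩ hy
  refine ⟨_, (hiff _ hy).mpr ?_, ?_⟩
  · rw [hp]
    exact hq.1.2 (Ideal.mem_span_singleton_self a)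
  · rw [ringKrullDim_stalk_eq_height_pOf hy, hp]
    exact_mod_cast hht

theorem minimalPrimes_eq_of_irreducible [IrreducibleSpace X] (ζ : X)
    (P : Ideal (X.presheaf.stalk ζ)) (hP : P ∈ minimalPrimes (X.presheaf.stalk ζ)) :
    P = pOf (genericPoint_specializes ζ) := by
  haveI : P.IsPrime := hP.1.1
  have hz : X.fromSpecStalk ζ (⟨P, inferInstance⟩ : PrimeSpectrum (X.presheaf.stalk ζ)) ⤳ ζ :=
    specializes_fromSpecStalk ζ _
  have hp : pOf hz = P := pOf_fromSpecStalk ζ ⟨P, inferInstance⟩ hz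
  have h1 : pOf (genericPoint_specializes ζ) ≤ pOf hz :=
    (specializes_iff_pOf_le (genericPoint_specializes ζ) hz).mp (genericPoint_specializes _)
  rw [hp] at h1
  exact le_antisymm (hP.2 ⟨inferInstance, bot_le⟩ h1) h1

theorem height_add_dim_quotient_eq [IsLocallyNoetherian X] [IrreducibleSpace X] (ζ : X)
    (hcat : CAlg.IsCatenary (X.presheaf.stalk ζ)) (p : Ideal (X.presheaf.stalk ζ)) [p.IsPrime] :
    (p.height : WithBot ℕ∞) + ringKrullDim (X.presheaf.stalk ζ ⧸ p) =
      ringKrullDim (X.presheaf.stalk ζ) := by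
  obtain ⟨p₀, hp₀, -, h⟩ :=
    Groth.Agent.Lib.Helper24.CatEquidim.exists_minimalPrimes_height_add_dim _ hcat p
  rw [h]
  refine le_antisymm (ringKrullDim_quotient_le p₀) ?_
  refine Groth.Agent.Lib.Helper24.CatEquidim.ringKrullDim_le_of_forall_minimalPrimes _ _ ?_
  intro P hP
  have : P = p₀ := (minimalPrimes_eq_of_irreducible ζ P hP).trans
    (minimalPrimes_eq_of_irreducible ζ p₀ hp₀).symm
  subst this
  exact le_rfl

end Groth.Agent.Lib.helper16.PropInt
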