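import Groth.Agent.Lib.Helper16.PropInt1

/-!
# Effective Cartier divisors meet integral closed subschemes properly (catenary case), main (helper16)
-/

set_option autoImplicit false
universe u
open CategoryTheory CategoryTheory.Limits AlgebraicGeometry TopologicalSpace Opposite IsLocalRing

namespace Groth.Agent.Lib.helper16.PropInt

open Groth.Agent.Lib.helper16.OrdGen Groth.Agent.Lib.helper16.GenFib
  Groth.Agent.Lib.helper16.FinDeg Groth.Agent.Lib.helper16.DivSum
  Groth.Agent.Lib.helper16.RegDim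

variable {X : Scheme.{u}}

theorem iInf_dim_support_eq_one [IsLocallyNoetherian X] {𝓘 : X.IdealSheafData}
    (hY : BlowUp.IsEffCartierIdeal 𝓘) (ζ : X) (hζ : ζ ∈ 𝓘.support) :
    (⨅ y : (𝓘.support : Set X), ringKrullDim (X.presheaf.stalk y.1)) = 1 := by
  obtain ⟨y, hy, hle⟩ := exists_mem_support_dim_le_one hY ζ hζ
  refine le_antisymm (iInf_le_of_le ⟨y, hy⟩ hle) (le_iInf fun y => ?_)
  exact one_le_dim_of_mem_support hY y.1 y.2

theorem generic_notMem_support {Z : Scheme.{u}} [IsIntegral Z] {𝓙 : Z.IdealSheafData}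
    (hc : BlowUp.IsEffCartierIdeal 𝓙) : genericPoint Z ∉ 𝓙.support := by
  intro h
  have h1 := one_le_dim_of_mem_support hc _ h
  have h2 : ringKrullDim (Z.presheaf.stalk (genericPoint Z)) = 0 :=
    ringKrullDim_eq_zero_of_field (Z.functionField)
  rw [h2] at h1
  exact absurd h1 (by decide)

theorem main [IsLocallyNoetherian X] [IrreducibleSpace X]
    (hcat : ∀ x : X, CAlg.IsCatenary (X.presheaf.stalk x))
    (𝓘 : X.IdealSheafData) (hY : BlowUp.IsEffCartierIdeal 𝓘) {Z : Scheme.{u}}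
    (i : Z ⟶ X) [IsClosedImmersion i] [IsIntegral Z] (hc : BlowUp.IsEffCartierIdeal (𝓘.comap i))
    (ζ : X) (hζ : ζ ∈ (𝓘.support : Set X) ∩ Set.range i.base)
    (hmax : ∀ ζ' : X, ζ' ∈ (𝓘.support : Set X) ∩ Set.range i.base → ζ' ⤳ ζ → ζ' = ζ) :
    ringKrullDim (X.presheaf.stalk ζ) =
      (⨅ y : (𝓘.support : Set X), ringKrullDim (X.presheaf.stalk y.1)) +
        ringKrullDim (X.presheaf.stalk (i (genericPoint Z))) := by
  rw [iInf_dim_support_eq_one hY ζ hζ.1]
  obtain ⟨hζY, ζ', rfl⟩ := hζ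
  have hη : i (genericPoint Z) ⤳ i ζ' := (genericPoint_specializes ζ').map i.continuous
  have hηY : i (genericPoint Z) ∉ 𝓘.support := by
    intro h
    exact generic_notMem_support hc
      ((Groth.Agent.Lib.helper16.EffCartier.mem_compl_support_comap 𝓘 i _).mpr h)
  have hne : i (genericPoint Z) ≠ i ζ' := fun h => hηY (h ▸ hζY)
  obtain ⟨a, ha, hiff⟩ := exists_local_eq hY (i ζ')
  have ham := mem_maximalIdeal_of_mem_support hiff hζY
  -- the maximal ideal is minimal over `p + (a)`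
  have hmin : maximalIdeal (X.presheaf.stalk (i ζ')) ∈
      (pOf hη ⊔ Ideal.span {a}).minimalPrimes := by
    refine ⟨⟨inferInstance, sup_le (le_maximalIdeal (Ideal.IsPrime.ne_top inferInstance))
      ((Ideal.span_singleton_le_iff_mem _).mpr ham)⟩, ?_⟩
    rintro q ⟨hqp, hq⟩ -
    haveI : q.IsPrime := hqp
    have hz : X.fromSpecStalk (i ζ') (⟨q, inferInstance⟩ : PrimeSpectrum (X.presheaf.stalk (i ζ'))) ⤳
        i ζ' := specializes_fromSpecStalk _ _
    have hp : pOf hz = q := pOf_fromSpecStalk _ ⟨q, inferInstance⟩ hz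
    have hzY : X.fromSpecStalk (i ζ') (⟨q, inferInstance⟩ : PrimeSpectrum _) ∈ 𝓘.support := by
      rw [hiff _ hz, hp]
      exact hq (Ideal.mem_sup_right (Ideal.mem_span_singleton_self a))
    have hηz : i (genericPoint Z) ⤳
        X.fromSpecStalk (i ζ') (⟨q, inferInstance⟩ : PrimeSpectrum _) := by
      rw [specializes_iff_pOf_le hη hz, hp]
      exact le_sup_left.trans hq
    have hzZ : X.fromSpecStalk (i ζ') (⟨q, inferInstance⟩ : PrimeSpectrum _) ∈ Set.range i.base :=
      hηz.mem_closed i.isClosedEmbedding.isClosed_range ⟨_, rfl⟩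
    have hzeq := hmax _ ⟨hzY, hzZ⟩ hz
    rw [← hp, (pOf_eq_maximalIdeal_iff hz).mpr hzeq]
  have hle1 : ringKrullDim (X.presheaf.stalk (i ζ') ⧸ pOf hη) ≤ 1 := by
    have h1 := Ideal.map_height_le_one_of_mem_minimalPrimes hmin
    have h2 : (maximalIdeal (X.presheaf.stalk (i ζ'))).map (Ideal.Quotient.mk (pOf hη)) =
        maximalIdeal (X.presheaf.stalk (i ζ') ⧸ pOf hη) := by
      refine IsLocalRing.eq_maximalIdeal ?_
      refine Ideal.IsMaximal.map_of_surjective_of_ker_le Ideal.Quotient.mk_surjective ?_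
      rw [Ideal.mk_ker]
      exact le_maximalIdeal (Ideal.IsPrime.ne_top inferInstance)
    rw [h2] at h1
    rw [← IsLocalRing.maximalIdeal_height_eq_ringKrullDim]
    exact_mod_cast h1
  have hge1 : 1 ≤ ringKrullDim (X.presheaf.stalk (i ζ') ⧸ pOf hη) := by
    by_contra hlt
    haveI : Ring.KrullDimLE 0 (X.presheaf.stalk (i ζ') ⧸ pOf hη) :=
      Ring.krullDimLE_iff.mpr (nonpos_of_not_one_le hlt)
    haveI : IsDomain (X.presheaf.stalk (i ζ') ⧸ pOf hη) := Ideal.Quotient.isDomain (pOf hη)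
    have hf : IsField (X.presheaf.stalk (i ζ') ⧸ pOf hη) := Ring.KrullDimLE.isField_of_isDomain
    have hmx : (pOf hη).IsMaximal := Ideal.Quotient.maximal_of_isField _ hf
    exact hne ((pOf_eq_maximalIdeal_iff hη).mp (IsLocalRing.eq_maximalIdeal hmx))
  have hdim := height_add_dim_quotient_eq (i ζ') (hcat _) (pOf hη)
  rw [le_antisymm hle1 hge1, ← ringKrullDim_stalk_eq_height_pOf hη] at hdim
  rw [← hdim, add_comm]

end Groth.Agent.Lib.helper16.PropInt
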