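import Mathlib

/-!
# Algebra for annihilation of cohomology on punctured spectra (helper16)

Pure commutative algebra used for S1798.

* `exists_finset_ker`: if `q : P → M` is surjective, `P` has finite localization and the
  localization of `M` at `p` is finitely presented, then `ker q` is finitely generated "up to `p`".
* `exists_fp_quotient`: a finite module whose localizations at finitely many submonoids are finitely
  presented is the quotient of a finitely presented module by a submodule which is `p`-torsion for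
  all these submonoids.
* `bijective_of_ker_torsion`: the induced map on localizations is bijective.
* `exists_alpha_beta`: for `M` finitely presented with `M_f` finite projective there are
  `β : M → A^r`, `α : A^r → M` with `α ∘ β = f^K`.
-/

set_option autoImplicit false
universe u

namespace Groth.Agent.Lib.helper16.PuncAnn

section FgKer

variable {A : Type*} [CommRing A] (p : Submonoid A) (B : Type*) [CommRing B] [Algebra A B]
  [IsLocalization p B]
  {P M N PB : Type*} [AddCommGroup P] [Module A P] [AddCommGroup M] [Module A M]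
  [AddCommGroup N] [Module A N] [Module B N] [IsScalarTower A B N]
  [AddCommGroup PB] [Module A PB] [Module B PB] [IsScalarTower A B PB]
  (ℓP : P →ₗ[A] PB) [IsLocalizedModule p ℓP] (ℓM : M →ₗ[A] N) [IsLocalizedModule p ℓM]

include B ℓP ℓM in
/-- If `N = p⁻¹M` is finitely presented over `B = p⁻¹A` and `q : P → M` is surjective with `p⁻¹P`
finite, the kernel of `q` is finitely generated up to `p`-torsion. -/
theorem exists_finset_ker (q : P →ₗ[A] M) (hq : Function.Surjective q) [Module.Finite B PB]
    [Module.FinitePresentation B N] :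
    ∃ T : Finset P, (↑T : Set P) ⊆ LinearMap.ker q ∧
      ∀ k ∈ LinearMap.ker q, ∃ s ∈ p, s • k ∈ Submodule.span A (T : Set P) := by
  classical
  let qB : PB →ₗ[B] N :=
    LinearMap.extendScalarsOfIsLocalization p B ((IsLocalizedModule.map p ℓP ℓM) q)
  have hsurj : Function.Surjective qB := by
    intro y
    obtain ⟨⟨m, s⟩, hms⟩ := IsLocalizedModule.surj p ℓM y
    obtain ⟨x, rfl⟩ := hq m
    refine ⟨IsLocalizedModule.mk' ℓP x s, ?_⟩
    change (IsLocalizedModule.map p ℓP ℓM) q (IsLocalizedModule.mk' ℓP x s) = y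
    rw [IsLocalizedModule.map_mk', IsLocalizedModule.mk'_eq_iff]
    exact hms.symm
  have hfg : (LinearMap.ker qB).FG := Module.FinitePresentation.fg_ker qB hsurj
  have hker : Submodule.localized' B p ℓP (LinearMap.ker q) = LinearMap.ker qB :=
    LinearMap.localized'_ker_eq_ker_localizedMap B p ℓP ℓM q
  have hspan : Submodule.localized' B p ℓP (LinearMap.ker q) =
      Submodule.span B (ℓP '' (LinearMap.ker q : Set P)) := by
    conv_lhs => rw [← Submodule.span_eq (LinearMap.ker q)]
    exact Submodule.localized'_span B p ℓP _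
  rw [← hker, hspan] at hfg
  obtain ⟨s', hs'sub, hs'⟩ := (Submodule.fg_span_iff_fg_span_finset_subset _).mp hfg
  obtain ⟨T, hTsub, hTimg⟩ := (Finset.subset_set_image_iff).mp hs'sub
  refine ⟨T, hTsub, ?_⟩
  intro k hk
  have h1 : ℓP k ∈ Submodule.span B (ℓP '' (LinearMap.ker q : Set P)) :=
    Submodule.subset_span ⟨k, hk, rfl⟩
  rw [hs', ← hTimg, Finset.coe_image, ← Submodule.localized'_span B p ℓP] at h1
  obtain ⟨m, hm, s, hms⟩ := (Submodule.mem_localized' B p ℓP _ _).mp h1
  rw [IsLocalizedModule.mk'_eq_iff] at hms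
  have h2 : ℓP m = ℓP ((s : A) • k) := by rw [hms, map_smul]; rfl
  obtain ⟨c, hc⟩ := (IsLocalizedModule.eq_iff_exists p ℓP).mp h2
  refine ⟨c * s, p.mul_mem c.2 s.2, ?_⟩
  have h3 : ((c : A) * (s : A)) • k = (c : A) • m := by
    rw [mul_smul]
    exact hc.symm
  rw [h3]
  exact Submodule.smul_mem _ _ hm

end FgKer

section Quot

variable {A : Type u} [CommRing A] {P M : Type u} [AddCommGroup P] [Module A P]
  [AddCommGroup M] [Module A M]

/-- Quotient of a finite free module by finitely many kernel elements. -/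
theorem exists_fp_quotient [Module.Free A P] [Module.Finite A P] {ι : Type*} [Finite ι]
    (p : ι → Submonoid A) (q : P →ₗ[A] M) (hq : Function.Surjective q)
    (h : ∀ i, ∃ T : Finset P, (↑T : Set P) ⊆ LinearMap.ker q ∧
      ∀ k ∈ LinearMap.ker q, ∃ s ∈ p i, s • k ∈ Submodule.span A (T : Set P)) :
    ∃ (M'' : Type u) (_ : AddCommGroup M'') (_ : Module A M'')
      (_ : Module.FinitePresentation A M'') (π : M'' →ₗ[A] M), Function.Surjective π ∧
        ∀ i, ∀ x, π x = 0 → ∃ s ∈ p i, s • x = 0 := by
  classical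
  haveI := Fintype.ofFinite ι
  choose T hTsub hT using h
  let T₀ : Finset P := Finset.univ.biUnion T
  have hT₀ : (↑T₀ : Set P) ⊆ LinearMap.ker q := by
    intro x hx
    simp only [T₀, Finset.coe_biUnion, Set.mem_iUnion] at hx
    obtain ⟨i, -, hx⟩ := hx
    exact hTsub i hx
  let K' : Submodule A P := Submodule.span A (T₀ : Set P)
  have hK' : K' ≤ LinearMap.ker q := Submodule.span_le.mpr hT₀
  have hfp : Module.FinitePresentation A (P ⧸ K') := by
    refine Module.finitePresentation_of_free_of_surjective K'.mkQ (Submodule.mkQ_surjective _) ?_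
    rw [Submodule.ker_mkQ]
    exact ⟨T₀, rfl⟩
  refine ⟨P ⧸ K', inferInstance, inferInstance, hfp, K'.liftQ q hK', ?_, ?_⟩
  · intro m
    obtain ⟨x, rfl⟩ := hq m
    exact ⟨K'.mkQ x, by simp⟩
  · intro i x hx
    obtain ⟨v, rfl⟩ := Submodule.mkQ_surjective K' x
    have hv : v ∈ LinearMap.ker q := by
      rw [LinearMap.mem_ker]
      simpa using hx
    obtain ⟨s, hs, hsv⟩ := hT i v hv
    refine ⟨s, hs, ?_⟩
    rw [← map_smul, Submodule.mkQ_apply, Submodule.Quotient.mk_eq_zero]
    refine Submodule.span_mono ?_ hsv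
    intro y hy
    simp only [T₀, Finset.coe_biUnion, Set.mem_iUnion]
    exact ⟨i, Finset.mem_coe.mpr (Finset.mem_univ i), hy⟩

end Quot

section Bij

variable {A : Type*} [CommRing A] (p : Submonoid A)
  {M'' M' N'' N' : Type*} [AddCommGroup M''] [Module A M''] [AddCommGroup M'] [Module A M']
  [AddCommGroup N''] [Module A N''] [AddCommGroup N'] [Module A N']
  (ℓ'' : M'' →ₗ[A] N'') [IsLocalizedModule p ℓ''] (ℓ' : M' →ₗ[A] N') [IsLocalizedModule p ℓ']

/-- A surjection whose kernel is `p`-torsion induces a bijection on localizations. -/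
theorem bijective_of_ker_torsion (π : M'' →ₗ[A] M') (hπ : Function.Surjective π)
    (hker : ∀ x, π x = 0 → ∃ s ∈ p, s • x = 0) (G : N'' →ₗ[A] N')
    (hG : G ∘ₗ ℓ'' = ℓ' ∘ₗ π) : Function.Bijective G := by
  have hG' : ∀ x, G (ℓ'' x) = ℓ' (π x) := fun x => LinearMap.congr_fun hG x
  constructor
  · rw [← LinearMap.ker_eq_bot, LinearMap.ker_eq_bot']
    intro y hy
    obtain ⟨⟨m, s⟩, hms⟩ := IsLocalizedModule.surj p ℓ'' y
    have h1 : ℓ' (π m) = 0 := by
      rw [← hG', ← hms, Submonoid.smul_def, map_smul, hy, smul_zero]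
    obtain ⟨t, ht⟩ := (IsLocalizedModule.eq_zero_iff p ℓ').mp h1
    have h2 : π ((t : A) • m) = 0 := by rw [map_smul]; exact ht
    obtain ⟨c, hc, hcm⟩ := hker _ h2
    have h3 : ℓ'' m = 0 := by
      rw [IsLocalizedModule.eq_zero_iff p ℓ'']
      refine ⟨⟨c, hc⟩ * t, ?_⟩
      rw [Submonoid.smul_def, Submonoid.coe_mul, mul_smul]
      exact hcm
    have h4 : s • y = 0 := by rw [hms, h3]
    have hunit := IsLocalizedModule.map_units ℓ'' s
    rw [Module.End.isUnit_iff] at hunit
    apply hunit.injective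
    rw [map_zero]
    exact h4
  · intro y'
    obtain ⟨⟨m', s⟩, hms⟩ := IsLocalizedModule.surj p ℓ' y'
    obtain ⟨m, rfl⟩ := hπ m'
    refine ⟨IsLocalizedModule.mk' ℓ'' m s, ?_⟩
    have hunit := IsLocalizedModule.map_units ℓ' s
    rw [Module.End.isUnit_iff] at hunit
    apply hunit.injective
    change (s : A) • G (IsLocalizedModule.mk' ℓ'' m s) = (s : A) • y'
    rw [← map_smul, ← Submonoid.smul_def, IsLocalizedModule.mk'_cancel', hG']
    exact hms.symm

end Bij

section AlphaBeta

variable {A : Type u} [CommRing A] (f : A) (B : Type*) [CommRing B] [Algebra A B]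
  [IsLocalization.Away f B]
  (M : Type u) [AddCommGroup M] [Module A M] [Module.FinitePresentation A M]
  {N : Type*} [AddCommGroup N] [Module A N] [Module B N] [IsScalarTower A B N]
  (ℓ : M →ₗ[A] N) [IsLocalizedModule (Submonoid.powers f) ℓ]

include B ℓ in
/-- If `M` is finitely presented and `M_f` is finite projective over `A_f`, then multiplication by a
power of `f` on `M` factors through a finite free module. -/
theorem exists_alpha_beta [Module.Finite B N] [Module.Projective B N] :
    ∃ (r K : ℕ) (α : (Fin r → A) →ₗ[A] M) (β : M →ₗ[A] (Fin r → A)),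
      α ∘ₗ β = (f ^ K) • LinearMap.id := by
  classical
  obtain ⟨r, σ, hσ⟩ := Module.Finite.exists_fin' B N
  obtain ⟨τ, hτ⟩ := Module.projective_lifting_property σ LinearMap.id hσ
  let S := Submonoid.powers f
  haveI : IsLocalizedModule S (Algebra.linearMap A B) :=
    (isLocalizedModule_iff_isLocalization).mpr inferInstance
  let ℓr : (Fin r → A) →ₗ[A] (Fin r → B) :=
    LinearMap.pi fun i => Algebra.linearMap A B ∘ₗ LinearMap.proj i
  haveI : IsLocalizedModule S ℓr := IsLocalizedModule.pi S (fun _ : Fin r => Algebra.linearMap A B)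
  haveI : Module.Finite A M := inferInstance
  obtain ⟨β, s, hβ⟩ := Module.FinitePresentation.exists_lift_of_isLocalizedModule S ℓr
    ((τ.restrictScalars A) ∘ₗ ℓ)
  obtain ⟨α, t, hα⟩ := Module.FinitePresentation.exists_lift_of_isLocalizedModule S ℓ
    ((σ.restrictScalars A) ∘ₗ ℓr)
  have hστ : ∀ y, σ (τ y) = y := fun y => LinearMap.congr_fun hτ y
  have h1 : ℓ ∘ₗ (α ∘ₗ β) = ℓ ∘ₗ (((t : A) * (s : A)) • LinearMap.id) := by
    ext x
    have e1 : ℓ (α (β x)) = (t : A) • σ (ℓr (β x)) := by
      have := LinearMap.congr_fun hα (β x)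
      simpa [Submonoid.smul_def] using this
    have e2 : ℓr (β x) = (s : A) • τ (ℓ x) := by
      have := LinearMap.congr_fun hβ x
      simpa [Submonoid.smul_def] using this
    simp only [LinearMap.comp_apply, LinearMap.smul_apply, LinearMap.id_apply, map_smul]
    rw [e1, e2]
    have e3 : σ ((s : A) • τ (ℓ x)) = (s : A) • σ (τ (ℓ x)) := by
      rw [← algebraMap_smul B (s : A) (τ (ℓ x)), map_smul, algebraMap_smul]
    rw [e3, hστ, mul_smul]
  obtain ⟨c, hc⟩ := Module.Finite.exists_smul_of_comp_eq_of_isLocalizedModule S ℓ _ _ h1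
  obtain ⟨a, ha⟩ := (Submonoid.mem_powers_iff _ _).mp s.2
  obtain ⟨b, hb⟩ := (Submonoid.mem_powers_iff _ _).mp t.2
  obtain ⟨d, hd⟩ := (Submonoid.mem_powers_iff _ _).mp c.2
  refine ⟨r, d + (b + a), (c : A) • α, β, ?_⟩
  rw [LinearMap.smul_comp]
  have hc' : (c : A) • (α ∘ₗ β) = (c : A) • (((t : A) * (s : A)) • LinearMap.id) := hc
  rw [hc', smul_smul, pow_add, pow_add, hd, hb, ha]

end AlphaBeta

end Groth.Agent.Lib.helper16.PuncAnn
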