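import Groth.Agent.Lib.Helper18.HHLin
import Groth.Prelude.Def_Formal
import Groth.Prelude.Def_FlatMod2

/-!
# Annihilation of cohomology through factorizations (helper16)

For `X` over `Spec A`:
* `mapOver_smulMod`: multiplication by `c` on `F` induces multiplication by `c` on `H^n(X, F)`.
* `smul_eq_zero_of_factor`: if `c` on `F` factors through `G` and `a` kills `H^n(X, G)` then `a * c`
  kills `H^n(X, F)`.
* `smul_freeMod_eq_zero`: if `a` kills `H^n(X, O_X)` it kills `H^n(X, O_X^r)`.
-/

set_option autoImplicit false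
universe u

namespace Groth.Agent.Lib.helper16.PuncAnn

open CategoryTheory CategoryTheory.Limits AlgebraicGeometry
open Groth.Agent.Lib.Helper18

variable {A : Type u} [CommRing A] {X : Scheme.{u}} [X.Over (Spec (CommRingCat.of A))]

theorem abMap_smulModΓ (F : X.Modules) (r : Coh.Γtop X) :
    HH.abMap (Formal.smulModΓ F r) = Coh.smulAb F r := rfl

theorem mapOver_smulMod (F : X.Modules) (c : A) (n : ℕ) (x : Coh.HH X F n) :
    HH.mapOver A (Formal.smulMod A F c) n x = c • x := rfl

theorem smul_eq_zero_of_factor {F G : X.Modules} (α : G ⟶ F) (β : F ⟶ G) (c a : A) (n : ℕ)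
    (h : β ≫ α = Formal.smulMod A F c) (hG : ∀ y : Coh.HH X G n, a • y = 0)
    (x : Coh.HH X F n) : (a * c) • x = 0 := by
  have h1 : c • x = HH.mapOver A α n (HH.mapOver A β n x) := by
    rw [← mapOver_smulMod, ← h]
    exact HH.map_comp_apply β α n x
  rw [mul_smul, h1, ← map_smul, hG, map_zero]

/-- the projections of a finite coproduct of copies of `O` -/
noncomputable def freeπ (r : ℕ) (i : Fin r) : FlatMod.freeMod X r ⟶ Coh.structureModule X :=
  Sigma.desc fun j => if j = i then 𝟙 _ else 0

theorem free_total (r : ℕ) :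
    ∑ i : Fin r, freeπ (X := X) r i ≫ Sigma.ι (fun _ : Fin r => Coh.structureModule X) i = 𝟙 _ := by
  classical
  apply Sigma.hom_ext
  intro j
  rw [Preadditive.comp_sum, Category.comp_id]
  rw [Finset.sum_eq_single j]
  · simp [freeπ]
  · intro i _ hij
    simp [freeπ, Ne.symm hij]
  · intro h; exact absurd (Finset.mem_univ j) h

theorem smul_freeMod_eq_zero (r n : ℕ) (a : A)
    (hO : ∀ y : Coh.HH X (Coh.structureModule X) n, a • y = 0)
    (y : Coh.HH X (FlatMod.freeMod X r) n) : a • y = 0 := by
  have h1 : y = ∑ i : Fin r, HH.mapOver A (Sigma.ι (fun _ : Fin r => Coh.structureModule X) i) n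
      (HH.mapOver A (freeπ r i) n y) := by
    have h2 : HH.map (𝟙 (FlatMod.freeMod X r)) n y = y := by rw [HH.map_id]; rfl
    conv_lhs => rw [← h2, ← free_total r]
    have h3 : ∀ (s : Finset (Fin r)) (φ : Fin r → (FlatMod.freeMod X r ⟶ FlatMod.freeMod X r)),
        HH.map (∑ i ∈ s, φ i) n = ∑ i ∈ s, HH.map (φ i) n := by
      intro s φ
      induction s using Finset.induction_on with
      | empty => simp [HH.map_zero]
      | insert i s hi ih => rw [Finset.sum_insert hi, Finset.sum_insert hi, HH.map_add, ih]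
    rw [h3, LinearMap.sum_apply]
    refine Finset.sum_congr rfl fun i _ => ?_
    exact HH.map_comp_apply _ _ n y
  rw [h1, Finset.smul_sum]
  refine Finset.sum_eq_zero fun i _ => ?_
  rw [← map_smul, hO, map_zero]

end Groth.Agent.Lib.helper16.PuncAnn
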