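import Groth.Agent.Lib.Helper16.FLF8

/-!
# Finite projectivity of sections of a module which is finite locally free on an open (helper16)

`projective_sections_of_isFinLocFree_restrict`: if `M|_{U₀}` is finite locally free and `W ≤ U₀` is
an affine open, then `Γ(M, W)` is finite projective over `Γ(X, W)`.
-/

set_option autoImplicit false
universe u
open CategoryTheory CategoryTheory.Limits AlgebraicGeometry TopologicalSpace Opposite

namespace Groth.Agent.Lib.helper16.PuncAnn

open Scheme.Modules Groth.Agent.Lib.helper16.QCohPullback Groth.Agent.Lib.helper16.CohFinite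
  Groth.Agent.Lib.helper16.FLF

variable {X : Scheme.{u}} (M : X.Modules)

theorem isFinLocFree_restrict_fromSpec (U₀ : X.Opens) (hM : FlatMod.IsFinLocFree (M.restrict U₀.ι))
    {W : X.Opens} (hW : IsAffineOpen W) (hWU : W ≤ U₀) :
    FlatMod.IsFinLocFree (M.restrict hW.fromSpec) := by
  have hrange : Set.range hW.fromSpec ⊆ Set.range U₀.ι := by
    rw [hW.range_fromSpec, Scheme.Opens.range_ι]
    exact hWU
  let j : Spec Γ(X, W) ⟶ (U₀ : Scheme.{u}) := IsOpenImmersion.lift U₀.ι hW.fromSpec hrange
  have hj : j ≫ U₀.ι = hW.fromSpec := IsOpenImmersion.lift_fac _ _ _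
  haveI : IsOpenImmersion j := by
    have : IsOpenImmersion (j ≫ U₀.ι) := by rw [hj]; infer_instance
    exact IsOpenImmersion.of_comp j U₀.ι
  have h1 : FlatMod.IsFinLocFree ((M.restrict U₀.ι).restrict j) := isFinLocFree_restrict j hM
  have key : ∀ (f : Spec Γ(X, W) ⟶ X) [IsOpenImmersion f], f = j ≫ U₀.ι →
      FlatMod.IsFinLocFree (M.restrict f) := by
    rintro f _ rfl
    exact isFinLocFree_of_iso ((Scheme.Modules.restrictFunctorComp j U₀.ι).app M).symm h1
  exact key _ hj.symm

/-- **Sections over an affine open `W ≤ U₀` of a module which is finite locally free on `U₀` are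
finite projective.** -/
theorem projective_sections_of_isFinLocFree_restrict (U₀ : X.Opens)
    (hM : FlatMod.IsFinLocFree (M.restrict U₀.ι)) {W : X.Opens} (hW : IsAffineOpen W)
    (hWU : W ≤ U₀) :
    Module.Finite Γ(X, W) Γ(M, W) ∧ Module.Projective Γ(X, W) Γ(M, W) := by
  have h1 : FlatMod.IsFinLocFree (M.restrict hW.fromSpec) :=
    isFinLocFree_restrict_fromSpec M U₀ hM hW hWU
  haveI : (M.restrict hW.fromSpec).IsQuasicoherent := isQuasicoherent_of_isFinLocFree _ h1
  have h2 : FlatMod.IsFinLocFree (tilde (secMod M hW)) :=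
    isFinLocFree_of_iso (asIso (M.restrict hW.fromSpec).fromTildeΓ).symm h1
  obtain ⟨h3, h4⟩ := (Groth.Agent.S12451.result (secMod M hW)).1 h2
  exact ⟨Module.Finite.equiv (secEquiv M hW).symm,
    Module.Projective.of_equiv (secEquiv M hW).symm⟩

end Groth.Agent.Lib.helper16.PuncAnn
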