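import Groth.Agent.Lib.Helper16.PuncAnn1
import Groth.Agent.Lib.Helper16.PuncAnn3
import Groth.Agent.Lib.Helper16.Satur5
import Groth.Agent.S9831
import Groth.Agent.S9826

/-!
# Modules on Spec R which are finite locally free on a quasi-compact open (helper16)

* `bijective_tilde_map_app`, `isIso_restrict_tilde_map`: a surjection of modules whose kernel is
  `g`-power torsion for the `g` in a set `S` induces an isomorphism of the associated sheaves over
  the union of the `D(g)`.
* `exists_fp_tilde`: a finite locally free module on `U₀ = ⋃_{g ∈ S} D(g)` (`S` finite) is the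
  restriction of `M''~` for a finitely presented module `M''`.
* `exists_alpha_beta_tilde`: for such `M''` and `g ∈ S`, `g^K` on `M''` factors through `R^r`.
-/

set_option autoImplicit false
universe u
open CategoryTheory CategoryTheory.Limits AlgebraicGeometry TopologicalSpace Opposite

namespace Groth.Agent.Lib.helper16.PuncAnn

open Scheme.Modules Groth.Agent.Lib.helper16.Satur Groth.Agent.Lib.helper16.FLF

variable {R : CommRingCat.{u}}

theorem bijective_tilde_map_app {M'' M' : ModuleCat.{u} R} (π : M'' ⟶ M')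
    (hπ : Function.Surjective π.hom) (g : R)
    (hker : ∀ x, π.hom x = 0 → ∃ k : ℕ, g ^ k • x = 0) :
    Function.Bijective ((tilde.map π).app (PrimeSpectrum.basicOpen g)) := by
  let D : (Spec R).Opens := PrimeSpectrum.basicOpen g
  have h := bijective_of_ker_torsion (Submonoid.powers g) (tilde.toOpen M'' D).hom
    (tilde.toOpen M' D).hom π.hom hπ ?_
    ((modulesSpecToSheaf.map (tilde.map π)).1.app (op D)).hom ?_
  · exact h
  · intro x hx
    obtain ⟨k, hk⟩ := hker x hx
    exact ⟨g ^ k, ⟨k, rfl⟩, hk⟩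
  · have := tilde.toOpen_map_app π D
    ext x
    exact congrArg (fun f => f.hom x) this

theorem isIso_restrict_tilde_map {M'' M' : ModuleCat.{u} R} (π : M'' ⟶ M')
    (hπ : Function.Surjective π.hom) (S : Set R)
    (hker : ∀ g ∈ S, ∀ x, π.hom x = 0 → ∃ k : ℕ, g ^ k • x = 0)
    (U₀ : (Spec R).Opens) (hU₀ : ∀ x ∈ U₀, ∃ g ∈ S, x ∈ PrimeSpectrum.basicOpen g) :
    IsIso ((restrictFunctor U₀.ι).map (tilde.map π)) := by
  rw [← isoOn_iff_isIso_restrict]
  have h : IsoOn (tilde.map π) (⨆ g : S, (PrimeSpectrum.basicOpen g.1 : (Spec R).Opens)) := by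
    refine IsoOn.iSup (fun g => ?_)
    refine isoOn_of_bijective_affine (tilde.map π) _ ?_ (bijective_tilde_map_app π hπ g.1 (hker g.1 g.2))
    exact IsAffineOpen.Spec_basicOpen g.1
  refine h.mono ?_
  intro x hx
  obtain ⟨g, hg, hxg⟩ := hU₀ x hx
  exact Opens.mem_iSup.mpr ⟨⟨g, hg⟩, hxg⟩

/-- A finite module `M'` with `M'~` finite locally free on `U₀ = ⋃_{g ∈ S} D(g)` can be replaced by a
finitely presented module. -/
theorem exists_fp_tilde_aux (U₀ : (Spec R).Opens) (S : Finset R)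
    (hle : ∀ g ∈ S, (PrimeSpectrum.basicOpen g : (Spec R).Opens) ≤ U₀)
    (hU₀ : ∀ x ∈ U₀, ∃ g ∈ S, x ∈ PrimeSpectrum.basicOpen g)
    (M' : ModuleCat.{u} R) [Module.Finite R M']
    (hFLF' : FlatMod.IsFinLocFree ((tilde M').restrict U₀.ι)) :
    ∃ (M'' : ModuleCat.{u} R), Module.FinitePresentation R M'' ∧
      Nonempty ((tilde M'').restrict U₀.ι ≅ (tilde M').restrict U₀.ι) := by
  classical
  obtain ⟨N, q, hq⟩ := Module.Finite.exists_fin' R M'
  have hT : ∀ g : S, ∃ T : Finset (Fin N → R), (↑T : Set (Fin N → R)) ⊆ LinearMap.ker q ∧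
      ∀ k ∈ LinearMap.ker q, ∃ s ∈ Submonoid.powers g.1,
        s • k ∈ Submodule.span R (T : Set (Fin N → R)) := by
    intro g
    let D : (Spec R).Opens := PrimeSpectrum.basicOpen g.1
    obtain ⟨hfin, hproj⟩ := projective_sections_of_isFinLocFree_restrict (tilde M') U₀ hFLF'
      (IsAffineOpen.Spec_basicOpen g.1) (hle g.1 g.2)
    haveI := hfin
    haveI := hproj
    haveI : Module.FinitePresentation Γ(Spec R, D) Γ(tilde M', D) :=
      Module.finitePresentation_of_projective _ _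
    let ℓM : M' →ₗ[R] Γ(tilde M', D) := (tilde.toOpen M' D).hom
    haveI : IsLocalizedModule (Submonoid.powers g.1) ℓM :=
      inferInstanceAs (IsLocalizedModule.Away g.1 (tilde.toOpen M' D).hom)
    let ℓP : (Fin N → R) →ₗ[R] (Fin N → Γ(Spec R, D)) :=
      LinearMap.pi fun i => Algebra.linearMap R Γ(Spec R, D) ∘ₗ LinearMap.proj i
    haveI : IsLocalizedModule (Submonoid.powers g.1) (Algebra.linearMap R Γ(Spec R, D)) :=
      isLocalizedModule_iff_isLocalization.mpr inferInstance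
    haveI : IsLocalizedModule (Submonoid.powers g.1) ℓP :=
      IsLocalizedModule.pi _ (fun _ : Fin N => Algebra.linearMap R Γ(Spec R, D))
    exact exists_finset_ker (Submonoid.powers g.1) Γ(Spec R, D) ℓP ℓM q hq
  obtain ⟨M'', _, _, hfp, π, hπ, hker⟩ :=
    exists_fp_quotient (fun g : S => Submonoid.powers g.1) q hq hT
  let πc : ModuleCat.of R M'' ⟶ M' := ModuleCat.ofHom π
  haveI : IsIso ((restrictFunctor U₀.ι).map (tilde.map πc)) := by
    refine isIso_restrict_tilde_map πc hπ (S : Set R) ?_ U₀ hU₀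
    intro g hg x hx
    obtain ⟨s, ⟨k, rfl⟩, hs⟩ := hker ⟨g, hg⟩ x hx
    exact ⟨k, hs⟩
  exact ⟨ModuleCat.of R M'', hfp, ⟨asIso ((restrictFunctor U₀.ι).map (tilde.map πc))⟩⟩

/-- A finite locally free module on `U₀ = ⋃_{g ∈ S} D(g)` is the restriction of the sheaf associated
with a finitely presented module. -/
theorem exists_fp_tilde (U₀ : (Spec R).Opens) (S : Finset R)
    (hle : ∀ g ∈ S, (PrimeSpectrum.basicOpen g : (Spec R).Opens) ≤ U₀)
    (hU₀ : ∀ x ∈ U₀, ∃ g ∈ S, x ∈ PrimeSpectrum.basicOpen g)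
    (F : (U₀ : Scheme.{u}).Modules) (hF : FlatMod.IsFinLocFree F) :
    ∃ (M'' : ModuleCat.{u} R), Module.FinitePresentation R M'' ∧
      Nonempty ((tilde M'').restrict U₀.ι ≅ F) := by
  classical
  haveI : F.IsQuasicoherent := isQuasicoherent_of_isFinLocFree F hF
  have hFT : CohB1.IsFT F := isFiniteType_of_isFinLocFree F hF
  have hcpt : IsCompact (U₀ : Set (Spec R)) := by
    have h1 : (U₀ : Set (Spec R)) =
        ⋃ g ∈ S, (SetLike.coe (PrimeSpectrum.basicOpen g) : Set (PrimeSpectrum R)) := by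
      apply Set.Subset.antisymm
      · intro x hx
        obtain ⟨g, hg, hxg⟩ := hU₀ x hx
        exact Set.mem_biUnion hg hxg
      · exact Set.iUnion₂_subset fun g hg => hle g hg
    rw [h1]
    exact S.isCompact_biUnion (fun g _ => PrimeSpectrum.isCompact_basicOpen g)
  obtain ⟨G', hqc, hft, ⟨e⟩⟩ := Groth.Agent.S9831.result U₀ hcpt F hFT
  haveI : G'.IsQuasicoherent := hqc
  haveI hiso : IsIso G'.fromTildeΓ := inferInstance
  obtain ⟨M', i1⟩ : ∃ M' : ModuleCat.{u} R, Nonempty (tilde M' ≅ G') :=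
    ⟨_, ⟨asIso G'.fromTildeΓ⟩⟩
  obtain ⟨i1⟩ := i1
  haveI : Module.Finite R M' := (Groth.Agent.S9826.result R M').mp (isFT_of_iso i1.symm hft)
  have hFLF' : FlatMod.IsFinLocFree ((tilde M').restrict U₀.ι) :=
    isFinLocFree_of_iso ((restrictFunctor U₀.ι).mapIso i1 ≪≫ e).symm hF
  obtain ⟨M'', hfp, ⟨i2⟩⟩ := exists_fp_tilde_aux U₀ S hle hU₀ M' hFLF'
  exact ⟨M'', hfp, ⟨i2 ≪≫ (restrictFunctor U₀.ι).mapIso i1 ≪≫ e⟩⟩

/-- For `M''` finitely presented with `M''~` finite locally free on `U₀ ⊇ D(g)`, multiplication by a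
power of `g` on `M''` factors through a finite free module. -/
theorem exists_alpha_beta_tilde (U₀ : (Spec R).Opens) (M'' : ModuleCat.{u} R)
    [Module.FinitePresentation R M'']
    (hFLF : FlatMod.IsFinLocFree ((tilde M'').restrict U₀.ι)) (g : R)
    (hg : (PrimeSpectrum.basicOpen g : (Spec R).Opens) ≤ U₀) :
    ∃ (r K : ℕ) (α : ModuleCat.of R (Fin r → R) ⟶ M'') (β : M'' ⟶ ModuleCat.of R (Fin r → R)),
      β ≫ α = ModuleCat.ofHom ((g ^ K) • (LinearMap.id : M'' →ₗ[R] M'')) := by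
  let D : (Spec R).Opens := PrimeSpectrum.basicOpen g
  obtain ⟨hfin, hproj⟩ := projective_sections_of_isFinLocFree_restrict (tilde M'') U₀ hFLF
    (IsAffineOpen.Spec_basicOpen g) hg
  haveI := hfin
  haveI := hproj
  let ℓ : M'' →ₗ[R] Γ(tilde M'', D) := (tilde.toOpen M'' D).hom
  haveI : IsLocalizedModule (Submonoid.powers g) ℓ :=
    inferInstanceAs (IsLocalizedModule.Away g (tilde.toOpen M'' D).hom)
  obtain ⟨r, K, α, β, h⟩ := exists_alpha_beta g Γ(Spec R, D) M'' ℓ
  refine ⟨r, K, ModuleCat.ofHom α, ModuleCat.ofHom β, ?_⟩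
  rw [← ModuleCat.ofHom_comp, h]

end Groth.Agent.Lib.helper16.PuncAnn
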