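import Groth.Agent.Lib.Helper8.FormalBasic
import Mathlib

/-!
# Scalar multiplications on `M~` and restriction to opens (helper16)

* `tilde_map_smul`: `(c • id)~ = ` multiplication by `c` on `M~`.
* `restrict_map_smulModΓ`: restriction of the multiplication by a global function.
* `restrict_tilde_map_smul`: on an open `U₀` of `Spec A`, `((c • id)~)|_{U₀}` is the multiplication by
  `c` of the prelude (`Formal.smulMod`).
-/

set_option autoImplicit false
universe u
open CategoryTheory CategoryTheory.Limits AlgebraicGeometry TopologicalSpace Opposite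

namespace Groth.Agent.Lib.helper16.PuncAnn

open Scheme.Modules Groth.Agent.Lib.helper8.FF Groth.Agent.Lib.Helper18

theorem tilde_map_smul {R : CommRingCat.{u}} (M : ModuleCat.{u} R) (c : R) :
    tilde.map (ModuleCat.ofHom (c • (LinearMap.id : M →ₗ[R] M))) =
      Formal.smulModΓ (tilde M) ((Scheme.ΓSpecIso R).inv.hom c) := by
  apply ((tilde.adjunction (R := R)).homEquiv M (tilde M)).injective
  rw [Adjunction.homEquiv_unit, Adjunction.homEquiv_unit]
  congr 1
  have key : tilde.toOpen M ⊤ ≫ moduleSpecΓFunctor.map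
        (tilde.map (ModuleCat.ofHom (c • (LinearMap.id : M →ₗ[R] M)))) =
      tilde.toOpen M ⊤ ≫ moduleSpecΓFunctor.map
        (Formal.smulModΓ (tilde M) ((Scheme.ΓSpecIso R).inv.hom c)) := by
    have h1 := tilde.toOpen_map_app (ModuleCat.ofHom (c • (LinearMap.id : M →ₗ[R] M))) ⊤
    refine h1.trans ?_
    ext m
    change (tilde.toOpen M ⊤).hom (c • m) = _
    rw [LinearMap.map_smul]
    rfl
  exact (cancel_epi (tilde.toOpen M ⊤)).mp key

variable {X : Scheme.{u}}

theorem restrict_map_smulModΓ (N : X.Modules) (U₀ : X.Opens) (r : Coh.Γtop X) :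
    (restrictFunctor U₀.ι).map (Formal.smulModΓ N r) =
      Formal.smulModΓ (N.restrict U₀.ι) (U₀.ι.appTop.hom r) := by
  apply abMap_injective
  ext V x
  change @HSMul.hSMul (X.ringCatSheaf.obj.obj (op (U₀.ι ''ᵁ V.unop)))
      (N.val.obj (op (U₀.ι ''ᵁ V.unop))) (N.val.obj (op (U₀.ι ''ᵁ V.unop))) _
      (Coh.resTop X (op (U₀.ι ''ᵁ V.unop)) r) x =
    @HSMul.hSMul (X.ringCatSheaf.obj.obj (op (U₀.ι ''ᵁ V.unop)))
      (N.val.obj (op (U₀.ι ''ᵁ V.unop))) (N.val.obj (op (U₀.ι ''ᵁ V.unop))) _
      ((U₀.ι.appIso V.unop).inv.hom (Coh.resTop (↑U₀) V (U₀.ι.appTop.hom r))) x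
  congr 1
  have h := Scheme.Hom.appLE_appIso_inv U₀.ι (U := ⊤) (V := V.unop) (by simp)
  have h2 := congrArg (fun φ => φ.hom r) h
  exact h2.symm

variable {A : Type u} [CommRing A]

/-- On an open `U₀` of `Spec A`, the restriction of `(c • id)~` is the multiplication by `c`. -/
theorem restrict_tilde_map_smul (U₀ : (Spec (CommRingCat.of A)).Opens)
    (M : ModuleCat.{u} (CommRingCat.of A)) (c : A) :
    (restrictFunctor U₀.ι).map
        (tilde.map (ModuleCat.ofHom (c • (LinearMap.id : M →ₗ[(CommRingCat.of A)] M)))) =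
      Formal.smulMod A ((tilde M).restrict U₀.ι) c := by
  rw [tilde_map_smul, restrict_map_smulModΓ]
  rfl

end Groth.Agent.Lib.helper16.PuncAnn
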