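import Groth.Agent.Lib.Helper16.PuncAnn2
import Groth.Agent.Lib.Helper16.PuncAnn4
import Groth.Agent.Lib.Helper16.PuncAnn5
import Groth.Prelude.Def_Wider

/-!
# Annihilation of the cohomology of finite locally free modules on punctured spectra (helper16)

`main`: `A` a ring, `J ≤ I` finitely generated ideals, `U = Spec A ∖ V(I)`. If `J^n` kills
`H^p(U, O_U)` then for every finite locally free `F` on `U` some power of `J` kills `H^p(U, F)`.
-/

set_option autoImplicit false
universe u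
open CategoryTheory CategoryTheory.Limits AlgebraicGeometry TopologicalSpace Opposite

namespace Groth.Agent.Lib.helper16.PuncAnn

open Scheme.Modules Groth.Agent.Lib.helper16.FLF Groth.Agent.Lib.Helper18

/-- ideal arithmetic -/
theorem exists_pow_smul_eq_zero {A : Type*} [CommRing A] {H : Type*} [AddCommGroup H] [Module A H]
    (J I : Ideal A) (hJI : J ≤ I) (S : Finset A) (hS : Ideal.span (S : Set A) = I) (K : A → ℕ)
    (n : ℕ) (h : ∀ g ∈ S, ∀ a ∈ J ^ n, ∀ x : H, (a * g ^ K g) • x = 0) :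
    ∃ m : ℕ, ∀ a ∈ J ^ m, ∀ x : H, a • x = 0 := by
  classical
  let 𝔟 : Ideal A := Ideal.span ((fun g => g ^ K g) '' (S : Set A))
  have hrad : I ≤ 𝔟.radical := by
    rw [← hS, Ideal.span_le]
    intro g hg
    exact ⟨K g, Ideal.subset_span ⟨g, hg, rfl⟩⟩
  have hIfg : I.FG := ⟨S, hS⟩
  obtain ⟨k, hk⟩ := Ideal.exists_pow_le_of_le_radical_of_fg hrad hIfg
  refine ⟨k + n, ?_⟩
  intro a ha x
  have h1 : J ^ (k + n) ≤ 𝔟 * J ^ n := by
    rw [pow_add]
    exact Ideal.mul_mono_left ((Ideal.pow_right_mono hJI k).trans hk)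
  have h2 : a ∈ 𝔟 * J ^ n := h1 ha
  have key : ∀ b ∈ 𝔟, ∀ c ∈ J ^ n, ∀ y : H, (b * c) • y = 0 := by
    intro b hb
    refine Submodule.span_induction (p := fun b _ => ∀ c ∈ J ^ n, ∀ y : H, (b * c) • y = 0)
      ?_ ?_ ?_ ?_ hb
    · rintro _ ⟨g, hg, rfl⟩ c hc y
      have := h g hg c hc y
      rwa [mul_comm] at this
    · intro c _ y
      rw [zero_mul, zero_smul]
    · intro b₁ b₂ _ _ h₁ h₂ c hc y
      rw [add_mul, add_smul, h₁ c hc y, h₂ c hc y, add_zero]
    · intro t b _ hb' c hc y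
      rw [smul_eq_mul, mul_assoc, mul_smul, hb' c hc y, smul_zero]
  refine Submodule.mul_induction_on h2 ?_ ?_
  · intro b hb c hc
    exact key b hb c hc x
  · intro a₁ a₂ h₁ h₂
    rw [add_smul, h₁, h₂, add_zero]

variable (A : Type u) [CommRing A]

/-- transport of annihilation along an isomorphism -/
theorem smul_eq_zero_of_iso {X : Scheme.{u}} [X.Over (Spec (CommRingCat.of A))] {T F : X.Modules}
    (θ : T ≅ F) (a : A) (n : ℕ) (h : ∀ y : Coh.HH X T n, a • y = 0) (x : Coh.HH X F n) :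
    a • x = 0 := by
  have h1 : x = HH.mapOver A θ.hom n (HH.mapOver A θ.inv n x) := by
    have := HH.map_comp_apply θ.inv θ.hom n x
    rw [Iso.inv_hom_id, HH.map_id] at this
    exact this
  rw [h1, ← LinearMap.map_smul, h, LinearMap.map_zero]

theorem main (J I : Ideal A) (hJI : J ≤ I) (hI : I.FG) (p n : ℕ)
    (hO : ∀ a ∈ J ^ n, ∀ x : Coh.HH (↑(LocCoh.puncturedOpen A I))
      (Coh.structureModule (↑(LocCoh.puncturedOpen A I))) p, a • x = 0)
    (F : (↑(LocCoh.puncturedOpen A I) : Scheme.{u}).Modules) (hF : FlatMod.IsFinLocFree F) :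
    ∃ m : ℕ, ∀ a ∈ J ^ m, ∀ x : Coh.HH (↑(LocCoh.puncturedOpen A I)) F p, a • x = 0 := by
  classical
  obtain ⟨S, hS⟩ := hI
  let R : CommRingCat.{u} := CommRingCat.of A
  let U₀ : (Spec R).Opens := LocCoh.puncturedOpen A I
  have hle : ∀ g ∈ S, (PrimeSpectrum.basicOpen g : (Spec R).Opens) ≤ U₀ := by
    intro g hg x hx
    change x ∈ (PrimeSpectrum.zeroLocus (I : Set A))ᶜ
    intro hxI
    have hgI : g ∈ I := hS ▸ Ideal.subset_span hg
    exact hx (hxI hgI)
  have hU₀ : ∀ x ∈ U₀, ∃ g ∈ S, x ∈ PrimeSpectrum.basicOpen g := by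
    intro x hx
    by_contra hcon
    simp only [not_exists, not_and] at hcon
    apply hx
    change (I : Set A) ⊆ x.asIdeal
    rw [← hS]
    exact Ideal.span_le.mpr (fun g hg => by
      by_contra hgx
      exact hcon g hg hgx)
  obtain ⟨M'', hfp, ⟨θ⟩⟩ := exists_fp_tilde U₀ S hle hU₀ F hF
  haveI := hfp
  have hFLF : FlatMod.IsFinLocFree ((tilde M'').restrict U₀.ι) := isFinLocFree_of_iso θ.symm hF
  have hex := fun g : A => fun hg : g ∈ S => exists_alpha_beta_tilde U₀ M'' hFLF g (hle g hg)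
  have hK : ∀ g : A, ∃ K : ℕ, g ∈ S → ∀ a ∈ J ^ n,
      ∀ x : Coh.HH (↑(LocCoh.puncturedOpen A I)) F p, (a * g ^ K) • x = 0 := by
    intro g
    by_cases hg : g ∈ S
    · obtain ⟨r, K, α, β, hαβ⟩ := hex g hg
      refine ⟨K, fun _ a ha x => ?_⟩
      refine smul_eq_zero_of_iso A θ (a * g ^ K) p ?_ x
      intro y
      let ε : (tilde (stdFree R r)).restrict U₀.ι ≅ FlatMod.freeMod (↑U₀) r :=
        (restrictFunctor U₀.ι).mapIso (tildeFreeModIso R r) ≪≫ restrictFreeModIso U₀.ι r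
      let α' : FlatMod.freeMod (↑U₀) r ⟶ (tilde M'').restrict U₀.ι :=
        ε.inv ≫ (restrictFunctor U₀.ι).map (tilde.map α)
      let β' : (tilde M'').restrict U₀.ι ⟶ FlatMod.freeMod (↑U₀) r :=
        (restrictFunctor U₀.ι).map (tilde.map β) ≫ ε.hom
      have hβα : β' ≫ α' = Formal.smulMod A ((tilde M'').restrict U₀.ι) (g ^ K) := by
        rw [← restrict_tilde_map_smul U₀ M'' (g ^ K), ← hαβ, tilde.map_comp, Functor.map_comp]
        simp only [α', β', Category.assoc, Iso.hom_inv_id_assoc]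
      exact smul_eq_zero_of_factor α' β' (g ^ K) a p hβα
        (fun z => smul_freeMod_eq_zero r p a (hO a ha) z) y
    · exact ⟨0, fun h => absurd h hg⟩
  choose K hK' using hK
  exact exists_pow_smul_eq_zero J I hJI S hS K n (fun g hg a ha x => hK' g hg a ha x)

end Groth.Agent.Lib.helper16.PuncAnn
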