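import Mathlib

/-!
# Criteria for a functor to preserve colimits (helper16)

* `preservesColimit_of_isZero`: a functor with zero values preserves colimits.
* `preservesColimit_of_jointly`: if functors `S x` preserve colimits and jointly reflect
  isomorphisms and all `P ⋙ S x` preserve colimits, then `P` preserves colimits.
-/

set_option autoImplicit false
universe u
open CategoryTheory CategoryTheory.Limits

namespace Groth.Agent.Lib.helper16.PushColim

section
variable {C D E J : Type*} [Category C] [Category D] [Category E] [Category J]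

/-- A functor all of whose values are zero objects preserves colimits. -/
lemma preservesColimit_of_isZero [HasZeroMorphisms D] (G : C ⥤ D) (h : ∀ c, IsZero (G.obj c))
    (K : J ⥤ C) : PreservesColimit K G := by
  refine ⟨fun {c} hc => ⟨?_⟩⟩
  exact
    { desc := fun s => (h c.pt).to_ s.pt
      fac := fun s j => (h (K.obj j)).eq_of_src _ _
      uniq := fun s m _ => (h c.pt).eq_of_src _ _ }

/-- Joint reflection of colimits. -/
lemma preservesColimit_of_jointly {ι : Type*} (P : C ⥤ D) (S : ι → D ⥤ E) (K : J ⥤ C)
    [HasColimit (K ⋙ P)]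
    (hS : ∀ x, PreservesColimit (K ⋙ P) (S x))
    (hPS : ∀ x, PreservesColimit K (P ⋙ S x))
    (hrefl : ∀ {A B : D} (φ : A ⟶ B), (∀ x, IsIso ((S x).map φ)) → IsIso φ) :
    PreservesColimit K P := by
  refine ⟨fun {c} hc => ⟨?_⟩⟩
  let φ : colimit (K ⋙ P) ⟶ P.obj c.pt := colimit.desc (K ⋙ P) (P.mapCocone c)
  have hφ : IsIso φ := by
    apply hrefl
    intro x
    have h1 : IsColimit ((S x).mapCocone (colimit.cocone (K ⋙ P))) :=
      isColimitOfPreserves (S x) (colimit.isColimit (K ⋙ P))
    have h2 : IsColimit ((S x).mapCocone (P.mapCocone c)) :=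
      isColimitOfPreserves (P ⋙ S x) hc
    have e : (S x).map φ = (h1.coconePointUniqueUpToIso h2).hom := by
      apply h1.hom_ext
      intro j
      rw [IsColimit.comp_coconePointUniqueUpToIso_hom]
      change (S x).map (colimit.ι (K ⋙ P) j) ≫ (S x).map φ = (S x).map (P.map (c.ι.app j))
      rw [← Functor.map_comp]
      congr 1
      exact colimit.ι_desc _ _
    rw [e]
    infer_instance
  refine IsColimit.ofIsoColimit (colimit.isColimit (K ⋙ P)) ?_
  exact Cocone.ext (asIso φ) (fun j => colimit.ι_desc _ _)

end

end Groth.Agent.Lib.helper16.PushColim
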