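import Groth.Agent.Lib.Helper16.PushColim1

/-!
# Pushforward of abelian sheaves along a closed embedding preserves colimits (helper16)
-/

set_option autoImplicit false
universe u
open CategoryTheory CategoryTheory.Limits TopologicalSpace Opposite

namespace Groth.Agent.Lib.helper16.PushColim

section Top
variable {Z X : TopCat.{u}} (f : Z ⟶ X)

/-- the stalk functor on abelian sheaves -/
noncomputable abbrev stalkSh (x : X) : TopCat.Sheaf AddCommGrpCat.{u} X ⥤ AddCommGrpCat.{u} :=
  TopCat.Sheaf.forget AddCommGrpCat.{u} X ⋙ TopCat.Presheaf.stalkFunctor AddCommGrpCat.{u} x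

lemma stalkPushforward_naturality {F G : TopCat.Presheaf AddCommGrpCat.{u} Z} (φ : F ⟶ G) (z : Z) :
    (TopCat.Presheaf.stalkFunctor AddCommGrpCat.{u} (f z)).map
        ((TopCat.Presheaf.pushforward AddCommGrpCat.{u} f).map φ) ≫
      G.stalkPushforward AddCommGrpCat.{u} f z =
    F.stalkPushforward AddCommGrpCat.{u} f z ≫
      (TopCat.Presheaf.stalkFunctor AddCommGrpCat.{u} z).map φ := by
  refine TopCat.Presheaf.stalk_hom_ext _ fun U hU => ?_
  erw [TopCat.Presheaf.stalkFunctor_map_germ_assoc, TopCat.Presheaf.stalkPushforward_germ,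
    TopCat.Presheaf.stalkPushforward_germ_assoc, TopCat.Presheaf.stalkFunctor_map_germ]
  rfl

/-- stalks of a pushforward along an inducing map, at points of the image -/
noncomputable def stalkPushIso (hf : Topology.IsInducing f) (z : Z) :
    TopCat.Sheaf.pushforward AddCommGrpCat.{u} f ⋙ stalkSh (f z) ≅ stalkSh z :=
  NatIso.ofComponents
    (fun F => @asIso _ _ _ _ (F.presheaf.stalkPushforward AddCommGrpCat.{u} f z)
      (TopCat.Presheaf.stalkPushforward.stalkPushforward_iso_of_isInducing _ hf F.presheaf z))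
    (fun {F G} φ => stalkPushforward_naturality f φ.hom z)

/-- stalks of a pushforward along a map with closed range vanish outside the range -/
lemma isZero_stalk_pushforward (hf : IsClosed (Set.range f)) (F : TopCat.Sheaf AddCommGrpCat.{u} Z)
    (x : X) (hx : x ∉ Set.range f) :
    IsZero ((TopCat.Sheaf.pushforward AddCommGrpCat.{u} f ⋙ stalkSh x).obj F) := by
  let G : TopCat.Presheaf AddCommGrpCat.{u} X :=
    ((TopCat.Sheaf.pushforward AddCommGrpCat.{u} f).obj F).presheaf
  change IsZero (G.stalk x)
  let W₀ : Opens X := ⟨(Set.range f)ᶜ, hf.isOpen_compl⟩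
  have hxW : x ∈ W₀ := hx
  have hsub : ∀ (U : Opens X), U ≤ W₀ → Subsingleton (G.obj (op U)) := by
    intro U hU
    have hbot : (Opens.map f).obj U = ⊥ := by
      ext z
      simp only [Opens.coe_bot, Set.mem_empty_iff_false, iff_false]
      intro hz
      exact hU hz ⟨z, rfl⟩
    have ht : IsTerminal (F.obj.obj (op ((Opens.map f).obj U))) := F.isTerminalOfEqEmpty hbot
    have hz : IsZero (F.obj.obj (op ((Opens.map f).obj U))) :=
      (AddCommGrpCat.isZero_of_subsingleton (AddCommGrpCat.of PUnit)).of_iso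
        (ht.uniqueUpToIso (AddCommGrpCat.isZero_of_subsingleton (AddCommGrpCat.of PUnit)).isTerminal)
    exact AddCommGrpCat.subsingleton_of_isZero hz
  haveI : Subsingleton (G.stalk x) := by
    refine ⟨fun a b => ?_⟩
    obtain ⟨U, hUW, hxU, s, rfl⟩ := G.exists_le_germ_eq a hxW
    obtain ⟨U', hUW', hxU', s', rfl⟩ := G.exists_le_germ_eq b hxW
    haveI := hsub (U ⊓ U') (inf_le_left.trans hUW)
    rw [← G.germ_res_apply (homOfLE (inf_le_left : U ⊓ U' ≤ U)) x ⟨hxU, hxU'⟩ s,
      ← G.germ_res_apply (homOfLE (inf_le_right : U ⊓ U' ≤ U')) x ⟨hxU, hxU'⟩ s']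
    congr 1
    exact Subsingleton.elim _ _
  exact AddCommGrpCat.isZero_of_subsingleton _

/-- **Pushforward of abelian sheaves along a closed embedding preserves colimits.** -/
theorem preservesColimits_pushforward_of_isClosedEmbedding (hf : Topology.IsClosedEmbedding f) :
    PreservesColimitsOfSize.{u, u} (TopCat.Sheaf.pushforward AddCommGrpCat.{u} f) := by
  refine ⟨fun {J} _ => ⟨fun {K} => ?_⟩⟩
  refine preservesColimit_of_jointly (TopCat.Sheaf.pushforward AddCommGrpCat.{u} f)
    (fun x : X => stalkSh x) K (fun x => inferInstance) (fun x => ?_) ?_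
  · by_cases hx : x ∈ Set.range f
    · obtain ⟨z, rfl⟩ := hx
      exact preservesColimit_of_natIso K (stalkPushIso f hf.isInducing z).symm
    · exact preservesColimit_of_isZero _
        (fun F => isZero_stalk_pushforward f hf.isClosed_range F x hx) K
  · intro A B φ h
    haveI : ∀ x : X, IsIso ((TopCat.Presheaf.stalkFunctor AddCommGrpCat.{u} x).map φ.1) := h
    exact TopCat.Presheaf.isIso_of_stalkFunctor_map_iso φ

end Top

end Groth.Agent.Lib.helper16.PushColim
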