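import Groth.Agent.Lib.Helper16.FinDeg3
import Groth.Agent.Lib.Helper16.CycFlat1

/-!
# Base change of residue degrees and fibre multiplicities (helper16)

For `f : X ⟶ Y`, `g : Y' ⟶ Y`, `X' = X ×_Y Y'` with projections `g' : X' ⟶ X`, `f' : X' ⟶ Y'`,
and a point `x : X` with finite residue field extension over `f x`:
`finsum_length_mul_residueDegree_baseChange`:
`Σ_{x' ↦ (x, y')} length(O_{x'}/𝔪_x O_{x'}) [κ(x') : κ(y')] = length(O_{y'}/𝔪_y O_{y'}) [κ(x) : κ(y)]`.
-/

set_option autoImplicit false
universe u
open CategoryTheory CategoryTheory.Limits AlgebraicGeometry TopologicalSpace Opposite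

namespace Groth.Agent.Lib.helper16.PushPull

open Function IsLocalRing Groth.Agent.Lib.helper16.FinDeg Groth.Agent.Lib.helper16.CycFlat
  Groth.Agent.Lib.helper3.QFinTop Groth.Agent.Lib.helper17.FibreStalk TensorProduct

section alg

variable {A : Type u} [CommRing A] [IsLocalRing A] {B : Type u} [CommRing B]
  [Algebra A B] [Module.Flat A B]

theorem length_self_of_flat (hA : IsFiniteLength A A) :
    Module.length B B =
      Module.length A A * Module.length B (B ⧸ (maximalIdeal A).map (algebraMap A B)) := by
  rw [← length_baseChange_mul (A := A) (B := B) A hA]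
  exact (AlgebraTensorModule.rid A B B).length_eq.symm

end alg

variable {X Y Y' : Scheme.{u}} (f : X ⟶ Y) (g : Y' ⟶ Y)

/-- the morphism from the fibre of `X' ⟶ X` over `x` to the fibre of `Y' ⟶ Y` over `f x` -/
noncomputable def fibMap (x : X) : (pullback.fst f g).fiber x ⟶ g.fiber (f x) :=
  pullback.map _ _ _ _ (pullback.snd f g) (Spec.map (f.residueFieldMap x)) f
    (IsPullback.of_hasPullback f g).flip.w.symm (by simp)

theorem fibMap_fiberι (x : X) :
    fibMap f g x ≫ g.fiberι (f x) = (pullback.fst f g).fiberι x ≫ pullback.snd f g := by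
  unfold fibMap Scheme.Hom.fiberι
  exact pullback.lift_fst _ _ _

theorem isPullback_fibMap (x : X) :
    IsPullback (fibMap f g x) ((pullback.fst f g).fiberToSpecResidueField x)
      (g.fiberToSpecResidueField (f x)) (Spec.map (f.residueFieldMap x)) :=
  isPullback_fiberToSpecResidueField_of_isPullback (IsPullback.of_hasPullback f g).flip x

variable {f} in
theorem isFinite_fibMap {x : X} (hfin : (f.residueFieldMap x).hom.Finite) :
    IsFinite (fibMap f g x) :=
  MorphismProperty.of_isPullback (P := @IsFinite) (isPullback_fibMap f g x).flip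
    ((IsFinite.SpecMap_iff _).mpr hfin)

theorem flat_fibMap (x : X) : Flat (fibMap f g x) := by
  refine MorphismProperty.of_isPullback (P := @Flat) (isPullback_fibMap f g x).flip
    (Flat.SpecMap_iff.mpr ?_)
  letI := (f.residueFieldMap x).hom.toAlgebra
  change Module.Flat (Y.residueField (f x)) (X.residueField x)
  infer_instance

variable {f} in
theorem finrank_fibMap {x : X} (hfin : (f.residueFieldMap x).hom.Finite)
    (w : g.fiber (f x)) : (fibMap f g x).finrank w = f.residueDegree x := by
  have hflat : (f.residueFieldMap x).hom.Flat := by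
    letI := (f.residueFieldMap x).hom.toAlgebra
    change Module.Flat (Y.residueField (f x)) (X.residueField x)
    infer_instance
  haveI : IsFinite (Spec.map (f.residueFieldMap x)) := (IsFinite.SpecMap_iff _).mpr hfin
  haveI : Flat (Spec.map (f.residueFieldMap x)) := Flat.SpecMap_iff.mpr hflat
  rw [Scheme.Hom.finrank_of_isPullback _ _ _ _ (isPullback_fibMap f g x).flip,
    Scheme.Hom.finrank_SpecMap_eq_finrank hfin hflat]
  letI := (f.residueFieldMap x).hom.toAlgebra
  change Module.rankAtStalk (R := Y.residueField (f x)) (X.residueField x) _ = _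
  rw [Module.rankAtStalk_eq_finrank_of_free]
  rfl

/-- residue degrees of `fibMap` are those of `f'` -/
theorem residueDegree_fibMap (x : X) (w : (pullback.fst f g).fiber x) :
    (fibMap f g x).residueDegree w =
      (pullback.snd f g).residueDegree ((pullback.fst f g).fiberι x w) := by
  have e1 : deg ((fibMap f g x ≫ g.fiberι (f x)).residueFieldMap w).hom =
      deg ((fibMap f g x).residueFieldMap w).hom := by
    rw [Scheme.residueFieldMap_comp]
    change deg (((fibMap f g x).residueFieldMap w).hom.comp
      ((g.fiberι (f x)).residueFieldMap (fibMap f g x w)).hom) = _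
    exact deg_comp_left _ _ (residueFieldMap_bijective _ _)
  have e2 : deg (((pullback.fst f g).fiberι x ≫ pullback.snd f g).residueFieldMap w).hom =
      deg ((pullback.snd f g).residueFieldMap ((pullback.fst f g).fiberι x w)).hom := by
    rw [Scheme.residueFieldMap_comp]
    change deg ((((pullback.fst f g).fiberι x).residueFieldMap w).hom.comp
      ((pullback.snd f g).residueFieldMap ((pullback.fst f g).fiberι x w)).hom) = _
    exact deg_comp_right _ _ (residueFieldMap_bijective _ _)
  have e3 : deg ((fibMap f g x ≫ g.fiberι (f x)).residueFieldMap w).hom =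
      deg (((pullback.fst f g).fiberι x ≫ pullback.snd f g).residueFieldMap w).hom := by
    rw [Scheme.Hom.residueFieldMap_congr (fibMap_fiberι f g x) w, CommRingCat.hom_comp]
    exact deg_comp_left _ _ (ConcreteCategory.bijective_of_isIso _)
  change deg ((fibMap f g x).residueFieldMap w).hom =
    deg ((pullback.snd f g).residueFieldMap ((pullback.fst f g).fiberι x w)).hom
  rw [← e1, e3, e2]

/-- the multiplicity of the fibre of `g'` at `x'` is the product of the multiplicity of the fibre of
`g` and that of `fibMap`. -/
theorem length_fibRing_fst (x : X) (w : (pullback.fst f g).fiber x)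
    (hlen : IsFiniteLength ((g.fiber (f x)).presheaf.stalk (fibMap f g x w))
      ((g.fiber (f x)).presheaf.stalk (fibMap f g x w))) :
    Module.length ((pullback f g).presheaf.stalk ((pullback.fst f g).fiberι x w))
        (FibRing (pullback.fst f g) ((pullback.fst f g).fiberι x w)) =
      Module.length (Y'.presheaf.stalk (g.fiberι (f x) (fibMap f g x w)))
          (FibRing g (g.fiberι (f x) (fibMap f g x w))) *
        Module.length (((pullback.fst f g).fiber x).presheaf.stalk w)
          (FibRing (fibMap f g x) w) := by
  rw [← length_fiber_stalk (pullback.fst f g) x w, ← length_fiber_stalk g (f x) (fibMap f g x w)]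
  haveI := flat_fibMap f g x
  have hflat : ((fibMap f g x).stalkMap w).hom.Flat :=
    (Flat.iff_flat_stalkMap (f := fibMap f g x)).1 inferInstance w
  algebraize [((fibMap f g x).stalkMap w).hom]
  exact length_self_of_flat hlen

theorem fibMap_apply (x : X) (w : (pullback.fst f g).fiber x) :
    g.fiberι (f x) (fibMap f g x w) = pullback.snd f g ((pullback.fst f g).fiberι x w) := by
  have := congrArg (fun φ => φ.base w) (fibMap_fiberι f g x)
  exact this

theorem setOf_pair_eq_image (x : X) (y'₀ : g.fiber (f x)) :
    {x' : ↥(pullback f g) | pullback.fst f g x' = x ∧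
      pullback.snd f g x' = g.fiberι (f x) y'₀} =
      ((pullback.fst f g).fiberι x) '' ((fibMap f g x) ⁻¹' {y'₀}) := by
  ext x'
  simp only [Set.mem_setOf_eq, Set.mem_image, Set.mem_preimage, Set.mem_singleton_iff]
  constructor
  · rintro ⟨h1, h2⟩
    have : x' ∈ Set.range ((pullback.fst f g).fiberι x) := by
      rw [(pullback.fst f g).range_fiberι]; exact h1
    obtain ⟨w, rfl⟩ := this
    refine ⟨w, ?_, rfl⟩
    apply fiberι_injective g (f x)
    rw [fibMap_apply, h2]
  · rintro ⟨w, hw, rfl⟩
    refine ⟨fiberι_mem (pullback.fst f g) x w, ?_⟩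
    rw [← fibMap_apply, hw]

theorem finite_setOf_pair (x : X) (y' : Y') (hxy : g y' = f x)
    (hfin : (f.residueFieldMap x).hom.Finite) :
    {x' : ↥(pullback f g) | pullback.fst f g x' = x ∧ pullback.snd f g x' = y'}.Finite := by
  obtain ⟨y'₀, hy'₀⟩ : ∃ y'₀ : g.fiber (f x), g.fiberι (f x) y'₀ = y' := by
    have : y' ∈ Set.range (g.fiberι (f x)) := by
      rw [g.range_fiberι]; exact hxy
    exact this
  subst hy'₀
  haveI := isFinite_fibMap g hfin
  rw [setOf_pair_eq_image]
  exact ((fibMap f g x).finite_preimage_singleton y'₀).image _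

/-- **Base change of residue degrees with multiplicities.** -/
theorem finsum_length_mul_residueDegree_baseChange (x : X) (y' : Y') (hxy : g y' = f x)
    (hfin : (f.residueFieldMap x).hom.Finite)
    (hlen : IsFiniteLength (Y'.presheaf.stalk y') (FibRing g y')) :
    ∑ᶠ x' ∈ {x' : ↥(pullback f g) | pullback.fst f g x' = x ∧ pullback.snd f g x' = y'},
      (Module.length ((pullback f g).presheaf.stalk x') (FibRing (pullback.fst f g) x')).toNat *
        (pullback.snd f g).residueDegree x' =
    (Module.length (Y'.presheaf.stalk y') (FibRing g y')).toNat * f.residueDegree x := by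
  obtain ⟨y'₀, hy'₀⟩ : ∃ y'₀ : g.fiber (f x), g.fiberι (f x) y'₀ = y' := by
    have : y' ∈ Set.range (g.fiberι (f x)) := by
      rw [g.range_fiberι]; exact hxy
    exact this
  subst hy'₀
  haveI := isFinite_fibMap g hfin
  haveI := flat_fibMap f g x
  have hdeg := finsum_length_mul_residueDegree (fibMap f g x) y'₀
  rw [finrank_fibMap g hfin] at hdeg
  have hlen' : IsFiniteLength ((g.fiber (f x)).presheaf.stalk y'₀)
      ((g.fiber (f x)).presheaf.stalk y'₀) := by
    rw [← Module.length_ne_top_iff, length_fiber_stalk g (f x) y'₀, Module.length_ne_top_iff]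
    exact hlen
  rw [setOf_pair_eq_image, finsum_mem_image (fun a _ b _ h => fiberι_injective (pullback.fst f g) x h)]
  rw [← hdeg, mul_finsum_mem]
  refine finsum_mem_congr rfl fun w hw => ?_
  have hw' : fibMap f g x w = y'₀ := hw
  have hlenw : IsFiniteLength ((g.fiber (f x)).presheaf.stalk (fibMap f g x w))
      ((g.fiber (f x)).presheaf.stalk (fibMap f g x w)) := by
    rw [hw']; exact hlen'
  rw [length_fibRing_fst f g x w hlenw, ENat.toNat_mul, ← residueDegree_fibMap f g x w, mul_assoc]
  congr 2
  exact congrArg (fun p => Module.length (Y'.presheaf.stalk (g.fiberι (f x) p))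
    (FibRing g (g.fiberι (f x) p))) hw'

/-- integer version of `finsum_length_mul_residueDegree_baseChange` -/
theorem finsum_length_mul_residueDegree_baseChange_int (x : X) (y' : Y') (hxy : g y' = f x)
    (hfin : (f.residueFieldMap x).hom.Finite)
    (hlen : IsFiniteLength (Y'.presheaf.stalk y') (FibRing g y')) :
    ∑ᶠ x' ∈ {x' : ↥(pullback f g) | pullback.fst f g x' = x ∧ pullback.snd f g x' = y'},
      ((Module.length ((pullback f g).presheaf.stalk x')
        (FibRing (pullback.fst f g) x')).toNat : ℤ) *
        ((pullback.snd f g).residueDegree x' : ℤ) =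
    ((Module.length (Y'.presheaf.stalk y') (FibRing g y')).toNat : ℤ) * (f.residueDegree x : ℤ) := by
  have h := finsum_length_mul_residueDegree_baseChange f g x y' hxy hfin hlen
  have h2 := congrArg (Nat.cast (R := ℤ)) h
  rw [Nat.cast_finsum_mem (finite_setOf_pair f g x y' hxy hfin)] at h2
  push_cast at h2
  exact h2

end Groth.Agent.Lib.helper16.PushPull
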