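import Groth.Agent.Lib.Helper16.PushPull1
import Groth.Agent.Lib.Helper16.CycFlat4
import Groth.Agent.Lib.Helper3.QFinAffineSpace3

/-!
# Flat pullback commutes with proper pushforward of cycles (helper16)

`map_pullFun_eq_pullFun_map`: for `f : X ⟶ Y` proper and `g : Y' ⟶ Y` flat, locally of finite type,
of relative dimension `r`: `g^* f_* α = f'_* g'^* α`.
-/

set_option autoImplicit false
universe u
open CategoryTheory CategoryTheory.Limits AlgebraicGeometry TopologicalSpace Opposite

namespace Groth.Agent.Lib.helper16.PushPull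

open Function IsLocalRing Groth.Agent.Lib.helper16.FinDeg Groth.Agent.Lib.helper16.CycFlat
  Groth.Agent.Lib.helper3.QFinTop Groth.Agent.Lib.helper17.FibreStalk
  Groth.Agent.Lib.helper3.DimIneq Groth.Agent.Lib.helper3.FibreField
  Groth.Agent.Lib.helper3.QFinAffineSpace

/-- regrouping a `finsum` along the fibres of a map -/
theorem finsum_mem_fiberwise {A B : Type*} (π : A → B) (T : Set A) (G : A → ℤ)
    (hfin : (T ∩ Function.support G).Finite) (S : Set B) (hS : ∀ a ∈ T, π a ∈ S) :
    ∑ᶠ a ∈ T, G a = ∑ᶠ b ∈ S, ∑ᶠ a ∈ {a | π a = b ∧ a ∈ T}, G a := by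
  classical
  set s : Finset A := hfin.toFinset with hs
  have mem_s : ∀ a, a ∈ s ↔ a ∈ T ∧ G a ≠ 0 := by
    intro a
    simp [hs]
  have hL : ∑ᶠ a ∈ T, G a = ∑ a ∈ s, G a := by
    refine finsum_mem_eq_sum_of_subset _ ?_ ?_
    · rintro a ⟨h1, h2⟩
      rw [Finset.mem_coe, mem_s]
      exact ⟨h1, h2⟩
    · intro a ha
      exact ((mem_s a).mp ha).1
  have hI : ∀ b, ∑ᶠ a ∈ {a | π a = b ∧ a ∈ T}, G a = ∑ a ∈ s with π a = b, G a := by
    intro b
    refine finsum_mem_eq_sum_of_subset _ ?_ ?_
    · rintro a ⟨⟨h1, h2⟩, h3⟩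
      rw [Finset.mem_coe, Finset.mem_filter, mem_s]
      exact ⟨⟨h2, h3⟩, h1⟩
    · intro a ha
      rw [Finset.mem_coe, Finset.mem_filter, mem_s] at ha
      exact ⟨ha.2, ha.1.1⟩
  have hR : ∑ᶠ b ∈ S, ∑ᶠ a ∈ {a | π a = b ∧ a ∈ T}, G a =
      ∑ b ∈ s.image π, ∑ a ∈ s with π a = b, G a := by
    simp_rw [hI]
    refine finsum_mem_eq_sum_of_subset _ ?_ ?_
    · rintro b ⟨_, h2⟩
      obtain ⟨a, ha, -⟩ := Finset.exists_ne_zero_of_sum_ne_zero h2
      rw [Finset.mem_filter] at ha
      rw [Finset.mem_coe, Finset.mem_image]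
      exact ⟨a, ha.1, ha.2⟩
    · intro b hb
      rw [Finset.mem_coe, Finset.mem_image] at hb
      obtain ⟨a, ha, rfl⟩ := hb
      exact hS a ((mem_s a).mp ha).1
  rw [hL, hR]
  exact (Finset.sum_fiberwise_of_maps_to (fun a ha => Finset.mem_image_of_mem π ha) _).symm

variable {X Y Y' : Scheme.{u}} (f : X ⟶ Y) (g : Y' ⟶ Y)

theorem td_fibMap (x : X) (w : (pullback.fst f g).fiber x) :
    td ((fibMap f g x).residueFieldMap w).hom =
      td ((pullback.snd f g).residueFieldMap ((pullback.fst f g).fiberι x w)).hom := by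
  have e1 : td ((fibMap f g x ≫ g.fiberι (f x)).residueFieldMap w).hom =
      td ((fibMap f g x).residueFieldMap w).hom := by
    rw [Scheme.residueFieldMap_comp]
    change td (((fibMap f g x).residueFieldMap w).hom.comp
      ((g.fiberι (f x)).residueFieldMap (fibMap f g x w)).hom) = _
    exact td_comp_left _ _ (residueFieldMap_surjective _ _)
  have e2 : td (((pullback.fst f g).fiberι x ≫ pullback.snd f g).residueFieldMap w).hom =
      td ((pullback.snd f g).residueFieldMap ((pullback.fst f g).fiberι x w)).hom := by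
    rw [Scheme.residueFieldMap_comp]
    change td ((((pullback.fst f g).fiberι x).residueFieldMap w).hom.comp
      ((pullback.snd f g).residueFieldMap ((pullback.fst f g).fiberι x w)).hom) = _
    exact td_comp_right _ _ (residueFieldMap_surjective _ _)
  have e3 : td ((fibMap f g x ≫ g.fiberι (f x)).residueFieldMap w).hom =
      td (((pullback.fst f g).fiberι x ≫ pullback.snd f g).residueFieldMap w).hom := by
    rw [Scheme.Hom.residueFieldMap_congr (fibMap_fiberι f g x) w, CommRingCat.hom_comp]
    exact td_comp_left _ _ (ConcreteCategory.bijective_of_isIso _).surjective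
  rw [← e1, e3, e2]

theorem finite_residueFieldMap_of_td_eq_zero [LocallyOfFiniteType f] (x : X)
    (h : td (f.residueFieldMap x).hom = 0) : (f.residueFieldMap x).hom.Finite := by
  letI := (f.residueFieldMap x).hom.toAlgebra
  have halg : Algebra.IsAlgebraic (Y.residueField (f x)) (X.residueField x) := by
    rw [← trdeg_eq_zero_iff]
    exact h
  have hess : (f.residueFieldMap x).hom.EssFiniteType :=
    RingHom.EssFiniteType.residueFieldMap (LocallyOfFiniteType.stalkMap f x)
  have hess' : Algebra.EssFiniteType (Y.residueField (f x)) (X.residueField x) := hess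
  have hfin : Module.Finite (Y.residueField (f x)) (X.residueField x) :=
    Algebra.finite_of_essFiniteType_of_isAlgebraic
  exact hfin

theorem td_snd_eq_zero (x' : ↥(pullback f g))
    (hfin : (f.residueFieldMap (pullback.fst f g x')).hom.Finite) :
    td ((pullback.snd f g).residueFieldMap x').hom = 0 := by
  haveI := isFinite_fibMap g hfin
  have h1 := td_fibMap f g (pullback.fst f g x') ((pullback.fst f g).asFiber x')
  rw [(fibreDimAt_eq_zero_of_lqf (fibMap f g (pullback.fst f g x'))
    ((pullback.fst f g).asFiber x')).2] at h1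
  rw [h1]
  exact td_residueFieldMap_congr (pullback.snd f g) ((pullback.fst f g).fiberι_asFiber x').symm

theorem apply_fst_eq_apply_snd (x' : ↥(pullback f g)) :
    f (pullback.fst f g x') = g (pullback.snd f g x') := by
  have := congrArg (fun φ => φ.base x') (pullback.condition (f := f) (g := g))
  exact this

open Classical in
theorem map_pullFun_eq_pullFun_map [IsProper f] [Flat g] [LocallyOfFiniteType g]
    (δX : X → ℤ) (δY : Y → ℤ) (δY' : Y' → ℤ) (δX' : ↥(pullback f g) → ℤ) (r : ℕ)
    (hr : Cyc.HasRelDim g r) [IsLocallyNoetherian Y']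
    (hf : Cyc.DeltaCompat f δX δY) (hg : Cyc.DeltaCompat g δY' δY)
    (hX' : Cyc.DeltaCompat (pullback.snd f g) δX' δY')
    (α : AlgebraicCycle X ℤ) (α' : AlgebraicCycle (pullback f g) ℤ)
    (hα' : ⇑α' = Cyc.pullFun (pullback.fst f g) δX' δX r ⇑α) :
    ⇑(AlgebraicCycle.map (pullback.snd f g) δX' δY' α') =
      Cyc.pullFun g δY' δY r ⇑(AlgebraicCycle.map f δX δY α) := by
  funext y'
  obtain ⟨n, b, hn, hnb, hdim⟩ := deltaCompat_fibre g δY' δY r hr hg y'
  show ∑ᶠ x' ∈ (pullback.snd f g) ⁻¹' {y'}, α' x' *
      ((AlgebraicCycle.mapCoeff (pullback.snd f g) δX' δY' x' : ℕ) : ℤ) =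
    (if δY' y' = δY (g y') + r then
      (∑ᶠ x ∈ f ⁻¹' {g y'}, α x * ((AlgebraicCycle.mapCoeff f δX δY x : ℕ) : ℤ)) *
        ((Module.length (Y'.presheaf.stalk y') (FibRing g y')).toNat : ℤ) else 0)
  -- the general term
  have hG : ∀ x' : ↥(pullback f g), α' x' *
      ((AlgebraicCycle.mapCoeff (pullback.snd f g) δX' δY' x' : ℕ) : ℤ) =
      (if δX' x' = δX (pullback.fst f g x') + r then α (pullback.fst f g x') *
        ((Module.length ((pullback f g).presheaf.stalk x')
          (FibRing (pullback.fst f g) x')).toNat : ℤ) else 0) *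
      ((if δX' x' = δY' (pullback.snd f g x') then (pullback.snd f g).residueDegree x'
        else 0 : ℕ) : ℤ) := by
    intro x'
    rw [hα']
    rfl
  -- vanishing criterion
  have hA : ∀ x' : ↥(pullback f g), pullback.snd f g x' = y' →
      α' x' * ((AlgebraicCycle.mapCoeff (pullback.snd f g) δX' δY' x' : ℕ) : ℤ) ≠ 0 →
      n = r ∧ δX (pullback.fst f g x') = δY (f (pullback.fst f g x')) := by
    intro x' hx' hne
    rw [hG] at hne
    have c1 : δX' x' = δX (pullback.fst f g x') + r := by
      by_contra hc
      rw [if_neg hc, zero_mul] at hne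
      exact hne rfl
    have c2 : δX' x' = δY' (pullback.snd f g x') := by
      by_contra hc
      rw [if_neg hc] at hne
      simp at hne
    obtain ⟨t, -, ht⟩ := hf (pullback.fst f g x')
    rw [hx'] at c2
    have e1 : δY (f (pullback.fst f g x')) = δY (g y') := by
      rw [apply_fst_eq_apply_snd, hx']
    constructor <;> omega
  -- nonvanishing criterion
  have hB : ∀ x' : ↥(pullback f g), pullback.snd f g x' = y' → n = r →
      δX (pullback.fst f g x') = δY (f (pullback.fst f g x')) →
      (f.residueFieldMap (pullback.fst f g x')).hom.Finite ∧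
      δX' x' = δX (pullback.fst f g x') + r ∧ δX' x' = δY' (pullback.snd f g x') := by
    intro x' hx' hnr hx
    obtain ⟨t, ht1, ht⟩ := hf (pullback.fst f g x')
    have ht0 : t = 0 := by omega
    have ht1' : td (f.residueFieldMap (pullback.fst f g x')).hom = (t : Cardinal.{u}) := ht1
    rw [ht0, Nat.cast_zero] at ht1'
    have hfin := finite_residueFieldMap_of_td_eq_zero f _ ht1'
    obtain ⟨t', ht'1, ht'⟩ := hX' x'
    have ht'1' : td ((pullback.snd f g).residueFieldMap x').hom = (t' : Cardinal.{u}) := ht'1
    rw [td_snd_eq_zero f g x' hfin] at ht'1'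
    have ht'0 : t' = 0 := by exact_mod_cast ht'1'.symm
    have e1 : δY (f (pullback.fst f g x')) = δY (g y') := by
      rw [apply_fst_eq_apply_snd, hx']
    have e2 : δY' (pullback.snd f g x') = δY' y' := by rw [hx']
    refine ⟨hfin, ?_, ?_⟩ <;> omega
  by_cases hnr : n = r
  · rw [if_pos (by omega)]
    have hfinlen : IsFiniteLength (Y'.presheaf.stalk y') (FibRing g y') := by
      apply isFiniteLength_fibRing g y'
      rw [hdim]
      have : b = 0 := by omega
      rw [this]
      rfl
    -- finiteness of the support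
    have hcpt : IsCompact ((pullback.snd f g) ⁻¹' {y'}) :=
      (pullback.snd f g).isCompact_preimage_singleton y'
    have hfinS : ((pullback.snd f g) ⁻¹' {y'} ∩ Function.support (fun x' => α' x' *
        ((AlgebraicCycle.mapCoeff (pullback.snd f g) δX' δY' x' : ℕ) : ℤ))).Finite := by
      refine (α'.locallyFiniteSupport.finite_inter_support_of_isCompact hcpt).subset ?_
      rintro x' ⟨h1, h2⟩
      refine ⟨h1, ?_⟩
      intro h0
      apply h2
      change α' x' * _ = 0
      rw [show α' x' = 0 from h0, zero_mul]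
    rw [finsum_mem_fiberwise (pullback.fst f g) _ _ hfinS (f ⁻¹' {g y'})
      (fun x' hx' => by
        have hx'' : pullback.snd f g x' = y' := hx'
        change f (pullback.fst f g x') = g y'
        rw [apply_fst_eq_apply_snd, hx'']),
      finsum_mem_mul]
    refine finsum_mem_congr rfl fun x hx => ?_
    have hxy : g y' = f x := (show f x = g y' from hx).symm
    have hset : {a : ↥(pullback f g) | pullback.fst f g a = x ∧
        a ∈ (pullback.snd f g) ⁻¹' {y'}} =
        {x' : ↥(pullback f g) | pullback.fst f g x' = x ∧ pullback.snd f g x' = y'} := rfl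
    rw [hset]
    by_cases hx0 : δX x = δY (f x)
    · -- the point contributes
      have hmc : AlgebraicCycle.mapCoeff f δX δY x = f.residueDegree x := by
        unfold AlgebraicCycle.mapCoeff
        rw [if_pos hx0]
      rw [hmc]
      have hterm : ∀ x' ∈ {x' : ↥(pullback f g) | pullback.fst f g x' = x ∧
          pullback.snd f g x' = y'}, α' x' *
          ((AlgebraicCycle.mapCoeff (pullback.snd f g) δX' δY' x' : ℕ) : ℤ) =
          α x * (((Module.length ((pullback f g).presheaf.stalk x')
            (FibRing (pullback.fst f g) x')).toNat : ℤ) *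
            ((pullback.snd f g).residueDegree x' : ℤ)) := by
        rintro x' ⟨h1, h2⟩
        have hx0' : δX (pullback.fst f g x') = δY (f (pullback.fst f g x')) := by
          rw [h1]; exact hx0
        obtain ⟨-, c1, c2⟩ := hB x' h2 hnr hx0'
        rw [hG, if_pos c1, if_pos c2,
          show α (pullback.fst f g x') = α x from congrArg (⇑α) h1]
        ring
      have hfin : (f.residueFieldMap x).hom.Finite := by
        obtain ⟨t, ht1, ht⟩ := hf x
        have ht0 : t = 0 := by omega
        have ht1' : td (f.residueFieldMap x).hom = (t : Cardinal.{u}) := ht1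
        rw [ht0, Nat.cast_zero] at ht1'
        exact finite_residueFieldMap_of_td_eq_zero f _ ht1'
      rw [finsum_mem_congr rfl hterm, ← mul_finsum_mem,
        finsum_length_mul_residueDegree_baseChange_int f g x y' hxy hfin hfinlen]
      ring
    · have hmc : AlgebraicCycle.mapCoeff f δX δY x = 0 := by
        unfold AlgebraicCycle.mapCoeff
        rw [if_neg hx0]
      rw [hmc, Nat.cast_zero, mul_zero, zero_mul]
      refine finsum_mem_eq_zero_of_forall_eq_zero ?_
      rintro x' ⟨h1, h2⟩
      by_contra hne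
      have := (hA x' h2 hne).2
      rw [h1] at this
      exact hx0 this
  · rw [if_neg (by omega)]
    refine finsum_mem_eq_zero_of_forall_eq_zero ?_
    intro x' hx'
    by_contra hne
    exact hnr (hA x' hx' hne).1

end Groth.Agent.Lib.helper16.PushPull
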