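import Groth.Agent.Lib.Helper16.PushPull2
import Groth.Agent.Lib.Helper16.GenFib

/-!
# Flat base change commutes with proper pushforward of cycles, general form (helper16)

`map_pullFun_eq_pullFun_map'`: for `f : X ⟶ Y` proper and any `g : Y' ⟶ Y` with dimension
functions such that `δY' ≤ δY ∘ g + c` with equality only at points where the fibre ring of `g` has
finite length: `g^* f_* α = f'_* g'^* α` (shift `c`).
-/

set_option autoImplicit false
universe u
open CategoryTheory CategoryTheory.Limits AlgebraicGeometry TopologicalSpace Opposite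

namespace Groth.Agent.Lib.helper16.PushPull

open Function IsLocalRing Groth.Agent.Lib.helper16.FinDeg Groth.Agent.Lib.helper16.CycFlat
  Groth.Agent.Lib.helper3.QFinTop Groth.Agent.Lib.helper17.FibreStalk
  Groth.Agent.Lib.helper3.DimIneq Groth.Agent.Lib.helper3.FibreField
  Groth.Agent.Lib.helper3.QFinAffineSpace

variable {X Y Y' : Scheme.{u}} (f : X ⟶ Y) (g : Y' ⟶ Y)

open Classical in
theorem map_pullFun_eq_pullFun_map' [IsProper f]
    (δX : X → ℤ) (δY : Y → ℤ) (δY' : Y' → ℤ) (δX' : ↥(pullback f g) → ℤ) (c : ℤ)
    (hle : ∀ y' : Y', δY' y' ≤ δY (g y') + c)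
    (hfl : ∀ y' : Y', δY' y' = δY (g y') + c →
      IsFiniteLength (Y'.presheaf.stalk y') (FibRing g y'))
    (hf : Cyc.DeltaCompat f δX δY)
    (hX' : Cyc.DeltaCompat (pullback.snd f g) δX' δY')
    (α : AlgebraicCycle X ℤ) (α' : AlgebraicCycle (pullback f g) ℤ)
    (hα' : ⇑α' = Cyc.pullFun (pullback.fst f g) δX' δX c ⇑α) :
    ⇑(AlgebraicCycle.map (pullback.snd f g) δX' δY' α') =
      Cyc.pullFun g δY' δY c ⇑(AlgebraicCycle.map f δX δY α) := by
  funext y'
  show ∑ᶠ x' ∈ (pullback.snd f g) ⁻¹' {y'}, α' x' *
      ((AlgebraicCycle.mapCoeff (pullback.snd f g) δX' δY' x' : ℕ) : ℤ) =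
    (if δY' y' = δY (g y') + c then
      (∑ᶠ x ∈ f ⁻¹' {g y'}, α x * ((AlgebraicCycle.mapCoeff f δX δY x : ℕ) : ℤ)) *
        ((Module.length (Y'.presheaf.stalk y') (FibRing g y')).toNat : ℤ) else 0)
  -- the general term
  have hG : ∀ x' : ↥(pullback f g), α' x' *
      ((AlgebraicCycle.mapCoeff (pullback.snd f g) δX' δY' x' : ℕ) : ℤ) =
      (if δX' x' = δX (pullback.fst f g x') + c then α (pullback.fst f g x') *
        ((Module.length ((pullback f g).presheaf.stalk x')
          (FibRing (pullback.fst f g) x')).toNat : ℤ) else 0) *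
      ((if δX' x' = δY' (pullback.snd f g x') then (pullback.snd f g).residueDegree x'
        else 0 : ℕ) : ℤ) := by
    intro x'
    rw [hα']
    rfl
  -- vanishing criterion
  have hA : ∀ x' : ↥(pullback f g), pullback.snd f g x' = y' →
      α' x' * ((AlgebraicCycle.mapCoeff (pullback.snd f g) δX' δY' x' : ℕ) : ℤ) ≠ 0 →
      δY' y' = δY (g y') + c ∧ δX (pullback.fst f g x') = δY (f (pullback.fst f g x')) := by
    intro x' hx' hne
    rw [hG] at hne
    have c1 : δX' x' = δX (pullback.fst f g x') + c := by
      by_contra hc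
      rw [if_neg hc, zero_mul] at hne
      exact hne rfl
    have c2 : δX' x' = δY' (pullback.snd f g x') := by
      by_contra hc
      rw [if_neg hc] at hne
      simp at hne
    obtain ⟨t, -, ht⟩ := hf (pullback.fst f g x')
    rw [hx'] at c2
    have e1 : δY (f (pullback.fst f g x')) = δY (g y') := by
      rw [apply_fst_eq_apply_snd, hx']
    have := hle y'
    constructor <;> omega
  -- nonvanishing criterion
  have hB : ∀ x' : ↥(pullback f g), pullback.snd f g x' = y' → δY' y' = δY (g y') + c →
      δX (pullback.fst f g x') = δY (f (pullback.fst f g x')) →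
      (f.residueFieldMap (pullback.fst f g x')).hom.Finite ∧
      δX' x' = δX (pullback.fst f g x') + c ∧ δX' x' = δY' (pullback.snd f g x') := by
    intro x' hx' hnr hx
    obtain ⟨t, ht1, ht⟩ := hf (pullback.fst f g x')
    have ht0 : t = 0 := by omega
    have ht1' : td (f.residueFieldMap (pullback.fst f g x')).hom = (t : Cardinal.{u}) := ht1
    rw [ht0, Nat.cast_zero] at ht1'
    have hfin := finite_residueFieldMap_of_td_eq_zero f _ ht1'
    obtain ⟨t', ht'1, ht'⟩ := hX' x'
    have ht'1' : td ((pullback.snd f g).residueFieldMap x').hom = (t' : Cardinal.{u}) := ht'1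
    rw [td_snd_eq_zero f g x' hfin] at ht'1'
    have ht'0 : t' = 0 := by exact_mod_cast ht'1'.symm
    have e1 : δY (f (pullback.fst f g x')) = δY (g y') := by
      rw [apply_fst_eq_apply_snd, hx']
    have e2 : δY' (pullback.snd f g x') = δY' y' := by rw [hx']
    refine ⟨hfin, ?_, ?_⟩ <;> omega
  by_cases hnr : δY' y' = δY (g y') + c
  · rw [if_pos hnr]
    have hfinlen : IsFiniteLength (Y'.presheaf.stalk y') (FibRing g y') := hfl y' hnr
    -- finiteness of the support
    have hcpt : IsCompact ((pullback.snd f g) ⁻¹' {y'}) :=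
      (pullback.snd f g).isCompact_preimage_singleton y'
    have hfinS : ((pullback.snd f g) ⁻¹' {y'} ∩ Function.support (fun x' => α' x' *
        ((AlgebraicCycle.mapCoeff (pullback.snd f g) δX' δY' x' : ℕ) : ℤ))).Finite := by
      refine (α'.locallyFiniteSupport.finite_inter_support_of_isCompact hcpt).subset ?_
      rintro x' ⟨h1, h2⟩
      refine ⟨h1, ?_⟩
      intro h0
      apply h2
      change α' x' * _ = 0
      rw [show α' x' = 0 from h0, zero_mul]
    rw [finsum_mem_fiberwise (pullback.fst f g) _ _ hfinS (f ⁻¹' {g y'})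
      (fun x' hx' => by
        have hx'' : pullback.snd f g x' = y' := hx'
        change f (pullback.fst f g x') = g y'
        rw [apply_fst_eq_apply_snd, hx'']),
      finsum_mem_mul]
    refine finsum_mem_congr rfl fun x hx => ?_
    have hxy : g y' = f x := (show f x = g y' from hx).symm
    have hset : {a : ↥(pullback f g) | pullback.fst f g a = x ∧
        a ∈ (pullback.snd f g) ⁻¹' {y'}} =
        {x' : ↥(pullback f g) | pullback.fst f g x' = x ∧ pullback.snd f g x' = y'} := rfl
    rw [hset]
    by_cases hx0 : δX x = δY (f x)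
    · -- the point contributes
      have hmc : AlgebraicCycle.mapCoeff f δX δY x = f.residueDegree x := by
        unfold AlgebraicCycle.mapCoeff
        rw [if_pos hx0]
      rw [hmc]
      have hterm : ∀ x' ∈ {x' : ↥(pullback f g) | pullback.fst f g x' = x ∧
          pullback.snd f g x' = y'}, α' x' *
          ((AlgebraicCycle.mapCoeff (pullback.snd f g) δX' δY' x' : ℕ) : ℤ) =
          α x * (((Module.length ((pullback f g).presheaf.stalk x')
            (FibRing (pullback.fst f g) x')).toNat : ℤ) *
            ((pullback.snd f g).residueDegree x' : ℤ)) := by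
        rintro x' ⟨h1, h2⟩
        have hx0' : δX (pullback.fst f g x') = δY (f (pullback.fst f g x')) := by
          rw [h1]; exact hx0
        obtain ⟨-, c1, c2⟩ := hB x' h2 hnr hx0'
        rw [hG, if_pos c1, if_pos c2,
          show α (pullback.fst f g x') = α x from congrArg (⇑α) h1]
        ring
      have hfin : (f.residueFieldMap x).hom.Finite := by
        obtain ⟨t, ht1, ht⟩ := hf x
        have ht0 : t = 0 := by omega
        have ht1' : td (f.residueFieldMap x).hom = (t : Cardinal.{u}) := ht1
        rw [ht0, Nat.cast_zero] at ht1'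
        exact finite_residueFieldMap_of_td_eq_zero f _ ht1'
      rw [finsum_mem_congr rfl hterm, ← mul_finsum_mem,
        finsum_length_mul_residueDegree_baseChange_int f g x y' hxy hfin hfinlen]
      ring
    · have hmc : AlgebraicCycle.mapCoeff f δX δY x = 0 := by
        unfold AlgebraicCycle.mapCoeff
        rw [if_neg hx0]
      rw [hmc, Nat.cast_zero, mul_zero, zero_mul]
      refine finsum_mem_eq_zero_of_forall_eq_zero ?_
      rintro x' ⟨h1, h2⟩
      by_contra hne
      have := (hA x' h2 hne).2
      rw [h1] at this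
      exact hx0 this
  · rw [if_neg hnr]
    refine finsum_mem_eq_zero_of_forall_eq_zero ?_
    intro x' hx'
    by_contra hne
    exact hnr (hA x' hx' hne).1

end Groth.Agent.Lib.helper16.PushPull
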