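import Groth.Agent.Lib.Helper16.QCAlg9

/-!
# The quasi-coherent subalgebra generated by a finite type module is of finite type (helper16)
-/

set_option autoImplicit false
universe u
open CategoryTheory CategoryTheory.Limits AlgebraicGeometry TopologicalSpace Opposite

namespace Groth.Agent.Lib.helper16.QCAlg

variable {X : Scheme.{u}} (B : RelSpec.QCAlg X) {E : X.Modules} (j : E ⟶ B.toModule)

theorem jB_add (U : X.Opens) (a b : Γ(E, U)) : jB B j U (a + b) = jB B j U a + jB B j U b := by
  have := map_add (j.app U).hom a b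
  exact congrArg (toB B) this

theorem jB_zero (U : X.Opens) : jB B j U 0 = 0 := by
  have := map_zero (j.app U).hom
  exact congrArg (toB B) this

theorem jB_mem_subRing (W : X.Opens) (e : Γ(E, W)) : jB B j W e ∈ subRing B j W := by
  intro V hV h
  rw [resB_jB]
  exact jB_mem B j V _

theorem subAlg_finiteType [E.IsQuasicoherent] (hE : CohB1.IsFT E) (V : X.affineOpens) :
    ((subAlg B j).str.app (op (V : X.Opens))).hom.FiniteType := by
  classical
  haveI hfin : Module.Finite Γ(X, V.1) Γ(E, V.1) :=
    CohFinite.finite_sections_of_isFiniteType E hE V.2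
  obtain ⟨T, hT⟩ := hfin.fg_top
  letI alg : Algebra Γ(X, V.1) (subRing B j V.1) :=
    RingHom.toAlgebra ((B.str.app (op V.1)).hom.codRestrict (subRing B j V.1)
      (fun r => str_mem_subRing B j V.1 r))
  change Algebra.FiniteType Γ(X, V.1) (subRing B j V.1)
  let g : Γ(E, V.1) → subRing B j V.1 :=
    fun e => ⟨jB B j V.1 e, jB_mem_subRing B j V.1 e⟩
  refine ⟨⟨T.image g, ?_⟩⟩
  rw [eq_top_iff]
  intro y _
  set S := Algebra.adjoin Γ(X, V.1) ((T.image g : Finset _) : Set (subRing B j V.1))
    with hS
  let S' : Subring (B.presheaf.obj (op V.1)) := S.toSubring.map (subRing B j V.1).subtype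
  have hstr : ∀ r : Γ(X, V.1), (B.str.app (op V.1)).hom r ∈ S' :=
    fun r => ⟨algebraMap Γ(X, V.1) (subRing B j V.1) r, S.algebraMap_mem r, rfl⟩
  have hjB : ∀ e : Γ(E, V.1), jB B j V.1 e ∈ S' := by
    intro e
    have he : e ∈ Submodule.span Γ(X, V.1) (T : Set Γ(E, V.1)) := by rw [hT]; trivial
    induction he using Submodule.span_induction with
    | mem e he =>
      refine ⟨g e, Algebra.subset_adjoin ?_, rfl⟩
      exact Finset.mem_coe.2 (Finset.mem_image_of_mem g he)
    | zero => rw [jB_zero]; exact Subring.zero_mem _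
    | add a b _ _ ha hb => rw [jB_add]; exact Subring.add_mem _ ha hb
    | smul r e _ he => rw [jB_smul]; exact Subring.mul_mem _ (hstr r) he
  have hle : genSub B j V.1 ≤ S' := by
    refine Subring.closure_le.mpr ?_
    rintro _ (⟨r, rfl⟩ | ⟨e, rfl⟩)
    · exact hstr r
    · exact hjB e
  have hy : y.1 ∈ genSub B j V.1 := by
    rw [← subRing_eq_genSub B j V.2]
    exact y.2
  obtain ⟨z, hz, hzy⟩ := hle hy
  have : z = y := Subtype.ext hzy
  rw [← this]
  exact hz

end Groth.Agent.Lib.helper16.QCAlg
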