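import Groth.Agent.Lib.Helper16.QCAlg1
import Groth.Agent.Lib.Helper16.CohFinite

/-!
# Generation of a quasi-coherent algebra by a submodule is local (helper16)

For `B : RelSpec.QCAlg X`, `E` a qcoh module and `j : E ⟶ B.toModule`, `genSub B j U` is the subring
of `B(U)` generated by the functions on `U` and the sections of `E` over `U`.
`genSub_eq_top_of_cover`: if `genSub = ⊤` on an affine open cover, then on all affine opens.
-/

set_option autoImplicit false
universe u
open CategoryTheory CategoryTheory.Limits AlgebraicGeometry TopologicalSpace Opposite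

namespace Groth.Agent.Lib.helper16.QCAlg

variable {X : Scheme.{u}} (B : RelSpec.QCAlg X) {E : X.Modules} (j : E ⟶ B.toModule)

/-- `j` on sections, valued in the ring `B(U)` -/
noncomputable def jB (U : X.Opens) (e : Γ(E, U)) : B.presheaf.obj (op U) := toB B (j.app U e)

/-- restriction in `B` -/
abbrev resB {U V : X.Opens} (h : V ≤ U) : B.presheaf.obj (op U) →+* B.presheaf.obj (op V) :=
  (B.presheaf.map (homOfLE h).op).hom

theorem resB_jB {U V : X.Opens} (h : V ≤ U) (e : Γ(E, U)) :
    resB B h (jB B j U e) = jB B j V (E.presheaf.map (homOfLE h).op e) := by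
  have := j.mapPresheaf.naturality (homOfLE h).op
  exact (congr($(this).hom e)).symm

theorem jB_smul (U : X.Opens) (r : Γ(X, U)) (e : Γ(E, U)) :
    jB B j U (r • e) = (B.str.app (op U)).hom r * jB B j U e := by
  have := Scheme.Modules.Hom.app_smul j r e
  exact congrArg (toB B) this

/-- the subring of `B(U)` generated by the functions and the sections of `E` -/
def genSub (U : X.Opens) : Subring (B.presheaf.obj (op U)) :=
  Subring.closure (Set.range (B.str.app (op U)).hom ∪ Set.range (jB B j U))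

theorem str_mem (U : X.Opens) (r : Γ(X, U)) : (B.str.app (op U)).hom r ∈ genSub B j U :=
  Subring.subset_closure (Or.inl ⟨r, rfl⟩)

theorem jB_mem (U : X.Opens) (e : Γ(E, U)) : jB B j U e ∈ genSub B j U :=
  Subring.subset_closure (Or.inr ⟨e, rfl⟩)

theorem map_genSub_le {U V : X.Opens} (h : V ≤ U) :
    (genSub B j U).map (resB B h) ≤ genSub B j V := by
  rw [Subring.map_le_iff_le_comap]
  refine Subring.closure_le.mpr ?_
  rintro _ (⟨r, rfl⟩ | ⟨e, rfl⟩)
  · change resB B h _ ∈ genSub B j V
    rw [← str_res B h r]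
    exact str_mem B j V _
  · change resB B h _ ∈ genSub B j V
    rw [resB_jB]
    exact jB_mem B j V _

/-- step down to a basic open -/
theorem genSub_basicOpen {U : X.Opens} (hU : IsAffineOpen U) (g : Γ(X, U))
    (h : genSub B j U = ⊤) : genSub B j (X.basicOpen g) = ⊤ := by
  letI := (B.presheaf.map (homOfLE (X.basicOpen_le g)).op).hom.toAlgebra
  haveI : IsLocalization.Away ((B.str.app (op U)).hom g) (B.presheaf.obj (op (X.basicOpen g))) :=
    B.isQC U hU g
  rw [eq_top_iff]
  intro y _
  obtain ⟨⟨s, ⟨_, n, rfl⟩⟩, hs⟩ := IsLocalization.surj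
    (Submonoid.powers ((B.str.app (op U)).hom g)) y
  have hs' : y * resB B (X.basicOpen_le g) ((B.str.app (op U)).hom g) ^ n =
      resB B (X.basicOpen_le g) s := by
    rw [← map_pow]; exact hs
  have hunit : IsUnit ((X.presheaf.map (homOfLE (X.basicOpen_le g)).op).hom g) :=
    RingedSpace.isUnit_res_basicOpen X.toRingedSpace g
  obtain ⟨v, hv⟩ := hunit
  have h1 : resB B (X.basicOpen_le g) s ∈ genSub B j (X.basicOpen g) :=
    map_genSub_le B j (X.basicOpen_le g) ⟨s, by rw [h]; trivial, rfl⟩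
  have h2 : (B.str.app (op (X.basicOpen g))).hom ((↑v⁻¹ : Γ(X, X.basicOpen g)) ^ n) ∈
      genSub B j (X.basicOpen g) := str_mem B j _ _
  have h3 : y = resB B (X.basicOpen_le g) s *
      (B.str.app (op (X.basicOpen g))).hom ((↑v⁻¹ : Γ(X, X.basicOpen g)) ^ n) := by
    rw [← hs', ← str_res B (X.basicOpen_le g) g, ← hv, mul_assoc, ← map_pow, ← map_mul,
      ← mul_pow, Units.mul_inv, one_pow, map_one, mul_one]
  rw [h3]
  exact Subring.mul_mem _ h1 h2

/-- step up from a basic open -/
theorem exists_pow_mul_mem [E.IsQuasicoherent] {U : X.Opens} (hU : IsAffineOpen U) (f : Γ(X, U))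
    (h : genSub B j (X.basicOpen f) = ⊤) (c : B.presheaf.obj (op U)) :
    ∃ n : ℕ, (B.str.app (op U)).hom f ^ n * c ∈ genSub B j U := by
  letI := (B.presheaf.map (homOfLE (X.basicOpen_le f)).op).hom.toAlgebra
  haveI : IsLocalization.Away ((B.str.app (op U)).hom f) (B.presheaf.obj (op (X.basicOpen f))) :=
    B.isQC U hU f
  set ρ := resB B (X.basicOpen_le f) with hρ
  set F := (B.str.app (op U)).hom f with hF
  -- key claim by closure induction
  have key : ∀ y ∈ genSub B j (X.basicOpen f),
      ∃ (n : ℕ) (c' : B.presheaf.obj (op U)), c' ∈ genSub B j U ∧ ρ c' = ρ F ^ n * y := by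
    intro y hy
    induction hy using Subring.closure_induction with
    | mem y hy =>
      rcases hy with ⟨a, rfl⟩ | ⟨e, rfl⟩
      · haveI := hU.isLocalization_basicOpen f
        obtain ⟨⟨a', ⟨_, n, rfl⟩⟩, ha⟩ := IsLocalization.surj (Submonoid.powers f) a
        refine ⟨n, (B.str.app (op U)).hom a', str_mem B j U _, ?_⟩
        have ha' : a * (X.presheaf.map (homOfLE (X.basicOpen_le f)).op).hom (f ^ n) =
            (X.presheaf.map (homOfLE (X.basicOpen_le f)).op).hom a' := ha
        rw [hρ, ← str_res B (X.basicOpen_le f) a', ← ha', hF,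
          ← str_res B (X.basicOpen_le f) f, map_mul, map_pow, map_pow, mul_comm]
      · obtain ⟨n, e', he'⟩ :=
          Groth.Agent.Lib.helper7.exists_pow_smul_eq_map_of_isAffineOpen hU E f e
        refine ⟨n, jB B j U e', jB_mem B j U _, ?_⟩
        rw [hρ, resB_jB, he', jB_smul, map_pow, hF, ← str_res B (X.basicOpen_le f) f]
    | zero => exact ⟨0, 0, Subring.zero_mem _, by simp⟩
    | one => exact ⟨0, 1, Subring.one_mem _, by simp⟩
    | add x y _ _ hx hy =>
      obtain ⟨n₁, c₁, hc₁, e₁⟩ := hx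
      obtain ⟨n₂, c₂, hc₂, e₂⟩ := hy
      refine ⟨n₁ + n₂, F ^ n₂ * c₁ + F ^ n₁ * c₂,
        Subring.add_mem _ (Subring.mul_mem _ (Subring.pow_mem _ (str_mem B j U f) _) hc₁)
          (Subring.mul_mem _ (Subring.pow_mem _ (str_mem B j U f) _) hc₂), ?_⟩
      rw [map_add, map_mul, map_mul, e₁, e₂, map_pow, map_pow]
      ring
    | neg x _ hx =>
      obtain ⟨n₁, c₁, hc₁, e₁⟩ := hx
      exact ⟨n₁, -c₁, Subring.neg_mem _ hc₁, by rw [map_neg, e₁]; ring⟩
    | mul x y _ _ hx hy =>
      obtain ⟨n₁, c₁, hc₁, e₁⟩ := hx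
      obtain ⟨n₂, c₂, hc₂, e₂⟩ := hy
      refine ⟨n₁ + n₂, c₁ * c₂, Subring.mul_mem _ hc₁ hc₂, ?_⟩
      rw [map_mul, e₁, e₂]
      ring
  obtain ⟨n, c', hc', e⟩ := key (ρ c) (by rw [h]; trivial)
  have e' : algebraMap (B.presheaf.obj (op U)) (B.presheaf.obj (op (X.basicOpen f))) c' =
      algebraMap (B.presheaf.obj (op U)) (B.presheaf.obj (op (X.basicOpen f))) (F ^ n * c) := by
    change ρ c' = ρ (F ^ n * c)
    rw [e, map_mul, map_pow]
  rw [IsLocalization.eq_iff_exists (Submonoid.powers F)] at e'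
  obtain ⟨⟨_, m, rfl⟩, hm⟩ := e'
  refine ⟨m + n, ?_⟩
  have : F ^ (m + n) * c = F ^ m * c' := by
    rw [pow_add, mul_assoc]
    exact hm.symm
  rw [this]
  exact Subring.mul_mem _ (Subring.pow_mem _ (str_mem B j U f) _) hc'

/-- glue along a basic open cover -/
theorem genSub_of_span [E.IsQuasicoherent] {U : X.Opens} (hU : IsAffineOpen U)
    (s : Set Γ(X, U)) (hs : Ideal.span s = ⊤)
    (h : ∀ f ∈ s, genSub B j (X.basicOpen f) = ⊤) : genSub B j U = ⊤ := by
  letI := (B.str.app (op U)).hom.toAlgebra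
  let M' : Submodule Γ(X, U) (B.presheaf.obj (op U)) :=
    { carrier := genSub B j U
      add_mem' := fun ha hb => Subring.add_mem _ ha hb
      zero_mem' := Subring.zero_mem _
      smul_mem' := fun r x hx => by
        change (B.str.app (op U)).hom r * x ∈ genSub B j U
        exact Subring.mul_mem _ (str_mem B j U r) hx }
  rw [eq_top_iff]
  intro c _
  change c ∈ M'
  refine Submodule.mem_of_span_eq_top_of_smul_pow_mem M' s hs c (fun f => ?_)
  obtain ⟨n, hn⟩ := exists_pow_mul_mem B j hU f.1 (h f.1 f.2) c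
  refine ⟨n, ?_⟩
  change (B.str.app (op U)).hom (f.1 ^ n) * c ∈ genSub B j U
  rw [map_pow]
  exact hn

/-- **Locality of generation**: if `B` is generated by `E` over the members of an affine open
cover, then over every affine open. -/
theorem genSub_eq_top_of_cover [E.IsQuasicoherent] {ι : Type*} (V : ι → X.affineOpens)
    (hV : (⨆ i, (V i : X.Opens)) = ⊤) (h : ∀ i, genSub B j (V i).1 = ⊤) (U : X.affineOpens) :
    genSub B j U.1 = ⊤ := by
  refine of_affine_open_cover (P := fun U => genSub B j U.1 = ⊤) V hV U ?_ ?_ h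
  · intro U f hU
    exact genSub_basicOpen B j U.2 f hU
  · intro U s hs hU
    exact genSub_of_span B j U.2 (s : Set Γ(X, U.1)) hs (fun f hf => hU ⟨f, hf⟩)

end Groth.Agent.Lib.helper16.QCAlg
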