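import Groth.Agent.Lib.Helper16.QCAlg2
import Groth.Agent.Lib.Helper16.QCAlg3

/-!
# A finite type quasi-coherent algebra is generated by a f.t. qcoh submodule (helper16)

EGA I 9.6.5-style: on a qcqs scheme, a quasi-coherent algebra of finite type is generated by a
quasi-coherent submodule of finite type.
-/

set_option autoImplicit false
universe u
open CategoryTheory CategoryTheory.Limits AlgebraicGeometry TopologicalSpace Opposite

namespace Groth.Agent.Lib.helper16.QCAlg

variable {X : Scheme.{u}}

theorem exists_generating_ft_sub [CompactSpace X] [QuasiSeparatedSpace X] (B : RelSpec.QCAlg X)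
    (hB : ∀ U : X.affineOpens, (B.str.app (op (U : X.Opens))).hom.FiniteType) :
    ∃ (E : X.Modules) (j : E ⟶ B.toModule), Mono j ∧ E.IsQuasicoherent ∧ CohB1.IsFT E ∧
      ∀ U : X.affineOpens, genSub B j U.1 = ⊤ := by
  classical
  haveI := isQuasicoherent_toModule B
  obtain ⟨S, hS, hcov⟩ := (isCompact_iff_finite_and_eq_biUnion_affineOpens (U := (⊤ : X.Opens))).mp
    isCompact_univ
  have hgen : ∀ U : X.affineOpens, ∃ T : Finset (B.presheaf.obj (op U.1)),
      Subring.closure (Set.range (B.str.app (op U.1)).hom ∪ (T : Set (B.presheaf.obj (op U.1)))) = ⊤ := by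
    intro U
    letI := (B.str.app (op U.1)).hom.toAlgebra
    obtain ⟨T, hT⟩ := (hB U : Algebra.FiniteType Γ(X, U.1) (B.presheaf.obj (op U.1))).out
    refine ⟨T, ?_⟩
    have := Algebra.adjoin_eq_ring_closure (R := Γ(X, U.1)) (T : Set (B.presheaf.obj (op U.1)))
    rw [hT] at this
    exact this.symm
  choose T hT using hgen
  obtain ⟨E, j, hm, hq, hft, hE⟩ :=
    Groth.Agent.Lib.helper16.Satur.exists_ft_sub_sections_family B.toModule hS.toFinset
      (fun U => (T U).map ⟨ofB B, fun _ _ h => h⟩)
  haveI := hq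
  refine ⟨E, j, hm, hq, hft, ?_⟩
  have hV : ∀ V : S, genSub B j V.1.1 = ⊤ := by
    intro V
    rw [eq_top_iff, ← hT V.1]
    refine Subring.closure_mono ?_
    rintro x (hx | hx)
    · exact Or.inl hx
    · right
      obtain ⟨e, he⟩ := hE V.1 (hS.mem_toFinset.mpr V.2) (ofB B x)
        (Finset.mem_map.mpr ⟨x, hx, rfl⟩)
      exact ⟨e, he⟩
  refine genSub_eq_top_of_cover B j (fun V : S => V.1) ?_ hV
  rw [hcov, iSup_subtype]

end Groth.Agent.Lib.helper16.QCAlg
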