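import Groth.Agent.Lib.Helper16.QCAlg3

/-!
# The quasi-coherent subalgebra generated by a quasi-coherent submodule (helper16)

For `B : RelSpec.QCAlg X`, `E` qcoh and `j : E ⟶ B.toModule`:
* relative versions of the locality lemmas of `QCAlg3` (`mem_genSub_of_cover`);
* `subAlg B j : RelSpec.QCAlg X`, the subalgebra of `B` generated by `E`, with
  `subAlgι B j : subAlg B j ⟶ B` injective on sections and sections `genSub B j U` over affine `U`.
-/

set_option autoImplicit false
universe u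
open CategoryTheory CategoryTheory.Limits AlgebraicGeometry TopologicalSpace Opposite

namespace Groth.Agent.Lib.helper16.QCAlg

variable {X : Scheme.{u}} (B : RelSpec.QCAlg X) {E : X.Modules} (j : E ⟶ B.toModule)

/-- key claim: elements of `genSub` over a basic open lift, up to a power of `f`. -/
theorem exists_lift_of_mem_genSub_basicOpen [E.IsQuasicoherent] {U : X.Opens}
    (hU : IsAffineOpen U) (f : Γ(X, U)) (y : B.presheaf.obj (op (X.basicOpen f)))
    (hy : y ∈ genSub B j (X.basicOpen f)) :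
    ∃ (n : ℕ) (c' : B.presheaf.obj (op U)), c' ∈ genSub B j U ∧
      resB B (X.basicOpen_le f) c' =
        resB B (X.basicOpen_le f) ((B.str.app (op U)).hom f) ^ n * y := by
  set ρ := resB B (X.basicOpen_le f) with hρ
  set F := (B.str.app (op U)).hom f with hF
  induction hy using Subring.closure_induction with
  | mem y hy =>
    rcases hy with ⟨a, rfl⟩ | ⟨e, rfl⟩
    · haveI := hU.isLocalization_basicOpen f
      obtain ⟨⟨a', ⟨_, n, rfl⟩⟩, ha⟩ := IsLocalization.surj (Submonoid.powers f) a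
      refine ⟨n, (B.str.app (op U)).hom a', str_mem B j U _, ?_⟩
      have ha' : a * (X.presheaf.map (homOfLE (X.basicOpen_le f)).op).hom (f ^ n) =
          (X.presheaf.map (homOfLE (X.basicOpen_le f)).op).hom a' := ha
      rw [hρ, ← str_res B (X.basicOpen_le f) a', ← ha', hF,
        ← str_res B (X.basicOpen_le f) f, map_mul, map_pow, map_pow, mul_comm]
    · obtain ⟨n, e', he'⟩ :=
        Groth.Agent.Lib.helper7.exists_pow_smul_eq_map_of_isAffineOpen hU E f e
      refine ⟨n, jB B j U e', jB_mem B j U _, ?_⟩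
      rw [hρ, resB_jB, he', jB_smul, map_pow, hF, ← str_res B (X.basicOpen_le f) f]
  | zero => exact ⟨0, 0, Subring.zero_mem _, by simp⟩
  | one => exact ⟨0, 1, Subring.one_mem _, by simp⟩
  | add x y _ _ hx hy =>
    obtain ⟨n₁, c₁, hc₁, e₁⟩ := hx
    obtain ⟨n₂, c₂, hc₂, e₂⟩ := hy
    refine ⟨n₁ + n₂, F ^ n₂ * c₁ + F ^ n₁ * c₂,
      Subring.add_mem _ (Subring.mul_mem _ (Subring.pow_mem _ (str_mem B j U f) _) hc₁)
        (Subring.mul_mem _ (Subring.pow_mem _ (str_mem B j U f) _) hc₂), ?_⟩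
    rw [map_add, map_mul, map_mul, e₁, e₂, map_pow, map_pow]
    ring
  | neg x _ hx =>
    obtain ⟨n₁, c₁, hc₁, e₁⟩ := hx
    exact ⟨n₁, -c₁, Subring.neg_mem _ hc₁, by rw [map_neg, e₁]; ring⟩
  | mul x y _ _ hx hy =>
    obtain ⟨n₁, c₁, hc₁, e₁⟩ := hx
    obtain ⟨n₂, c₂, hc₂, e₂⟩ := hy
    refine ⟨n₁ + n₂, c₁ * c₂, Subring.mul_mem _ hc₁ hc₂, ?_⟩
    rw [map_mul, e₁, e₂]
    ring

/-- step up from a basic open, relative version -/
theorem exists_pow_mul_mem_of_res_mem [E.IsQuasicoherent] {U : X.Opens} (hU : IsAffineOpen U)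
    (f : Γ(X, U)) (c : B.presheaf.obj (op U))
    (h : resB B (X.basicOpen_le f) c ∈ genSub B j (X.basicOpen f)) :
    ∃ n : ℕ, (B.str.app (op U)).hom f ^ n * c ∈ genSub B j U := by
  letI := (B.presheaf.map (homOfLE (X.basicOpen_le f)).op).hom.toAlgebra
  haveI : IsLocalization.Away ((B.str.app (op U)).hom f) (B.presheaf.obj (op (X.basicOpen f))) :=
    B.isQC U hU f
  set ρ := resB B (X.basicOpen_le f) with hρ
  set F := (B.str.app (op U)).hom f with hF
  obtain ⟨n, c', hc', e⟩ := exists_lift_of_mem_genSub_basicOpen B j hU f _ h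
  have e' : algebraMap (B.presheaf.obj (op U)) (B.presheaf.obj (op (X.basicOpen f))) c' =
      algebraMap (B.presheaf.obj (op U)) (B.presheaf.obj (op (X.basicOpen f))) (F ^ n * c) := by
    change ρ c' = ρ (F ^ n * c)
    rw [e, map_mul, map_pow]
  rw [IsLocalization.eq_iff_exists (Submonoid.powers F)] at e'
  obtain ⟨⟨_, m, rfl⟩, hm⟩ := e'
  refine ⟨m + n, ?_⟩
  have : F ^ (m + n) * c = F ^ m * c' := by
    rw [pow_add, mul_assoc]
    exact hm.symm
  rw [this]
  exact Subring.mul_mem _ (Subring.pow_mem _ (str_mem B j U f) _) hc'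

/-- glue along a basic open cover, relative version -/
theorem mem_genSub_of_span [E.IsQuasicoherent] {U : X.Opens} (hU : IsAffineOpen U)
    (s : Set Γ(X, U)) (hs : Ideal.span s = ⊤) (c : B.presheaf.obj (op U))
    (h : ∀ f ∈ s, resB B (X.basicOpen_le f) c ∈ genSub B j (X.basicOpen f)) :
    c ∈ genSub B j U := by
  letI := (B.str.app (op U)).hom.toAlgebra
  let M' : Submodule Γ(X, U) (B.presheaf.obj (op U)) :=
    { carrier := genSub B j U
      add_mem' := fun ha hb => Subring.add_mem _ ha hb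
      zero_mem' := Subring.zero_mem _
      smul_mem' := fun r x hx => by
        change (B.str.app (op U)).hom r * x ∈ genSub B j U
        exact Subring.mul_mem _ (str_mem B j U r) hx }
  change c ∈ M'
  refine Submodule.mem_of_span_eq_top_of_smul_pow_mem M' s hs c (fun f => ?_)
  obtain ⟨n, hn⟩ := exists_pow_mul_mem_of_res_mem B j hU f.1 c (h f.1 f.2)
  refine ⟨n, ?_⟩
  change (B.str.app (op U)).hom (f.1 ^ n) * c ∈ genSub B j U
  rw [map_pow]
  exact hn

theorem resB_resB {U V W : X.Opens} (h : V ≤ U) (h' : W ≤ V) (c : B.presheaf.obj (op U)) :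
    resB B h' (resB B h c) = resB B (h'.trans h) c := by
  change ((B.presheaf.map (homOfLE h).op) ≫ (B.presheaf.map (homOfLE h').op)).hom c = _
  rw [← B.presheaf.map_comp]
  rfl

/-- membership in `genSub` over an affine open is local -/
theorem mem_genSub_of_cover [E.IsQuasicoherent] {U : X.Opens} (hU : IsAffineOpen U)
    (c : B.presheaf.obj (op U))
    (h : ∀ x ∈ U, ∃ (V : X.Opens) (hV : V ≤ U), x ∈ V ∧ resB B hV c ∈ genSub B j V) :
    c ∈ genSub B j U := by
  let s : Set Γ(X, U) := {f | resB B (X.basicOpen_le f) c ∈ genSub B j (X.basicOpen f)}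
  refine mem_genSub_of_span B j hU s ?_ c (fun f hf => hf)
  rw [← hU.iSup_basicOpen_eq_self_iff]
  apply le_antisymm
  · exact iSup_le fun f => X.basicOpen_le f.1
  · intro x hx
    obtain ⟨V, hV, hxV, hc⟩ := h x hx
    obtain ⟨f, hfV, hxf⟩ := hU.exists_basicOpen_le (V := V) ⟨x, hxV⟩ hx
    refine TopologicalSpace.Opens.mem_iSup.2 ⟨⟨f, ?_⟩, hxf⟩
    change resB B (X.basicOpen_le f) c ∈ genSub B j (X.basicOpen f)
    rw [← resB_resB B hV hfV c]
    exact map_genSub_le B j hfV ⟨_, hc, rfl⟩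

end Groth.Agent.Lib.helper16.QCAlg
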