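import Groth.Agent.Lib.Helper16.QCAlg6

/-!
# The sub-presheaf of rings of `B` generated by `E` (helper16)
-/

set_option autoImplicit false
universe u
open CategoryTheory CategoryTheory.Limits AlgebraicGeometry TopologicalSpace Opposite

namespace Groth.Agent.Lib.helper16.QCAlg

variable {X : Scheme.{u}} (B : RelSpec.QCAlg X) {E : X.Modules} (j : E ⟶ B.toModule)

/-- sections of `B` over `W` that lie in `genSub` over every affine open of `W` -/
def subRing (W : X.Opens) : Subring (B.presheaf.obj (op W)) where
  carrier := {s | ∀ (V : X.Opens) (_ : IsAffineOpen V) (h : V ≤ W), resB B h s ∈ genSub B j V}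
  mul_mem' ha hb V hV h := by rw [map_mul]; exact Subring.mul_mem _ (ha V hV h) (hb V hV h)
  one_mem' V hV h := by rw [map_one]; exact Subring.one_mem _
  add_mem' ha hb V hV h := by rw [map_add]; exact Subring.add_mem _ (ha V hV h) (hb V hV h)
  zero_mem' V hV h := by rw [map_zero]; exact Subring.zero_mem _
  neg_mem' ha V hV h := by rw [map_neg]; exact Subring.neg_mem _ (ha V hV h)

theorem mem_subRing {W : X.Opens} (s : B.presheaf.obj (op W)) :
    s ∈ subRing B j W ↔
      ∀ (V : X.Opens) (_ : IsAffineOpen V) (h : V ≤ W), resB B h s ∈ genSub B j V := Iff.rfl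

theorem map_eq_resB {W W' : (X.Opens)ᵒᵖ} (i : W ⟶ W') (s : B.presheaf.obj W) :
    (B.presheaf.map i).hom s = resB B (U := W.unop) (V := W'.unop) i.unop.le s := rfl

theorem map_mem_subRing {W W' : (X.Opens)ᵒᵖ} (i : W ⟶ W') (s : B.presheaf.obj W)
    (hs : s ∈ subRing B j W.unop) : (B.presheaf.map i).hom s ∈ subRing B j W'.unop := by
  intro V hV h
  have e : resB B h ((B.presheaf.map i).hom s) = resB B (h.trans i.unop.le) s :=
    resB_resB B (U := W.unop) (V := W'.unop) i.unop.le h s
  rw [e]
  exact hs V hV _

theorem subRing_eq_genSub {U : X.Opens} (hU : IsAffineOpen U) :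
    subRing B j U = genSub B j U := by
  ext s
  constructor
  · intro hs
    have := hs U hU le_rfl
    have e : resB B (le_refl U) s = s := by
      change (B.presheaf.map (𝟙 _)).hom s = s
      rw [B.presheaf.map_id]; rfl
    rwa [e] at this
  · intro hs V hV h
    exact map_genSub_le B j h ⟨_, hs, rfl⟩

/-- the sub-presheaf of rings of `B` generated by `E` -/
noncomputable def subPresheaf : TopCat.Presheaf CommRingCat.{u} X where
  obj W := CommRingCat.of (subRing B j W.unop)
  map {W W'} i := CommRingCat.ofHom
    ((B.presheaf.map i).hom.restrict (subRing B j W.unop) (subRing B j W'.unop)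
      (fun s hs => map_mem_subRing B j i s hs))
  map_id W := by
    ext s
    change (B.presheaf.map (𝟙 W)).hom s.1 = s.1
    rw [B.presheaf.map_id]; rfl
  map_comp {W W' W''} i i' := by
    ext s
    change (B.presheaf.map (i ≫ i')).hom s.1 = (B.presheaf.map i').hom ((B.presheaf.map i).hom s.1)
    rw [B.presheaf.map_comp]; rfl

/-- the inclusion into `B` -/
noncomputable def subPresheafι : subPresheaf B j ⟶ B.presheaf where
  app W := CommRingCat.ofHom (subRing B j W.unop).subtype
  naturality W W' i := by
    ext s
    rfl

theorem subPresheafι_injective (W : X.Opens) :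
    Function.Injective ((subPresheafι B j).app (op W)).hom := Subtype.val_injective

theorem subPresheafι_apply {W : X.Opens} (s : (subPresheaf B j).obj (op W)) :
    ((subPresheafι B j).app (op W)).hom s = s.1 := rfl

theorem subPresheaf_map_val {W W' : (X.Opens)ᵒᵖ} (i : W ⟶ W') (s : (subPresheaf B j).obj W) :
    (((subPresheaf B j).map i).hom s).1 = (B.presheaf.map i).hom s.1 := rfl

end Groth.Agent.Lib.helper16.QCAlg
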