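import Groth.Agent.Lib.Helper16.QCAlg7

/-!
# The quasi-coherent subalgebra of `B` generated by `E` (helper16)
-/

set_option autoImplicit false
universe u
open CategoryTheory CategoryTheory.Limits AlgebraicGeometry TopologicalSpace Opposite

namespace Groth.Agent.Lib.helper16.QCAlg

variable {X : Scheme.{u}} (B : RelSpec.QCAlg X) {E : X.Modules} (j : E ⟶ B.toModule)

theorem subPresheaf_isSheaf [E.IsQuasicoherent] : (subPresheaf B j).IsSheaf := by
  rw [TopCat.Presheaf.isSheaf_iff_isSheafUniqueGluing]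
  intro ι U sf hsf
  let Bsh : TopCat.Sheaf CommRingCat X := ⟨B.presheaf, B.isSheaf⟩
  let sf' : ∀ i, ToType (B.presheaf.obj (op (U i))) := fun i => (sf i).1
  have hsf' : TopCat.Presheaf.IsCompatible B.presheaf U sf' :=
    fun i k => congrArg Subtype.val (hsf i k)
  obtain ⟨s, hs, hs'⟩ := Bsh.existsUnique_gluing U sf' hsf'
  have hmem : s ∈ subRing B j (iSup U) := by
    intro V hV h
    apply mem_genSub_of_cover B j hV
    intro x hx
    obtain ⟨i, hxi⟩ := Opens.mem_iSup.1 (h hx)
    obtain ⟨V', hV'aff, hxV', hV'le⟩ := Opens.isBasis_iff_nbhd.1 X.isBasis_affineOpens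
      (show x ∈ V ⊓ U i from ⟨hx, hxi⟩)
    refine ⟨V', hV'le.trans inf_le_left, hxV', ?_⟩
    have e1 : resB B (hV'le.trans inf_le_left) (resB B h s) =
        resB B (hV'le.trans inf_le_right) (sf i).1 := by
      rw [resB_resB]
      have := hs i
      rw [← resB_resB B (Opens.leSupr U i).le (hV'le.trans inf_le_right) s]
      exact congrArg _ this
    rw [e1]
    exact (sf i).2 V' hV'aff _
  refine ⟨⟨s, hmem⟩, ?_, ?_⟩
  · intro i
    apply Subtype.ext
    exact hs i
  · intro t ht
    apply Subtype.ext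
    exact hs' t.1 (fun i => congrArg Subtype.val (ht i))

end Groth.Agent.Lib.helper16.QCAlg
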