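import Groth.Agent.Lib.Helper16.QCAlg8

/-!
# The quasi-coherent subalgebra of `B` generated by `E`: structure map and quasi-coherence (helper16)
-/

set_option autoImplicit false
universe u
open CategoryTheory CategoryTheory.Limits AlgebraicGeometry TopologicalSpace Opposite

namespace Groth.Agent.Lib.helper16.QCAlg

variable {X : Scheme.{u}} (B : RelSpec.QCAlg X) {E : X.Modules} (j : E ⟶ B.toModule)

theorem str_mem_subRing (W : X.Opens) (r : Γ(X, W)) :
    (B.str.app (op W)).hom r ∈ subRing B j W := by
  intro V hV h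
  rw [← str_res B h r]
  exact str_mem B j V _

/-- the structure map of the subalgebra -/
noncomputable def subStr : X.presheaf ⟶ subPresheaf B j where
  app W := CommRingCat.ofHom ((B.str.app W).hom.codRestrict (subRing B j W.unop)
    (fun r => str_mem_subRing B j W.unop r))
  naturality W W' i := by
    ext r
    apply Subtype.ext
    exact congr($(B.str.naturality i).hom r)

theorem subStr_val (W : X.Opens) (r : Γ(X, W)) :
    (((subStr B j).app (op W)).hom r).1 = (B.str.app (op W)).hom r := rfl

theorem subStr_comp_ι : subStr B j ≫ subPresheafι B j = B.str := by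
  ext W r
  rfl

theorem subPresheaf_isQC [E.IsQuasicoherent] : RelSpec.IsQC (subPresheaf B j) (subStr B j) := by
  intro U hU r
  letI algB := (B.presheaf.map (homOfLE (X.basicOpen_le r)).op).hom.toAlgebra
  haveI locB : IsLocalization.Away ((B.str.app (op U)).hom r)
      (B.presheaf.obj (op (X.basicOpen r))) := B.isQC U hU r
  letI := ((subPresheaf B j).map (homOfLE (X.basicOpen_le r)).op).hom.toAlgebra
  set ρ := resB B (X.basicOpen_le r) with hρ
  set F := (B.str.app (op U)).hom r with hF
  set ρ' := ((subPresheaf B j).map (homOfLE (X.basicOpen_le r)).op).hom with hρ'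
  set F' := ((subStr B j).app (op U)).hom r with hF'
  have hρ'val : ∀ x, (ρ' x).1 = ρ x.1 := fun x => rfl
  have hF'val : F'.1 = F := rfl
  change IsLocalization (Submonoid.powers F') _
  rw [isLocalization_iff]
  refine ⟨?_, ?_, ?_⟩
  · rintro ⟨_, n, rfl⟩
    change IsUnit (ρ' (F' ^ n))
    rw [map_pow]
    apply IsUnit.pow
    have e : ρ' F' = ((subStr B j).app (op (X.basicOpen r))).hom
        ((X.presheaf.map (homOfLE (X.basicOpen_le r)).op).hom r) :=
      (congr($((subStr B j).naturality (homOfLE (X.basicOpen_le r)).op).hom r)).symm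
    rw [e]
    exact (RingedSpace.isUnit_res_basicOpen _ r).map _
  · intro z
    have hz : z.1 ∈ genSub B j (X.basicOpen r) := by
      rw [← subRing_eq_genSub B j (hU.basicOpen r)]
      exact z.2
    obtain ⟨n, c', hc', e⟩ := exists_lift_of_mem_genSub_basicOpen B j hU r z.1 hz
    have hc'' : c' ∈ subRing B j U := by rw [subRing_eq_genSub B j hU]; exact hc'
    refine ⟨(⟨c', hc''⟩, ⟨F' ^ n, n, rfl⟩), ?_⟩
    apply Subtype.ext
    change z.1 * (ρ' (F' ^ n)).1 = (ρ' ⟨c', hc''⟩).1
    rw [hρ'val, hρ'val]
    change z.1 * ρ (F ^ n) = ρ c'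
    rw [e, map_pow, mul_comm]
  · intro x y hxy
    have h1 : algebraMap (B.presheaf.obj (op U)) (B.presheaf.obj (op (X.basicOpen r))) x.1 =
        algebraMap (B.presheaf.obj (op U)) (B.presheaf.obj (op (X.basicOpen r))) y.1 := by
      change ρ x.1 = ρ y.1
      rw [← hρ'val, ← hρ'val]
      exact congrArg Subtype.val hxy
    rw [IsLocalization.eq_iff_exists (Submonoid.powers F)] at h1
    obtain ⟨⟨_, m, rfl⟩, hm⟩ := h1
    refine ⟨⟨F' ^ m, m, rfl⟩, ?_⟩
    apply Subtype.ext
    exact hm

/-- the quasi-coherent subalgebra of `B` generated by `E` -/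
noncomputable def subAlg [E.IsQuasicoherent] : RelSpec.QCAlg X where
  presheaf := subPresheaf B j
  isSheaf := subPresheaf_isSheaf B j
  str := subStr B j
  isQC := subPresheaf_isQC B j

/-- the inclusion of the subalgebra -/
noncomputable def subAlgι [E.IsQuasicoherent] : subAlg B j ⟶ B where
  hom := subPresheafι B j
  comm := subStr_comp_ι B j

end Groth.Agent.Lib.helper16.QCAlg
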