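import Groth.Agent.Lib.Helper16.QCohPullback2

/-!
# Pullback of quasi-coherent modules: naturality (helper16)

`secFun hU : X.Modules ⥤ ModuleCat Γ(X,U)`, `pullbackRestrictNatTrans f hU hV e :
secFun hU ⋙ extendScalars ⋙ tilde ⟶ pullback f ⋙ restrictFunctor hV.fromSpec` (iso on quasi-coherent
modules: `pullbackRestrictNatTrans_app`).
-/

set_option autoImplicit false
universe u
open CategoryTheory CategoryTheory.Limits AlgebraicGeometry TopologicalSpace Opposite TensorProduct

namespace Groth.Agent.Lib.helper16.QCohPullback3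

open Scheme.Modules Groth.Agent.Lib.helper16.CohFinite Groth.Agent.Lib.helper16.CohFP
  Groth.Agent.Lib.helper16.QCohPullback

variable {X Y : Scheme.{u}} (f : Y ⟶ X)
  {U : X.Opens} (hU : IsAffineOpen U) {V : Y.Opens} (hV : IsAffineOpen V) (e : V ≤ f ⁻¹ᵁ U)

/-- the module of sections functor -/
noncomputable def secFun : X.Modules ⥤ ModuleCat.{u} Γ(X, U) :=
  restrictFunctor hU.fromSpec ⋙ moduleSpecΓFunctor (R := Γ(X, U))

/-- the natural map `(Γ(Y,V) ⊗ Γ(M,U))^~ ⟶ (f^*M)|_V`, an isomorphism for quasi-coherent `M` -/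
noncomputable def pullbackRestrictNatTrans :
    secFun hU ⋙ ModuleCat.extendScalars (f.appLE U V e).hom ⋙ tilde.functor Γ(Y, V) ⟶
      Scheme.Modules.pullback f ⋙ restrictFunctor hV.fromSpec :=
  Functor.whiskerLeft (secFun hU) (tildePullbackIso (f.appLE U V e)).inv ≫
  (show secFun hU ⋙ tilde.functor Γ(X, U) ⋙ Scheme.Modules.pullback (Spec.map (f.appLE U V e)) ⟶
      restrictFunctor hU.fromSpec ⋙ Scheme.Modules.pullback (Spec.map (f.appLE U V e)) from
    Functor.whiskerLeft (restrictFunctor hU.fromSpec)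
      (Functor.whiskerRight (Scheme.Modules.fromTildeΓNatTrans (R := Γ(X, U)))
        (Scheme.Modules.pullback (Spec.map (f.appLE U V e))))) ≫
  Functor.whiskerRight (restrictFunctorIsoPullback hU.fromSpec).hom
    (Scheme.Modules.pullback (Spec.map (f.appLE U V e))) ≫
  (pullbackComp (Spec.map (f.appLE U V e)) hU.fromSpec).hom ≫
  (pullbackCongr (IsAffineOpen.SpecMap_appLE_fromSpec f hU hV e).symm).inv ≫
  (pullbackComp hV.fromSpec f).inv ≫
  Functor.whiskerLeft (Scheme.Modules.pullback f) (restrictFunctorIsoPullback hV.fromSpec).inv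

theorem pullbackRestrictNatTrans_app (M : X.Modules) [M.IsQuasicoherent] :
    (pullbackRestrictNatTrans f hU hV e).app M = (pullbackRestrictIso f M hU hV e).inv := by
  simp [pullbackRestrictNatTrans, pullbackRestrictIso, secMod, secFun]
  rfl

instance (M : X.Modules) [M.IsQuasicoherent] :
    IsIso ((pullbackRestrictNatTrans f hU hV e).app M) := by
  rw [pullbackRestrictNatTrans_app]
  infer_instance

end Groth.Agent.Lib.helper16.QCohPullback3
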