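import Mathlib

/-!
# Quasi-compactness of the Zariski–Riemann space (helper16)

`exists_finite_of_forall_valuationSubring`: let `K` be a field, `s ⊆ K`, and `T j ⊆ K` finite sets
such that every valuation subring of `K` containing `s` contains some `T j`. Then finitely many
`j` suffice.
-/

set_option autoImplicit false

namespace Groth.Agent.Lib.helper16.RZ

universe u

variable {K : Type u} [Field K]

/-- indicator functions of valuation subrings containing `s` -/
def VS (s : Set K) : Set (K → Bool) :=
  {φ | (∀ a ∈ s, φ a = true) ∧ φ 0 = true ∧ φ 1 = true ∧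
    (∀ x y, φ x = true → φ y = true → φ (x + y) = true) ∧
    (∀ x y, φ x = true → φ y = true → φ (x * y) = true) ∧
    (∀ x, φ x = true → φ (-x) = true) ∧ ∀ x, φ x = true ∨ φ x⁻¹ = true}

theorem isClosed_eval (x : K) (b : Bool) : IsClosed {φ : K → Bool | φ x = b} := by
  have h : IsClosed ((fun φ : K → Bool => φ x) ⁻¹' ({b} : Set Bool)) :=
    (isClosed_discrete ({b} : Set Bool)).preimage (continuous_apply x)
  exact h

theorem isOpen_eval (x : K) (b : Bool) : IsOpen {φ : K → Bool | φ x = b} := by
  have h : IsOpen ((fun φ : K → Bool => φ x) ⁻¹' ({b} : Set Bool)) :=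
    (isOpen_discrete ({b} : Set Bool)).preimage (continuous_apply x)
  exact h

theorem isClosed_VS (s : Set K) : IsClosed (VS s) := by
  have h3 : ∀ (x y z : K), IsClosed {φ : K → Bool | φ x = true → φ y = true → φ z = true} := by
    intro x y z
    have : {φ : K → Bool | φ x = true → φ y = true → φ z = true} =
        {φ | φ x = false} ∪ {φ | φ y = false} ∪ {φ | φ z = true} := by
      ext φ
      simp only [Set.mem_setOf_eq, Set.mem_union]
      cases φ x <;> cases φ y <;> cases φ z <;> simp
    rw [this]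
    exact ((isClosed_eval x false).union (isClosed_eval y false)).union (isClosed_eval z true)
  have h2 : ∀ (x z : K), IsClosed {φ : K → Bool | φ x = true → φ z = true} := by
    intro x z
    have : {φ : K → Bool | φ x = true → φ z = true} = {φ | φ x = false} ∪ {φ | φ z = true} := by
      ext φ
      simp only [Set.mem_setOf_eq, Set.mem_union]
      cases φ x <;> cases φ z <;> simp
    rw [this]
    exact (isClosed_eval x false).union (isClosed_eval z true)
  have h2' : ∀ (x z : K), IsClosed {φ : K → Bool | φ x = true ∨ φ z = true} := by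
    intro x z
    exact (isClosed_eval x true).union (isClosed_eval z true)
  have : VS s = (⋂ a ∈ s, {φ : K → Bool | φ a = true}) ∩ {φ | φ 0 = true} ∩ {φ | φ 1 = true} ∩
      (⋂ (x : K) (y : K), {φ : K → Bool | φ x = true → φ y = true → φ (x + y) = true}) ∩
      (⋂ (x : K) (y : K), {φ : K → Bool | φ x = true → φ y = true → φ (x * y) = true}) ∩
      (⋂ (x : K), {φ : K → Bool | φ x = true → φ (-x) = true}) ∩
      (⋂ (x : K), {φ : K → Bool | φ x = true ∨ φ x⁻¹ = true}) := by
    ext φ
    simp only [VS, Set.mem_setOf_eq, Set.mem_inter_iff, Set.mem_iInter]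
    tauto
  rw [this]
  refine ((((((isClosed_biInter fun a _ => isClosed_eval a true).inter (isClosed_eval 0 true)).inter
    (isClosed_eval 1 true)).inter ?_).inter ?_).inter ?_).inter ?_
  · exact isClosed_iInter fun x => isClosed_iInter fun y => h3 x y (x + y)
  · exact isClosed_iInter fun x => isClosed_iInter fun y => h3 x y (x * y)
  · exact isClosed_iInter fun x => h2 x (-x)
  · exact isClosed_iInter fun x => h2' x x⁻¹

/-- the valuation subring attached to an indicator function -/
def toVS {s : Set K} (φ : K → Bool) (hφ : φ ∈ VS s) : ValuationSubring K where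
  carrier := {x | φ x = true}
  mul_mem' := fun {x y} hx hy => hφ.2.2.2.2.1 x y hx hy
  one_mem' := hφ.2.2.1
  add_mem' := fun {x y} hx hy => hφ.2.2.2.1 x y hx hy
  zero_mem' := hφ.2.1
  neg_mem' := fun {x} hx => hφ.2.2.2.2.2.1 x hx
  mem_or_inv_mem' := fun x => hφ.2.2.2.2.2.2 x

theorem mem_toVS {s : Set K} (φ : K → Bool) (hφ : φ ∈ VS s) (x : K) :
    x ∈ toVS φ hφ ↔ φ x = true := Iff.rfl

open Classical in
/-- the indicator function of a valuation subring -/
noncomputable def ind (A : ValuationSubring K) : K → Bool := fun x => decide (x ∈ A)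

theorem ind_eq_true (A : ValuationSubring K) (x : K) : ind A x = true ↔ x ∈ A := by
  simp [ind]

theorem ind_mem_VS (A : ValuationSubring K) (s : Set K) (hs : ∀ a ∈ s, a ∈ A) : ind A ∈ VS s := by
  refine ⟨fun a ha => (ind_eq_true A a).2 (hs a ha), (ind_eq_true A 0).2 A.zero_mem,
    (ind_eq_true A 1).2 A.one_mem, fun x y hx hy => ?_, fun x y hx hy => ?_, fun x hx => ?_,
    fun x => ?_⟩
  · rw [ind_eq_true] at *; exact A.add_mem _ _ hx hy
  · rw [ind_eq_true] at *; exact A.mul_mem _ _ hx hy
  · rw [ind_eq_true] at *; exact A.neg_mem _ hx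
  · rw [ind_eq_true, ind_eq_true]; exact A.mem_or_inv_mem x

/-- **Quasi-compactness of the Zariski–Riemann space.** -/
theorem exists_finite_of_forall_valuationSubring (s : Set K) {ι : Type*} (T : ι → Finset K)
    (h : ∀ A : ValuationSubring K, (∀ a ∈ s, a ∈ A) → ∃ j, ∀ t ∈ T j, t ∈ A) :
    ∃ J : Finset ι, ∀ A : ValuationSubring K, (∀ a ∈ s, a ∈ A) → ∃ j ∈ J, ∀ t ∈ T j, t ∈ A := by
  have hc : IsCompact (VS s) := (isClosed_VS s).isCompact
  let O : ι → Set (K → Bool) := fun j => ⋂ t ∈ T j, {φ : K → Bool | φ t = true}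
  have hO : ∀ j, IsOpen (O j) := fun j =>
    isOpen_biInter_finset fun t _ => isOpen_eval t true
  have hcov : VS s ⊆ ⋃ j, O j := by
    intro φ hφ
    obtain ⟨j, hj⟩ := h (toVS φ hφ) (fun a ha => hφ.1 a ha)
    refine Set.mem_iUnion.2 ⟨j, ?_⟩
    simp only [O, Set.mem_iInter, Set.mem_setOf_eq]
    exact fun t ht => hj t ht
  obtain ⟨J, hJ⟩ := hc.elim_finite_subcover O hO hcov
  refine ⟨J, fun A hA => ?_⟩
  have := hJ (ind_mem_VS A s hA)
  simp only [Set.mem_iUnion, exists_prop] at this
  obtain ⟨j, hjJ, hj⟩ := this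
  refine ⟨j, hjJ, fun t ht => ?_⟩
  simp only [O, Set.mem_iInter, Set.mem_setOf_eq] at hj
  exact (ind_eq_true A t).1 (hj t ht)

end Groth.Agent.Lib.helper16.RZ
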