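import Mathlib
import Groth.Agent.Lib.Helper16.RZ1

/-!
# Valuative criterion + finitely many components ⇒ quasi-compact (helper16)
-/

set_option autoImplicit false

open AlgebraicGeometry CategoryTheory IsLocalRing TopologicalSpace

namespace Groth.Agent.Lib.helper16.RZ

universe u

variable {X Y : Scheme.{u}} (f : X ⟶ Y)

section Sq

variable {f} (η : X) {V : Y.Opens} (hV : IsAffineOpen V) (hη : f η ∈ V)

/-- the map `Γ(Y, V) → κ(η)` -/
noncomputable def alpha : Γ(Y, V) ⟶ X.residueField η :=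
  f.app V ≫ X.presheaf.germ (f ⁻¹ᵁ V) η hη ≫ X.residue η

variable (R : ValuationSubring (X.residueField η))

/-- restriction of `alpha` to a valuation subring containing its image -/
noncomputable def alphaR (hR : ∀ a : Γ(Y, V), (alpha η hη).hom a ∈ R) :
    Γ(Y, V) ⟶ CommRingCat.of R :=
  CommRingCat.ofHom ((alpha η hη).hom.codRestrict R.toSubring hR)

theorem alphaR_comp (hR : ∀ a : Γ(Y, V), (alpha η hη).hom a ∈ R) :
    alphaR η hη R hR ≫ CommRingCat.ofHom (algebraMap R (X.residueField η)) = alpha η hη := by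
  ext a
  rfl

theorem sq_comm (hR : ∀ a : Γ(Y, V), (alpha η hη).hom a ∈ R) :
    X.fromSpecResidueField η ≫ f =
      Spec.map (CommRingCat.ofHom (algebraMap R (X.residueField η))) ≫
        Spec.map (alphaR η hη R hR) ≫ hV.fromSpec := by
  rw [← Spec.map_comp_assoc, alphaR_comp, Scheme.fromSpecResidueField, Category.assoc,
    ← Scheme.SpecMap_stalkMap_fromSpecStalk, ← hV.fromSpecStalk_eq_fromSpecStalk hη,
    IsAffineOpen.fromSpecStalk, ← Spec.map_comp_assoc, ← Spec.map_comp_assoc, alpha,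
    Scheme.Hom.germ_stalkMap_assoc]

/-- the valuative square attached to `R` -/
noncomputable def sq (hR : ∀ a : Γ(Y, V), (alpha η hη).hom a ∈ R) : ValuativeCommSq f :=
  { R := R
    K := X.residueField η
    i₁ := X.fromSpecResidueField η
    i₂ := Spec.map (alphaR η hη R hR) ≫ hV.fromSpec
    commSq := ⟨sq_comm η hV hη R hR⟩ }

/-- being a lift of the square -/
def IsLift (hR : ∀ a : Γ(Y, V), (alpha η hη).hom a ∈ R) (l : Spec (.of R) ⟶ X) : Prop :=
  Spec.map (CommRingCat.ofHom (algebraMap R (X.residueField η))) ≫ l = X.fromSpecResidueField η ∧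
    l ≫ f = Spec.map (alphaR η hη R hR) ≫ hV.fromSpec

theorem exists_isLift (hf : ValuativeCriterion f)
    (hR : ∀ a : Γ(Y, V), (alpha η hη).hom a ∈ R) : ∃ l, IsLift η hV hη R hR l := by
  obtain ⟨l, h1, h2⟩ := (hf.existence (sq η hV hη R hR)).exists_lift
  exact ⟨l, h1, h2⟩

theorem isLift_unique (hf : ValuativeCriterion f)
    (hR : ∀ a : Γ(Y, V), (alpha η hη).hom a ∈ R) {l l' : Spec (.of R) ⟶ X}
    (h : IsLift η hV hη R hR l) (h' : IsLift η hV hη R hR l') : l = l' := by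
  have := hf.uniqueness (sq η hV hη R hR)
  let L : (sq η hV hη R hR).commSq.LiftStruct := ⟨l, h.1, h.2⟩
  let L' : (sq η hV hη R hR).commSq.LiftStruct := ⟨l', h'.1, h'.2⟩
  exact congrArg CommSq.LiftStruct.l (Subsingleton.elim L L')

/-- every specialization `x` of `η` lying over `V` is the centre of a valuation subring -/
theorem exists_valuationSubring_of_specializes (x : X) (hx : η ⤳ x) (hxV : f x ∈ V) :
    ∃ (R : ValuationSubring (X.residueField η)) (hR : ∀ a : Γ(Y, V), (alpha η hη).hom a ∈ R)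
      (l : Spec (.of R) ⟶ X), IsLift η hV hη R hR l ∧ l (closedPoint R) = x := by
  let φ : X.presheaf.stalk x ⟶ X.residueField η := X.presheaf.stalkSpecializes hx ≫ X.residue η
  obtain ⟨R, hR, hloc⟩ := exists_factor_valuationRing φ.hom
  let ψ : X.presheaf.stalk x ⟶ .of R := CommRingCat.ofHom (φ.hom.codRestrict _ hR)
  have hψ : ψ ≫ CommRingCat.ofHom (algebraMap R (X.residueField η)) = φ := by
    ext a
    rfl
  have hα : alpha η hη = Y.presheaf.germ V (f x) hxV ≫ f.stalkMap x ≫ φ := by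
    rw [alpha, Scheme.Hom.germ_stalkMap_assoc, TopCat.Presheaf.germ_stalkSpecializes_assoc]
  have hR' : ∀ a : Γ(Y, V), (alpha η hη).hom a ∈ R := by
    intro a
    rw [hα]
    exact hR _
  have hαR : alphaR η hη R hR' = Y.presheaf.germ V (f x) hxV ≫ f.stalkMap x ≫ ψ := by
    ext a
    change (alpha η hη).hom a = _
    rw [hα]
    rfl
  refine ⟨R, hR', Spec.map ψ ≫ X.fromSpecStalk x, ⟨?_, ?_⟩, ?_⟩
  · rw [← Spec.map_comp_assoc, hψ, Spec.map_comp_assoc,
      Scheme.SpecMap_stalkSpecializes_fromSpecStalk]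
    rfl
  · rw [Category.assoc, ← Scheme.SpecMap_stalkMap_fromSpecStalk,
      ← hV.fromSpecStalk_eq_fromSpecStalk hxV, IsAffineOpen.fromSpecStalk,
      ← Spec.map_comp_assoc, ← Spec.map_comp_assoc, hαR]
  · rw [Scheme.Hom.comp_apply]
    have : Spec.map ψ (closedPoint R) = closedPoint (X.presheaf.stalk x) :=
      comap_closedPoint (S := R) (φ.hom.codRestrict R.toSubring hR)
    rw [this, X.fromSpecStalk_closedPoint]

end Sq

section Aff

variable {f} (η : X) {V : Y.Opens} (hV : IsAffineOpen V) (hη : f η ∈ V)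
variable (R : ValuationSubring (X.residueField η))
variable {W : X.Opens} (hW : IsAffineOpen W)

/-- the map `Γ(X, W) → κ(η)` -/
noncomputable def beta (hηW : η ∈ W) : Γ(X, W) ⟶ X.residueField η :=
  X.presheaf.germ W η hηW ≫ X.residue η

theorem appLE_beta (hηW : η ∈ W) (hWV : W ≤ f ⁻¹ᵁ V) :
    f.appLE V W hWV ≫ beta η hηW = alpha η hη := by
  rw [beta, alpha, Scheme.Hom.appLE, Category.assoc, TopCat.Presheaf.germ_res_assoc]

theorem fromSpecResidueField_eq (hηW : η ∈ W) :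
    X.fromSpecResidueField η = Spec.map (beta η hηW) ≫ hW.fromSpec := by
  rw [beta, Spec.map_comp_assoc, Scheme.fromSpecResidueField,
    ← hW.fromSpecStalk_eq_fromSpecStalk hηW, IsAffineOpen.fromSpecStalk]

include hW in
theorem exists_isLift_of_beta_mem (hηW : η ∈ W) (hWV : W ≤ f ⁻¹ᵁ V)
    (hR : ∀ a : Γ(Y, V), (alpha η hη).hom a ∈ R)
    (hβ : ∀ b : Γ(X, W), (beta η hηW).hom b ∈ R) :
    ∃ l : Spec (.of R) ⟶ X, IsLift η hV hη R hR l ∧ l (closedPoint R) ∈ W := by
  let βR : Γ(X, W) ⟶ CommRingCat.of R :=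
    CommRingCat.ofHom ((beta η hηW).hom.codRestrict R.toSubring hβ)
  have hβR : βR ≫ CommRingCat.ofHom (algebraMap R (X.residueField η)) = beta η hηW := by
    ext a
    rfl
  have hαR : alphaR η hη R hR = f.appLE V W hWV ≫ βR := by
    ext a
    change (alpha η hη).hom a = _
    rw [← appLE_beta η hη hηW hWV]
    rfl
  refine ⟨Spec.map βR ≫ hW.fromSpec, ⟨?_, ?_⟩, ?_⟩
  · rw [← Spec.map_comp_assoc, hβR, ← fromSpecResidueField_eq]
  · rw [Category.assoc, ← IsAffineOpen.SpecMap_appLE_fromSpec f hV hW hWV, ← Spec.map_comp_assoc,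
      hαR]
  · rw [Scheme.Hom.comp_apply]
    have : hW.fromSpec (Spec.map βR (closedPoint R)) ∈ Set.range hW.fromSpec := ⟨_, rfl⟩
    rw [hW.range_fromSpec] at this
    exact this

include hW in
theorem beta_mem_of_isLift (hR : ∀ a : Γ(Y, V), (alpha η hη).hom a ∈ R)
    (l : Spec (.of R) ⟶ X) (hl : IsLift η hV hη R hR l) (hc : l (closedPoint R) ∈ W) :
    ∃ hηW : η ∈ W, ∀ b : Γ(X, W), (beta η hηW).hom b ∈ R := by
  have htop : l ⁻¹ᵁ W = ⊤ := Scheme.preimage_eq_top_of_closedPoint_mem l hc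
  have hrange : Set.range l ⊆ Set.range hW.fromSpec := by
    rw [hW.range_fromSpec]
    rintro _ ⟨p, rfl⟩
    have : p ∈ l ⁻¹ᵁ W := by rw [htop]; trivial
    exact this
  let l' : Spec (.of R) ⟶ Spec Γ(X, W) := IsOpenImmersion.lift hW.fromSpec l hrange
  have hl' : l' ≫ hW.fromSpec = l := IsOpenImmersion.lift_fac _ _ _
  let β' : Γ(X, W) ⟶ CommRingCat.of R := Spec.preimage l'
  have hβ' : Spec.map β' = l' := Spec.map_preimage _
  have h1 : Spec.map (β' ≫ CommRingCat.ofHom (algebraMap R (X.residueField η))) ≫ hW.fromSpec =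
      X.fromSpecResidueField η := by
    rw [Spec.map_comp_assoc, hβ', hl', hl.1]
  have hηW : η ∈ W := by
    have h2 : X.fromSpecResidueField η (closedPoint (X.residueField η)) ∈
        Set.range hW.fromSpec := by
      rw [← h1, Scheme.Hom.comp_apply]
      exact ⟨_, rfl⟩
    rw [hW.range_fromSpec, Scheme.fromSpecResidueField_apply] at h2
    exact h2
  refine ⟨hηW, fun b => ?_⟩
  rw [fromSpecResidueField_eq η hW hηW, cancel_mono, Spec.map_injective.eq_iff] at h1
  rw [← h1]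
  exact (β'.hom b).2

end Aff

section Main

variable {f}

/-- a ring-hom of finite type has a finite generating set -/
theorem exists_finset_of_finiteType {A B : Type u} [CommRing A] [CommRing B] (g : A →+* B)
    (hg : g.FiniteType) : ∃ G : Finset B, ∀ (S : Subring B), (∀ a, g a ∈ S) →
      (∀ b ∈ G, b ∈ S) → ∀ b, b ∈ S := by
  algebraize [g]
  obtain ⟨G, hG⟩ := (‹Algebra.FiniteType A B›).out
  refine ⟨G, fun S h1 h2 b => ?_⟩
  have hb : b ∈ Algebra.adjoin A (G : Set B) := by rw [hG]; trivial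
  induction hb using Algebra.adjoin_induction with
  | mem x hx => exact h2 x hx
  | algebraMap r => exact h1 r
  | add x y _ _ hx hy => exact S.add_mem hx hy
  | mul x y _ _ hx hy => exact S.mul_mem hx hy

open Classical in
theorem exists_finite_cover [LocallyOfFiniteType f] (hf : ValuativeCriterion f) (η : X)
    {V : Y.Opens} (hV : IsAffineOpen V) (hη : f η ∈ V) :
    ∃ J : Finset X.Opens, (∀ W ∈ J, IsAffineOpen W ∧ W ≤ f ⁻¹ᵁ V) ∧
      ∀ x, η ⤳ x → f x ∈ V → ∃ W ∈ J, x ∈ W := by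
  let ι : Type u := {W : X.Opens // IsAffineOpen W ∧ η ∈ W ∧ W ≤ f ⁻¹ᵁ V}
  have hG : ∀ W : ι, ∃ G : Finset Γ(X, W.1), ∀ (S : Subring Γ(X, W.1)),
      (∀ a, (f.appLE V W.1 W.2.2.2).hom a ∈ S) → (∀ b ∈ G, b ∈ S) → ∀ b, b ∈ S := fun W =>
    exists_finset_of_finiteType _ (LocallyOfFiniteType.finiteType_appLE f hV W.2.1 W.2.2.2)
  choose G hG using hG
  let T : ι → Finset (X.residueField η) := fun W => (G W).image (beta η W.2.2.1).hom
  let s : Set (X.residueField η) := Set.range (alpha η hη).hom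
  have h : ∀ R : ValuationSubring (X.residueField η), (∀ a ∈ s, a ∈ R) →
      ∃ W : ι, ∀ t ∈ T W, t ∈ R := by
    intro R hs
    have hR : ∀ a : Γ(Y, V), (alpha η hη).hom a ∈ R := fun a => hs _ ⟨a, rfl⟩
    obtain ⟨l, hl⟩ := exists_isLift η hV hη R hf hR
    have hc : f (l (closedPoint R)) ∈ V := by
      have h2 : (l ≫ f) (closedPoint R) ∈ Set.range hV.fromSpec := by
        rw [hl.2, Scheme.Hom.comp_apply]
        exact ⟨_, rfl⟩
      rw [hV.range_fromSpec, Scheme.Hom.comp_apply] at h2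
      exact h2
    obtain ⟨_, ⟨W, hW, rfl⟩, hcW, hWV⟩ := X.isBasis_affineOpens.exists_subset_of_mem_open
      (show l (closedPoint R) ∈ (f ⁻¹ᵁ V : Set X) from hc) (f ⁻¹ᵁ V).2
    obtain ⟨hηW, hβ⟩ := beta_mem_of_isLift η hV hη R hW hR l hl hcW
    refine ⟨⟨W, hW, hηW, hWV⟩, fun t ht => ?_⟩
    obtain ⟨g, -, rfl⟩ := Finset.mem_image.1 ht
    exact hβ g
  obtain ⟨J, hJ⟩ := exists_finite_of_forall_valuationSubring s T h
  refine ⟨J.image (fun W => W.1), ?_, ?_⟩
  · intro W hW
    obtain ⟨W', -, rfl⟩ := Finset.mem_image.1 hW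
    exact ⟨W'.2.1, W'.2.2.2⟩
  · intro x hx hxV
    obtain ⟨R, hR, l₁, hl₁, hc₁⟩ := exists_valuationSubring_of_specializes η hV hη x hx hxV
    obtain ⟨W, hWJ, hT⟩ := hJ R (by rintro _ ⟨a, rfl⟩; exact hR a)
    have hβ : ∀ b : Γ(X, W.1), (beta η W.2.2.1).hom b ∈ R := by
      refine hG W (R.toSubring.comap (beta η W.2.2.1).hom) (fun a => ?_) (fun b hb => ?_)
      · change (beta η W.2.2.1).hom ((f.appLE V W.1 W.2.2.2).hom a) ∈ R
        have := appLE_beta η hη W.2.2.1 W.2.2.2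
        rw [← this] at hR
        exact hR a
      · exact hT _ (Finset.mem_image_of_mem _ hb)
    obtain ⟨l₂, hl₂, hc₂⟩ := exists_isLift_of_beta_mem η hV hη R W.2.1 W.2.2.1 W.2.2.2 hR hβ
    have := isLift_unique η hV hη R hf hR hl₁ hl₂
    subst this
    exact ⟨W.1, Finset.mem_image_of_mem _ hWJ, hc₁ ▸ hc₂⟩

theorem quasiCompact_of_valuativeCriterion [LocallyOfFiniteType f] (hf : ValuativeCriterion f)
    (hX : (irreducibleComponents X).Finite) : QuasiCompact f := by
  rw [quasiCompact_iff_forall_isAffineOpen]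
  intro V hV
  have key : ∀ Z ∈ irreducibleComponents X, ∃ J : Finset X.Opens,
      (∀ W ∈ J, IsAffineOpen W ∧ W ≤ f ⁻¹ᵁ V) ∧
        Z ∩ (f ⁻¹ᵁ V : Set X) ⊆ ⋃ W ∈ J, (W : Set X) := by
    intro Z hZ
    have hirr : IsIrreducible Z := hZ.1
    have hcl : IsClosed Z := isClosed_of_mem_irreducibleComponents Z hZ
    obtain ⟨η, hη⟩ := QuasiSober.sober hirr hcl
    have hspec : ∀ x ∈ Z, η ⤳ x := by
      intro x hxZ
      rw [specializes_iff_mem_closure, hη.def]
      exact hxZ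
    by_cases hηV : f η ∈ V
    · obtain ⟨J, hJ1, hJ2⟩ := exists_finite_cover hf η hV hηV
      refine ⟨J, hJ1, ?_⟩
      rintro x ⟨hxZ, hxV⟩
      obtain ⟨W, hW, hxW⟩ := hJ2 x (hspec x hxZ) hxV
      exact Set.mem_biUnion hW hxW
    · refine ⟨∅, by simp, ?_⟩
      rintro x ⟨hxZ, hxV⟩
      exact (hηV ((hspec x hxZ).mem_open (f ⁻¹ᵁ V).2 hxV)).elim
  choose! J hJ1 hJ2 using key
  have : (f ⁻¹ᵁ V : Set X) = ⋃ Z ∈ irreducibleComponents X, ⋃ W ∈ J Z, (W : Set X) := by
    apply subset_antisymm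
    · intro x hx
      have hZ := irreducibleComponent_mem_irreducibleComponents x
      exact Set.mem_biUnion hZ (hJ2 _ hZ ⟨mem_irreducibleComponent, hx⟩)
    · simp only [Set.iUnion_subset_iff]
      intro Z hZ W hW
      exact (hJ1 Z hZ W hW).2
  rw [this]
  exact hX.isCompact_biUnion fun Z hZ =>
    (J Z).isCompact_biUnion fun W hW => (hJ1 Z hZ W hW).1.isCompact

end Main

end Groth.Agent.Lib.helper16.RZ
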