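import Groth.Agent.Lib.Helper11.SerreCrit
import Groth.Agent.Lib.Helper16.QCohEpi
import Groth.Agent.Lib.Helper7.IdealMod

/-!
# Multiplication maps between ideal sheaves as `O_X`-modules (helper16)

* `rs g U`: restriction of a global function.
* `mulO g : O_X ⟶ O_X`, multiplication by a global function `g`; `mulO_app`.
* `liftI 𝓙 φ h : F ⟶ idealMod 𝓙` for `φ : F ⟶ O_X` with values in `𝓙` on affine opens; `liftI_ι`.
* `secI 𝓙 g h : O_X ⟶ idealMod 𝓙`, `mulI g 𝓘 𝓙 h : idealMod 𝓘 ⟶ idealMod 𝓙`.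
-/

set_option autoImplicit false
universe u
open CategoryTheory CategoryTheory.Limits AlgebraicGeometry TopologicalSpace Opposite

namespace Groth.Agent.Lib.helper16.RatPow

open Scheme.Modules Groth.Agent.Lib.helper7 Groth.Agent.Lib.helper7.IdealMod
  Groth.Agent.Lib.helper11.SerreCrit Groth.Agent.Lib.helper11.GenLocus
  Groth.Agent.Lib.helper16.QCohEpi

variable {X : Scheme.{u}}

/-- restriction of a global function to an open -/
noncomputable abbrev rs (g : Γ(X, ⊤)) (U : X.Opens) : Γ(X, U) :=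
  X.presheaf.map (homOfLE (le_top : U ≤ ⊤)).op g

theorem rs_map (g : Γ(X, ⊤)) {U V : X.Opens} (h : V ≤ U) :
    X.presheaf.map (homOfLE h).op (rs g U) = rs g V := by
  change (X.presheaf.map _ ≫ X.presheaf.map _).hom g = _
  rw [← Functor.map_comp]
  rfl

theorem rs_mul (g h : Γ(X, ⊤)) (U : X.Opens) : rs (g * h) U = rs g U * rs h U := map_mul _ _ _

theorem rs_one (U : X.Opens) : rs (1 : Γ(X, ⊤)) U = 1 := map_one _

theorem rs_add (g h : Γ(X, ⊤)) (U : X.Opens) : rs (g + h) U = rs g U + rs h U := map_add _ _ _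

/-- multiplication by a global function on `O_X` -/
noncomputable def mulO (g : Γ(X, ⊤)) : Coh.structureModule X ⟶ Coh.structureModule X :=
  ofSec (Coh.structureModule X) g

theorem mulO_app (g : Γ(X, ⊤)) (V : X.Opens) (a : Γ(X, V)) :
    (show Γ(X, V) from ((mulO g).app V).hom (a : Γ(Coh.structureModule X, V))) = a * rs g V := by
  have h1 := app_apply (mulO g) V a
  have h2 : sec (mulO g) V = rs g V := sec_ofSec (Coh.structureModule X) g V
  rw [h2] at h1
  exact h1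

/-- a morphism to `O_X` with values in `𝓙` on affine opens is killed by `O_X ⟶ O_X/𝓙` -/
theorem comp_toSubscheme_eq_zero {F : X.Modules} (𝓙 : X.IdealSheafData)
    (φ : F ⟶ Coh.structureModule X)
    (h : ∀ (U : X.affineOpens) (s : Γ(F, U.1)),
      (show Γ(X, U.1) from (φ.app U.1).hom s) ∈ 𝓙.ideal U) :
    φ ≫ ClSub.toSubscheme 𝓙 = 0 := by
  refine hom_ext_of_basis _ _ {D : X.Opens | IsAffineOpen D} X.isBasis_affineOpens
    (fun D hD s => ?_)
  have h1 : (((φ ≫ ClSub.toSubscheme 𝓙).app D).hom s) =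
      (𝓙.subschemeι.app D).hom (show Γ(X, D) from (φ.app D).hom s) := rfl
  have h2 : (show Γ(X, D) from (φ.app D).hom s) ∈ RingHom.ker (𝓙.subschemeι.app D).hom := by
    rw [𝓙.ker_subschemeι_app ⟨D, hD⟩]
    exact h ⟨D, hD⟩ s
  rw [h1, (RingHom.mem_ker).mp h2]
  rfl

/-- lift of a morphism to `O_X` with values in `𝓙` to the ideal sheaf -/
noncomputable def liftI {F : X.Modules} (𝓙 : X.IdealSheafData) (φ : F ⟶ Coh.structureModule X)
    (h : ∀ (U : X.affineOpens) (s : Γ(F, U.1)),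
      (show Γ(X, U.1) from (φ.app U.1).hom s) ∈ 𝓙.ideal U) : F ⟶ ClSub.idealMod 𝓙 :=
  kernel.lift _ φ (comp_toSubscheme_eq_zero 𝓙 φ h)

@[reassoc]
theorem liftI_ι {F : X.Modules} (𝓙 : X.IdealSheafData) (φ : F ⟶ Coh.structureModule X)
    (h : ∀ (U : X.affineOpens) (s : Γ(F, U.1)),
      (show Γ(X, U.1) from (φ.app U.1).hom s) ∈ 𝓙.ideal U) :
    liftI 𝓙 φ h ≫ ClSub.idealModι 𝓙 = φ :=
  kernel.lift_ι _ _ _

/-- two morphisms to an ideal sheaf agreeing after the inclusion into `O_X` are equal -/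
theorem hom_ext_ι {F : X.Modules} (𝓙 : X.IdealSheafData) (a b : F ⟶ ClSub.idealMod 𝓙)
    (h : a ≫ ClSub.idealModι 𝓙 = b ≫ ClSub.idealModι 𝓙) : a = b :=
  (cancel_mono (ClSub.idealModι 𝓙)).mp h

/-- the set of global functions lying in `𝓙` on every affine open -/
def GSec (𝓙 : X.IdealSheafData) : Set Γ(X, ⊤) :=
  {g | ∀ U : X.affineOpens, rs g U.1 ∈ 𝓙.ideal U}

/-- the section of the ideal sheaf named by a global function lying in the ideal -/
noncomputable def secI (𝓙 : X.IdealSheafData) (g : Γ(X, ⊤)) (hg : g ∈ GSec 𝓙) :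
    Coh.structureModule X ⟶ ClSub.idealMod 𝓙 :=
  liftI 𝓙 (mulO g) (fun U s => by
    have h1 := mulO_app g U.1 s
    change (show Γ(X, U.1) from ((mulO g).app U.1).hom s) ∈ 𝓙.ideal U
    rw [h1]
    exact Ideal.mul_mem_left _ _ (hg U))

@[reassoc]
theorem secI_ι (𝓙 : X.IdealSheafData) (g : Γ(X, ⊤)) (hg : g ∈ GSec 𝓙) :
    secI 𝓙 g hg ≫ ClSub.idealModι 𝓙 = mulO g :=
  liftI_ι _ _ _

/-- multiplication by a global function, between ideal sheaves -/
noncomputable def mulI (g : Γ(X, ⊤)) (𝓘 𝓙 : X.IdealSheafData)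
    (h : ∀ (U : X.affineOpens) (x : Γ(X, U.1)), x ∈ 𝓘.ideal U → x * rs g U.1 ∈ 𝓙.ideal U) :
    ClSub.idealMod 𝓘 ⟶ ClSub.idealMod 𝓙 :=
  liftI 𝓙 (ClSub.idealModι 𝓘 ≫ mulO g) (fun U s => by
    have h1 := mulO_app g U.1 (show Γ(X, U.1) from ((ClSub.idealModι 𝓘).app U.1).hom s)
    change (show Γ(X, U.1) from ((mulO g).app U.1).hom (((ClSub.idealModι 𝓘).app U.1).hom s)) ∈
      𝓙.ideal U
    rw [h1]
    exact h U _ (idealModι_app_mem 𝓘 U s))

@[reassoc]
theorem mulI_ι (g : Γ(X, ⊤)) (𝓘 𝓙 : X.IdealSheafData)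
    (h : ∀ (U : X.affineOpens) (x : Γ(X, U.1)), x ∈ 𝓘.ideal U → x * rs g U.1 ∈ 𝓙.ideal U) :
    mulI g 𝓘 𝓙 h ≫ ClSub.idealModι 𝓙 = ClSub.idealModι 𝓘 ≫ mulO g :=
  liftI_ι _ _ _

theorem mulO_comp (g h : Γ(X, ⊤)) : mulO g ≫ mulO h = mulO (g * h) := by
  refine hom_ext_of_basis _ _ Set.univ ?_ (fun D _ s => ?_)
  · exact Opens.isBasis_iff_nbhd.mpr (fun {U x} hx => ⟨U, trivial, hx, le_rfl⟩)
  · have h1 := mulO_app (g * h) D s
    have h2 := mulO_app g D s
    have h3 := mulO_app h D (show Γ(X, D) from ((mulO g).app D).hom s)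
    change (show Γ(X, D) from ((mulO h).app D).hom (((mulO g).app D).hom s)) =
      (show Γ(X, D) from ((mulO (g * h)).app D).hom s)
    rw [h1, h3, h2, rs_mul, mul_assoc]

theorem mulO_add (g h : Γ(X, ⊤)) : mulO (g + h) = mulO g + mulO h := by
  refine hom_ext_of_basis _ _ Set.univ ?_ (fun D _ s => ?_)
  · exact Opens.isBasis_iff_nbhd.mpr (fun {U x} hx => ⟨U, trivial, hx, le_rfl⟩)
  · have h1 := mulO_app (g + h) D s
    have h2 := mulO_app g D s
    have h3 := mulO_app h D s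
    change (show Γ(X, D) from ((mulO (g + h)).app D).hom s) =
      (show Γ(X, D) from ((mulO g).app D).hom s) + (show Γ(X, D) from ((mulO h).app D).hom s)
    rw [h1, h2, h3, rs_add, mul_add]

/-- the section named by `g` followed by multiplication by `h` is the section named by `g * h` -/
theorem secI_mulI (g h : Γ(X, ⊤)) (𝓘 𝓙 : X.IdealSheafData) (hg : g ∈ GSec 𝓘)
    (hh : ∀ (U : X.affineOpens) (x : Γ(X, U.1)), x ∈ 𝓘.ideal U → x * rs h U.1 ∈ 𝓙.ideal U)
    (hgh : g * h ∈ GSec 𝓙) :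
    secI 𝓘 g hg ≫ mulI h 𝓘 𝓙 hh = secI 𝓙 (g * h) hgh := by
  apply hom_ext_ι
  rw [Category.assoc, mulI_ι, secI_ι_assoc, secI_ι, mulO_comp]

end Groth.Agent.Lib.helper16.RatPow
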