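import Mathlib

/-!
# Koszul relations for generators of a principal ideal (helper16)

`B` a commutative ring, `t` a nonzerodivisor, `p : Fin r → B` generating the ideal `(t)`,
`S` a set generating `(t)^(n-1)` as an ideal (`n ≥ 1`).  If `y : Fin r → B` has all coordinates
in `(t)^n` and `∑ y i * p i = 0`, then `y` is a `B`-linear combination of the Koszul vectors
`(s * p i) e_j - (s * p j) e_i`, `s ∈ S`.
-/

set_option autoImplicit false

namespace Groth.Agent.Lib.helper16.RatPow

variable {B : Type*} [CommRing B]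

/-- the submodule spanned by the Koszul vectors with coefficients in `S` -/
def kosSpan {r : ℕ} (p : Fin r → B) (S : Set B) : Submodule B (Fin r → B) :=
  Submodule.span B {v | ∃ (i j : Fin r) (s : B), s ∈ S ∧
    v = Pi.single j (s * p i) - Pi.single i (s * p j)}

theorem kos_mem_of_mem_span {r : ℕ} (p : Fin r → B) (S : Set B) (i j : Fin r) (u : B)
    (hu : u ∈ Ideal.span S) :
    (Pi.single j (u * p i) - Pi.single i (u * p j) : Fin r → B) ∈ kosSpan p S := by
  induction hu using Submodule.span_induction with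
  | mem x hx => exact Submodule.subset_span ⟨i, j, x, hx, rfl⟩
  | zero =>
    simp only [zero_mul, Pi.single_zero, sub_self]
    exact Submodule.zero_mem _
  | add x y _ _ hx hy =>
    have : (Pi.single j ((x + y) * p i) - Pi.single i ((x + y) * p j) : Fin r → B) =
        (Pi.single j (x * p i) - Pi.single i (x * p j)) +
          (Pi.single j (y * p i) - Pi.single i (y * p j)) := by
      rw [add_mul, add_mul, Pi.single_add, Pi.single_add]
      abel
    rw [this]
    exact Submodule.add_mem _ hx hy
  | smul a x _ hx =>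
    have : (Pi.single j ((a • x) * p i) - Pi.single i ((a • x) * p j) : Fin r → B) =
        a • (Pi.single j (x * p i) - Pi.single i (x * p j)) := by
      rw [smul_sub, ← Pi.single_smul, ← Pi.single_smul]
      simp only [smul_eq_mul, mul_assoc]
    rw [this]
    exact Submodule.smul_mem _ _ hx

theorem mem_kosSpan {r : ℕ} (t : B) (ht : t ∈ nonZeroDivisors B) (p : Fin r → B)
    (hp : Ideal.span (Set.range p) = Ideal.span {t}) (n : ℕ) (S : Set B)
    (hS : Ideal.span S = Ideal.span {t} ^ n) (y : Fin r → B)
    (hy : ∀ i, y i ∈ Ideal.span {t} ^ (n + 1)) (hsum : ∑ i, y i * p i = 0) :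
    y ∈ kosSpan p S := by
  classical
  -- p i = t * g i
  have hpi : ∀ i, ∃ g : B, p i = g * t := fun i => by
    have : p i ∈ Ideal.span {t} := hp ▸ Ideal.subset_span ⟨i, rfl⟩
    exact Ideal.mem_span_singleton'.mp this |>.imp fun g hg => hg.symm
  choose g hg using hpi
  -- t = ∑ a i * p i
  have htmem : t ∈ Ideal.span (Set.range p) := hp ▸ Ideal.mem_span_singleton_self t
  obtain ⟨a, ha⟩ := (Ideal.mem_span_range_iff_exists_fun (R := B)).mp htmem
  have hag : ∑ i, a i * g i = 1 := by
    have h1 : (∑ i, a i * g i) * t = 1 * t := by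
      rw [Finset.sum_mul, one_mul]
      refine Eq.trans (Finset.sum_congr rfl fun i _ => ?_) ha
      rw [hg i, mul_assoc]
    exact (mul_cancel_right_mem_nonZeroDivisors ht).mp h1
  -- y i = z i * t ^ (n + 1)
  have hyi : ∀ i, ∃ z : B, y i = z * t ^ (n + 1) := fun i => by
    have := hy i
    rw [Ideal.span_singleton_pow, Ideal.mem_span_singleton'] at this
    exact this.imp fun z hz => hz.symm
  choose z hz using hyi
  have hzg : ∑ i, z i * g i = 0 := by
    have h1 : (∑ i, z i * g i) * t ^ (n + 2) = 0 * t ^ (n + 2) := by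
      rw [Finset.sum_mul, zero_mul]
      refine Eq.trans (Finset.sum_congr rfl fun i _ => ?_) hsum
      rw [hz i, hg i]
      ring
    exact (mul_cancel_right_mem_nonZeroDivisors (pow_mem ht (n + 2))).mp h1
  have htn : t ^ n ∈ Ideal.span S := by
    rw [hS, Ideal.span_singleton_pow]
    exact Ideal.mem_span_singleton_self _
  -- the double sum
  have hE : ∀ i j : Fin r, (Pi.single j ((a i * z j * t ^ n) * p i) -
      Pi.single i ((a i * z j * t ^ n) * p j) : Fin r → B) ∈ kosSpan p S := fun i j =>
    kos_mem_of_mem_span p S i j _ (Ideal.mul_mem_left _ _ htn)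
  have hsumE : y = ∑ i, ∑ j, (Pi.single j ((a i * z j * t ^ n) * p i) -
      Pi.single i ((a i * z j * t ^ n) * p j) : Fin r → B) := by
    funext l
    simp only [Finset.sum_apply, Pi.sub_apply, Pi.single_apply, Finset.sum_sub_distrib]
    simp only [Finset.sum_ite_eq', Finset.sum_ite_eq, Finset.mem_univ, if_true]
    rw [Finset.sum_comm]
    simp only [Finset.sum_ite_eq', Finset.sum_ite_eq, Finset.mem_univ, if_true]
    have e1 : ∑ x, a x * z l * t ^ n * p x = z l * t ^ (n + 1) * ∑ x, a x * g x := by
      rw [Finset.mul_sum]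
      refine Finset.sum_congr rfl fun x _ => ?_
      rw [hg x]
      ring
    have e2 : ∑ x, a l * z x * t ^ n * p x = a l * t ^ (n + 1) * ∑ x, z x * g x := by
      rw [Finset.mul_sum]
      refine Finset.sum_congr rfl fun x _ => ?_
      rw [hg x]
      ring
    rw [e1, e2, hag, hzg, mul_one, mul_zero, sub_zero, hz l]
  rw [hsumE]
  exact Submodule.sum_mem _ fun i _ => Submodule.sum_mem _ fun j _ => hE i j

theorem exists_sum_of_mem_mul_span {r : ℕ} (I : Ideal B) (p : Fin r → B) (x : B)
    (hx : x ∈ I * Ideal.span (Set.range p)) :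
    ∃ a : Fin r → B, (∀ i, a i ∈ I) ∧ x = ∑ i, a i * p i := by
  have hx' : x ∈ I • Submodule.span B (Set.range p) := hx
  rw [Submodule.mem_ideal_smul_span_iff_exists_sum] at hx'
  obtain ⟨a, ha, rfl⟩ := hx'
  refine ⟨a, ha, ?_⟩
  rw [Finsupp.sum_fintype _ _ (fun i => zero_smul B (p i))]
  rfl

end Groth.Agent.Lib.helper16.RatPow
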