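import Groth.Agent.Lib.Helper16.RatPow1
import Groth.Agent.Lib.Helper16.RatPowAlg
import Groth.Agent.Lib.Helper16.EffCartier
import Groth.Agent.Lib.Helper11.SerreGG
import Groth.Agent.Lib.Lead.GE2
import Groth.Agent.Lib.Helper12.GGExt

/-!
# Powers of a globally generated invertible ideal: global generation and the Koszul kernel (helper16)

`𝓘` a quasi-coherent ideal on `X`, `φ : Fin r → Γ(X, ⊤)` global functions lying in `𝓘` and
generating it on every affine open.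
* `span_GSec_pow`: `𝓘^n` is generated on affine opens by the global functions lying in it.
* `isGloballyGenerated_Mn`: `idealMod (𝓘^n)` is globally generated.
* `Phi n : ⨁_{i} idealMod (𝓘^n) ⟶ idealMod (𝓘^(n+1))`, `(x_i) ↦ ∑ φ_i x_i`.
* `isGloballyGenerated_kernel_Phi`: if `𝓘` is effective Cartier, `kernel (Phi (n+1))` is globally
  generated (by the Koszul relations).
-/

set_option autoImplicit false
universe u
open CategoryTheory CategoryTheory.Limits AlgebraicGeometry TopologicalSpace Opposite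

namespace Groth.Agent.Lib.helper16.RatPow

open Scheme.Modules Groth.Agent.Lib.helper7 Groth.Agent.Lib.helper7.IdealMod
  Groth.Agent.Lib.helper11.SerreCrit Groth.Agent.Lib.helper11.GenLocus
  Groth.Agent.Lib.helper16.QCohEpi Groth.Agent.Lib.helper11.SerreGG
  Groth.Agent.Lib.helper12.TwistExtend

attribute [local instance] Abelian.hasFiniteBiproducts

variable {X : Scheme.{u}} (𝓘 : X.IdealSheafData) {r : ℕ} (φ : Fin r → Γ(X, ⊤))

/-- `M n = idealMod (𝓘 ^ n)` -/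
noncomputable abbrev Mn (n : ℕ) : X.Modules := ClSub.idealMod (𝓘 ^ n)

theorem ideal_pow_apply (n : ℕ) (U : X.affineOpens) : (𝓘 ^ n).ideal U = (𝓘.ideal U) ^ n := by
  rw [Scheme.IdealSheafData.ideal_pow]
  rfl

variable {𝓘 φ}

theorem mul_mem_pow_succ (hφ : ∀ i, φ i ∈ GSec 𝓘) (n : ℕ) (i : Fin r) (U : X.affineOpens)
    (x : Γ(X, U.1)) (hx : x ∈ (𝓘 ^ n).ideal U) : x * rs (φ i) U.1 ∈ (𝓘 ^ (n + 1)).ideal U := by
  rw [ideal_pow_apply] at hx ⊢
  rw [pow_succ]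
  exact Ideal.mul_mem_mul hx (hφ i U)

theorem one_mem_GSec_zero : (1 : Γ(X, ⊤)) ∈ GSec (𝓘 ^ 0) := by
  intro U
  rw [ideal_pow_apply, pow_zero, Ideal.one_eq_top]
  exact Submodule.mem_top

theorem mul_mem_GSec_succ (hφ : ∀ i, φ i ∈ GSec 𝓘) {n : ℕ} {g : Γ(X, ⊤)} (hg : g ∈ GSec (𝓘 ^ n))
    (i : Fin r) : g * φ i ∈ GSec (𝓘 ^ (n + 1)) := by
  intro U
  rw [rs_mul]
  exact mul_mem_pow_succ hφ n i U _ (hg U)

/-- `𝓘^n` is generated on affine opens by the global functions lying in it -/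
theorem span_GSec_pow (hφ : ∀ i, φ i ∈ GSec 𝓘)
    (hgen : ∀ U : X.affineOpens, 𝓘.ideal U = Ideal.span (Set.range fun i => rs (φ i) U.1))
    (n : ℕ) (U : X.affineOpens) :
    Ideal.span ((fun g => rs g U.1) '' GSec (𝓘 ^ n)) = (𝓘 ^ n).ideal U := by
  apply le_antisymm
  · rw [Ideal.span_le]
    rintro _ ⟨g, hg, rfl⟩
    exact hg U
  · induction n with
    | zero =>
      have h1 : (1 : Γ(X, U.1)) ∈ Ideal.span ((fun g => rs g U.1) '' GSec (𝓘 ^ 0)) :=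
        Ideal.subset_span ⟨1, one_mem_GSec_zero, rs_one U.1⟩
      rw [(Ideal.eq_top_iff_one _).mpr h1]
      exact le_top
    | succ n ih =>
      rw [ideal_pow_apply, pow_succ, ← ideal_pow_apply, hgen U]
      refine (Ideal.mul_mono_left ih).trans ?_
      rw [Ideal.span_mul_span']
      rw [Ideal.span_le]
      rintro _ ⟨_, ⟨g, hg, rfl⟩, _, ⟨i, rfl⟩, rfl⟩
      refine Ideal.subset_span ⟨g * φ i, mul_mem_GSec_succ hφ hg i, ?_⟩
      exact rs_mul g (φ i) U.1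

/-- the inclusion of sections of an ideal sheaf into functions -/
noncomputable abbrev iV (𝓙 : X.IdealSheafData) (V : X.Opens) (x : Γ(ClSub.idealMod 𝓙, V)) :
    Γ(X, V) :=
  ((ClSub.idealModι 𝓙).app V).hom x

theorem iV_sec_secI (𝓙 : X.IdealSheafData) (g : Γ(X, ⊤)) (hg : g ∈ GSec 𝓙) (V : X.Opens) :
    iV 𝓙 V (sec (secI 𝓙 g hg) V) = rs g V := by
  have h1 : iV 𝓙 V (sec (secI 𝓙 g hg) V) = sec (secI 𝓙 g hg ≫ ClSub.idealModι 𝓙) V := rfl
  rw [h1, secI_ι]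
  exact sec_ofSec (Coh.structureModule X) g V

theorem iV_add (𝓙 : X.IdealSheafData) (V : X.Opens) (x y : Γ(ClSub.idealMod 𝓙, V)) :
    iV 𝓙 V (x + y) = iV 𝓙 V x + iV 𝓙 V y := map_add _ _ _

theorem iV_zero (𝓙 : X.IdealSheafData) (V : X.Opens) :
    iV 𝓙 V (0 : Γ(ClSub.idealMod 𝓙, V)) = 0 := map_zero _

theorem iV_smul (𝓙 : X.IdealSheafData) (V : X.Opens) (a : Γ(X, V))
    (x : Γ(ClSub.idealMod 𝓙, V)) :
    iV 𝓙 V (a • x) = a * iV 𝓙 V x :=
  idealModι_app_smul 𝓙 V a x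

theorem iV_injective (𝓙 : X.IdealSheafData) (V : X.Opens) : Function.Injective (iV 𝓙 V) :=
  idealModι_app_injective 𝓙 V

/-- `idealMod (𝓘^n)` is globally generated -/
theorem isGloballyGenerated_Mn (hφ : ∀ i, φ i ∈ GSec 𝓘)
    (hgen : ∀ U : X.affineOpens, 𝓘.ideal U = Ideal.span (Set.range fun i => rs (φ i) U.1))
    (n : ℕ) : Curv2.IsGloballyGenerated (Mn 𝓘 n) := by
  refine isGloballyGenerated_of_genAt _ (fun y V σ hyV => ?_)
  obtain ⟨W, hW, hyW, hWV⟩ := Opens.isBasis_iff_nbhd.mp X.isBasis_affineOpens hyV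
  refine ⟨W, hWV, hyW, ?_⟩
  have hmem : iV (𝓘 ^ n) W (res (Mn 𝓘 n) hWV σ) ∈ (𝓘 ^ n).ideal ⟨W, hW⟩ :=
    idealModι_app_mem (𝓘 ^ n) ⟨W, hW⟩ _
  rw [← span_GSec_pow hφ hgen n ⟨W, hW⟩] at hmem
  have key : ∀ v ∈ Ideal.span ((fun g => rs g W) '' GSec (𝓘 ^ n)),
      ∃ x ∈ gsubBy (Mn 𝓘 n) (fun τ : (Mn 𝓘 n).val.obj (op ⊤) => τ) W, iV (𝓘 ^ n) W x = v := by
    intro v hv
    induction hv using Submodule.span_induction with
    | mem v hv =>
      obtain ⟨g, hg, rfl⟩ := hv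
      refine ⟨res (Mn 𝓘 n) (le_top : W ≤ ⊤) (sec (secI (𝓘 ^ n) g hg) ⊤),
        res_top_mem_gsubBy _ _ W _, ?_⟩
      have h1 : res (Mn 𝓘 n) (le_top : W ≤ ⊤) (sec (secI (𝓘 ^ n) g hg) ⊤) =
          sec (secI (𝓘 ^ n) g hg) W := res_sec _ (homOfLE (le_top : W ≤ ⊤))
      rw [h1]
      exact iV_sec_secI _ g hg W
    | zero => exact ⟨0, Submodule.zero_mem _, iV_zero _ _⟩
    | add v w _ _ hv hw =>
      obtain ⟨x, hx, rfl⟩ := hv
      obtain ⟨x', hx', rfl⟩ := hw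
      exact ⟨x + x', Submodule.add_mem _ hx hx', iV_add _ _ _ _⟩
    | smul a v _ hv =>
      obtain ⟨x, hx, rfl⟩ := hv
      exact ⟨(show X.ringCatSheaf.obj.obj (op W) from a) • x, Submodule.smul_mem _ _ hx,
        iV_smul _ _ a x⟩
  obtain ⟨x, hx, hxv⟩ := key _ hmem
  have : x = res (Mn 𝓘 n) hWV σ := iV_injective _ W hxv
  exact this ▸ hx

section Phi

open Groth.Agent.Lib.helper8.Rees Groth.Agent.Lib.Lead.GE

variable (hφ : ∀ i, φ i ∈ GSec 𝓘)

/-- multiplication by `φ i`, `idealMod (𝓘^n) ⟶ idealMod (𝓘^(n+1))` -/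
noncomputable def mu (n : ℕ) (i : Fin r) : Mn 𝓘 n ⟶ Mn 𝓘 (n + 1) :=
  mulI (φ i) (𝓘 ^ n) (𝓘 ^ (n + 1)) (fun U x hx => mul_mem_pow_succ hφ n i U x hx)

theorem iV_mu (n : ℕ) (i : Fin r) (V : X.Opens) (x : Γ(Mn 𝓘 n, V)) :
    iV (𝓘 ^ (n + 1)) V (appLin (mu hφ n i) V x) = iV (𝓘 ^ n) V x * rs (φ i) V := by
  have h1 : iV (𝓘 ^ (n + 1)) V (appLin (mu hφ n i) V x) =
      ((mu hφ n i ≫ ClSub.idealModι (𝓘 ^ (n + 1))).app V).hom x := rfl
  rw [h1, mu, mulI_ι]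
  exact mulO_app (φ i) V (iV (𝓘 ^ n) V x)

/-- the direct sum of `r` copies of `idealMod (𝓘^n)` -/
noncomputable abbrev Bp (𝓘 : X.IdealSheafData) (r n : ℕ) : X.Modules :=
  ⨁ fun _ : Fin r => Mn 𝓘 n

/-- `(x_i) ↦ ∑ φ_i x_i` -/
noncomputable def Phi (n : ℕ) : Bp 𝓘 r n ⟶ Mn 𝓘 (n + 1) :=
  biproduct.desc (fun i => mu hφ n i)

@[reassoc]
theorem ι_Phi (n : ℕ) (i : Fin r) :
    biproduct.ι (fun _ : Fin r => Mn 𝓘 n) i ≫ Phi hφ n = mu hφ n i :=
  biproduct.ι_desc _ _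

/-- coordinates of a section of the direct sum, as functions -/
noncomputable def coord (𝓘 : X.IdealSheafData) (r n : ℕ) (V : X.Opens)
    (x : Γ(Bp 𝓘 r n, V)) : Fin r → Γ(X, V) :=
  fun l => iV (𝓘 ^ n) V (appLin (biproduct.π (fun _ : Fin r => Mn 𝓘 n) l) V x)

theorem coord_add (n : ℕ) (V : X.Opens) (x y : Γ(Bp 𝓘 r n, V)) :
    coord 𝓘 r n V (x + y) = coord 𝓘 r n V x + coord 𝓘 r n V y := by
  funext l
  simp only [coord, Pi.add_apply]
  rw [map_add]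
  exact iV_add _ _ _ _

theorem coord_zero (n : ℕ) (V : X.Opens) :
    coord 𝓘 r n V (0 : Γ(Bp 𝓘 r n, V)) = 0 := by
  funext l
  simp only [coord, Pi.zero_apply]
  rw [map_zero]
  exact iV_zero _ _

theorem coord_smul (n : ℕ) (V : X.Opens) (a : Γ(X, V)) (x : Γ(Bp 𝓘 r n, V)) :
    coord 𝓘 r n V (a • x) = a • coord 𝓘 r n V x := by
  funext l
  simp only [coord, Pi.smul_apply, smul_eq_mul]
  rw [LinearMap.map_smul]
  exact iV_smul _ _ a _

theorem coord_injective (n : ℕ) (V : X.Opens) : Function.Injective (coord 𝓘 r n V) := by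
  intro x y hxy
  rw [biproduct_section_eq _ V x, biproduct_section_eq _ V y]
  refine Finset.sum_congr rfl fun l _ => ?_
  congr 1
  exact iV_injective _ V (congrFun hxy l)

theorem coord_ι (n : ℕ) (V : X.Opens) (j : Fin r) (m : Γ(Mn 𝓘 n, V)) :
    coord 𝓘 r n V (appLin (biproduct.ι (fun _ : Fin r => Mn 𝓘 n) j) V m) =
      Pi.single j (iV (𝓘 ^ n) V m) := by
  funext l
  change iV (𝓘 ^ n) V (appLin (biproduct.ι (fun _ : Fin r => Mn 𝓘 n) j ≫
    biproduct.π (fun _ : Fin r => Mn 𝓘 n) l) V m) = _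
  by_cases h : j = l
  · subst h
    rw [biproduct.ι_π_self, Pi.single_eq_same]
    rfl
  · rw [biproduct.ι_π_ne _ h, Pi.single_eq_of_ne (Ne.symm h)]
    exact iV_zero _ _

theorem iV_Phi (n : ℕ) (V : X.Opens) (x : Γ(Bp 𝓘 r n, V)) :
    iV (𝓘 ^ (n + 1)) V (appLin (Phi hφ n) V x) = ∑ l, coord 𝓘 r n V x l * rs (φ l) V := by
  conv_lhs => rw [biproduct_section_eq _ V x]
  rw [map_sum]
  have h0 : ∀ (s : Finset (Fin r)) (f : Fin r → Γ(Mn 𝓘 (n + 1), V)),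
      iV (𝓘 ^ (n + 1)) V (∑ l ∈ s, f l) = ∑ l ∈ s, iV (𝓘 ^ (n + 1)) V (f l) := fun s f =>
    map_sum ((ClSub.idealModι (𝓘 ^ (n + 1))).app V).hom f s
  rw [h0]
  refine Finset.sum_congr rfl fun l _ => ?_
  rw [← appLin_comp_apply, ι_Phi]
  exact iV_mu hφ n l V _

/-- coordinates as a linear map -/
noncomputable def coordLin (𝓘 : X.IdealSheafData) (r n : ℕ) (V : X.Opens) :
    Γ(Bp 𝓘 r n, V) →ₗ[Γ(X, V)] (Fin r → Γ(X, V)) where
  toFun := coord 𝓘 r n V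
  map_add' := coord_add n V
  map_smul' := coord_smul n V

theorem coordLin_apply (n : ℕ) (V : X.Opens) (x : Γ(Bp 𝓘 r n, V)) :
    coordLin 𝓘 r n V x = coord 𝓘 r n V x := rfl

section Koszul

variable (m : ℕ)

/-- the Koszul section `(g φ_i) e_j - (g φ_j) e_i` of the direct sum -/
noncomputable def kos (i j : Fin r) (g : Γ(X, ⊤)) (hg : g ∈ GSec (𝓘 ^ m)) :
    Coh.structureModule X ⟶ Bp 𝓘 r (m + 1) :=
  secI (𝓘 ^ (m + 1)) (g * φ i) (mul_mem_GSec_succ hφ hg i) ≫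
      biproduct.ι (fun _ : Fin r => Mn 𝓘 (m + 1)) j -
    secI (𝓘 ^ (m + 1)) (g * φ j) (mul_mem_GSec_succ hφ hg j) ≫
      biproduct.ι (fun _ : Fin r => Mn 𝓘 (m + 1)) i

theorem kos_Phi (i j : Fin r) (g : Γ(X, ⊤)) (hg : g ∈ GSec (𝓘 ^ m)) :
    kos hφ m i j g hg ≫ Phi hφ (m + 1) = 0 := by
  rw [kos, Preadditive.sub_comp, Category.assoc, Category.assoc, ι_Phi, ι_Phi, sub_eq_zero]
  apply hom_ext_ι
  rw [Category.assoc, Category.assoc, mu, mu, mulI_ι, mulI_ι, secI_ι_assoc, secI_ι_assoc,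
    mulO_comp, mulO_comp]
  congr 1
  ring

theorem coord_sec_kos (i j : Fin r) (g : Γ(X, ⊤)) (hg : g ∈ GSec (𝓘 ^ m)) (V : X.Opens) :
    coord 𝓘 r (m + 1) V (sec (kos hφ m i j g hg) V) =
      Pi.single j (rs g V * rs (φ i) V) - Pi.single i (rs g V * rs (φ j) V) := by
  have h1 : sec (kos hφ m i j g hg) V =
      appLin (biproduct.ι (fun _ : Fin r => Mn 𝓘 (m + 1)) j) V
        (sec (secI (𝓘 ^ (m + 1)) (g * φ i) (mul_mem_GSec_succ hφ hg i)) V) -
      appLin (biproduct.ι (fun _ : Fin r => Mn 𝓘 (m + 1)) i) V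
        (sec (secI (𝓘 ^ (m + 1)) (g * φ j) (mul_mem_GSec_succ hφ hg j)) V) := rfl
  rw [h1, ← coordLin_apply, map_sub, coordLin_apply, coordLin_apply, coord_ι, coord_ι,
    iV_sec_secI, iV_sec_secI, rs_mul, rs_mul]

/-- the Koszul section, as a section of the kernel of `Phi` -/
noncomputable def kosK (i j : Fin r) (g : Γ(X, ⊤)) (hg : g ∈ GSec (𝓘 ^ m)) :
    Coh.structureModule X ⟶ kernel (Phi hφ (m + 1)) :=
  kernel.lift _ (kos hφ m i j g hg) (kos_Phi hφ m i j g hg)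

/-- if `𝓘` is effective Cartier, the kernel of `Phi (m+1)` is globally generated -/
theorem isGloballyGenerated_kernel_Phi
    (hgen : ∀ U : X.affineOpens, 𝓘.ideal U = Ideal.span (Set.range fun i => rs (φ i) U.1))
    (hcart : BlowUp.IsEffCartierIdeal 𝓘) :
    Curv2.IsGloballyGenerated (kernel (Phi hφ (m + 1))) := by
  refine isGloballyGenerated_of_genAt _ (fun y V σ hyV => ?_)
  obtain ⟨W, hyW, hWV, t, ht, hIW⟩ :=
    Groth.Agent.Lib.helper16.EffCartier.exists_principal_le hcart y V hyV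
  refine ⟨W.1, hWV, hyW, ?_⟩
  generalize res (kernel (Phi hφ (m + 1))) hWV σ = x
  change Γ(kernel (Phi hφ (m + 1)), W.1) at x
  -- the linear map `Γ(K, W) → Γ(X, W)^r`
  let L : Γ(kernel (Phi hφ (m + 1)), W.1) →ₗ[Γ(X, W.1)] (Fin r → Γ(X, W.1)) :=
    (coordLin 𝓘 r (m + 1) W.1).comp (appLin (kernel.ι (Phi hφ (m + 1))) W.1)
  have hLinj : Function.Injective L := by
    intro a b hab
    exact KerSections.kernel_ι_app_injective (Phi hφ (m + 1)) W.1
      (coord_injective (m + 1) W.1 hab)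
  -- the coordinates of `x` satisfy the Koszul hypotheses
  have hS : Ideal.span ((fun g => rs g W.1) '' GSec (𝓘 ^ m)) = Ideal.span {t} ^ m := by
    rw [span_GSec_pow hφ hgen m W, ideal_pow_apply, hIW]
  have hp : Ideal.span (Set.range fun i => rs (φ i) W.1) = Ideal.span {t} := by
    rw [← hgen W, hIW]
  have hy : ∀ l, L x l ∈ Ideal.span {t} ^ (m + 1) := by
    intro l
    rw [← hIW, ← ideal_pow_apply]
    exact idealModι_app_mem (𝓘 ^ (m + 1)) W _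
  have hsum : ∑ l, L x l * rs (φ l) W.1 = 0 := by
    have h1 := iV_Phi hφ (m + 1) W.1 (appLin (kernel.ι (Phi hφ (m + 1))) W.1 x)
    rw [← appLin_comp_apply, kernel.condition] at h1
    refine h1.symm.trans ?_
    exact iV_zero _ _
  have hmem := mem_kosSpan t ht (fun i => rs (φ i) W.1) hp m _ hS (L x) hy hsum
  -- every element of the Koszul span comes from the span of global sections
  have key : ∀ v ∈ kosSpan (fun i => rs (φ i) W.1) ((fun g => rs g W.1) '' GSec (𝓘 ^ m)),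
      ∃ z : Γ(kernel (Phi hφ (m + 1)), W.1), z ∈ gsubBy (kernel (Phi hφ (m + 1))) (fun τ : (kernel (Phi hφ (m + 1))).val.obj (op ⊤) => τ) W.1 ∧ L z = v := by
    intro v hv
    induction hv using Submodule.span_induction with
    | mem v hv =>
      obtain ⟨i, j, _, ⟨g, hg, rfl⟩, rfl⟩ := hv
      refine ⟨res (kernel (Phi hφ (m + 1))) (le_top : W.1 ≤ ⊤) (sec (kosK hφ m i j g hg) ⊤),
        res_top_mem_gsubBy _ _ W.1 _, ?_⟩
      have h1 : res (kernel (Phi hφ (m + 1))) (le_top : W.1 ≤ ⊤) (sec (kosK hφ m i j g hg) ⊤) =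
          sec (kosK hφ m i j g hg) W.1 := res_sec _ (homOfLE (le_top : W.1 ≤ ⊤))
      rw [h1]
      have h2 : appLin (kernel.ι (Phi hφ (m + 1))) W.1 (sec (kosK hφ m i j g hg) W.1) =
          sec (kosK hφ m i j g hg ≫ kernel.ι (Phi hφ (m + 1))) W.1 := rfl
      change coord 𝓘 r (m + 1) W.1 (appLin (kernel.ι (Phi hφ (m + 1))) W.1
        (sec (kosK hφ m i j g hg) W.1)) = _
      rw [h2, kosK, kernel.lift_ι]
      exact coord_sec_kos hφ m i j g hg W.1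
    | zero => exact ⟨0, Submodule.zero_mem _, map_zero L⟩
    | add v w _ _ hv hw =>
      obtain ⟨z, hz, rfl⟩ := hv
      obtain ⟨z', hz', rfl⟩ := hw
      exact ⟨z + z', Submodule.add_mem _ hz hz', map_add L z z'⟩
    | smul a v _ hv =>
      obtain ⟨z, hz, rfl⟩ := hv
      exact ⟨a • z, Submodule.smul_mem _ _ hz, LinearMap.map_smul L a z⟩
  obtain ⟨z, hz, hzv⟩ := key _ hmem
  have hzx : z = x := hLinj hzv
  rw [hzx] at hz
  exact hz

end Koszul

end Phi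

end Groth.Agent.Lib.helper16.RatPow
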