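import Groth.Agent.Lib.Helper16.RatPow2

/-!
# Sections of powers of a globally generated invertible ideal (helper16)

`exists_decomp`: if `H¹` vanishes for globally generated quasi-coherent modules on `X`, `𝓘` is an
effective Cartier ideal generated by global functions `φ_1, …, φ_r`, then every global function in
`𝓘^(m+2)` is `∑ y_i φ_i` with `y_i` global functions in `𝓘^(m+1)`.
-/

set_option autoImplicit false
universe u
open CategoryTheory CategoryTheory.Limits AlgebraicGeometry TopologicalSpace Opposite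

namespace Groth.Agent.Lib.helper16.RatPow

open Scheme.Modules Groth.Agent.Lib.helper7 Groth.Agent.Lib.helper7.IdealMod
  Groth.Agent.Lib.helper11.SerreCrit Groth.Agent.Lib.helper11.GenLocus
  Groth.Agent.Lib.helper16.QCohEpi Groth.Agent.Lib.helper11.SerreGG
  Groth.Agent.Lib.helper12.TwistExtend Groth.Agent.Lib.helper8.Rees Groth.Agent.Lib.Lead.GE

attribute [local instance] Abelian.hasFiniteBiproducts

variable {X : Scheme.{u}} {𝓘 : X.IdealSheafData} {r : ℕ} {φ : Fin r → Γ(X, ⊤)}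

theorem rs_top (g : Γ(X, ⊤)) : rs g ⊤ = g := by
  have : (homOfLE (le_top : (⊤ : X.Opens) ≤ ⊤)).op = 𝟙 _ := rfl
  change (X.presheaf.map (homOfLE (le_top : (⊤ : X.Opens) ≤ ⊤)).op).hom g = g
  rw [this, X.presheaf.map_id]
  rfl

/-- a global section of an ideal sheaf is a global function lying in the ideal -/
theorem iV_top_mem_GSec (𝓙 : X.IdealSheafData) (s : Γ(ClSub.idealMod 𝓙, ⊤)) :
    iV 𝓙 ⊤ s ∈ GSec 𝓙 := by
  intro U
  have h1 := app_map (ClSub.idealModι 𝓙) (le_top : U.1 ≤ ⊤) s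
  have h2 : rs (iV 𝓙 ⊤ s) U.1 =
      iV 𝓙 U.1 ((ClSub.idealMod 𝓙).presheaf.map (homOfLE (le_top : U.1 ≤ ⊤)).op s) := h1.symm
  rw [h2]
  exact idealModι_app_mem 𝓙 U _

variable (hφ : ∀ i, φ i ∈ GSec 𝓘)

/-- `Phi n` is an epimorphism -/
theorem epi_Phi
    (hgen : ∀ U : X.affineOpens, 𝓘.ideal U = Ideal.span (Set.range fun i => rs (φ i) U.1))
    (n : ℕ) : Epi (Phi hφ n) := by
  refine epi_of_surjective_on_basis _ {D : X.Opens | IsAffineOpen D} X.isBasis_affineOpens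
    (fun W hW z => ?_)
  have hz : iV (𝓘 ^ (n + 1)) W z ∈ (𝓘 ^ (n + 1)).ideal ⟨W, hW⟩ :=
    idealModι_app_mem (𝓘 ^ (n + 1)) ⟨W, hW⟩ z
  rw [ideal_pow_apply, pow_succ, ← ideal_pow_apply, hgen ⟨W, hW⟩] at hz
  obtain ⟨a, ha, hsum⟩ := exists_sum_of_mem_mul_span _ _ _ hz
  have hm : ∀ i, ∃ mi : Γ(Mn 𝓘 n, W), iV (𝓘 ^ n) W mi = a i := fun i =>
    (mem_range_idealModι_iff_of_affine (𝓘 ^ n) ⟨W, hW⟩ (a i)).mpr (ha i)
  choose mi hmi using hm
  refine ⟨∑ i, appLin (biproduct.ι (fun _ : Fin r => Mn 𝓘 n) i) W (mi i), ?_⟩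
  apply iV_injective (𝓘 ^ (n + 1)) W
  have h1 := iV_Phi hφ n W (∑ i, appLin (biproduct.ι (fun _ : Fin r => Mn 𝓘 n) i) W (mi i))
  refine h1.trans ?_
  rw [hsum]
  refine Finset.sum_congr rfl fun l _ => ?_
  congr 1
  rw [← coordLin_apply, map_sum]
  simp only [coordLin_apply, coord_ι]
  rw [Finset.sum_apply]
  simp only [Pi.single_apply, Finset.sum_ite_eq, Finset.mem_univ, if_true]
  exact hmi l

/-- every global function in `𝓘^(m+2)` is `∑ y_i φ_i` with `y_i` global functions in `𝓘^(m+1)` -/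
theorem exists_decomp (hφ : ∀ i, φ i ∈ GSec 𝓘)
    (hgen : ∀ U : X.affineOpens, 𝓘.ideal U = Ideal.span (Set.range fun i => rs (φ i) U.1))
    (hcart : BlowUp.IsEffCartierIdeal 𝓘)
    (hvan : ∀ F : X.Modules, F.IsQuasicoherent → Curv2.IsGloballyGenerated F →
      Subsingleton (Coh.HH X F 1))
    (m : ℕ) (σ : Γ(X, ⊤)) (hσ : σ ∈ GSec (𝓘 ^ (m + 2))) :
    ∃ y : Fin r → Γ(X, ⊤), (∀ i, y i ∈ GSec (𝓘 ^ (m + 1))) ∧ σ = ∑ i, y i * φ i := by
  haveI : ∀ n, (Mn 𝓘 n).IsQuasicoherent := fun n => idealMod_qcoh (𝓘 ^ n)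
  haveI : (Bp 𝓘 r (m + 1)).IsQuasicoherent :=
    isQuasicoherent_biproduct' _ (fun _ => idealMod_qcoh (𝓘 ^ (m + 1)))
  have hKq : (kernel (Phi hφ (m + 1))).IsQuasicoherent := CohKer.isQuasicoherent_kernel _
  have hH : Subsingleton (Coh.HH X (kernel (Phi hφ (m + 1))) 1) :=
    hvan _ hKq (isGloballyGenerated_kernel_Phi hφ m hgen hcart)
  let S : ShortComplex X.Modules :=
    ShortComplex.mk (kernel.ι (Phi hφ (m + 1))) (Phi hφ (m + 1)) (kernel.condition _)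
  have hS : S.ShortExact :=
    { exact := ShortComplex.exact_kernel (Phi hφ (m + 1))
      mono_f := inferInstanceAs (Mono (kernel.ι (Phi hφ (m + 1))))
      epi_g := epi_Phi hφ hgen (m + 1) }
  have hsurj := Groth.Agent.Lib.helper12.GGExt.surjective_app_top_of_H1 hS hH
  obtain ⟨x, hx⟩ := hsurj (sec (secI (𝓘 ^ (m + 2)) σ hσ) ⊤)
  change Γ(Bp 𝓘 r (m + 1), ⊤) at x
  refine ⟨coord 𝓘 r (m + 1) ⊤ x, fun i => iV_top_mem_GSec _ _, ?_⟩
  have h1 := iV_Phi hφ (m + 1) ⊤ x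
  have h2 : appLin (Phi hφ (m + 1)) ⊤ x = sec (secI (𝓘 ^ (m + 2)) σ hσ) ⊤ := hx
  rw [h2, iV_sec_secI, rs_top] at h1
  rw [h1]
  refine Finset.sum_congr rfl fun l _ => ?_
  rw [rs_top]

end Groth.Agent.Lib.helper16.RatPow
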