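import Groth.Agent.Lib.Helper16.RatPow3
import Groth.Agent.Lib.Helper16.ModifCoh
import Groth.Agent.Lib.Helper16.ReesBlowup2
import Groth.Agent.Lib.Helper9.ZMTNormal
import Groth.Agent.Lib.Helper9.ZMTBirational
import Groth.Agent.Lib.Helper13.Normal1
import Groth.Agent.Lib.Helper18.HHZero
import Groth.Agent.Lib.Lead.ProperFin2

/-!
# Global functions on a normal modification; powers of the fibre ideal (helper16)

`A` a Noetherian integrally closed local domain, `f : X ⟶ Spec A` proper, `X` integral, `f` an
isomorphism over a nonempty open.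
* `toGlobal_bijective`: `A → Γ(X, O_X)` is bijective.
-/

set_option autoImplicit false
universe u
open CategoryTheory CategoryTheory.Limits AlgebraicGeometry TopologicalSpace Opposite

namespace Groth.Agent.Lib.helper16.RatPow

section modification

variable (A : Type u) [CommRing A] [IsDomain A] [IsNoetherianRing A] [IsIntegrallyClosed A]
  {X : Scheme.{u}} (f : X ⟶ Spec (CommRingCat.of A)) [IsProper f] [IsIntegral X]

/-- the ring map `A → Γ(X, ⊤)` (the prelude's `Coh.toGlobal`, with commutative target) -/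
noncomputable def tG : A →+* Γ(X, ⊤) :=
  (f.appTop).hom.comp (Scheme.ΓSpecIso (CommRingCat.of A)).inv.hom

theorem tG_eq (a : A) : tG A f a = Coh.toGlobal f a := rfl

/-- `Γ(X, O_X)` is a finite `A`-module -/
theorem finite_tG : (tG A f).Finite := by
  letI : X.Over (Spec (CommRingCat.of A)) := ⟨f⟩
  haveI : IsProper (X ↘ Spec (CommRingCat.of A)) := inferInstanceAs (IsProper f)
  have hcoh : Coh.IsCoh (Coh.structureModule X) :=
    Groth.Agent.Lib.helper16.CohFinite.isCoh_of_finite_sections (Coh.structureModule X)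
      (fun U : X.affineOpens => U.1) (fun U => U.2) (iSup_affineOpens_eq_top X)
      (fun U => inferInstanceAs (Module.Finite Γ(X, U.1) Γ(X, U.1)))
  have hfin : Module.Finite A (Coh.HH X (Coh.structureModule X) 0) :=
    Groth.Agent.Lib.Lead.ProperFin.finite_HH_of_isProper A X _ hcoh 0
  letI := (tG A f).toAlgebra
  change Module.Finite A Γ(X, ⊤)
  letI := Groth.Agent.Lib.Helper18.HH.sectionsModuleOver A (Coh.structureModule X)
  let e := Groth.Agent.Lib.Helper18.HH.equiv₀Over A (Coh.structureModule X)
  let L : Coh.HH X (Coh.structureModule X) 0 →ₗ[A] Γ(X, ⊤) :=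
    { toFun := fun x => e x
      map_add' := fun x y => map_add e x y
      map_smul' := fun a x => by
        have h1 := e.map_smul a x
        exact h1 }
  exact Module.Finite.of_surjective L e.surjective

/-- `A → Γ(X, O_X)` is bijective for a normal base and a birational proper `f` -/
theorem tG_bijective (U₀ : (Spec (CommRingCat.of A)).Opens)
    (hne : (U₀ : Set (Spec (CommRingCat.of A))).Nonempty) [hiso : IsIso (f ∣_ U₀)] :
    Function.Bijective (tG A f) := by
  haveI : IsIntegral (Spec (CommRingCat.of A)) := inferInstance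
  obtain ⟨hgen, hbir⟩ :=
    Groth.Agent.Lib.helper9.genericPoint_and_isIso_stalkMap_of_isIso_morphismRestrict f U₀ hne hiso
  have hN : ∀ y : Spec (CommRingCat.of A),
      IsIntegrallyClosed ((Spec (CommRingCat.of A)).presheaf.stalk y) := fun y =>
    (Groth.Agent.Lib.helper13.Normal.Spec_of_isNormalDomain (CommRingCat.of A) ⟨inferInstance, inferInstance⟩ y).2
  haveI : Nonempty ((⊤ : X.Opens) : Scheme.{u}) := ⟨⟨genericPoint X, trivial⟩⟩
  have e : (⊤ : X.Opens) ≤ f ⁻¹ᵁ ⊤ := le_of_eq rfl
  have hφ : (f.appTop).hom = (f.appLE ⊤ ⊤ e).hom := by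
    rw [Scheme.Hom.appLE]
    simp
  have key := Groth.Agent.Lib.helper9.bijective_algebraMap_integralClosure_appLE hN f hgen hbir ⊤
    (isAffineOpen_top _) ⊤ e (f.appTop).hom hφ
  -- integrality
  have hint : (f.appTop).hom.IsIntegral := by
    have h1 : (tG A f).IsIntegral := (finite_tG A f).to_isIntegral
    exact RingHom.IsIntegral.tower_top _ _ h1
  letI := (f.appTop).hom.toAlgebra
  have hbij : Function.Bijective (f.appTop).hom := by
    constructor
    · intro a b hab
      apply key.1
      exact Subtype.ext hab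
    · intro g
      obtain ⟨b, hb⟩ := key.2 ⟨g, hint g⟩
      exact ⟨b, congrArg Subtype.val hb⟩
  have hinv : Function.Bijective (Scheme.ΓSpecIso (CommRingCat.of A)).inv.hom :=
    (ConcreteCategory.isIso_iff_bijective _).mp inferInstance
  exact hbij.comp hinv

end modification

section fibreIdeal

open Groth.Agent.Lib.helper16.ReesBlowup

variable (A : Type u) [CommRing A] {X : Scheme.{u}} (f : X ⟶ Spec (CommRingCat.of A))

theorem rs_tG (a : A) (U : X.Opens) : rs (tG A f a) U = ringOf f U a := by
  have h1 : f.appLE ⊤ U le_top = f.appTop ≫ X.presheaf.map (homOfLE (le_top : U ≤ ⊤)).op := by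
    rw [Scheme.Hom.appLE]
    rfl
  simp only [ringOf, tG, rs, h1, CommRingCat.hom_comp, RingHom.comp_apply]

/-- the ideal sheaf of the fibre over `V(I)` -/
noncomputable abbrev fibI (I : Ideal A) : X.IdealSheafData := (Curv2.idealSheaf A I).comap f

theorem fibI_ideal (I : Ideal A) (U : X.affineOpens) :
    (fibI A f I).ideal U = I.map (ringOf f U.1) :=
  ideal_comap_idl I f U

theorem tG_mem_GSec (I : Ideal A) (a : A) (ha : a ∈ I) : tG A f a ∈ GSec (fibI A f I) := by
  intro U
  rw [rs_tG, fibI_ideal]
  exact Ideal.mem_map_of_mem _ ha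

theorem fibI_gen (I : Ideal A) {r : ℕ} (a : Fin r → A) (ha : Ideal.span (Set.range a) = I)
    (U : X.affineOpens) :
    (fibI A f I).ideal U = Ideal.span (Set.range fun i => rs (tG A f (a i)) U.1) := by
  rw [fibI_ideal, ← ha, Ideal.map_span]
  congr 1
  ext z
  simp only [Set.mem_image, Set.mem_range, exists_exists_eq_and, rs_tG]

/-- a global function in the `n`-th power of the fibre ideal, for `a ∈ I^n` -/
theorem tG_mem_GSec_pow (I : Ideal A) (n : ℕ) (a : A) (ha : a ∈ I ^ n) :
    tG A f a ∈ GSec (fibI A f I ^ n) := by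
  intro U
  rw [rs_tG, ideal_pow_apply, fibI_ideal, ← Ideal.map_pow]
  exact Ideal.mem_map_of_mem _ ha

end fibreIdeal

section main

open Groth.Agent.Lib.helper16.ReesBlowup

variable (A : Type u) [CommRing A] [IsDomain A] [IsLocalRing A] [IsNoetherianRing A]
  [IsIntegrallyClosed A]
  {X : Scheme.{u}} (f : X ⟶ Spec (CommRingCat.of A)) [IsProper f] [IsIntegral X]

theorem closedPoint_mem_range : IsLocalRing.closedPoint A ∈ Set.range f := by
  have hcl : IsClosed (Set.range f) := f.isClosedMap.isClosed_range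
  have hsp : f (genericPoint X) ⤳ (IsLocalRing.closedPoint A : Spec (CommRingCat.of A)) :=
    IsLocalRing.specializes_closedPoint _
  exact hsp.mem_closed hcl ⟨_, rfl⟩

theorem closedPoint_mem_support :
    (IsLocalRing.closedPoint A : Spec (CommRingCat.of A)) ∈
      (Curv2.idealSheaf A (IsLocalRing.maximalIdeal A)).support := by
  change (IsLocalRing.closedPoint A : Spec (CommRingCat.of A)) ∈
    ((Curv2.idealSheaf A (IsLocalRing.maximalIdeal A)).support : Set (Spec (CommRingCat.of A)))
  rw [Curv2.idealSheaf, Scheme.IdealSheafData.coe_support_ofIdealTop, Spec_zeroLocus]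
  refine (PrimeSpectrum.mem_zeroLocus (IsLocalRing.closedPoint A) _).mpr ?_
  intro b hb
  rw [Set.mem_preimage, SetLike.mem_coe] at hb
  let e : A ≃+* Γ(Spec (CommRingCat.of A), ⊤) :=
    (Scheme.ΓSpecIso (CommRingCat.of A)).symm.commRingCatIsoToRingEquiv
  have h1 : (IsLocalRing.maximalIdeal A).map (Scheme.ΓSpecIso (CommRingCat.of A)).inv.hom =
      (IsLocalRing.maximalIdeal A).map e := rfl
  rw [h1] at hb
  obtain ⟨x, hx, hxe⟩ := (Ideal.mem_map_of_equiv e _).mp hb
  have h2 : x = b := e.injective hxe
  change b ∈ IsLocalRing.maximalIdeal A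
  rw [← h2]
  exact hx

/-- a global function in the fibre ideal comes from the maximal ideal -/
theorem mem_maximalIdeal_of_tG_mem_GSec (a : A)
    (ha : tG A f a ∈ GSec (fibI A f (IsLocalRing.maximalIdeal A))) :
    a ∈ IsLocalRing.maximalIdeal A := by
  by_contra hna
  have hu : IsUnit a := by
    rwa [IsLocalRing.mem_maximalIdeal, mem_nonunits_iff, not_not] at hna
  obtain ⟨x, hx⟩ := closedPoint_mem_range A f
  have htop : fibI A f (IsLocalRing.maximalIdeal A) = ⊤ := by
    apply Scheme.IdealSheafData.ext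
    funext U
    rw [Scheme.IdealSheafData.ideal_top, Pi.top_apply]
    refine Ideal.eq_top_of_isUnit_mem _ (ha U) ?_
    rw [rs_tG]
    exact hu.map _
  have hsupp : x ∈ (fibI A f (IsLocalRing.maximalIdeal A)).support := by
    rw [Groth.Agent.Lib.helper16.EffCartier.mem_compl_support_comap, hx]
    exact closedPoint_mem_support A
  rw [htop, Scheme.IdealSheafData.support_top] at hsupp
  exact hsupp

/-- global functions in the `n`-th power of the fibre ideal come from `𝔪^n` -/
theorem mem_pow_of_tG_mem_GSec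
    (hdim : ringKrullDim A = ((1 + 1 : ℕ) : WithBot ℕ∞))
    (U₀ : (Spec (CommRingCat.of A)).Opens)
    (hne : (U₀ : Set (Spec (CommRingCat.of A))).Nonempty) [IsIso (f ∣_ U₀)]
    (hO : Subsingleton (Coh.HH X (Coh.structureModule X) 1))
    (hcart : BlowUp.IsEffCartierIdeal (fibI A f (IsLocalRing.maximalIdeal A))) :
    ∀ (n : ℕ) (a : A), tG A f a ∈ GSec (fibI A f (IsLocalRing.maximalIdeal A) ^ n) →
      a ∈ IsLocalRing.maximalIdeal A ^ n := by
  obtain ⟨r, g, hg⟩ := (Submodule.fg_iff_exists_fin_generating_family).mp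
    (IsNoetherian.noetherian (IsLocalRing.maximalIdeal A))
  have hg' : Ideal.span (Set.range g) = IsLocalRing.maximalIdeal A := hg
  have hgm : ∀ i, g i ∈ IsLocalRing.maximalIdeal A := fun i =>
    hg' ▸ Ideal.subset_span ⟨i, rfl⟩
  have hφ : ∀ i, tG A f (g i) ∈ GSec (fibI A f (IsLocalRing.maximalIdeal A)) := fun i =>
    tG_mem_GSec A f _ (g i) (hgm i)
  have hgen := fibI_gen A f (IsLocalRing.maximalIdeal A) g hg'
  have hvan : ∀ F : X.Modules, F.IsQuasicoherent → Curv2.IsGloballyGenerated F →
      Subsingleton (Coh.HH X F 1) := fun F hF hgg =>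
    haveI := hF
    Groth.Agent.Lib.helper16.ModifCoh.subsingleton_HH_one_of_globallyGenerated A f hdim U₀ hne
      hO F hgg
  have hbij := tG_bijective A f U₀ hne
  intro n
  induction n with
  | zero =>
    intro a _
    rw [pow_zero, Ideal.one_eq_top]
    exact Submodule.mem_top
  | succ n ih =>
    cases n with
    | zero =>
      intro a ha
      rw [zero_add, pow_one] at ha ⊢
      exact mem_maximalIdeal_of_tG_mem_GSec A f a ha
    | succ m =>
      intro a ha
      obtain ⟨y, hy, hsum⟩ := exists_decomp hφ hgen hcart hvan m (tG A f a) ha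
      have hb : ∀ i, ∃ b : A, tG A f b = y i := fun i => hbij.2 (y i)
      choose b hb using hb
      have hbm : ∀ i, b i ∈ IsLocalRing.maximalIdeal A ^ (m + 1) := fun i =>
        ih (b i) (by rw [hb i]; exact hy i)
      have hEq : a = ∑ i, b i * g i := by
        apply hbij.1
        rw [hsum, map_sum]
        refine Finset.sum_congr rfl fun i _ => ?_
        rw [map_mul, hb i]
      rw [hEq, pow_succ (IsLocalRing.maximalIdeal A) (m + 1)]
      exact Ideal.sum_mem _ fun i _ => Ideal.mul_mem_mul (hbm i) (hgm i)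

/-- **S7299**: `H¹(X, I^n) = 0` and `H⁰(X, I^n) = 𝔪^n` for a normal modification of a rational
singularity on which `I = 𝔪 O_X` is invertible. -/
theorem ratSing_sections_powers
    (hdim : ringKrullDim A = 2) (hA : Curv2.IsRationalSing A) (hXn : Pi1.IsNormalScheme X)
    (hbir : ∃ U : (Spec (CommRingCat.of A)).Opens,
      (U : Set (Spec (CommRingCat.of A))).Nonempty ∧ IsIso (f ∣_ U))
    (hE : BlowUp.IsEffCartierIdeal
      ((Curv2.idealSheaf A (IsLocalRing.maximalIdeal A)).comap f)) (n : ℕ) :
    Subsingleton (Coh.HH X (ClSub.idealMod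
        (((Curv2.idealSheaf A (IsLocalRing.maximalIdeal A)).comap f) ^ n)) 1) ∧
      ∀ a : A, (∀ U : X.affineOpens,
          Coh.resTop X (Opposite.op U.1) (Coh.toGlobal f a) ∈
            (((Curv2.idealSheaf A (IsLocalRing.maximalIdeal A)).comap f) ^ n).ideal U) ↔
        a ∈ IsLocalRing.maximalIdeal A ^ n := by
  have hO := hA X f inferInstance inferInstance hXn hbir
  obtain ⟨U₀, hne, hiso⟩ := hbir
  haveI := hiso
  have hdim' : ringKrullDim A = ((1 + 1 : ℕ) : WithBot ℕ∞) := by rw [hdim]; rfl
  constructor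
  · obtain ⟨r, g, hg⟩ := (Submodule.fg_iff_exists_fin_generating_family).mp
      (IsNoetherian.noetherian (IsLocalRing.maximalIdeal A))
    have hg' : Ideal.span (Set.range g) = IsLocalRing.maximalIdeal A := hg
    have hφ : ∀ i, tG A f (g i) ∈ GSec (fibI A f (IsLocalRing.maximalIdeal A)) := fun i =>
      tG_mem_GSec A f _ (g i) (hg' ▸ Ideal.subset_span ⟨i, rfl⟩)
    have hgen := fibI_gen A f (IsLocalRing.maximalIdeal A) g hg'
    haveI : (ClSub.idealMod (fibI A f (IsLocalRing.maximalIdeal A) ^ n)).IsQuasicoherent :=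
      Groth.Agent.Lib.helper7.IdealMod.idealMod_qcoh _
    exact Groth.Agent.Lib.helper16.ModifCoh.subsingleton_HH_one_of_globallyGenerated A f hdim'
      U₀ hne hO _ (isGloballyGenerated_Mn hφ hgen n)
  · intro a
    constructor
    · intro h
      exact mem_pow_of_tG_mem_GSec A f hdim' U₀ hne hO hE n a h
    · intro ha
      exact tG_mem_GSec_pow A f _ n a ha

end main

end Groth.Agent.Lib.helper16.RatPow
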