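import Mathlib

/-!
# Maximal points of a closed subset lie in every open meeting it densely (helper16)
-/

set_option autoImplicit false

namespace Groth.Agent.Lib.helper16.RedMod

open AlgebraicGeometry CategoryTheory TopologicalSpace Opposite

universe u

/-- In a Noetherian quasi-sober space, let `S` be closed, `D` open with `D ∩ S` dense in `S`. A point
of `S` without proper generization inside `S` lies in `D`. -/
theorem mem_of_maximal_of_subset_closure {T : Type*} [TopologicalSpace T] [NoetherianSpace T]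
    [QuasiSober T] (S : Set T) (hS : IsClosed S) (D : Set T) (hD : IsOpen D)
    (hSD : S ⊆ closure (D ∩ S)) (ξ : T) (hξS : ξ ∈ S) (hξ : ∀ w ∈ S, w ⤳ ξ → w = ξ) : ξ ∈ D := by
  obtain ⟨𝒮, hfin, hcl, hirr, hU⟩ := NoetherianSpace.exists_finite_set_isClosed_irreducible hS
  -- every member containing ξ is the closure of ξ
  have hmem : ∀ t ∈ 𝒮, ξ ∈ t → t ⊆ closure {ξ} := by
    intro t ht hξt
    obtain ⟨η, hη⟩ := QuasiSober.sober (hirr t ht) (hcl t ht)
    have hηS : η ∈ S := by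
      rw [hU]; exact ⟨t, ht, hη.mem⟩
    have h1 : η ⤳ ξ := by
      rw [specializes_iff_mem_closure, hη.def]; exact hξt
    have h2 : η = ξ := hξ η hηS h1
    rw [← h2, hη.def]
  set O : Set T := (⋃₀ {t | t ∈ 𝒮 ∧ ξ ∉ t})ᶜ with hO
  have hOo : IsOpen O := by
    rw [hO, isOpen_compl_iff, Set.sUnion_eq_biUnion]
    exact (hfin.subset (fun t ht => ht.1)).isClosed_biUnion fun t ht => hcl t ht.1
  have hξO : ξ ∈ O := by
    rw [hO, Set.mem_compl_iff, Set.mem_sUnion]
    rintro ⟨t, ⟨-, hnt⟩, hξt⟩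
    exact hnt hξt
  have hSO : S ∩ O ⊆ closure {ξ} := by
    rintro y ⟨hyS, hyO⟩
    rw [hU, Set.mem_sUnion] at hyS
    obtain ⟨t, ht, hyt⟩ := hyS
    by_cases hξt : ξ ∈ t
    · exact hmem t ht hξt hyt
    · exfalso
      apply hyO
      exact ⟨t, ⟨ht, hξt⟩, hyt⟩
  have h3 : ξ ∈ closure (D ∩ S) := hSD hξS
  obtain ⟨y, hyO, hyD, hyS⟩ := mem_closure_iff.1 h3 O hOo hξO
  have h4 : ξ ⤳ y := specializes_iff_mem_closure.2 (hSO ⟨hyS, hyO⟩)
  exact h4.mem_open hD hyD

/-- scheme version -/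
theorem mem_of_maximal_of_subset_closure_scheme (X : Scheme.{u}) [IsLocallyNoetherian X]
    (S : Set X) (hS : IsClosed S) (D : X.Opens)
    (hSD : S ⊆ closure ((D : Set X) ∩ S)) (ξ : X) (hξS : ξ ∈ S)
    (hξ : ∀ w ∈ S, w ⤳ ξ → w = ξ) : ξ ∈ D := by
  obtain ⟨W, hW, hξW, -⟩ := exists_isAffineOpen_mem_and_subset (X := X) (x := ξ) (U := ⊤) trivial
  haveI : IsNoetherianRing Γ(X, W) := IsLocallyNoetherian.component_noetherian ⟨W, hW⟩
  haveI : NoetherianSpace {x : X // x ∈ W} := noetherianSpace_of_isAffineOpen W hW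
  haveI : QuasiSober {x : X // x ∈ W} := W.isOpen.isOpenEmbedding_subtypeVal.quasiSober
  let ξ' : {x : X // x ∈ W} := ⟨ξ, hξW⟩
  have key : ξ' ∈ (Subtype.val ⁻¹' (D : Set X) : Set {x : X // x ∈ W}) := by
    apply mem_of_maximal_of_subset_closure (Subtype.val ⁻¹' S) (hS.preimage continuous_subtype_val)
      (Subtype.val ⁻¹' (D : Set X)) (D.isOpen.preimage continuous_subtype_val) ?_ ξ' hξS ?_
    · intro z hz
      rw [Topology.IsInducing.subtypeVal.closure_eq_preimage_closure_image, Set.mem_preimage]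
      have h1 : z.1 ∈ (W : Set X) ∩ closure ((D : Set X) ∩ S) := ⟨z.2, hSD hz⟩
      have h2 := W.isOpen.inter_closure h1
      refine closure_mono ?_ h2
      rintro y ⟨hyW, hyD, hyS⟩
      exact ⟨⟨y, hyW⟩, ⟨hyD, hyS⟩, rfl⟩
    · intro w hw hwξ
      have h1 : w.1 ⤳ ξ := hwξ.map continuous_subtype_val
      exact Subtype.ext (hξ w.1 hw h1)
  exact key

end Groth.Agent.Lib.helper16.RedMod
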