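import Mathlib
import Groth.Prelude.Def_FDesc
import Groth.Agent.Lib.Helper17.StalkPullback

/-!
# Stalks of the restriction of a quasi-coherent module to an open subscheme (helper16)
-/

set_option autoImplicit false
set_option linter.style.haveILetI false

namespace Groth.Agent.Lib.helper16.RedMod

open AlgebraicGeometry CategoryTheory TopologicalSpace Opposite TensorProduct

universe u

section Algebra

variable {R S M N : Type*} [CommRing R] [CommRing S] [AddCommGroup M] [AddCommGroup N]
  [Module R M] [Module S N]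

/-- transfer of associated primes along a semilinear bijection over a bijective ring map -/
theorem isAssociatedPrime_comap_iff (σ : R →+* S) (hσ : Function.Bijective σ) (ψ : M → N)
    (hψ : Function.Bijective ψ) (hzero : ψ 0 = 0) (hsmul : ∀ (r : R) (m : M), ψ (r • m) = σ r • ψ m)
    (I : Ideal S) : IsAssociatedPrime I N ↔ IsAssociatedPrime (I.comap σ) M := by
  have key : ∀ m : M, ∀ r : R,
      σ r ∈ ((⊥ : Submodule S N).colon {ψ m}).radical ↔ r ∈ ((⊥ : Submodule R M).colon {m}).radical := by
    intro m r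
    simp only [Ideal.mem_radical_iff, Submodule.mem_colon_singleton, Submodule.mem_bot]
    constructor
    · rintro ⟨k, hk⟩
      refine ⟨k, ?_⟩
      apply hψ.1
      rw [hsmul, map_pow, hk, hzero]
    · rintro ⟨k, hk⟩
      refine ⟨k, ?_⟩
      rw [← map_pow, ← hsmul, hk, hzero]
  constructor
  · rintro ⟨hp, n, hn⟩
    obtain ⟨m, rfl⟩ := hψ.2 n
    refine ⟨Ideal.comap_isPrime σ I, m, ?_⟩
    ext r
    rw [Ideal.mem_comap, hn, key]
  · rintro ⟨hp, m, hm⟩
    have hI : I = (I.comap σ).map σ := (Ideal.map_comap_of_surjective σ hσ.2 I).symm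
    refine ⟨?_, ψ m, ?_⟩
    · rw [hI]
      exact Ideal.map_isPrime_of_equiv (RingEquiv.ofBijective σ hσ)
    · ext s
      obtain ⟨r, rfl⟩ := hσ.2 s
      rw [key, ← hm, Ideal.mem_comap]

/-- transfer of length along a semilinear bijection over a bijective ring map -/
theorem length_eq_of_semilinear_bij (σ : R →+* S) (hσ : Function.Bijective σ) (ψ : M →+ N)
    (hψ : Function.Bijective ψ) (hsmul : ∀ (r : R) (m : M), ψ (r • m) = σ r • ψ m) :
    Module.length S N = Module.length R M := by
  letI := σ.toAlgebra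
  letI : Module R N := Module.compHom N σ
  haveI : IsScalarTower R S N := ⟨fun r s n => by
    change (σ r * s) • n = σ r • (s • n)
    rw [mul_smul]⟩
  have h1 : Module.length R N = Module.length S N :=
    Module.length_eq_of_surjective (S := R) (R := S) (M := N) hσ.2
  let ψ' : M →ₗ[R] N := { toFun := ψ, map_add' := map_add ψ, map_smul' := fun r m => hsmul r m }
  have h2 : Module.length R M = Module.length R N :=
    (LinearEquiv.ofBijective ψ' hψ).length_eq
  rw [← h1, h2]

end Algebra

section Scheme

variable {X : Scheme.{u}} (U : X.Opens) (F : X.Modules) [F.IsQuasicoherent]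

/-- the stalk of the restriction to an open is the stalk, compatibly with the local rings -/
theorem exists_stalk_bij (u : ↑U) :
    ∃ ψ : F.presheaf.stalk (U.ι.base u) →+ ((Scheme.Modules.pullback U.ι).obj F).presheaf.stalk u,
      Function.Bijective ψ ∧
      ∀ (r : X.presheaf.stalk (U.ι.base u)) (m : F.presheaf.stalk (U.ι.base u)),
        ψ (r • m) = (U.ι.stalkMap u).hom r • ψ m := by
  letI := (U.ι.stalkMap u).hom.toAlgebra
  letI := FlatMod.moduleStalkOver U.ι ((Scheme.Modules.pullback U.ι).obj F) u
  haveI := Groth.Agent.Lib.helper17.StalkPullback.isScalarTower_moduleStalkOver U.ι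
    ((Scheme.Modules.pullback U.ι).obj F) u
  obtain ⟨ψ, hψ⟩ := Groth.Agent.Lib.helper17.StalkPullback.exists_isBaseChange_stalk_pullback U.ι F u
  have hσ : Function.Bijective (algebraMap (X.presheaf.stalk (U.ι.base u)) ((↑U : Scheme).presheaf.stalk u)) := by
    have : IsIso (U.ι.stalkMap u) := inferInstance
    exact (ConcreteCategory.isIso_iff_bijective (U.ι.stalkMap u)).1 this
  refine ⟨ψ.toAddMonoidHom, ⟨?_, ?_⟩, fun r m => ?_⟩
  · -- injective
    intro m m' hmm
    have hmm' : ψ m = ψ m' := hmm
    have h1 : ψ (m - m') = 0 := by rw [map_sub, hmm', sub_self]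
    have h2 : (1 : (↑U : Scheme).presheaf.stalk u) ⊗ₜ[X.presheaf.stalk (U.ι.base u)] (m - m') = 0 := by
      apply hψ.equiv.injective
      rw [IsBaseChange.equiv_tmul, one_smul, h1, map_zero]
    let e : X.presheaf.stalk (U.ι.base u) ≃ₗ[X.presheaf.stalk (U.ι.base u)] (↑U : Scheme).presheaf.stalk u :=
      LinearEquiv.ofBijective (Algebra.linearMap _ _) hσ
    have h3 := congrArg (fun t => TensorProduct.lid _ _
      ((TensorProduct.congr e.symm (LinearEquiv.refl _ (F.presheaf.stalk (U.ι.base u)))) t)) h2
    simp only [TensorProduct.congr_tmul, LinearEquiv.refl_apply, TensorProduct.lid_tmul, map_zero] at h3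
    have h4 : e.symm 1 = 1 := by
      apply e.injective
      rw [LinearEquiv.apply_symm_apply]
      change (1 : (↑U : Scheme).presheaf.stalk u) =
        algebraMap (X.presheaf.stalk (U.ι.base u)) ((↑U : Scheme).presheaf.stalk u) 1
      rw [map_one]
    rw [h4, one_smul] at h3
    exact sub_eq_zero.1 h3
  · -- surjective
    change Function.Surjective ψ
    intro n
    induction n using hψ.inductionOn with
    | zero => exact ⟨0, map_zero ψ⟩
    | tmul m => exact ⟨m, rfl⟩
    | smul s n ih =>
      obtain ⟨m, rfl⟩ := ih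
      obtain ⟨r, rfl⟩ := hσ.2 s
      exact ⟨r • m, by rw [LinearMap.map_smul, algebraMap_smul]⟩
    | add n₁ n₂ ih₁ ih₂ =>
      obtain ⟨m₁, rfl⟩ := ih₁
      obtain ⟨m₂, rfl⟩ := ih₂
      exact ⟨m₁ + m₂, map_add ψ _ _⟩
  · exact ψ.map_smul r m

theorem bijective_stalkMap_ι (u : ↑U) : Function.Bijective (U.ι.stalkMap u).hom := by
  have : IsIso (U.ι.stalkMap u) := inferInstance
  exact (ConcreteCategory.isIso_iff_bijective (U.ι.stalkMap u)).1 this

theorem isAssPoint_pullback_iff (u : ↑U) :
    Curv2.IsAssPoint ((Scheme.Modules.pullback U.ι).obj F) u ↔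
      Curv2.IsAssPoint F (U.ι.base u) := by
  obtain ⟨ψ, hbij, hsm⟩ := exists_stalk_bij U F u
  unfold Curv2.IsAssPoint
  rw [isAssociatedPrime_comap_iff (U.ι.stalkMap u).hom (bijective_stalkMap_ι U u) ψ hbij
    (map_zero ψ) hsm]
  have h : (IsLocalRing.maximalIdeal ((↑U : Scheme).presheaf.stalk u)).comap (U.ι.stalkMap u).hom =
      IsLocalRing.maximalIdeal (X.presheaf.stalk (U.ι.base u)) :=
    ((IsLocalRing.local_hom_TFAE (U.ι.stalkMap u).hom).out 0 4).1 (by infer_instance)
  rw [h]

theorem length_pullback_eq (u : ↑U) :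
    Module.length ((↑U : Scheme).presheaf.stalk u)
        (((Scheme.Modules.pullback U.ι).obj F).presheaf.stalk u) =
      Module.length (X.presheaf.stalk (U.ι.base u)) (F.presheaf.stalk (U.ι.base u)) := by
  obtain ⟨ψ, hbij, hsm⟩ := exists_stalk_bij U F u
  exact length_eq_of_semilinear_bij (U.ι.stalkMap u).hom (bijective_stalkMap_ι U u) ψ hbij hsm

end Scheme

end Groth.Agent.Lib.helper16.RedMod
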