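import Groth.Agent.Lib.Helper16.RedMod1
import Groth.Agent.Lib.Helper16.RedMod2
import Groth.Agent.Lib.Helper16.LenSemi3
import Groth.Agent.Lib.Helper8.SupportProper

/-!
# A coherent module is reduced iff its restriction to a dense open is and it has no embedded points
-/

set_option autoImplicit false

namespace Groth.Agent.Lib.helper16.RedMod

open AlgebraicGeometry CategoryTheory TopologicalSpace Opposite

universe u

theorem isReducedMod_iff {X : Scheme.{u}} [IsLocallyNoetherian X] (U : X.Opens) (F : X.Modules)
    (hF : Coh.IsCoh F) (hdense : CohB1.support F ⊆ closure ((U : Set ↥X) ∩ CohB1.support F)) :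
    AssSch.IsReducedMod F ↔
      AssSch.IsReducedMod ((Scheme.Modules.pullback U.ι).obj F) ∧ AssSch.NoEmbedded F := by
  haveI : F.IsQuasicoherent := hF.1
  constructor
  · rintro ⟨hemb, hlen⟩
    refine ⟨⟨?_, ?_⟩, hemb⟩
    · intro u hu v hv hvu
      have hu' := (isAssPoint_pullback_iff U F u).1 hu
      have hv' := (isAssPoint_pullback_iff U F v).1 hv
      have h := hemb _ hu' _ hv' (hvu.map U.ι.continuous)
      exact U.ι.isOpenEmbedding.injective h
    · intro u hu
      rw [length_pullback_eq U F u]
      exact hlen _ ((isAssPoint_pullback_iff U F u).1 hu)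
  · rintro ⟨⟨hembP, hlenP⟩, hemb⟩
    refine ⟨hemb, fun x hx => ?_⟩
    have hmax : ∀ w ∈ CohB1.support F, w ⤳ x → w = x := fun w hw hwx =>
      Groth.Agent.Lib.helper16.LenSemi.maximal_of_isAssPoint_of_noEmbedded F hF hemb hx w
        (not_subsingleton_iff_nontrivial.1 hw) hwx
    have hxS : x ∈ CohB1.support F := by
      intro hsub
      exact not_isAssociatedPrime_of_subsingleton hx
    have hcl : IsClosed (CohB1.support F) :=
      Groth.Agent.Lib.helper8.SchemeSupport.isClosed_support F hF.2
    have hxU : x ∈ U := mem_of_maximal_of_subset_closure_scheme X _ hcl U hdense x hxS hmax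
    obtain ⟨u, rfl⟩ : ∃ u : ↑U, U.ι.base u = x := ⟨⟨x, hxU⟩, rfl⟩
    rw [← length_pullback_eq U F u]
    exact hlenP u ((isAssPoint_pullback_iff U F u).2 hx)

end Groth.Agent.Lib.helper16.RedMod
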