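import Mathlib
import Groth.Prelude.Def_Rees
import Groth.Prelude.Def_BlowUp2
import Groth.Agent.Lib.Helper16.ReesBlowup

/-!
# The chart ring `R(I)_(aX)` is the affine blow-up algebra `A[I/a]` (helper16)
-/

set_option autoImplicit false
universe u
open Polynomial

namespace Groth.Agent.Lib.helper16.ReesBlowup

variable {A : Type u} [CommRing A] (I : Ideal A) (a : A) (ha : a ∈ I)

open HomogeneousLocalization

/-- `R(I) → A_a`, `p ↦ p(1)`. -/
noncomputable def ev : reesAlgebra I →+* Localization.Away a :=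
  (algebraMap A (Localization.Away a)).comp ((Polynomial.evalRingHom (1 : A)).comp (reesAlgebra I).val.toRingHom)

lemma ev_mon (n : ℕ) (x : A) (hx : x ∈ I ^ n) : ev I a (mon I n x hx) = algebraMap A _ x := by
  simp [ev, mon]

lemma isUnit_ev_F : IsUnit (ev I a (F I a ha)) := by
  rw [F, ev_mon]
  exact IsLocalization.Away.algebraMap_isUnit a

/-- `R(I)_(aX) → A_a`, `x Xⁿ/(aX)ⁿ ↦ x/aⁿ`. -/
noncomputable def valHom : Away (Rees.deg (reesAlgebra I)) (F I a ha) →+* Localization.Away (F I a ha) :=
  algebraMap _ _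

lemma valHom_apply (z : Away (Rees.deg (reesAlgebra I)) (F I a ha)) : valHom I a ha z = z.val := rfl

noncomputable def Theta : Away (Rees.deg (reesAlgebra I)) (F I a ha) →+* Localization.Away a :=
  (IsLocalization.Away.lift (S := Localization.Away (F I a ha)) (F I a ha) (isUnit_ev_F I a ha)).comp
    (valHom I a ha)

lemma Theta_toAway (c : A) : Theta I a ha (toAway I a ha c) = algebraMap A (Localization.Away a) c := by
  have h1 : valHom I a ha (toAway I a ha c) =
      algebraMap (reesAlgebra I) _ (algebraMap A (reesAlgebra I) c) := by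
    rw [valHom_apply, val_toAway, Localization.mk_one_eq_algebraMap]
  rw [Theta, RingHom.comp_apply, h1, IsLocalization.Away.lift_eq, algebraMap_eq_mon, ev_mon]

lemma Theta_frac_mul (n : ℕ) (x : A) (hx : x ∈ I ^ n) :
    Theta I a ha (frac I a ha n x hx) * algebraMap A (Localization.Away a) (a ^ n) =
      algebraMap A (Localization.Away a) x := by
  rw [← Theta_toAway I a ha, ← Theta_toAway I a ha, ← map_mul, frac_mul_pow]

lemma frac_eq_zero_of_pow_mul_eq_zero (n : ℕ) (x : A) (hx : x ∈ I ^ n) (m : ℕ) (h : a ^ m * x = 0) :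
    frac I a ha n x hx = 0 := by
  apply HomogeneousLocalization.val_injective
  rw [val_frac, val_zero, Localization.mk_eq_mk', IsLocalization.mk'_eq_zero_iff]
  refine ⟨⟨F I a ha ^ m, ⟨m, rfl⟩⟩, ?_⟩
  apply Subtype.ext
  simp only [F, Subalgebra.coe_mul, Subalgebra.coe_pow, coe_mon, monomial_pow, monomial_mul_monomial,
    one_mul, h, Subalgebra.coe_zero, map_zero]

lemma Theta_injective : Function.Injective (Theta I a ha) := by
  rw [injective_iff_map_eq_zero]
  intro z hz
  obtain ⟨n, x, hx, rfl⟩ := frac_surjective I a ha z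
  have h1 := Theta_frac_mul I a ha n x hx
  rw [hz, zero_mul] at h1
  obtain ⟨⟨_, m, rfl⟩, hm⟩ := (IsLocalization.map_eq_zero_iff (Submonoid.powers a) _ x).mp h1.symm
  exact frac_eq_zero_of_pow_mul_eq_zero I a ha n x hx m hm

lemma Theta_frac (n : ℕ) (x : A) (hx : x ∈ I ^ n) :
    Theta I a ha (frac I a ha n x hx) =
      algebraMap A (Localization.Away a) x * IsLocalization.Away.invSelf a ^ n := by
  have h1 := Theta_frac_mul I a ha n x hx
  have h2 : algebraMap A (Localization.Away a) (a ^ n) * IsLocalization.Away.invSelf a ^ n = 1 := by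
    rw [map_pow, ← mul_pow, IsLocalization.Away.mul_invSelf, one_pow]
  rw [← h1, mul_assoc, h2, mul_one]

lemma gen_mem (i : A) (hi : i ∈ I) :
    algebraMap A (Localization.Away a) i * IsLocalization.Away.invSelf a ∈ BlowUp.affineAlgebra A I a := by
  refine Algebra.subset_adjoin ⟨i, hi, ?_⟩
  rw [IsLocalization.mk'_eq_mul_mk'_one]
  rfl

lemma mem_affineAlgebra (n : ℕ) : ∀ x ∈ I ^ n,
    algebraMap A (Localization.Away a) x * IsLocalization.Away.invSelf a ^ n ∈
      BlowUp.affineAlgebra A I a := by
  induction n with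
  | zero =>
    intro x _
    rw [pow_zero, mul_one]
    exact Subalgebra.algebraMap_mem _ x
  | succ n ih =>
    intro x hx
    rw [pow_succ'] at hx
    refine Submodule.mul_induction_on hx ?_ ?_
    · intro i hi y hy
      have : algebraMap A (Localization.Away a) (i * y) * IsLocalization.Away.invSelf a ^ (n + 1) =
          (algebraMap A (Localization.Away a) i * IsLocalization.Away.invSelf a) *
            (algebraMap A (Localization.Away a) y * IsLocalization.Away.invSelf a ^ n) := by
        rw [map_mul, pow_succ]; ring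
      rw [this]
      exact mul_mem (gen_mem I a i hi) (ih y hy)
    · intro x y hx hy
      rw [map_add, add_mul]
      exact add_mem hx hy

lemma Theta_mem (z : Away (Rees.deg (reesAlgebra I)) (F I a ha)) :
    Theta I a ha z ∈ BlowUp.affineAlgebra A I a := by
  obtain ⟨n, x, hx, rfl⟩ := frac_surjective I a ha z
  rw [Theta_frac]
  exact mem_affineAlgebra I a n x hx

/-- `R(I)_(aX) → A[I/a]`. -/
noncomputable def Theta' : Away (Rees.deg (reesAlgebra I)) (F I a ha) →+* BlowUp.affineAlgebra A I a :=
  (Theta I a ha).codRestrict (BlowUp.affineAlgebra A I a) (Theta_mem I a ha)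

lemma Theta'_bijective : Function.Bijective (Theta' I a ha) := by
  refine ⟨fun z w h => Theta_injective I a ha (congrArg Subtype.val h), ?_⟩
  rintro ⟨q, hq⟩
  suffices h : ∃ z, Theta I a ha z = q by
    obtain ⟨z, hz⟩ := h
    exact ⟨z, Subtype.ext hz⟩
  refine Algebra.adjoin_induction (p := fun q _ => ∃ z, Theta I a ha z = q) ?_ ?_ ?_ ?_ hq
  · rintro _ ⟨x, hx, rfl⟩
    refine ⟨frac I a ha 1 x (by simpa using hx), ?_⟩
    rw [Theta_frac, pow_one, IsLocalization.mk'_eq_mul_mk'_one]
    rfl
  · intro c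
    exact ⟨toAway I a ha c, Theta_toAway I a ha c⟩
  · rintro _ _ _ _ ⟨z, rfl⟩ ⟨w, rfl⟩
    exact ⟨z + w, map_add _ _ _⟩
  · rintro _ _ _ _ ⟨z, rfl⟩ ⟨w, rfl⟩
    exact ⟨z * w, map_mul _ _ _⟩

/-- **the chart ring of the blow-up is the affine blow-up algebra.** -/
noncomputable def chartEquiv :
    Away (Rees.deg (reesAlgebra I)) (F I a ha) ≃+* BlowUp.affineAlgebra A I a :=
  RingEquiv.ofBijective (Theta' I a ha) (Theta'_bijective I a ha)

lemma chartEquiv_toAway (c : A) :
    chartEquiv I a ha (toAway I a ha c) = algebraMap A (BlowUp.affineAlgebra A I a) c :=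
  Subtype.ext (Theta_toAway I a ha c)

lemma chartEquiv_symm_algebraMap (c : A) :
    (chartEquiv I a ha).symm (algebraMap A (BlowUp.affineAlgebra A I a) c) = toAway I a ha c := by
  rw [← chartEquiv_toAway, RingEquiv.symm_apply_apply]

end Groth.Agent.Lib.helper16.ReesBlowup
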