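import Groth.Agent.Lib.Helper16.DivSum5
import Groth.Agent.Lib.Helper24.RegUnram1
import Groth.Agent.Lib.Helper15.Regular

/-!
# `-dim O_{S,s}` is a dimension function on a scheme with catenary local domains (helper16)

* `krullDimLE_locQuot_of_immediate'`: for an immediate specialization `ξ ⤳ y` the ring `O_{X,y}/𝔭_ξ`
  has dimension `≤ 1`;
* `ringKrullDim_stalk_of_immediate`: `dim O_y = dim O_ξ + 1` for an immediate specialization if `O_y` is a
  catenary domain;
* `isDimFun_neg_dim`: `s ↦ -dim O_{S,s}` is a dimension function.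
-/

set_option autoImplicit false
universe u
open CategoryTheory CategoryTheory.Limits AlgebraicGeometry TopologicalSpace Opposite IsLocalRing

namespace Groth.Agent.Lib.helper16.RegDim

open Groth.Agent.Lib.helper16.OrdGen Groth.Agent.Lib.helper16.GenFib
  Groth.Agent.Lib.helper16.FinDeg Groth.Agent.Lib.helper16.DivSum

variable {X : Scheme.{u}}

theorem krullDimLE_locQuot_of_immediate' {y ξ : X}
    (h : ξ ⤳ y) (hi : ∀ z : X, ξ ⤳ z → z ⤳ y → z = ξ ∨ z = y) :
    Ring.KrullDimLE 1 (Cyc.LocQuot y ξ h) := by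
  haveI : IsDomain (Cyc.LocQuot y ξ h) := Ideal.Quotient.isDomain (pOf h)
  refine Ring.KrullDimLE.mk₁ fun Q hQ => ?_
  haveI := hQ
  set q : Ideal (X.presheaf.stalk y) := Q.comap (Ideal.Quotient.mk (pOf h)) with hq
  haveI : q.IsPrime := Ideal.comap_isPrime _ _
  have hPq : pOf h ≤ q := by
    intro a ha
    rw [hq, Ideal.mem_comap, Ideal.Quotient.eq_zero_iff_mem.mpr ha]
    exact zero_mem _
  have hQq : q.map (Ideal.Quotient.mk (pOf h)) = Q :=
    Ideal.map_comap_of_surjective _ Ideal.Quotient.mk_surjective Q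
  set z : X := X.fromSpecStalk y ⟨q, inferInstance⟩ with hz
  have hzy : z ⤳ y := specializes_fromSpecStalk y _
  have hpz : pOf hzy = q := pOf_fromSpecStalk y ⟨q, inferInstance⟩ hzy
  have hξz : ξ ⤳ z := (specializes_iff_pOf_le h hzy).mpr (by rw [hpz]; exact hPq)
  rcases hi z hξz hzy with hzξ | hzy'
  · left
    have : q = pOf h := by
      rw [← hpz]
      exact pOf_congr hzξ hzy h
    have hQbot : Q = ⊥ := by
      rw [← hQq, this, Ideal.map_quotient_self]
    rw [hQbot, IsDomain.minimalPrimes_eq_singleton_bot]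
    exact Set.mem_singleton _
  · right
    have hqm : q = maximalIdeal (X.presheaf.stalk y) := by
      rw [← hpz]
      exact (pOf_eq_maximalIdeal_iff hzy).mpr hzy'
    rw [← hQq, hqm]
    refine Ideal.IsMaximal.map_of_surjective_of_ker_le Ideal.Quotient.mk_surjective ?_
    rw [Ideal.mk_ker]
    exact IsLocalRing.le_maximalIdeal (Ideal.IsPrime.ne_top inferInstance)

theorem ringKrullDim_stalk_eq_height_pOf {y ξ : X} (h : ξ ⤳ y) :
    ringKrullDim (X.presheaf.stalk ξ) = (pOf h).height := by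
  letI := (X.presheaf.stalkSpecializes h).hom.toAlgebra
  haveI := isLocalization_stalkSpecializes h
  exact IsLocalization.AtPrime.ringKrullDim_eq_height (pOf h) (X.presheaf.stalk ξ)

theorem ringKrullDim_stalk_of_immediate [IsLocallyNoetherian X] {y ξ : X} (h : ξ ⤳ y)
    (hne : ξ ≠ y) (hi : ∀ z : X, ξ ⤳ z → z ⤳ y → z = ξ ∨ z = y)
    [IsDomain (X.presheaf.stalk y)] (hcat : CAlg.IsCatenary (X.presheaf.stalk y)) :
    ringKrullDim (X.presheaf.stalk y) = ringKrullDim (X.presheaf.stalk ξ) + 1 := by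
  have h1 := Groth.Agent.Lib.Helper24.RegUnram.height_add_dim_of_domain (X.presheaf.stalk y) hcat
    (pOf h)
  rw [← h1, ringKrullDim_stalk_eq_height_pOf h]
  congr 1
  haveI := krullDimLE_locQuot_of_immediate' h hi
  haveI : IsDomain (X.presheaf.stalk y ⧸ pOf h) := Ideal.Quotient.isDomain (pOf h)
  have hle : ringKrullDim (X.presheaf.stalk y ⧸ pOf h) ≤ 1 :=
    Ring.krullDimLE_iff.mp (inferInstanceAs (Ring.KrullDimLE 1 (Cyc.LocQuot y ξ h)))
  refine le_antisymm hle ?_
  by_contra hlt
  have h0 : ringKrullDim (X.presheaf.stalk y ⧸ pOf h) ≤ 0 := by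
    rw [not_le] at hlt
    cases hd : ringKrullDim (X.presheaf.stalk y ⧸ pOf h) with
    | bot => exact bot_le
    | coe n =>
      rw [hd] at hlt
      have h1 : n < 1 := by exact_mod_cast hlt
      have h2 : n = 0 := Order.lt_one_iff.mp h1
      rw [h2]
      rfl
  haveI : Ring.KrullDimLE 0 (X.presheaf.stalk y ⧸ pOf h) := Ring.krullDimLE_iff.mpr h0
  have hf : IsField (X.presheaf.stalk y ⧸ pOf h) := Ring.KrullDimLE.isField_of_isDomain
  have hmax : (pOf h).IsMaximal := Ideal.Quotient.maximal_of_isField _ hf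
  exact hne ((pOf_eq_maximalIdeal_iff h).mp (IsLocalRing.eq_maximalIdeal hmax))

/-- `s ↦ -dim O_{S,s}` is a dimension function if all local rings are catenary domains. -/
theorem isDimFun_neg_dim [IsLocallyNoetherian X]
    (hdom : ∀ x : X, IsDomain (X.presheaf.stalk x))
    (hcat : ∀ x : X, CAlg.IsCatenary (X.presheaf.stalk x))
    (δ : X → ℤ)
    (hδ : ∀ s : X, ringKrullDim (X.presheaf.stalk s) = ((-δ s).toNat : WithBot ℕ∞) ∧ δ s ≤ 0) :
    Cyc.IsDimFun X δ := by
  intro x y hxy hne
  have hlt : y < x := ⟨hxy, fun h' => hne (hxy.antisymm h').eq⟩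
  have hco : ∀ s : X, Order.coheight s = ((-δ s).toNat : ℕ∞) := by
    intro s
    have := (hδ s).1
    rw [ringKrullDim_stalk_eq_coheight] at this
    exact_mod_cast this
  refine ⟨?_, fun hi => ?_⟩
  · have h1 := Order.coheight_add_one_le hlt
    rw [hco x, hco y] at h1
    have h2 : (-δ x).toNat + 1 ≤ (-δ y).toNat := by exact_mod_cast h1
    have := (hδ x).2
    have := (hδ y).2
    omega
  · haveI := hdom y
    have h1 := ringKrullDim_stalk_of_immediate hxy hne hi (hcat y)
    rw [(hδ x).1, (hδ y).1] at h1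
    have h2 : (-δ y).toNat = (-δ x).toNat + 1 := by exact_mod_cast h1
    have := (hδ x).2
    have := (hδ y).2
    omega

end Groth.Agent.Lib.helper16.RegDim
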