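import Groth.Agent.Lib.Helper16.CycMV
import Groth.Agent.Lib.Helper16.RegDim

/-!
# Dimension functions and coheight (helper16)

* `delta_generic_eq_add_coheight`: on an integral scheme with dimension function `δ`,
  `δ(η) = δ(z) + coheight z` whenever `coheight z` is finite.
-/

set_option autoImplicit false
universe u
open CategoryTheory CategoryTheory.Limits AlgebraicGeometry TopologicalSpace Opposite IsLocalRing

namespace Groth.Agent.Lib.helper16.RegImmDim

theorem delta_generic_eq_add_coheight {X : Scheme.{u}} [IsIntegral X] (δ : X → ℤ)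
    (hδ : Cyc.IsDimFun X δ) :
    ∀ (n : ℕ) (z : X), Order.coheight z = n → δ (genericPoint X) = δ z + n := by
  intro n
  induction n with
  | zero =>
    intro z hz
    rw [Nat.cast_zero, Order.coheight_eq_zero] at hz
    have h1 : (⊤ : X) ≤ z := hz le_top
    have h2 : z ⤳ genericPoint X := Scheme.le_iff_specializes.mp h1
    have h3 : z = genericPoint X := (h2.antisymm (genericPoint_specializes z)).eq
    rw [h3]; simp
  | succ n ih =>
    intro z hz
    rw [Nat.cast_succ, Order.coheight_eq_coe_add_one_iff] at hz
    obtain ⟨-, ⟨y, hzy, hy⟩, hall⟩ := hz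
    have hyz : y ⤳ z := Scheme.le_iff_specializes.mp hzy.le
    have hne : y ≠ z := fun h => (lt_irrefl z) (h ▸ hzy)
    have himm : ∀ w : X, y ⤳ w → w ⤳ z → w = y ∨ w = z := by
      intro w hyw hwz
      by_contra hcon
      push Not at hcon
      have hzw : z < w := lt_of_le_not_ge (Scheme.le_iff_specializes.mpr hwz)
        (fun hge => hcon.2 ((hwz.antisymm (Scheme.le_iff_specializes.mp hge)).eq))
      have hwy : w < y := lt_of_le_not_ge (Scheme.le_iff_specializes.mpr hyw)
        (fun hge => hcon.1 (((Scheme.le_iff_specializes.mp hge).antisymm hyw).eq))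
      have h1 := Order.coheight_add_one_le hwy
      have h2 := hall w hzw
      rw [hy] at h1
      have : ((n : ℕ∞) + 1) ≤ n := h1.trans h2
      have : (n + 1 : ℕ) ≤ n := by exact_mod_cast this
      omega
    have h1 := (hδ y z hyz hne).2 himm
    have h2 := ih y hy
    rw [h2, h1]
    push_cast
    ring

end Groth.Agent.Lib.helper16.RegImmDim
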