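import Groth.Agent.Lib.Helper16.RegImmDim1

/-!
# Points where the generators of the ideal of an immersion vanish (helper16)

* `mem_range_of_vanishing`: a point `y ∈ U` at which every section of `ker (f.app U)` vanishes lies in the
  range of `f`, if `f ∣_ U` is a closed immersion.
-/

set_option autoImplicit false
universe u
open CategoryTheory CategoryTheory.Limits AlgebraicGeometry TopologicalSpace Opposite IsLocalRing

namespace Groth.Agent.Lib.helper16.RegImmDim

variable {X Y Z : Scheme.{u}} (f : X ⟶ Y)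

theorem mem_range_of_vanishing [QuasiCompact f] (U : Y.affineOpens)
    [IsClosedImmersion (f ∣_ U.1)] (y : Y) (hy : y ∈ U.1)
    (h : ∀ r ∈ RingHom.ker (f.app U.1).hom,
      (Y.presheaf.germ U.1 y hy).hom r ∈ maximalIdeal (Y.presheaf.stalk y)) :
    y ∈ Set.range f := by
  have h1 : y ∈ f.ker.support := by
    rw [Scheme.IdealSheafData.mem_support_iff_of_mem hy, Scheme.Hom.ker_apply,
      Scheme.mem_zeroLocus_iff]
    intro r hr hmem
    rw [Scheme.mem_basicOpen _ _ _ hy] at hmem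
    exact (mem_maximalIdeal _).1 (h r hr) hmem
  replace h1 : y ∈ (f.ker.support : Set Y) := h1
  rw [Scheme.Hom.support_ker] at h1
  -- closure argument
  have h2 : y ∈ closure ((U.1 : Set Y) ∩ Set.range f) :=
    U.1.isOpen.inter_closure ⟨hy, h1⟩
  have hcl : IsClosed (Set.range (f ∣_ U.1)) := (f ∣_ U.1).isClosedEmbedding.isClosed_range
  have himg : (U.1.ι '' Set.range (f ∣_ U.1) : Set Y) = (U.1 : Set Y) ∩ Set.range f := by
    ext v
    constructor
    · rintro ⟨w, ⟨x, rfl⟩, rfl⟩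
      refine ⟨((f ∣_ U.1) x).2, ⟨x.1, ?_⟩⟩
      have := congrArg (fun φ => φ x) (morphismRestrict_ι f U.1)
      simpa using this.symm
    · rintro ⟨hvU, ⟨x, rfl⟩⟩
      refine ⟨(f ∣_ U.1) (⟨x, hvU⟩ : ↥(f ⁻¹ᵁ U.1)), ⟨_, rfl⟩, ?_⟩
      have := congrArg (fun φ => φ (⟨x, hvU⟩ : ↥(f ⁻¹ᵁ U.1))) (morphismRestrict_ι f U.1)
      simpa using this
  have h3 : (⟨y, hy⟩ : ↥(U.1 : Scheme.{u})) ∈ closure (Set.range (f ∣_ U.1)) := by
    rw [U.1.ι.isOpenEmbedding.isInducing.closure_eq_preimage_closure_image, himg]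
    exact h2
  rw [hcl.closure_eq] at h3
  obtain ⟨x, hx⟩ := h3
  refine ⟨x.1, ?_⟩
  have := congrArg (fun φ => φ x) (morphismRestrict_ι f U.1)
  have h4 : ((f ∣_ U.1) x).1 = f x.1 := by simpa using this
  rw [← h4, hx]

open Groth.Agent.Lib.helper16.OrdGen Groth.Agent.Lib.helper16.DivSum

/-- sections in the kernel of `f.app U` vanish at the points of the range of `f` -/
theorem germ_mem_maximalIdeal_of_mem_ker (U : Y.Opens) (x : X) (y : Y) (hxy : f x = y)
    (hy : y ∈ U) (r : Γ(Y, U)) (hr : r ∈ RingHom.ker (f.app U).hom) :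
    (Y.presheaf.germ U y hy).hom r ∈ maximalIdeal (Y.presheaf.stalk y) := by
  subst hxy
  rw [mem_maximalIdeal, mem_nonunits_iff]
  intro hu
  have h1 : IsUnit ((f.stalkMap x).hom ((Y.presheaf.germ U (f x) hy).hom r)) := hu.map _
  have h2 : (f.stalkMap x).hom ((Y.presheaf.germ U (f x) hy).hom r) =
      (X.presheaf.germ (f ⁻¹ᵁ U) x hy).hom ((f.app U).hom r) :=
    Scheme.Hom.germ_stalkMap_apply f U x hy r
  rw [h2, (RingHom.mem_ker).1 hr, map_zero] at h1
  exact not_isUnit_zero h1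

theorem maximalIdeal_mem_minimalPrimes [QuasiCompact f] [IsImmersion f] (ι : Z ⟶ Y)
    (t : ↥(pullback f ι)) (ht : ∀ t' : ↥(pullback f ι), t' ⤳ t → t' = t)
    (U : Y.affineOpens) (hyU : ι (pullback.snd f ι t) ∈ U.1) [IsClosedImmersion (f ∣_ U.1)]
    (s : Set Γ(Y, U.1)) (hs : RingHom.ker (f.app U.1).hom = Ideal.span s) :
    maximalIdeal (Z.presheaf.stalk (pullback.snd f ι t)) ∈
      (Ideal.span ((fun r => (Z.presheaf.germ (ι ⁻¹ᵁ U.1) (pullback.snd f ι t) hyU).hom
        ((ι.app U.1).hom r)) '' s)).minimalPrimes := by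
  set z := pullback.snd f ι t with hz
  set x := pullback.fst f ι t with hx
  have hxz : f x = ι z := by
    have := congrArg (fun φ : pullback f ι ⟶ Y => φ t) (pullback.condition (f := f) (g := ι))
    simpa using this
  have hgerm : ∀ (z' : Z) (hz' : ι z' ∈ U.1) (r : Γ(Y, U.1)),
      (Z.presheaf.germ (ι ⁻¹ᵁ U.1) z' hz').hom ((ι.app U.1).hom r) =
        (ι.stalkMap z').hom ((Y.presheaf.germ U.1 (ι z') hz').hom r) := fun z' hz' r =>
    (Scheme.Hom.germ_stalkMap_apply ι U.1 z' hz' r).symm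
  refine ⟨⟨inferInstance, ?_⟩, ?_⟩
  · rw [Ideal.span_le]
    rintro _ ⟨r, hr, rfl⟩
    have hrk : r ∈ RingHom.ker (f.app U.1).hom := by rw [hs]; exact Ideal.subset_span hr
    have h1 := germ_mem_maximalIdeal_of_mem_ker f U.1 x (ι z) hxz hyU r hrk
    show _ ∈ maximalIdeal _
    simp only
    rw [hgerm z hyU r]
    exact map_nonunit (ι.stalkMap z).hom _ h1
  · rintro q ⟨hqp, hJq⟩ hqm
    haveI := hqp
    set z' : Z := Z.fromSpecStalk z ⟨q, hqp⟩ with hz'
    have hz'z : z' ⤳ z := specializes_fromSpecStalk z _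
    have hpz : pOf hz'z = q := pOf_fromSpecStalk z ⟨q, hqp⟩ hz'z
    have hz'U : ι z' ∈ U.1 := (hz'z.map ι.continuous).mem_open U.1.isOpen hyU
    have hvan : ∀ r ∈ RingHom.ker (f.app U.1).hom,
        (Y.presheaf.germ U.1 (ι z') hz'U).hom r ∈ maximalIdeal (Y.presheaf.stalk (ι z')) := by
      rw [hs]
      intro r hr
      have hle : Ideal.span s ≤ (maximalIdeal (Y.presheaf.stalk (ι z'))).comap
          (Y.presheaf.germ U.1 (ι z') hz'U).hom := by
        rw [Ideal.span_le]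
        intro r hr
        show (Y.presheaf.germ U.1 (ι z') hz'U).hom r ∈ maximalIdeal _
        have h1 : (Z.presheaf.germ (ι ⁻¹ᵁ U.1) z hyU).hom ((ι.app U.1).hom r) ∈ q :=
          hJq (Ideal.subset_span ⟨r, hr, rfl⟩)
        rw [← hpz, mem_pOf_iff] at h1
        have h2 : (Z.presheaf.stalkSpecializes hz'z).hom
            ((Z.presheaf.germ (ι ⁻¹ᵁ U.1) z hyU).hom ((ι.app U.1).hom r)) =
            (Z.presheaf.germ (ι ⁻¹ᵁ U.1) z' hz'U).hom ((ι.app U.1).hom r) :=
          ConcreteCategory.congr_hom (TopCat.Presheaf.germ_stalkSpecializes Z.presheaf hyU hz'z) _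
        rw [h2, hgerm z' hz'U r] at h1
        rw [mem_maximalIdeal, mem_nonunits_iff] at h1 ⊢
        exact fun hu => h1 (hu.map _)
      exact hle hr
    obtain ⟨x', hx'⟩ := mem_range_of_vanishing f U (ι z') hz'U hvan
    obtain ⟨t', -, ht'2⟩ := Scheme.Pullback.exists_preimage_pullback (f := f) (g := ι) x' z' hx'
    have hsp : t' ⤳ t := by
      rw [← (pullback.snd f ι).isEmbedding.isInducing.specializes_iff, ht'2]
      exact hz'z
    have htt : t' = t := ht t' hsp
    have hzz : z' = z := by rw [← ht'2, htt]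
    rw [← hpz, (pOf_eq_maximalIdeal_iff hz'z).2 hzz]

end Groth.Agent.Lib.helper16.RegImmDim
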