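import Groth.Agent.Lib.Helper16.RegImmDim2
import Groth.Agent.Lib.Helper3.DomDimEq
import Groth.Agent.Lib.Helper3.EquidimIrr
import Groth.Prelude.Def_RegImm

/-!
# Dimension of the components of the preimage of a subvariety under a regular immersion (helper16)
-/

set_option autoImplicit false
universe u
open CategoryTheory CategoryTheory.Limits AlgebraicGeometry TopologicalSpace Opposite IsLocalRing

namespace Groth.Agent.Lib.helper16.RegImmDim

open Groth.Agent.Lib.helper3.DimIneq Groth.Agent.Lib.helper3.FTField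
  Groth.Agent.Lib.helper3.FibreField Groth.Agent.Lib.helper3.DomDimEq

theorem ringKrullDim_le_of_maximalIdeal_mem_minimalPrimes {R : Type*} [CommRing R]
    [IsNoetherianRing R] [IsLocalRing R] (s : Set R) (hs : s.Finite)
    (h : maximalIdeal R ∈ (Ideal.span s).minimalPrimes) : ringKrullDim R ≤ (s.ncard : ℕ∞) := by
  rw [← IsLocalRing.maximalIdeal_height_eq_ringKrullDim]
  exact_mod_cast Ideal.height_le_card_of_mem_minimalPrimes_span hs h

section

variable (k : Type u) [Field k] {Z : Scheme.{u}} (q : Z ⟶ Spec (CommRingCat.of k))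

/-- `td` of the residue field map of the structure morphism is the transcendence degree over `k` -/
theorem td_residueFieldMap_eq_td_resMap (z : Z) :
    td (q.residueFieldMap z).hom = td (@Curv2.resMap k _ Z ⟨q⟩ z) := by
  have h1 := resMap_comp k (𝟙 (Spec (CommRingCat.of k))) q q (Category.comp_id _) z
  rw [show @Curv2.resMap k _ Z ⟨q⟩ z = _ from h1]
  exact (td_comp_left _ _ (resMap_Spec_surjective _ _)).symm

end

theorem dim_le_dim_component_add (K : Type u) [Field K] {X Y Z : Scheme.{u}}
    (gY : Y ⟶ Spec (CommRingCat.of K)) [LocallyOfFiniteType gY]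
    (f : X ⟶ Y) [QuasiCompact f] (c : ℕ)
    (hreg : RegImm.IsRegularImmersionOfCodim RegImm.Kind.regular c f)
    (ι : Z ⟶ Y) [IsClosedImmersion ι] [IsIntegral Z] (d : ℕ) (hd : topologicalKrullDim Z = d)
    (T : Set ↥(pullback f ι)) (hT : T ∈ irreducibleComponents ↥(pullback f ι)) :
    ((d : ℕ) : WithBot ℕ∞) ≤ topologicalKrullDim ↥T + c := by
  haveI : IsImmersion f := hreg.1
  -- structure morphisms
  letI iZ : Z.Over (Spec (CommRingCat.of K)) := ⟨ι ≫ gY⟩
  haveI : LocallyOfFiniteType (Z ↘ Spec (CommRingCat.of K)) :=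
    inferInstanceAs (LocallyOfFiniteType (ι ≫ gY))
  letI iW : (pullback f ι).Over (Spec (CommRingCat.of K)) := ⟨pullback.snd f ι ≫ ι ≫ gY⟩
  haveI : LocallyOfFiniteType ((pullback f ι) ↘ Spec (CommRingCat.of K)) :=
    inferInstanceAs (LocallyOfFiniteType (pullback.snd f ι ≫ ι ≫ gY))
  -- generic point of `T`
  have hTcl : IsClosed T := isClosed_of_mem_irreducibleComponents T hT
  obtain ⟨t, ht⟩ := QuasiSober.sober hT.1 hTcl
  have hTt : closure {t} = T := ht.def
  have hmax : ∀ t' : ↥(pullback f ι), t' ⤳ t → t' = t := by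
    intro t' h
    have h1 : T ≤ closure {t'} := by
      rw [← hTt]
      exact closure_minimal (Set.singleton_subset_iff.2 (specializes_iff_mem_closure.1 h))
        isClosed_closure
    have h2 : closure {t'} ≤ T := hT.2 isIrreducible_singleton.closure h1
    have h3 : t ⤳ t' := specializes_iff_mem_closure.2 (hTt ▸ h2 (subset_closure rfl))
    exact (h.antisymm h3).eq
  set z := pullback.snd f ι t with hz
  -- the regular immersion datum
  obtain ⟨U, hxU, hcl, rs, hlen, -, hker⟩ := hreg.2 (pullback.fst f ι t)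
  haveI := hcl
  have hxz : f (pullback.fst f ι t) = ι z := by
    have := congrArg (fun φ : pullback f ι ⟶ Y => φ t) (pullback.condition (f := f) (g := ι))
    simpa using this
  have hyU : ι z ∈ U.1 := hxz ▸ hxU
  have hmin := maximalIdeal_mem_minimalPrimes f ι t hmax U hyU {r | r ∈ rs} hker
  haveI : IsLocallyNoetherian Z :=
    LocallyOfFiniteType.isLocallyNoetherian (Z ↘ Spec (CommRingCat.of K))
  have hfin : ({r | r ∈ rs} : Set Γ(Y, U.1)).Finite := List.finite_toSet rs
  have hdimz := ringKrullDim_le_of_maximalIdeal_mem_minimalPrimes _ (hfin.image _) hmin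
  have hcard : ((fun r => (Z.presheaf.germ (ι ⁻¹ᵁ U.1) z hyU).hom ((ι.app U.1).hom r)) ''
      {r | r ∈ rs}).ncard ≤ c := by
    classical
    refine (Set.ncard_image_le hfin).trans ?_
    have : ({r | r ∈ rs} : Set Γ(Y, U.1)) = (rs.toFinset : Set Γ(Y, U.1)) := by
      ext r; simp
    rw [this, Set.ncard_coe_finset, ← hlen]
    exact List.toFinset_card_le rs
  -- coheight of `z`
  have hco : Order.coheight z ≤ (c : ℕ∞) := by
    have h1 : ringKrullDim (Z.presheaf.stalk z) ≤ ((c : ℕ∞) : WithBot ℕ∞) :=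
      hdimz.trans (by exact_mod_cast hcard)
    rw [ringKrullDim_stalk_eq_coheight] at h1
    exact_mod_cast h1
  obtain ⟨n, hn⟩ := ENat.ne_top_iff_exists.mp (ne_top_of_le_ne_top (ENat.coe_ne_top c) hco)
  have hnc : n ≤ c := by rw [← hn] at hco; exact_mod_cast hco
  -- the dimension function on `Z`
  have hex : ∀ v : Z, ∃ m : ℕ, td ((ι ≫ gY).residueFieldMap v).hom = m := fun v =>
    Groth.Agent.Lib.helper3.DimIneq.exists_nat_td_residueFieldMap (ι ≫ gY) v
  choose δ hδ using hex
  have hcompat : Cyc.DeltaCompat (ι ≫ gY) (fun v => (δ v : ℤ)) (fun _ => 0) := by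
    intro v
    exact ⟨δ v, hδ v, by simp⟩
  have hdimfun := Groth.Agent.Lib.helper16.CycMV.isDimFun_of_field K (ι ≫ gY) _ hcompat
  have hkey := delta_generic_eq_add_coheight _ hdimfun n z hn.symm
  -- dimensions
  have hdZ : (δ (genericPoint Z) : Cardinal.{u}) = d := by
    have h1 : td (@Curv2.resMap K _ Z iZ (genericPoint Z)) = δ (genericPoint Z) := by
      rw [← td_residueFieldMap_eq_td_resMap K (ι ≫ gY) (genericPoint Z)]
      exact hδ _
    have h2 := dim_eq_trdeg_genericPoint K Z (δ (genericPoint Z)) h1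
    rw [hd] at h2
    have : d = δ (genericPoint Z) := by exact_mod_cast h2
    rw [this]
  have hdT : topologicalKrullDim ↥T = (δ z : WithBot ℕ∞) := by
    have h1 : td (@Curv2.resMap K _ (pullback f ι) iW t) = δ z := by
      have h2 := resMap_comp K (ι ≫ gY) (pullback.snd f ι ≫ ι ≫ gY) (pullback.snd f ι) rfl t
      rw [show @Curv2.resMap K _ (pullback f ι) iW t = _ from h2,
        td_comp_right _ _ (residueFieldMap_surjective (pullback.snd f ι) t),
        ← td_residueFieldMap_eq_td_resMap K (ι ≫ gY)]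
      exact hδ _
    rw [← hTt]
    exact dim_closure_eq_trdeg K (pullback f ι) t (δ z) h1
  have hdd : d = δ (genericPoint Z) := by exact_mod_cast hdZ.symm
  have hfinal : d ≤ δ z + c := by
    have : (δ (genericPoint Z) : ℤ) = δ z + n := hkey
    omega
  rw [hdT]
  exact_mod_cast hfinal

end Groth.Agent.Lib.helper16.RegImmDim
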