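import Mathlib
import Groth.Prelude.Def_CInt
import Groth.Prelude.Def_CAlg
import Groth.Agent.Lib.Helper24.AssDepth
import Groth.Agent.Lib.Helper16.QCohAss

set_option autoImplicit false

namespace Groth.Agent.Lib.helper16.S1Dense

open AlgebraicGeometry CategoryTheory TopologicalSpace Opposite

universe u

/-- On a locally Noetherian scheme, a dense open subset contains every maximal point. -/
theorem mem_of_dense_of_isMax (X : Scheme.{u}) [IsLocallyNoetherian X] (U : X.Opens)
    (hU : Dense (U : Set X)) (ξ : X) (hξ : ∀ η : X, η ⤳ ξ → η = ξ) : ξ ∈ U := by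
  obtain ⟨W, hW, hξW, -⟩ := exists_isAffineOpen_mem_and_subset (X := X) (x := ξ) (U := ⊤) trivial
  haveI : IsNoetherianRing Γ(X, W) := IsLocallyNoetherian.component_noetherian ⟨W, hW⟩
  haveI : NoetherianSpace {x : X // x ∈ W} := noetherianSpace_of_isAffineOpen W hW
  haveI : QuasiSober {x : X // x ∈ W} := W.isOpen.isOpenEmbedding_subtypeVal.quasiSober
  let ξ' : {x : X // x ∈ W} := ⟨ξ, hξW⟩
  have hZ : closure {ξ'} ∈ irreducibleComponents {x : X // x ∈ W} := by
    refine ⟨isIrreducible_singleton.closure, fun Z' hZ' hle => ?_⟩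
    have hcl : IsIrreducible (closure Z') := hZ'.closure
    obtain ⟨η', hη'⟩ := QuasiSober.sober hcl isClosed_closure
    have h1 : η' ⤳ ξ' := by
      rw [specializes_iff_mem_closure, hη'.def]
      exact subset_closure (hle (subset_closure rfl))
    have h2 : η'.1 ⤳ ξ := h1.map continuous_subtype_val
    have h3 : η'.1 = ξ := hξ _ h2
    have h4 : η' = ξ' := Subtype.ext h3
    intro z hz
    rw [← h4, hη'.def]
    exact subset_closure hz
  obtain ⟨o, ho, hne, hsub⟩ :=
    NoetherianSpace.exists_isOpen_nonempty_subset_irreducibleComponent _ hZ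
  have ho' : IsOpen (Subtype.val '' o : Set X) := W.isOpen.isOpenMap_subtype_val _ ho
  obtain ⟨y, ⟨y', hy'o, rfl⟩, hyU⟩ := hU.inter_open_nonempty _ ho' (hne.image _)
  have h5 : ξ' ⤳ y' := specializes_iff_mem_closure.2 (hsub hy'o)
  have h6 : ξ ⤳ y'.1 := h5.map continuous_subtype_val
  exact h6.mem_open U.isOpen hyU


/-- a point with zero-dimensional local ring is a maximal point -/
theorem eq_of_specializes_of_dim_le_zero (X : Scheme.{u}) (ξ : X)
    (h : ringKrullDim (X.presheaf.stalk ξ) ≤ 0) (η : X) (hη : η ⤳ ξ) : η = ξ := by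
  rw [ringKrullDim_stalk_eq_coheight] at h
  have h0 : Order.coheight ξ = 0 := by
    have : (Order.coheight ξ : WithBot ℕ∞) ≤ ((0 : ℕ∞) : WithBot ℕ∞) := h
    exact le_antisymm (WithBot.coe_le_coe.1 this) zero_le
  rw [Order.coheight_eq_zero] at h0
  have h1 : ξ ≤ η := hη
  have h2 : η ≤ ξ := h0 h1
  exact (Specializes.antisymm hη h2).eq

theorem dense_of_isSchematicallyDense (X : Scheme.{u}) (U : X.Opens)
    (h : CInt.IsSchematicallyDense U) : Dense (U : Set X) := by
  rw [dense_iff_inter_open]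
  intro W hWo hWne
  by_contra hcon
  rw [Set.not_nonempty_iff_eq_empty] at hcon
  let W' : X.Opens := ⟨W, hWo⟩
  have hbot : W' ⊓ U = ⊥ := by
    ext x
    simp only [Opens.coe_inf, Opens.coe_bot, Set.mem_empty_iff_false, iff_false]
    intro hx
    have : x ∈ W ∩ (U : Set X) := hx
    rw [hcon] at this
    exact this
  have hinj := h W'
  haveI : Subsingleton Γ(X, W' ⊓ U) := by rw [hbot]; infer_instance
  haveI : Nonempty W' := hWne.to_subtype
  haveI : Nontrivial Γ(X, W') := Scheme.component_nontrivial X W'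
  exact (hinj.ne (zero_ne_one (α := Γ(X, W')))) (Subsingleton.elim _ _)


theorem isSchematicallyDense_of_dense (X : Scheme.{u}) [IsLocallyNoetherian X]
    (hS1 : ∀ x : X, min (1 : WithBot ℕ∞) (ringKrullDim (X.presheaf.stalk x)) ≤
      ((LocCoh.depth (X.presheaf.stalk x) (X.presheaf.stalk x) : ℕ∞) : WithBot ℕ∞))
    (U : X.Opens) (hd : Dense (U : Set X)) : CInt.IsSchematicallyDense U := by
  intro V
  rw [injective_iff_map_eq_zero]
  intro a ha
  by_contra hne
  obtain ⟨x, hxV, hgx⟩ : ∃ (x : X) (hx : x ∈ V), (X.presheaf.germ V x hx).hom a ≠ 0 := by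
    by_contra hall
    push Not at hall
    apply hne
    apply TopCat.Presheaf.section_ext X.sheaf V a 0
    intro x hx
    rw [map_zero]
    exact hall x hx
  obtain ⟨W, hW, hxW, hWV⟩ := exists_isAffineOpen_mem_and_subset (X := X) (x := x) (U := V) hxV
  haveI : IsNoetherianRing Γ(X, W) := IsLocallyNoetherian.component_noetherian ⟨W, hW⟩
  set a' : Γ(X, W) := (X.presheaf.map (homOfLE hWV).op).hom a with ha'
  have ha'0 : a' ≠ 0 := by
    intro h0
    apply hgx
    have := X.presheaf.germ_res_apply (homOfLE hWV) x hxW a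
    rw [← this]
    change (X.presheaf.germ W x hxW).hom a' = 0
    rw [h0, map_zero]
  obtain ⟨P, hP, hle⟩ :=
    exists_le_isAssociatedPrime_of_isNoetherianRing (R := Γ(X, W)) (M := Γ(X, W)) a' ha'0
  haveI := hP.isPrime
  set Q : PrimeSpectrum Γ(X, W) := ⟨P, hP.isPrime⟩ with hQ
  set ξ := hW.fromSpec Q with hξ
  have hξW : ξ ∈ W := Groth.Agent.Lib.helper16.QCohAss.fromSpec_mem hW Q
  letI := TopCat.Presheaf.algebra_section_stalk X.presheaf (⟨ξ, hξW⟩ : W)
  haveI : IsLocalization.AtPrime (X.presheaf.stalk ξ) P := hW.isLocalization_stalk' Q hξW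
  have hass : IsLocalRing.maximalIdeal (X.presheaf.stalk ξ) ∈
      associatedPrimes (X.presheaf.stalk ξ) (X.presheaf.stalk ξ) := by
    have h := Module.associatedPrimes.preimage_comap_associatedPrimes_eq_associatedPrimes_of_isLocalizedModule
      P.primeCompl (R' := X.presheaf.stalk ξ) (Algebra.linearMap Γ(X, W) (X.presheaf.stalk ξ))
    have h2 : (IsLocalRing.maximalIdeal (X.presheaf.stalk ξ)).comap
        (algebraMap Γ(X, W) (X.presheaf.stalk ξ)) = P :=
      IsLocalization.AtPrime.under_maximalIdeal (X.presheaf.stalk ξ) P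
    have h3 : IsLocalRing.maximalIdeal (X.presheaf.stalk ξ) ∈
        (Ideal.comap (algebraMap Γ(X, W) (X.presheaf.stalk ξ))) ⁻¹'
          associatedPrimes Γ(X, W) Γ(X, W) := by
      rw [Set.mem_preimage, h2]
      exact hP
    rw [h] at h3
    exact h3
  have hdep : LocCoh.depth (X.presheaf.stalk ξ) (X.presheaf.stalk ξ) = 0 :=
    (Groth.Agent.Lib.Helper24.AssDepth.maximalIdeal_mem_associatedPrimes_iff _).1 hass
  have hdim : ringKrullDim (X.presheaf.stalk ξ) ≤ 0 := by
    have h1 := hS1 ξ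
    rw [hdep] at h1
    rcases min_le_iff.1 h1 with h | h
    · exfalso
      have : ((1 : ℕ∞) : WithBot ℕ∞) ≤ ((0 : ℕ∞) : WithBot ℕ∞) := h
      rw [WithBot.coe_le_coe] at this
      exact absurd this (by simp)
    · exact h
  have hmax := eq_of_specializes_of_dim_le_zero X ξ hdim
  have hξU : ξ ∈ U := mem_of_dense_of_isMax X U hd ξ hmax
  have hξV : ξ ∈ V := hWV hξW
  have hz : (X.presheaf.germ V ξ hξV).hom a = 0 := by
    have := X.presheaf.germ_res_apply (homOfLE (inf_le_left : V ⊓ U ≤ V)) ξ ⟨hξV, hξU⟩ a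
    rw [← this]
    change (X.presheaf.germ (V ⊓ U) ξ ⟨hξV, hξU⟩).hom
      ((X.presheaf.map (homOfLE (inf_le_left : V ⊓ U ≤ V)).op).hom a) = 0
    rw [ha, map_zero]
  have hnz : algebraMap Γ(X, W) (X.presheaf.stalk ξ) a' ≠ 0 := by
    intro h0
    rw [IsLocalization.map_eq_zero_iff P.primeCompl] at h0
    obtain ⟨m, hm⟩ := h0
    apply m.2
    apply hle
    rw [Submodule.mem_colon_singleton, Submodule.mem_bot]
    exact hm
  apply hnz
  change (X.presheaf.germ W ξ hξW).hom a' = 0
  have := X.presheaf.germ_res_apply (homOfLE hWV) ξ hξW a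
  rw [ha']
  exact this.trans hz

theorem isSchematicallyDense_iff_dense (X : Scheme.{u}) [IsLocallyNoetherian X]
    (hS1 : ∀ x : X, min (1 : WithBot ℕ∞) (ringKrullDim (X.presheaf.stalk x)) ≤
      ((LocCoh.depth (X.presheaf.stalk x) (X.presheaf.stalk x) : ℕ∞) : WithBot ℕ∞))
    (U : X.Opens) : CInt.IsSchematicallyDense U ↔ Dense (U : Set X) :=
  ⟨dense_of_isSchematicallyDense X U, isSchematicallyDense_of_dense X hS1 U⟩

end Groth.Agent.Lib.helper16.S1Dense
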