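import Groth.Agent.Lib.Helper16.Satur2
import Groth.Agent.Lib.Helper7.KerSections
import Groth.Agent.S9498

/-!
# The affine step for extending finite type quasi-coherent submodules (helper16)

On `Spec R`: for a quasi-coherent module `M` whose sections over finitely many basic opens `D(f)` are
finitely generated, there is a finite type quasi-coherent submodule `N ⊆ M` with `N = M` on each `D(f)`.
-/

set_option autoImplicit false
universe u
open CategoryTheory CategoryTheory.Limits AlgebraicGeometry TopologicalSpace Opposite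
open Scheme.Modules

namespace Groth.Agent.Lib.helper16.Satur

open Groth.Agent.Lib.helper16.CohFinite Groth.Agent.Lib.helper7

/-- If `M₁ = S⁻¹ M₀` is finite over `R₁` (in which `S` becomes invertible), finitely many elements of
`M₀` generate `M₁` over `R₁`. -/
theorem exists_finset_span_eq_top_of_isLocalizedModule {R₀ R₁ M₀ M₁ : Type*} [CommRing R₀]
    [CommRing R₁] [Algebra R₀ R₁] [AddCommGroup M₀] [Module R₀ M₀] [AddCommGroup M₁] [Module R₀ M₁]
    [Module R₁ M₁] [IsScalarTower R₀ R₁ M₁] (S : Submonoid R₀) (ρ : M₀ →ₗ[R₀] M₁)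
    [IsLocalizedModule S ρ] (hS : ∀ s ∈ S, IsUnit (algebraMap R₀ R₁ s)) [Module.Finite R₁ M₁] :
    ∃ T : Finset M₀, Submodule.span R₁ (ρ '' (T : Set M₀)) = ⊤ := by
  classical
  obtain ⟨Y, hY⟩ := (Module.Finite.fg_top : (⊤ : Submodule R₁ M₁).FG)
  have hsurj := fun y : M₁ => IsLocalizedModule.surj S ρ y
  choose ms hms using hsurj
  refine ⟨Y.image (fun y => (ms y).1), ?_⟩
  rw [eq_top_iff, ← hY, Submodule.span_le]
  intro y hy
  obtain ⟨u, hu⟩ := hS (ms y).2.1 (ms y).2.2
  have h1 : (ms y).2 • y = ρ (ms y).1 := hms y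
  have h2 : (u : R₁) • y = ρ (ms y).1 := by
    rw [hu, algebraMap_smul]; exact h1
  have h3 : y = (↑u⁻¹ : R₁) • ρ (ms y).1 := by
    rw [← h2, smul_smul]; simp
  rw [h3]
  refine Submodule.smul_mem _ _ (Submodule.subset_span ?_)
  refine ⟨(ms y).1, ?_, rfl⟩
  simp only [Finset.coe_image, Set.mem_image, Finset.mem_coe]
  exact ⟨y, hy, rfl⟩

section General

variable {Y : Scheme.{u}}

theorem IsoOn.iSup {A B : Y.Modules} {φ : A ⟶ B} {ι : Sort*} {U : ι → Y.Opens}
    (h : ∀ i, IsoOn φ (U i)) : IsoOn φ (⨆ i, U i) := by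
  rw [isoOn_iff_isIso_restrict]
  exact Groth.Agent.Lib.helper11.IsoLocus.isIso_restrict_iSup φ U
    (fun i => (isoOn_iff_isIso_restrict φ (U i)).mp (h i))

/-- A morphism of quasi-coherent modules which is bijective on sections over an affine open `D` is an
isomorphism over `D`. -/
theorem isoOn_of_bijective_affine {A B : Y.Modules} [A.IsQuasicoherent] [B.IsQuasicoherent]
    (φ : A ⟶ B) (D : Y.Opens) (hD : IsAffineOpen D) (h : Function.Bijective (φ.app D)) :
    IsoOn φ D := by
  rw [isoOn_iff_isIso_restrict]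
  haveI : IsAffine (D : Scheme.{u}) := hD
  haveI : (A.restrict D.ι).IsQuasicoherent := inferInstance
  haveI : (B.restrict D.ι).IsQuasicoherent := inferInstance
  refine KerSections.isIso_of_bijective_top ((restrictFunctor D.ι).map φ) ?_
  have key : ∀ D' : Y.Opens, D' = D → Function.Bijective (φ.app D') := by
    rintro _ rfl; exact h
  exact key _ (by simp)

/-- Finitely many sections over an affine open `U` generating `Γ(M, D(f))` for a quasi-coherent module
with `Γ(M, D(f))` finite. -/
theorem exists_finset_span_basicOpen (M : Y.Modules) [M.IsQuasicoherent] {U : Y.Opens}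
    (hU : IsAffineOpen U) (f : Γ(Y, U))
    [Module.Finite Γ(Y, Y.basicOpen f) Γ(M, Y.basicOpen f)] :
    ∃ T : Finset Γ(M, U), Submodule.span Γ(Y, Y.basicOpen f)
      ((fun t => M.presheaf.map (homOfLE (Y.basicOpen_le f)).op t) '' (T : Set Γ(M, U))) = ⊤ := by
  have h := Y.basicOpen_le f
  letI := algOfLE (X := Y) h
  letI := modOfLE M h
  haveI := isScalarTower_ofLE M h
  haveI := isLocalizedModule_of_eq_basicOpen M hU f h rfl
  have hunit : ∀ s ∈ Submonoid.powers f, IsUnit (algebraMap Γ(Y, U) Γ(Y, Y.basicOpen f) s) := by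
    rintro _ ⟨n, rfl⟩
    rw [map_pow]
    exact (RingedSpace.isUnit_res_basicOpen Y.toRingedSpace f).pow n
  obtain ⟨T, hT⟩ := exists_finset_span_eq_top_of_isLocalizedModule (R₁ := Γ(Y, Y.basicOpen f))
    (Submonoid.powers f) (resLin M h) hunit
  exact ⟨T, hT⟩

end General

section Spec

variable {R : CommRingCat.{u}} (M : (Spec R).Modules) [M.IsQuasicoherent]
  (N₀ : Submodule R ((modulesSpecToSheaf.obj M).presheaf.obj (.op ⊤)))

/-- The quasi-coherent submodule of `M` associated with a submodule of its global sections. -/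
noncomputable def subTilde : (Spec R).Modules := tilde (ModuleCat.of R N₀)

/-- The inclusion `subTilde M N₀ ⟶ M`. -/
noncomputable def subTildeι : subTilde M N₀ ⟶ M :=
  tilde.map (ModuleCat.ofHom N₀.subtype) ≫ M.fromTildeΓ

instance : (subTilde M N₀).IsQuasicoherent := by unfold subTilde; infer_instance

instance : Mono (subTildeι M N₀) := by
  have h1 : Mono (tilde.map (ModuleCat.ofHom N₀.subtype)) :=
    Groth.Agent.S9498.mono_tilde_map _ (by
      change Function.Injective N₀.subtype
      exact N₀.injective_subtype)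
  have h2 : IsIso M.fromTildeΓ := Scheme.Modules.isIso_fromTildeΓ_of_isQuasicoherent M
  have h3 : Mono M.fromTildeΓ := inferInstance
  unfold subTildeι
  exact @mono_comp _ _ _ _ _ _ h1 _ h3

omit [M.IsQuasicoherent] in
theorem isFT_subTilde [Module.Finite R N₀] : CohB1.IsFT (subTilde M N₀) := by
  obtain ⟨G, hG⟩ := exists_generatingSections_tilde (ModuleCat.of R N₀)
  exact isFiniteType_of_generatingSections _ G

omit [M.IsQuasicoherent] in
/-- Restrictions of elements of `N₀` are sections of `subTilde M N₀`. -/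
theorem res_mem_range_subTildeι (U : (Spec R).Opens) (n : N₀) :
    M.presheaf.map (homOfLE (le_top : U ≤ ⊤)).op (show Γ(M, ⊤) from n.1) ∈
      Set.range ((subTildeι M N₀).app U) := by
  refine ⟨(show Γ(subTilde M N₀, U) from (tilde.toOpen (ModuleCat.of R N₀) U).hom n), ?_⟩
  have h1 := tilde.toOpen_map_app (ModuleCat.ofHom N₀.subtype) U
  have h2 := Scheme.Modules.toOpen_fromTildeΓ_app M U
  have h1' := congr_arg (fun φ => φ.hom n) h1
  have h2' := congr_arg (fun φ => φ.hom n.1) h2
  simp only [ModuleCat.hom_comp, LinearMap.comp_apply] at h1' h2'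
  change (M.fromTildeΓ.app U) ((tilde.map (ModuleCat.ofHom N₀.subtype)).app U _) = _
  refine Eq.trans ?_ h2'
  exact congr_arg (fun z => ((modulesSpecToSheaf.map M.fromTildeΓ).hom.app (op U)).hom z) h1'

/-- **Affine step on `Spec R`.** -/
theorem exists_sub_spec (s : Finset Γ(Spec R, ⊤))
    (hs : ∀ f ∈ s, Module.Finite Γ(Spec R, (Spec R).basicOpen f) Γ(M, (Spec R).basicOpen f)) :
    ∃ (N : (Spec R).Modules) (i : N ⟶ M), Mono i ∧ N.IsQuasicoherent ∧ CohB1.IsFT N ∧
      ∀ f ∈ s, IsoOn i ((Spec R).basicOpen f) := by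
  classical
  have hT : ∀ f : Γ(Spec R, ⊤), ∃ T : Finset Γ(M, ⊤), f ∈ s →
      Submodule.span Γ(Spec R, (Spec R).basicOpen f)
        ((fun t => M.presheaf.map (homOfLE ((Spec R).basicOpen_le f)).op t) '' (T : Set Γ(M, ⊤))) =
          ⊤ := by
    intro f
    by_cases hf : f ∈ s
    · haveI := hs f hf
      obtain ⟨T, hT⟩ := exists_finset_span_basicOpen M (isAffineOpen_top (Spec R)) f
      exact ⟨T, fun _ => hT⟩
    · exact ⟨∅, fun h => absurd h hf⟩
  choose T hT using hT
  let Tall : Finset Γ(M, ⊤) := s.biUnion T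
  let N₀ : Submodule R ((modulesSpecToSheaf.obj M).presheaf.obj (.op ⊤)) :=
    Submodule.span R (show Set ((modulesSpecToSheaf.obj M).presheaf.obj (.op ⊤)) from
      (Tall : Set Γ(M, ⊤)))
  haveI : Module.Finite R N₀ := Module.Finite.span_of_finite R (Finset.finite_toSet Tall)
  refine ⟨subTilde M N₀, subTildeι M N₀, inferInstance, inferInstance, isFT_subTilde M N₀, ?_⟩
  intro f hf
  refine isoOn_of_bijective_affine _ _ ((isAffineOpen_top (Spec R)).basicOpen f)
    ⟨injective_app_of_mono _ _, ?_⟩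
  have hrange : LinearMap.range (secLin (subTildeι M N₀) ((Spec R).basicOpen f)) = ⊤ := by
    rw [eq_top_iff, ← hT f hf, Submodule.span_le]
    rintro _ ⟨t, ht, rfl⟩
    have htN : (show ((modulesSpecToSheaf.obj M).presheaf.obj (.op ⊤)) from t) ∈ N₀ :=
      Submodule.subset_span (Finset.mem_biUnion.mpr ⟨f, hf, ht⟩)
    obtain ⟨x, hx⟩ := res_mem_range_subTildeι M N₀ ((Spec R).basicOpen f) ⟨_, htN⟩
    exact ⟨x, hx⟩
  intro y
  have : y ∈ LinearMap.range (secLin (subTildeι M N₀) ((Spec R).basicOpen f)) := by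
    rw [hrange]; trivial
  obtain ⟨x, hx⟩ := this
  exact ⟨x, hx⟩

end Spec

end Groth.Agent.Lib.helper16.Satur
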