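import Groth.Agent.Lib.Helper16.Satur3

/-!
# Extension of finite type quasi-coherent submodules on quasi-separated schemes (helper16)

* `ftOn_opensRange_of_isFT_restrict`
* `affine_step`: one affine open at a time.
* `exists_ft_sub_of_finset`: induction over a finite set of affine opens.
* `exists_ft_sub`: EGA I 9.4.7 in the "global" form: `K` quasi-coherent on a qcqs scheme, of finite type
  over a quasi-compact open `W`; then there is a finite type quasi-coherent submodule `H ⊆ K` with
  `H = K` over `W`.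
-/

set_option autoImplicit false
universe u
open CategoryTheory CategoryTheory.Limits AlgebraicGeometry TopologicalSpace Opposite
open Scheme.Modules

namespace Groth.Agent.Lib.helper16.Satur

open Groth.Agent.Lib.helper16.CohFinite Groth.Agent.Lib.helper7

variable {X Y : Scheme.{u}}

/-- If `H|_Y` is of finite type (and `H` quasi-coherent), then `H` is of finite type on the image of `Y`. -/
theorem ftOn_opensRange_of_isFT_restrict (j : Y ⟶ X) [IsOpenImmersion j] (H : X.Modules)
    [H.IsQuasicoherent] (h : CohB1.IsFT (H.restrict j)) : FTOn H j.opensRange := by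
  intro U hU hUW
  have e : j ''ᵁ (j ⁻¹ᵁ U) = U := by
    rw [Scheme.Hom.image_preimage_eq_opensRange_inf]
    exact inf_eq_right.mpr hUW
  have hU' : IsAffineOpen (j ⁻¹ᵁ U) := hU.preimage_of_isOpenImmersion j hUW
  haveI : (H.restrict j).IsQuasicoherent := inferInstance
  have h1 := finite_sections_of_isFiniteType (H.restrict j) h hU'
  have h2 := finite_of_finite_restrict j H _ h1
  exact e ▸ h2

/-- **Affine step.** -/
theorem affine_step [QuasiSeparatedSpace X] (V : X.Opens) (hV : IsAffineOpen V) (K : X.Modules)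
    [K.IsQuasicoherent] (W : X.Opens) (hW : IsCompact (W : Set X)) (hK : FTOn K W) :
    ∃ (H : X.Modules) (h : H ⟶ K), Mono h ∧ H.IsQuasicoherent ∧ FTOn H V ∧ IsoOn h W := by
  classical
  let j := hV.fromSpec
  haveI : QuasiCompact j := inferInstance
  haveI : (K.restrict j).IsQuasicoherent := inferInstance
  -- a finite cover of `V ⊓ W` by basic opens of `V`
  have hVW : IsCompact ((V ⊓ W : X.Opens) : Set X) :=
    QuasiSeparatedSpace.inter_isCompact _ _ V.isOpen hV.isCompact W.isOpen hW
  have hf : ∀ x : (V ⊓ W : X.Opens), ∃ f : Γ(X, V), X.basicOpen f ≤ V ⊓ W ∧ x.1 ∈ X.basicOpen f :=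
    fun x => hV.exists_basicOpen_le (V := V ⊓ W) x x.2.1
  choose f hfle hxf using hf
  obtain ⟨t, ht⟩ := hVW.elim_finite_subcover (fun x : (V ⊓ W : X.Opens) => (X.basicOpen (f x) : Set X))
    (fun x => (X.basicOpen (f x)).isOpen) (fun x hx => Set.mem_iUnion.mpr ⟨⟨x, hx⟩, hxf ⟨x, hx⟩⟩)
  let φ : Γ(X, V) → Γ(Spec Γ(X, V), ⊤) := fun g => (Scheme.ΓSpecIso Γ(X, V)).inv g
  have hD : ∀ g : Γ(X, V), (Spec Γ(X, V)).basicOpen (φ g) = j ⁻¹ᵁ X.basicOpen g :=
    fun g => (hV.fromSpec_preimage_basicOpen' g).symm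
  let s : Finset Γ(Spec Γ(X, V), ⊤) := t.image (fun x => φ (f x))
  have hs : ∀ g ∈ s, Module.Finite Γ(Spec Γ(X, V), (Spec Γ(X, V)).basicOpen g)
      Γ(K.restrict j, (Spec Γ(X, V)).basicOpen g) := by
    intro g hg
    obtain ⟨x, -, rfl⟩ := Finset.mem_image.mp hg
    apply finite_restrict_of_finite
    apply hK _ (((isAffineOpen_top _).basicOpen _).image_of_isOpenImmersion j)
    rw [hD]
    exact (j.image_preimage_le _).trans ((hfle x).trans inf_le_right)
  obtain ⟨N, i, hi, hN, hNft, hiso⟩ := exists_sub_spec (K.restrict j) s hs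
  haveI := hi
  haveI := hN
  refine ⟨satur j i, saturι j i, inferInstance, isQuasicoherent_satur j i, ?_, ?_⟩
  · have h1 : CohB1.IsFT ((satur j i).restrict j) := by
      haveI : (satur j i).IsQuasicoherent := isQuasicoherent_satur j i
      haveI : ((satur j i).restrict j).IsQuasicoherent := inferInstance
      rw [← ftOn_top_iff]
      exact FTOn.of_iso (saturRestrictIso j i).symm ((ftOn_top_iff N).mpr hNft)
    haveI : (satur j i).IsQuasicoherent := isQuasicoherent_satur j i
    have h2 := ftOn_opensRange_of_isFT_restrict j (satur j i) h1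
    rwa [hV.opensRange_fromSpec] at h2
  · intro W' hW'
    refine saturι_app_bijective j i W' ?_
    have hall : IsoOn i (⨆ x : t, (Spec Γ(X, V)).basicOpen (φ (f x.1))) :=
      IsoOn.iSup (fun x => hiso _ (Finset.mem_image.mpr ⟨x.1, x.2, rfl⟩))
    refine (hall _ ?_).2
    intro y hy
    have hy1 : j y ∈ V := by
      have : j y ∈ j.opensRange := ⟨y, rfl⟩
      rwa [hV.opensRange_fromSpec] at this
    have hy2 : j y ∈ W := hW' hy
    obtain ⟨x, hx⟩ := Set.mem_iUnion.mp (ht ⟨hy1, hy2⟩)
    obtain ⟨hxt, hx⟩ := Set.mem_iUnion.mp hx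
    refine Opens.mem_iSup.mpr ⟨⟨x, hxt⟩, ?_⟩
    rw [hD]
    exact hx

/-- Induction over a finite set of affine opens. -/
theorem exists_ft_sub_of_finset [QuasiSeparatedSpace X] (S : Finset X.affineOpens) :
    ∀ (K : X.Modules) [K.IsQuasicoherent] (W : X.Opens), IsCompact (W : Set X) → FTOn K W →
      ∃ (H : X.Modules) (h : H ⟶ K), Mono h ∧ H.IsQuasicoherent ∧
        FTOn H (W ⊔ ⨆ V ∈ S, (V : X.Opens)) ∧ IsoOn h W := by
  classical
  induction S using Finset.induction_on with
  | empty =>
    intro K _ W _ hK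
    refine ⟨K, 𝟙 K, inferInstance, inferInstance, ?_, isoOn_of_isIso _ _⟩
    simpa using hK
  | insert V S hVS ih =>
    intro K _ W hW hK
    obtain ⟨H₁, h₁, hm₁, hq₁, hft₁, hiso₁⟩ := ih K W hW hK
    haveI := hm₁
    haveI := hq₁
    let W₁ : X.Opens := W ⊔ ⨆ V ∈ S, (V : X.Opens)
    have hW₁ : IsCompact (W₁ : Set X) := by
      have : (W₁ : Set X) = (W : Set X) ∪ ⋃ V ∈ S, ((V : X.Opens) : Set X) := by
        simp [W₁]
      rw [this]
      exact hW.union (S.finite_toSet.isCompact_biUnion fun V _ => V.2.isCompact)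
    obtain ⟨H, h, hm, hq, hft, hiso⟩ := affine_step V.1 V.2 H₁ W₁ hW₁ hft₁
    haveI := hm
    haveI := hq
    refine ⟨H, h ≫ h₁, mono_comp _ _, hq, ?_, ?_⟩
    · have h1 : FTOn H W₁ := FTOn.of_isoOn hiso hft₁
      have h2 : FTOn H (W₁ ⊔ V.1) := h1.sup hft
      have e : W ⊔ ⨆ V' ∈ insert V S, (V' : X.Opens) = W₁ ⊔ V.1 := by
        rw [Finset.iSup_insert]
        simp only [W₁]
        rw [sup_assoc, sup_comm (V : X.Opens)]
      rw [e]; exact h2
    · exact (hiso.mono le_sup_left).comp hiso₁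

/-- **EGA I 9.4.7 (global form).** On a quasi-compact quasi-separated scheme, a quasi-coherent module
`K` which is of finite type over a quasi-compact open `W` has a finite type quasi-coherent submodule
which coincides with `K` over `W`. -/
theorem exists_ft_sub [CompactSpace X] [QuasiSeparatedSpace X] (K : X.Modules) [K.IsQuasicoherent]
    (W : X.Opens) (hW : IsCompact (W : Set X)) (hK : FTOn K W) :
    ∃ (H : X.Modules) (h : H ⟶ K), Mono h ∧ H.IsQuasicoherent ∧ CohB1.IsFT H ∧ IsoOn h W := by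
  obtain ⟨S, hS, hcov⟩ := (isCompact_iff_finite_and_eq_biUnion_affineOpens (U := (⊤ : X.Opens))).mp
    isCompact_univ
  obtain ⟨H, h, hm, hq, hft, hiso⟩ := exists_ft_sub_of_finset hS.toFinset K W hW hK
  haveI := hq
  refine ⟨H, h, hm, hq, (ftOn_top_iff H).mp (hft.mono ?_), hiso⟩
  rw [hcov]
  refine le_sup_of_le_right ?_
  simp

end Groth.Agent.Lib.helper16.Satur
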