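import Groth.Agent.Lib.Helper16.Satur5

/-!
# Subobjects via ranges of sections; intersections (helper16)
-/

set_option autoImplicit false
universe u
open CategoryTheory CategoryTheory.Limits AlgebraicGeometry TopologicalSpace Opposite
open Scheme.Modules

namespace Groth.Agent.Lib.helper16.Satur

open Groth.Agent.Lib.helper16.CohFinite Groth.Agent.Lib.helper7

variable {X : Scheme.{u}}

/-- For a monomorphism `h : H ⟶ K`, a section of `K` lies in (the image of) `H` iff it is killed by the
projection to the cokernel. -/
theorem mem_range_iff_cokernel {H K : X.Modules} (h : H ⟶ K) [Mono h] (W : X.Opens) (s : Γ(K, W)) :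
    s ∈ Set.range (h.app W) ↔ (cokernel.π h).app W s = 0 := by
  let S : ShortComplex X.Modules := ShortComplex.mk h (cokernel.π h) (cokernel.condition h)
  have hS : S.Exact := ShortComplex.exact_of_f_is_kernel _
    (Abelian.monoIsKernelOfCokernel (Cofork.ofπ (cokernel.π h) (by rw [cokernel.condition, zero_comp]))
      (cokernelIsCokernel h))
  haveI : Mono S.f := inferInstanceAs (Mono h)
  have := KerSections.sections_leftExact S hS W
  constructor
  · rintro ⟨t, rfl⟩
    have hc := cokernel.condition h
    exact congrArg (fun ψ => (Scheme.Modules.Hom.app ψ W).hom t) hc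
  · intro hs
    obtain ⟨a, ha⟩ := this.2 s hs
    exact ⟨a, ha⟩

theorem range_restrict_closed {H K : X.Modules} (h : H ⟶ K) {W W' : X.Opens} (hle : W' ≤ W)
    (s : Γ(K, W)) (hs : s ∈ Set.range (h.app W)) :
    K.presheaf.map (homOfLE hle).op s ∈ Set.range (h.app W') := by
  obtain ⟨t, rfl⟩ := hs
  refine ⟨H.presheaf.map (homOfLE hle).op t, ?_⟩
  have := h.mapPresheaf.naturality (homOfLE hle).op
  exact congrArg (fun ψ => (ConcreteCategory.hom ψ) t) this

/-- Lifting along a monomorphism from an inclusion of ranges. -/
theorem exists_lift_of_range_le {A B K : X.Modules} (a : A ⟶ K) (b : B ⟶ K) [Mono b]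
    (hle : ∀ W, Set.range (a.app W) ⊆ Set.range (b.app W)) : ∃ g : A ⟶ B, g ≫ b = a := by
  have h0 : a ≫ cokernel.π b = 0 := by
    refine Scheme.Modules.hom_ext _ _ (fun W => ?_)
    ext s
    have := (mem_range_iff_cokernel b W (a.app W s)).mp (hle W ⟨s, rfl⟩)
    exact this
  exact ⟨Abelian.monoLift b a h0, Abelian.monoLift_comp b a h0⟩

/-- A lift between subobjects is an isomorphism over `V` if the ranges agree over opens in `V`. -/
theorem isoOn_lift_of_range_eq {A B K : X.Modules} (a : A ⟶ K) [Mono a] (b : B ⟶ K) [Mono b]
    (g : A ⟶ B) (hg : g ≫ b = a) (V : X.Opens)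
    (heq : ∀ V' : X.Opens, V' ≤ V → Set.range (b.app V') ⊆ Set.range (a.app V')) : IsoOn g V := by
  haveI : Mono g := mono_of_mono_fac hg
  intro V' hV'
  refine ⟨injective_app_of_mono g V', fun t => ?_⟩
  obtain ⟨p, hp⟩ := heq V' hV' ⟨t, rfl⟩
  refine ⟨p, injective_app_of_mono b V' ?_⟩
  rw [← hp, ← hg]
  rfl

/-- The sections functor preserves products (and all small limits). -/
theorem preservesLimitsOfShape_secF (J : Type u) [SmallCategory J] (W : X.Opens) :
    PreservesLimitsOfShape J (secF (X := X) W) := by
  haveI : PreservesLimitsOfShape J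
      ((CategoryTheory.evaluation (Opens X)ᵒᵖ Ab.{u}).obj (op W)) := inferInstance
  haveI : PreservesLimitsOfShape J (toPresheaf X) := inferInstance
  exact comp_preservesLimitsOfShape (toPresheaf X)
    ((CategoryTheory.evaluation (Opens X)ᵒᵖ Ab.{u}).obj (op W))

section Inter

variable {K : X.Modules} {ι : Type u} (H : ι → X.Modules) (h : ∀ i, H i ⟶ K)

/-- The intersection of a family of submodules of `K`. -/
noncomputable def interObj : X.Modules := kernel (Pi.lift (fun i => cokernel.π (h i)))

/-- The inclusion of the intersection. -/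
noncomputable def interι : interObj H h ⟶ K := kernel.ι _

instance : Mono (interι H h) :=
  inferInstanceAs (Mono (kernel.ι (Pi.lift (fun i => cokernel.π (h i)))))

theorem range_interι [∀ i, Mono (h i)] (W : X.Opens) :
    Set.range ((interι H h).app W) = ⋂ i, Set.range ((h i).app W) := by
  unfold interι
  have h1 := KerSections.range_kernel_ι_app (Pi.lift (fun i => cokernel.π (h i))) W
  ext s
  rw [Set.mem_iInter]
  constructor
  · intro hs i
    rw [mem_range_iff_cokernel]
    have hs' : ((Pi.lift (fun i => cokernel.π (h i))).app W).hom s = 0 := by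
      have : s ∈ Set.range ((kernel.ι (Pi.lift (fun i => cokernel.π (h i)))).app W).hom := hs
      rw [h1] at this
      exact this
    have hc : Pi.lift (fun i => cokernel.π (h i)) ≫ Pi.π _ i = cokernel.π (h i) :=
      Pi.lift_π _ _
    rw [← hc]
    change ((Pi.π (fun i => cokernel (h i)) i).app W) (((Pi.lift fun i => cokernel.π (h i)).app W) s) = 0
    rw [show ((Pi.lift fun i => cokernel.π (h i)).app W) s = 0 from hs', map_zero]
  · intro hs
    have : s ∈ {s | ((Pi.lift (fun i => cokernel.π (h i))).app W).hom s = 0} := by
      change ((Pi.lift (fun i => cokernel.π (h i))).app W).hom s = 0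
      -- joint injectivity of the projections on sections
      let c := (secF (X := X) W).mapCone (limit.cone (Discrete.functor fun i => cokernel (h i)))
      haveI := preservesLimitsOfShape_secF (X := X) (Discrete ι) W
      have hc : IsLimit c := isLimitOfPreserves (secF W)
        (limit.isLimit (Discrete.functor fun i => cokernel (h i)))
      refine Concrete.isLimit_ext _ hc _ _ (fun j => ?_)
      obtain ⟨i⟩ := j
      have hi := (mem_range_iff_cokernel (h i) W s).mp (hs i)
      have hc' : Pi.lift (fun i => cokernel.π (h i)) ≫ Pi.π _ i = cokernel.π (h i) :=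
        Pi.lift_π _ _
      rw [← hc'] at hi
      change ((Pi.π (fun i => cokernel (h i)) i).app W)
        (((Pi.lift fun i => cokernel.π (h i)).app W) s) =
          ((Pi.π (fun i => cokernel (h i)) i).app W) 0
      rw [map_zero]
      exact hi
    rw [← h1] at this
    exact this

end Inter

end Groth.Agent.Lib.helper16.Satur
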