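import Groth.Agent.Lib.Helper16.Satur7

/-!
# EGA I 9.4.7 on schemes whose underlying space is locally Noetherian: Zorn's lemma (helper16)
-/

set_option autoImplicit false
universe u
open CategoryTheory CategoryTheory.Limits AlgebraicGeometry TopologicalSpace Opposite
open Scheme.Modules

namespace Groth.Agent.Lib.helper16.Satur

open Groth.Agent.Lib.helper16.CohFinite Groth.Agent.Lib.helper7

variable {X : Scheme.{u}}

/-- A partial extension: an open `W ⊇ U₀` and a `W`-saturated quasi-coherent submodule of `K` (given by its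
sections `S`), of finite type over `W` and equal to `K` over `U₀`. -/
structure Ext (K : X.Modules) (U₀ : X.Opens) where
  W : X.Opens
  S : ∀ W' : X.Opens, Set Γ(K, W')
  le : U₀ ≤ W
  real : ∃ (H : X.Modules) (h : H ⟶ K), Mono h ∧ H.IsQuasicoherent ∧
    (∀ W', Set.range (h.app W') = S W') ∧ FTOn H W
  top_on : ∀ W' : X.Opens, W' ≤ U₀ → S W' = Set.univ
  sat : ∀ (W' : X.Opens) (s : Γ(K, W')),
    K.presheaf.map (homOfLE (inf_le_left : W' ⊓ W ≤ W')).op s ∈ S (W' ⊓ W) → s ∈ S W'

namespace Ext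

variable {K : X.Modules} {U₀ : X.Opens}

theorem ext' {a b : Ext K U₀} (hW : a.W = b.W) (hS : a.S = b.S) : a = b := by
  cases a; cases b; simp only at hW hS; subst hW; subst hS; rfl

theorem res_mem (a : Ext K U₀) {W' W'' : X.Opens} (hle : W'' ≤ W') (s : Γ(K, W'))
    (hs : s ∈ a.S W') : K.presheaf.map (homOfLE hle).op s ∈ a.S W'' := by
  obtain ⟨H, h, -, -, hr, -⟩ := a.real
  rw [← hr] at hs ⊢
  exact range_restrict_closed h hle s hs

theorem sat' (a : Ext K U₀) {W' W'' : X.Opens} (hle : W'' ≤ W') (hge : W' ⊓ a.W ≤ W'')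
    (s : Γ(K, W')) (hs : K.presheaf.map (homOfLE hle).op s ∈ a.S W'') : s ∈ a.S W' := by
  apply a.sat
  have := a.res_mem hge _ hs
  rwa [map_map] at this

instance : PartialOrder (Ext K U₀) where
  le a b := a.W ≤ b.W ∧ (∀ W', b.S W' ⊆ a.S W') ∧ (∀ W', W' ≤ a.W → a.S W' ⊆ b.S W')
  le_refl a := ⟨le_rfl, fun _ => subset_rfl, fun _ _ => subset_rfl⟩
  le_trans a b c hab hbc := ⟨hab.1.trans hbc.1, fun W' => (hbc.2.1 W').trans (hab.2.1 W'),
    fun W' hW' => (hab.2.2 W' hW').trans (hbc.2.2 W' (hW'.trans hab.1))⟩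
  le_antisymm a b hab hba := ext' (le_antisymm hab.1 hba.1)
    (funext fun W' => Set.Subset.antisymm (hba.2.1 W') (hab.2.1 W'))

theorem le_def {a b : Ext K U₀} : a ≤ b ↔
    a.W ≤ b.W ∧ (∀ W', b.S W' ⊆ a.S W') ∧ (∀ W', W' ≤ a.W → a.S W' ⊆ b.S W') := Iff.rfl

/-- Chains have upper bounds. -/
theorem exists_ub (hX : LocNoeth X) [K.IsQuasicoherent] (c : Set (Ext K U₀))
    (hc : IsChain (· ≤ ·) c) (hne : c.Nonempty) : ∃ ub : Ext K U₀, ∀ a ∈ c, a ≤ ub := by
  classical
  obtain ⟨a₁, ha₁⟩ := hne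
  haveI : Nonempty c := ⟨⟨a₁, ha₁⟩⟩
  let Wst : X.Opens := ⨆ a : c, a.1.W
  let Sst : ∀ W' : X.Opens, Set Γ(K, W') := fun W' => ⋂ a : c, a.1.S W'
  choose H h hm hq hr hft using fun a : c => a.1.real
  haveI := hm
  have hleW : ∀ a : c, a.1.W ≤ Wst := fun a => le_iSup (fun a : c => a.1.W) a
  have L : ∀ (a₀ : c) (V : X.Opens), V ⊓ Wst ≤ a₀.1.W → ∀ V' : X.Opens, V' ≤ V →
      Sst V' = a₀.1.S V' := by
    intro a₀ V hV V' hV'
    apply Set.Subset.antisymm
    · exact Set.iInter_subset _ a₀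
    · intro s hs
      simp only [Sst, Set.mem_iInter]
      intro a
      rcases hc.total a₀.2 a.2 with hle | hle
      · apply a.1.sat' (inf_le_left : V' ⊓ a.1.W ≤ V') le_rfl
        apply (le_def.mp hle).2.2
        · exact (inf_le_inf hV' (hleW a)).trans hV
        · exact a₀.1.res_mem _ s hs
      · exact (le_def.mp hle).2.1 V' hs
  have hdir : Directed (· ⊆ ·) (fun a : c => (a.1.W : Set X)) := by
    intro a b
    rcases hc.total a.2 b.2 with hle | hle
    · exact ⟨b, SetLike.coe_subset_coe.mpr (le_def.mp hle).1, subset_rfl⟩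
    · exact ⟨a, subset_rfl, SetLike.coe_subset_coe.mpr (le_def.mp hle).1⟩
  have hcov : ∀ A : Set X, IsCompact A → A ⊆ (Wst : Set X) →
      ∃ a₀ : c, A ⊆ (a₀.1.W : Set X) := by
    intro A hA hAW
    refine hA.elim_directed_cover (fun a : c => (a.1.W : Set X)) (fun a => a.1.W.isOpen) ?_ hdir
    simpa [Wst] using hAW
  have hrst : ∀ W', Set.range ((interι H h).app W') = Sst W' := by
    intro W'
    rw [range_interι]
    exact Set.iInter_congr (fun a => hr a W')
  have hg : ∀ a : c, ∃ g : interObj H h ⟶ H a, g ≫ h a = interι H h := fun a =>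
    exists_lift_of_range_le _ _ (fun W' => by rw [hrst, hr]; exact Set.iInter_subset _ a)
  choose g hg using hg
  have hgiso : ∀ (a₀ : c) (V : X.Opens), V ⊓ Wst ≤ a₀.1.W → IsoOn (g a₀) V := by
    intro a₀ V hV
    refine isoOn_lift_of_range_eq (interι H h) (h a₀) (g a₀) (hg a₀) V (fun V' hV' => ?_)
    rw [hrst, hr, L a₀ V hV V' hV']
  have hqst : (interObj H h).IsQuasicoherent := by
    refine CohKer.isQuasicoherent_of_affine _ (fun A hA => ?_)
    have hc1 : IsCompact ((A ⊓ Wst : X.Opens) : Set X) :=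
      hX.isCompact_of_subset hA.isCompact (SetLike.coe_subset_coe.mpr inf_le_left)
    obtain ⟨a₀, ha₀⟩ := hcov _ hc1 (SetLike.coe_subset_coe.mpr inf_le_right)
    have h1 : IsoOn (g a₀) hA.fromSpec.opensRange := by
      rw [hA.opensRange_fromSpec]
      exact hgiso a₀ A (SetLike.coe_subset_coe.mp ha₀)
    have h2 : IsIso ((restrictFunctor hA.fromSpec).map (g a₀)) :=
      (Groth.Agent.Lib.helper11.IsoLocus.isIso_restrictFunctor_iff_opensRange hA.fromSpec
        (g a₀)).mpr ((isoOn_iff_isIso_restrict _ _).mp h1)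
    haveI := hq a₀
    haveI : ((H a₀).restrict hA.fromSpec).IsQuasicoherent := inferInstance
    exact QCohProd.isQuasicoherent_of_iso (asIso ((restrictFunctor hA.fromSpec).map (g a₀))).symm
      inferInstance
  have hftst : FTOn (interObj H h) Wst := by
    intro A hA hAW
    obtain ⟨a₀, ha₀⟩ := hcov _ hA.isCompact (SetLike.coe_subset_coe.mpr hAW)
    have ha₀' : A ≤ a₀.1.W := SetLike.coe_subset_coe.mp ha₀
    exact FTOn.of_isoOn (hgiso a₀ A (inf_le_left.trans ha₀')) ((hft a₀).mono ha₀') A hA le_rfl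
  refine ⟨{ W := Wst
            S := Sst
            le := a₁.le.trans (hleW ⟨a₁, ha₁⟩)
            real := ⟨interObj H h, interι H h, inferInstance, hqst, hrst, hftst⟩
            top_on := ?_
            sat := ?_ }, ?_⟩
  · intro W' hW'
    simp only [Sst]
    rw [Set.iInter_eq_univ]
    exact fun a => a.1.top_on W' hW'
  · intro W' s hs
    simp only [Sst, Set.mem_iInter] at hs ⊢
    intro a
    exact a.1.sat' (inf_le_left : W' ⊓ Wst ≤ W') (inf_le_inf le_rfl (hleW a)) s (hs a)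
  · intro a ha
    refine le_def.mpr ⟨hleW ⟨a, ha⟩, fun W' => Set.iInter_subset _ (⟨a, ha⟩ : c), fun W' hW' => ?_⟩
    exact (L ⟨a, ha⟩ W' (inf_le_left.trans hW') W' le_rfl).ge

/-- A non-maximal open can be enlarged. -/
theorem exists_gt (hX : LocNoeth X) [K.IsQuasicoherent] (m : Ext K U₀) (x : X) (hx : x ∉ m.W) :
    ∃ b : Ext K U₀, m ≤ b ∧ x ∈ b.W := by
  classical
  obtain ⟨V, hVaff, hxV, -⟩ := Opens.isBasis_iff_nbhd.mp X.isBasis_affineOpens
    (show x ∈ (⊤ : X.Opens) from trivial)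
  obtain ⟨H, h, hmono, hq, hr, hft⟩ := m.real
  haveI := hmono
  haveI := hq
  haveI := hX.quasiCompact_fromSpec hVaff
  have hVW : IsCompact ((V ⊓ m.W : X.Opens) : Set X) :=
    hX.isCompact_of_subset hVaff.isCompact (SetLike.coe_subset_coe.mpr inf_le_left)
  obtain ⟨H', h', hm', hq', hft', hiso', hsat'⟩ := affine_step' V hVaff H m.W hVW hft
  haveI := hm'
  haveI := hq'
  have hsub : ∀ W', Set.range ((h' ≫ h).app W') ⊆ m.S W' := by
    rintro W' _ ⟨p, rfl⟩
    rw [← hr]
    exact ⟨h'.app W' p, rfl⟩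
  have hsup : ∀ W', W' ≤ m.W → m.S W' ⊆ Set.range ((h' ≫ h).app W') := by
    intro W' hW' s hs
    rw [← hr] at hs
    obtain ⟨t, rfl⟩ := hs
    obtain ⟨p, rfl⟩ := (hiso' W' hW').2 t
    exact ⟨p, rfl⟩
  refine ⟨{ W := m.W ⊔ V
            S := fun W' => Set.range ((h' ≫ h).app W')
            le := m.le.trans le_sup_left
            real := ⟨H', h' ≫ h, mono_comp _ _, hq', fun _ => rfl,
              (FTOn.of_isoOn hiso' hft).sup hft'⟩
            top_on := ?_
            sat := ?_ }, ?_, Or.inr hxV⟩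
  · intro W' hW'
    apply Set.eq_univ_of_univ_subset
    rw [← m.top_on W' hW']
    exact hsup W' (hW'.trans m.le)
  · intro W' s hs
    have hle : W' ⊓ (m.W ⊔ V) ≤ W' := inf_le_left
    -- step 1: `s` is a section of `H`
    have h1 : s ∈ m.S W' :=
      m.sat' hle (inf_le_inf le_rfl le_sup_left) s (hsub _ hs)
    rw [← hr] at h1
    obtain ⟨t, rfl⟩ := h1
    -- step 2: `t` is a section of `H'`
    obtain ⟨p, hp⟩ := hs
    have hnat := h.mapPresheaf.naturality (homOfLE hle).op
    have hnat' := congrArg (fun ψ => (ConcreteCategory.hom ψ) t) hnat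
    have h2 : h'.app _ p = H.presheaf.map (homOfLE hle).op t := by
      apply injective_app_of_mono h
      exact hp.trans hnat'.symm
    obtain ⟨q, rfl⟩ := hsat' W' _ hle (inf_le_inf le_rfl le_sup_right) t ⟨p, h2⟩
    exact ⟨q, rfl⟩
  · exact le_def.mpr ⟨le_sup_left, hsub, hsup⟩

end Ext

/-- **EGA I 9.4.7 (global form), locally Noetherian underlying space.** A quasi-coherent module `K`
which is of finite type over an open `U₀` has a finite type quasi-coherent submodule which coincides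
with `K` over `U₀`. -/
theorem exists_ft_sub_locNoeth (hX : LocNoeth X) (K : X.Modules) [K.IsQuasicoherent] (U₀ : X.Opens)
    (hK : FTOn K U₀) :
    ∃ (H : X.Modules) (h : H ⟶ K), Mono h ∧ H.IsQuasicoherent ∧ CohB1.IsFT H ∧ IsoOn h U₀ := by
  classical
  let e₀ : Ext K U₀ :=
    { W := U₀
      S := fun _ => Set.univ
      le := le_rfl
      real := ⟨K, 𝟙 K, inferInstance, inferInstance, fun W' => by
        apply Set.eq_univ_of_forall
        intro s
        exact ⟨s, rfl⟩, hK⟩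
      top_on := fun _ _ => rfl
      sat := fun _ _ _ => trivial }
  haveI : Nonempty (Ext K U₀) := ⟨e₀⟩
  obtain ⟨m, hm⟩ := zorn_le_nonempty (α := Ext K U₀) (fun c hc hne => by
    obtain ⟨ub, hub⟩ := Ext.exists_ub hX c hc hne
    exact ⟨ub, hub⟩)
  have htop : m.W = ⊤ := by
    by_contra hne
    obtain ⟨x, hx⟩ : ∃ x, x ∉ m.W := by
      by_contra hall
      push_neg at hall
      exact hne (eq_top_iff.mpr fun x _ => hall x)
    obtain ⟨b, hmb, hxb⟩ := Ext.exists_gt hX m x hx
    exact hx ((Ext.le_def.mp (hm hmb)).1 hxb)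
  obtain ⟨H, h, hmono, hq, hr, hft⟩ := m.real
  haveI := hmono
  haveI := hq
  refine ⟨H, h, hmono, hq, (ftOn_top_iff H).mp (htop ▸ hft), ?_⟩
  intro W' hW'
  refine ⟨injective_app_of_mono h W', fun s => ?_⟩
  have : s ∈ m.S W' := by rw [m.top_on W' hW']; trivial
  rw [← hr] at this
  exact this

end Groth.Agent.Lib.helper16.Satur
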