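import Groth.Agent.Lib.Helper16.Satur8

/-!
# EGA I 9.4.7–9.4.9 on schemes whose underlying space is locally Noetherian (helper16)
-/

set_option autoImplicit false
universe u
open CategoryTheory CategoryTheory.Limits AlgebraicGeometry TopologicalSpace Opposite
open Scheme.Modules

namespace Groth.Agent.Lib.helper16.Satur

open Groth.Agent.Lib.helper16.CohFinite Groth.Agent.Lib.helper7

variable {X : Scheme.{u}}

/-- **EGA I 9.4.7**, locally Noetherian underlying space. -/
theorem exists_ft_extension_locNoeth (hX : LocNoeth X) (U : X.Opens) (G : X.Modules)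
    [G.IsQuasicoherent] (F' : (U : Scheme.{u}).Modules) [F'.IsQuasicoherent] (hF' : CohB1.IsFT F')
    (i' : F' ⟶ G.restrict U.ι) [Mono i'] :
    ∃ (F : X.Modules) (i : F ⟶ G) (e : F.restrict U.ι ≅ F'), Mono i ∧ F.IsQuasicoherent ∧
      CohB1.IsFT F ∧ e.hom ≫ i' = (restrictFunctor U.ι).map i := by
  haveI : QuasiCompact U.ι := hX.quasiCompact_ι U
  haveI : (satur U.ι i').IsQuasicoherent := isQuasicoherent_satur U.ι i'
  haveI : ((satur U.ι i').restrict U.ι).IsQuasicoherent := inferInstance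
  have hK : FTOn (satur U.ι i') U :=
    ftOn_of_isFT_restrict _ U (isFT_of_iso (saturRestrictIso U.ι i').symm hF')
  obtain ⟨H, h, hm, hq, hft, hiso⟩ := exists_ft_sub_locNoeth hX (satur U.ι i') U hK
  haveI := hm
  haveI : IsIso ((restrictFunctor U.ι).map h) := (isoOn_iff_isIso_restrict h U).mp hiso
  refine ⟨H, h ≫ saturι U.ι i', asIso ((restrictFunctor U.ι).map h) ≪≫ saturRestrictIso U.ι i',
    mono_comp _ _, hq, hft, ?_⟩
  simp only [Iso.trans_hom, asIso_hom, Category.assoc, saturRestrictIso_hom_comp, Functor.map_comp]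

/-- **EGA I 9.4.8**, locally Noetherian underlying space. -/
theorem exists_ft_extension_module_locNoeth (hX : LocNoeth X) (U : X.Opens)
    (G : (U : Scheme.{u}).Modules) [G.IsQuasicoherent] (hG : CohB1.IsFT G) :
    ∃ G' : X.Modules, G'.IsQuasicoherent ∧ CohB1.IsFT G' ∧ Nonempty (G'.restrict U.ι ≅ G) := by
  haveI : QuasiCompact U.ι := hX.quasiCompact_ι U
  let K : X.Modules := (pushforward U.ι).obj G
  haveI : K.IsQuasicoherent := QCohPushQC.isQuasicoherent_pushforward U.ι G
  haveI : (K.restrict U.ι).IsQuasicoherent := inferInstance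
  let e0 : K.restrict U.ι ≅ G := asIso ((restrictAdjunction U.ι).counit.app G)
  have hK : FTOn K U := ftOn_of_isFT_restrict _ U (isFT_of_iso e0.symm hG)
  obtain ⟨H, h, hm, hq, hft, hiso⟩ := exists_ft_sub_locNoeth hX K U hK
  haveI : IsIso ((restrictFunctor U.ι).map h) := (isoOn_iff_isIso_restrict h U).mp hiso
  exact ⟨H, hq, hft, ⟨asIso ((restrictFunctor U.ι).map h) ≪≫ e0⟩⟩

/-- **EGA I 9.4.9 (sectionwise form)**, locally Noetherian underlying space. -/
theorem exists_ft_sub_sections_locNoeth (hX : LocNoeth X) (F : X.Modules)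
    [F.IsQuasicoherent] {U : X.Opens} (hU : IsAffineOpen U) (T : Finset Γ(F, U)) :
    ∃ (G : X.Modules) (i : G ⟶ F), Mono i ∧ G.IsQuasicoherent ∧ CohB1.IsFT G ∧
      ∀ t ∈ T, t ∈ Set.range (i.app U) := by
  classical
  let j := hU.fromSpec
  haveI : QuasiCompact j := hX.quasiCompact_fromSpec hU
  haveI : (F.restrict j).IsQuasicoherent := inferInstance
  have e1 : j ''ᵁ ⊤ = U := Groth.Agent.Lib.helper7.image_top_eq hU
  let r : Γ(F, U) → Γ(F.restrict j, ⊤) := fun t => F.presheaf.map (homOfLE e1.le).op t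
  have key : ∀ t : Γ(F, U), (F.restrict j).presheaf.map (homOfLE (le_top : j ⁻¹ᵁ U ≤ ⊤)).op (r t) =
      ((restrictAdjunction j).unit.app F).app U t := by
    intro t
    rw [restrictAdjunction_unit_app_app]
    exact Groth.Agent.Lib.helper7.map_map F e1.le (j.image_mono (le_top : j ⁻¹ᵁ U ≤ ⊤)) t
  let N₀ : Submodule Γ(X, U) ((modulesSpecToSheaf.obj (F.restrict j)).presheaf.obj (.op ⊤)) :=
    Submodule.span Γ(X, U)
      (show Set ((modulesSpecToSheaf.obj (F.restrict j)).presheaf.obj (.op ⊤)) from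
        r '' (T : Set Γ(F, U)))
  haveI : Module.Finite Γ(X, U) N₀ :=
    Module.Finite.span_of_finite _ ((Finset.finite_toSet T).image r)
  let i₀ := subTildeι (F.restrict j) N₀
  haveI : (satur j i₀).IsQuasicoherent := isQuasicoherent_satur j i₀
  haveI : ((satur j i₀).restrict j).IsQuasicoherent := inferInstance
  have hK : FTOn (satur j i₀) U := by
    have := ftOn_opensRange_of_isFT_restrict j (satur j i₀)
      (isFT_of_iso (saturRestrictIso j i₀).symm (isFT_subTilde (F.restrict j) N₀))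
    rwa [hU.opensRange_fromSpec] at this
  obtain ⟨H, h, hm, hq, hft, hiso⟩ := exists_ft_sub_locNoeth hX (satur j i₀) U hK
  haveI := hm
  refine ⟨H, h ≫ saturι j i₀, mono_comp _ _, hq, hft, ?_⟩
  intro t ht
  have htN : (show ((modulesSpecToSheaf.obj (F.restrict j)).presheaf.obj (.op ⊤)) from r t) ∈ N₀ :=
    Submodule.subset_span ⟨t, ht, rfl⟩
  have h1 : t ∈ Set.range ((saturι j i₀).app U) := by
    rw [mem_range_saturι_iff]
    obtain ⟨x, hx⟩ := res_mem_range_subTildeι (F.restrict j) N₀ (j ⁻¹ᵁ U) ⟨_, htN⟩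
    refine ⟨x, hx.trans ?_⟩
    exact key t
  obtain ⟨p, hp⟩ := h1
  obtain ⟨q, hq'⟩ := (hiso U le_rfl).2 p
  exact ⟨q, by rw [Hom.comp_app]; change (saturι j i₀).app U (h.app U q) = t; rw [hq', hp]⟩

end Groth.Agent.Lib.helper16.Satur
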