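import Mathlib

/-!
# Scheme-theoretic density / images for morphisms with reduced source (helper16)

* `ker_apply_of_isReduced`: for `f : Z ⟶ X` with `Z` reduced (no quasi-compactness),
  `f.ker.ideal V = ker (f.app V)` for every affine open `V`.
* `std_iff_of_isReduced`, `isReduced_of_affineOpens`, `isReduced_of_std`, `denseRange_of_std`.
* `ker_toImage_eq_bot`, `isOpenImmersion_toImage_of_isReduced`.
-/

set_option autoImplicit false
universe u
open CategoryTheory CategoryTheory.Limits AlgebraicGeometry TopologicalSpace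

namespace Groth.Agent.Lib.helper16.SchDense

set_option backward.defeqAttrib.useBackward true in
set_option backward.isDefEq.respectTransparency false in
theorem ker_apply_of_isReduced {Z X : Scheme.{u}} (f : Z ⟶ X) [IsReduced Z] (V : X.affineOpens) :
    f.ker.ideal V = RingHom.ker (f.app V).hom := by
  let I : Scheme.IdealSheafData X := ⟨fun V ↦ RingHom.ker (f.app V).hom, ?_, _, rfl⟩
  · exact congr($(Scheme.IdealSheafData.ofIdeals_ideal I).ideal V)
  intro U s
  apply le_antisymm
  · refine Ideal.map_le_iff_le_comap.mpr fun x hx ↦ ?_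
    simp_rw [RingHom.comap_ker, ← CommRingCat.hom_comp, Scheme.affineBasicOpen_coe, f.naturality,
      CommRingCat.hom_comp, ← RingHom.comap_ker]
    exact Ideal.ker_le_comap _ hx
  · intro x hx
    have := U.2.isLocalization_basicOpen s
    obtain ⟨x, ⟨_, n, rfl⟩, rfl⟩ := IsLocalization.exists_mk'_eq (.powers s) x
    refine (IsLocalization.mk'_mem_map_algebraMap_iff _ _ _ _ _).mpr ?_
    replace hx : (X.presheaf.map (homOfLE (X.basicOpen_le s)).op ≫ f.app _).hom x = 0 := by
      trans (f.app (X.basicOpen s)).hom (algebraMap Γ(X, U) _ x)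
      · simp [-NatTrans.naturality, RingHom.algebraMap_toAlgebra]
      · simp only [Scheme.affineBasicOpen_coe, RingHom.mem_ker] at hx
        rw [← IsLocalization.mk'_spec' (M := .powers s), map_mul, hx, mul_zero]
    rw [f.naturality] at hx
    refine ⟨s, ⟨1, pow_one s⟩, ?_⟩
    rw [RingHom.mem_ker, ← basicOpen_eq_bot_iff, map_mul, Scheme.basicOpen_mul,
      ← Scheme.preimage_basicOpen]
    have h2 := congr(Z.basicOpen $hx)
    rw [Scheme.basicOpen_zero] at h2
    rw [← h2]
    simp only [CommRingCat.hom_comp, RingHom.coe_comp, Function.comp_apply]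
    erw [Scheme.basicOpen_res]

/-- A scheme is reduced as soon as every point has an affine open neighbourhood with reduced
ring of sections. -/
theorem isReduced_of_forall_exists_affine (X : Scheme.{u})
    (hU : ∀ x : X, ∃ U : X.Opens, IsAffineOpen U ∧ x ∈ U ∧ _root_.IsReduced Γ(X, U)) :
    IsReduced X := by
  haveI : ∀ x : X, _root_.IsReduced (X.presheaf.stalk x) := by
    intro x
    obtain ⟨U, hU', hx, hred⟩ := hU x
    letI := X.presheaf.algebra_section_stalk ⟨x, hx⟩
    have hl := IsAffineOpen.isLocalization_stalk hU' ⟨x, hx⟩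
    exact isReduced_localizationPreserves (hU'.primeIdealOf ⟨x, hx⟩).asIdeal.primeCompl
      (X.presheaf.stalk x) hred
  exact isReduced_of_isReduced_stalk X

theorem isReduced_of_affineOpens (X : Scheme.{u})
    (hU : ∀ U : X.affineOpens, _root_.IsReduced Γ(X, U)) : IsReduced X := by
  apply isReduced_of_forall_exists_affine
  intro x
  obtain ⟨U, hU', hx, -⟩ := exists_isAffineOpen_mem_and_subset (x := x) (U := ⊤) trivial
  exact ⟨U, hU', hx, hU ⟨U, hU'⟩⟩

theorem std_iff_of_isReduced {Z X : Scheme.{u}} (f : Z ⟶ X) [IsReduced Z] :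
    IsSchemeTheoreticallyDominant f ↔ ∀ V : X.affineOpens, Function.Injective (f.app V).hom := by
  rw [isSchemeTheoreticallyDominant_iff]
  constructor
  · intro h V
    rw [RingHom.injective_iff_ker_eq_bot, ← ker_apply_of_isReduced, h]
    rfl
  · intro h
    ext V : 2
    rw [ker_apply_of_isReduced, (RingHom.injective_iff_ker_eq_bot _).mp (h V)]
    rfl

/-- Non-quasi-compact version of `IsSchemeTheoreticallyDominant.isReduced`. -/
theorem isReduced_of_std {Z X : Scheme.{u}} (f : Z ⟶ X) [IsReduced Z]
    [IsSchemeTheoreticallyDominant f] : IsReduced X := by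
  have h := (std_iff_of_isReduced f).mp inferInstance
  apply isReduced_of_affineOpens
  intro V
  exact isReduced_of_injective _ (h V)

/-- A scheme-theoretically dominant morphism from a reduced scheme has dense range
(no quasi-compactness needed). -/
theorem denseRange_of_std {Z X : Scheme.{u}} (f : Z ⟶ X) [IsReduced Z]
    [IsSchemeTheoreticallyDominant f] : DenseRange f.base := by
  have h := (std_iff_of_isReduced f).mp inferInstance
  rw [DenseRange, dense_iff_inter_open]
  intro W hW ⟨x, hx⟩
  obtain ⟨V, hV, hxV, hVW⟩ := exists_isAffineOpen_mem_and_subset (x := x) (U := ⟨W, hW⟩) hx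
  by_contra hne
  have hemp : f ⁻¹ᵁ V = ⊥ := by
    ext z
    simp only [Opens.coe_bot, Set.mem_empty_iff_false, iff_false]
    intro hz
    exact hne ⟨f.base z, hVW hz, ⟨z, rfl⟩⟩
  have hsub : Subsingleton Γ(Z, f ⁻¹ᵁ V) := by
    rw [hemp]; infer_instance
  have : Subsingleton Γ(X, V) := (h ⟨V, hV⟩).subsingleton
  have hVemp : V = ⊥ := by
    rw [← Scheme.basicOpen_one (X := X) (U := V), Subsingleton.elim (1 : Γ(X, V)) 0,
      Scheme.basicOpen_zero]
  rw [hVemp] at hxV
  exact hxV


set_option backward.isDefEq.respectTransparency false in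
theorem toImage_app_injective_of_ker {Z X : Scheme.{u}} (f : Z ⟶ X) (U : X.affineOpens)
    (hker : f.ker.ideal U = RingHom.ker (f.app U).hom) :
    Function.Injective (f.toImage.app (f.imageι ⁻¹ᵁ U)) := by
  simp only [f.toImage_app U, CommRingCat.hom_comp, CommRingCat.hom_ofHom, RingHom.coe_comp]
  exact (RingHom.lift_injective_of_ker_le_ideal _ _ (by simp [hker])).comp
    (f.ker.subschemeObjIso U).commRingCatIsoToRingEquiv.injective

theorem ker_toImage_eq_bot {Z X : Scheme.{u}} (f : Z ⟶ X)
    (hker : ∀ U : X.affineOpens, f.ker.ideal U = RingHom.ker (f.app U).hom) :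
    f.toImage.ker = ⊥ := by
  refine Scheme.IdealSheafData.ext_of_iSup_eq_top
    (fun U : X.affineOpens => ⟨f.imageι ⁻¹ᵁ U.1, U.2.preimage f.imageι⟩) ?_ ?_
  · rw [eq_top_iff]
    intro x _
    obtain ⟨U, hU, hx, -⟩ := exists_isAffineOpen_mem_and_subset (x := f.imageι x) (U := ⊤) trivial
    exact Opens.mem_iSup.mpr ⟨⟨U, hU⟩, hx⟩
  · intro U
    refine le_antisymm ?_ bot_le
    refine (Scheme.Hom.ideal_ker_le _ _).trans ?_
    rw [(RingHom.injective_iff_ker_eq_bot _).mp (toImage_app_injective_of_ker f U (hker U))]
    exact le_rfl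


set_option backward.isDefEq.respectTransparency false in
open Scheme in
lemma isPullback_toImage_liftCoborder_of_isReduced {X Y : Scheme.{u}} (f : X ⟶ Y)
    [IsImmersion f] [IsReduced X] :
    IsPullback f.toImage f.liftCoborder f.imageι f.coborderRange.ι := by
  refine (isPullback_of_isClosedImmersion _ _ _ _ (by simp) ?_).flip
  rw [Hom.imageι, IdealSheafData.ker_subschemeι]
  ext U : 2
  simp only [IdealSheafData.ideal_comap_of_isOpenImmersion, Opens.ι_appIso, Iso.refl_inv,
    ker_apply_of_isReduced, RingHom.comap_ker, ← CommRingCat.hom_comp]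
  dsimp [Opens.toScheme_presheaf_obj]
  rw [RingHomCompTriple.comp_eq, AlgebraicGeometry.liftCoborder_app,
    CommRingCat.hom_comp, RingHom.ker_comp_of_injective]
  rw [← ConcreteCategory.mono_iff_injective_of_preservesPullback]
  infer_instance

theorem isOpenImmersion_toImage_of_isReduced {X Y : Scheme.{u}} (f : X ⟶ Y)
    [IsImmersion f] [IsReduced X] : IsOpenImmersion f.toImage :=
  MorphismProperty.of_isPullback (isPullback_toImage_liftCoborder_of_isReduced f).flip inferInstance

end Groth.Agent.Lib.helper16.SchDense
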