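import Groth.Agent.Lib.Helper16.SecOrd

/-!
# Orders of rational sections II: general schemes (helper16)

* `ordFrac_mul'`, `ordFrac_zpow'`: `CycAlg.ordFrac` is additive on nonzero elements (no hypotheses).
* `IsLocCyc L`: all stalks of `L` are cyclic and generators specialize to generators; holds for
  invertible modules (`isLocCyc_of_isInvertible`).
* `secOrdAt_eq`: `Cyc.secOrdAt` may be computed with any generator and any coefficient.
* `secOrdAt_smul`: `ord(ρ • t) = ord(ρ) + ord(t)`.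
-/

set_option autoImplicit false
universe u
open CategoryTheory CategoryTheory.Limits AlgebraicGeometry TopologicalSpace Opposite

namespace Groth.Agent.Lib.helper16.SecOrd

open Groth.Agent.Lib.helper16.QCohAss Groth.Agent.Lib.helper16.FLF

section ordFrac

variable (R : Type u) [CommRing R] (K : Type u) [Field K] [Algebra R K]

theorem ordFrac_mul' {x y : K} (hx : x ≠ 0) (hy : y ≠ 0) :
    CycAlg.ordFrac R K (x * y) = CycAlg.ordFrac R K x + CycAlg.ordFrac R K y := by
  unfold CycAlg.ordFrac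
  split_ifs with h
  · haveI := h.1; haveI := h.2.1; haveI := h.2.2.1; haveI := h.2.2.2
    rw [map_mul]
    have h1 : Ring.ordFrac R x ≠ 0 := by
      rw [Ne, map_eq_zero]; exact hx
    have h2 : Ring.ordFrac R y ≠ 0 := by
      rw [Ne, map_eq_zero]; exact hy
    obtain ⟨a, ha⟩ := WithZero.ne_zero_iff_exists.mp h1
    obtain ⟨b, hb⟩ := WithZero.ne_zero_iff_exists.mp h2
    rw [← ha, ← hb, ← WithZero.coe_mul]
    simp only [WithZero.recZeroCoe_coe, toAdd_mul]
  · simp

theorem ordFrac_one' : CycAlg.ordFrac R K 1 = 0 := by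
  have := ordFrac_algebraMap_of_isUnit R K (r := (1 : R)) isUnit_one
  rwa [map_one] at this

theorem ordFrac_inv' {x : K} (hx : x ≠ 0) :
    CycAlg.ordFrac R K x⁻¹ = - CycAlg.ordFrac R K x := by
  have h := ordFrac_mul' R K hx (inv_ne_zero hx)
  rw [mul_inv_cancel₀ hx, ordFrac_one'] at h
  linarith

theorem ordFrac_pow' {x : K} (hx : x ≠ 0) (n : ℕ) :
    CycAlg.ordFrac R K (x ^ n) = n * CycAlg.ordFrac R K x := by
  induction n with
  | zero => simp [ordFrac_one']
  | succ n ih =>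
    rw [pow_succ, ordFrac_mul' R K (pow_ne_zero n hx) hx, ih]
    push_cast; ring

theorem ordFrac_zpow' {x : K} (hx : x ≠ 0) (n : ℤ) :
    CycAlg.ordFrac R K (x ^ n) = n * CycAlg.ordFrac R K x := by
  cases n with
  | ofNat n => simpa using ordFrac_pow' R K hx n
  | negSucc n =>
    rw [zpow_negSucc, ordFrac_inv' R K (pow_ne_zero _ hx), ordFrac_pow' R K hx,
      Int.negSucc_eq]
    push_cast; ring

end ordFrac

variable {X : Scheme.{u}}

/-- every point has an affine open neighbourhood over which an invertible module is generated by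
one section, whose germs generate all stalks -/
theorem exists_affine_generator (L : X.Modules) (hL : PicF.IsInvertible L) (y : X) :
    ∃ (W : X.Opens) (_ : IsAffineOpen W) (_ : y ∈ W) (tW : Γ(L, W)), ∀ (x : X) (hx : x ∈ W),
      Submodule.span (X.presheaf.stalk x) {(L.presheaf.germ W x hx).hom tW} = ⊤ := by
  have hL1 := (isInvertible_iff_isFinLocFreeOfRank_one L).1 hL
  haveI : L.IsQuasicoherent :=
    isQuasicoherent_of_isFinLocFree L (isFinLocFree_of_isFinLocFreeOfRank hL1)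
  obtain ⟨W, hW, hyW, -, ⟨e⟩⟩ := exists_affine_free_sections_of_isFinLocFreeOfRank L hL1 y
  let t : Fin 1 → Γ(L, W) := fun _ => e.symm (fun _ => 1)
  have ht : Submodule.span Γ(X, W) (Set.range t) = ⊤ := by
    rw [eq_top_iff]
    intro m _
    have hm : m = (e m 0) • t 0 := by
      apply e.injective
      rw [map_smul]
      simp only [t, LinearEquiv.apply_symm_apply]
      funext i
      fin_cases i
      simp
    rw [hm]
    exact Submodule.smul_mem _ _ (Submodule.subset_span ⟨0, rfl⟩)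
  refine ⟨W, hW, hyW, t 0, ?_⟩
  intro x hx
  have h1 := span_germ_eq_top L hW t ht x hx
  rwa [Set.range_unique] at h1

/-- all stalks of `L` are cyclic, and generators specialize to generators -/
structure IsLocCyc (L : X.Modules) : Prop where
  cyc : ∀ x : X, ∃ t : L.presheaf.stalk x, Submodule.span (X.presheaf.stalk x) {t} = ⊤
  spec : ∀ (x ξ : X) (h : ξ ⤳ x) (t : L.presheaf.stalk x),
    Submodule.span (X.presheaf.stalk x) {t} = ⊤ →
      Submodule.span (X.presheaf.stalk ξ) {L.presheaf.stalkSpecializes h t} = ⊤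

theorem isLocCyc_of_isInvertible (L : X.Modules) (hL : PicF.IsInvertible L) : IsLocCyc L where
  cyc x := by
    obtain ⟨W, -, hxW, tW, htW⟩ := exists_affine_generator L hL x
    exact ⟨_, htW x hxW⟩
  spec x ξ h t ht := by
    obtain ⟨W, -, hxW, tW, htW⟩ := exists_affine_generator L hL x
    have hξW : ξ ∈ W := h.mem_open W.isOpen hxW
    obtain ⟨v, hv⟩ : ∃ v : X.presheaf.stalk x, v • t = (L.presheaf.germ W x hxW).hom tW :=
      Submodule.mem_span_singleton.1 (ht ▸ Submodule.mem_top)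
    have e2 : L.presheaf.stalkSpecializes h ((L.presheaf.germ W x hxW).hom tW) =
        (L.presheaf.germ W ξ hξW).hom tW :=
      ConcreteCategory.congr_hom (TopCat.Presheaf.germ_stalkSpecializes L.presheaf hxW h) tW
    rw [eq_top_iff, ← htW ξ hξW, Submodule.span_singleton_le_iff_mem, ← e2, ← hv,
      stalkSpecializes_smul]
    exact Submodule.smul_mem _ _ (Submodule.mem_span_singleton_self _)

section fibre

variable (L : X.Modules) (ξ : X)

theorem smul_mk_eq_zero_of_mem {a : X.presheaf.stalk ξ}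
    (ha : a ∈ IsLocalRing.maximalIdeal (X.presheaf.stalk ξ)) (m : L.presheaf.stalk ξ) :
    a • (Submodule.Quotient.mk m : Cyc.secFibre L ξ) = 0 := by
  rw [← Submodule.Quotient.mk_smul, Submodule.Quotient.mk_eq_zero]
  exact Submodule.smul_mem_smul ha Submodule.mem_top

theorem smul_eq_zero_of_mem {a : X.presheaf.stalk ξ}
    (ha : a ∈ IsLocalRing.maximalIdeal (X.presheaf.stalk ξ)) (e : Cyc.secFibre L ξ) :
    a • e = 0 := by
  obtain ⟨m, rfl⟩ := Submodule.Quotient.mk_surjective _ e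
  exact smul_mk_eq_zero_of_mem L ξ ha m

theorem mem_of_smul_eq_zero {a : X.presheaf.stalk ξ} {e : Cyc.secFibre L ξ} (he : e ≠ 0)
    (h : a • e = 0) : a ∈ IsLocalRing.maximalIdeal (X.presheaf.stalk ξ) := by
  by_contra hne
  have hu : IsUnit a := by
    by_contra hnu
    exact hne ((IsLocalRing.mem_maximalIdeal _).2 hnu)
  exact he (hu.smul_eq_zero.1 h)

theorem residue_eq_of_smul_eq_smul {a b : X.presheaf.stalk ξ} {e : Cyc.secFibre L ξ} (he : e ≠ 0)
    (h : a • e = b • e) : X.residue ξ a = X.residue ξ b := by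
  have h0 : (a - b) • e = 0 := by rw [sub_smul, h, sub_self]
  have := mem_of_smul_eq_zero L ξ he h0
  have h1 : X.residue ξ (a - b) = 0 := (IsLocalRing.residue_eq_zero_iff _).2 this
  rw [map_sub, sub_eq_zero] at h1
  exact h1

theorem residue_ne_zero_of_smul_ne_zero {a : X.presheaf.stalk ξ} {e : Cyc.secFibre L ξ}
    (h : a • e ≠ 0) : X.residue ξ a ≠ 0 := by
  intro h0
  exact h (smul_eq_zero_of_mem L ξ ((IsLocalRing.residue_eq_zero_iff _).1 h0) e)

end fibre

/-- `Cyc.secOrdAt` may be computed with any generator `g` of `L_x` and any coefficient `ψ` -/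
theorem secOrdAt_eq (L : X.Modules) (x ξ : X) (h : ξ ⤳ x) (s : Cyc.secFibre L ξ) (hs : s ≠ 0)
    (g : L.presheaf.stalk x) (hg : Submodule.span (X.presheaf.stalk x) {g} = ⊤)
    (ψ : X.presheaf.stalk ξ)
    (hψ : s = ψ • (Submodule.Quotient.mk (L.presheaf.stalkSpecializes h g) :
      Cyc.secFibre L ξ)) :
    Cyc.secOrdAt L ξ x h s = Cyc.ordAt x ξ h (X.residue ξ ψ) := by
  have ht : ∃ t : L.presheaf.stalk x, Submodule.span (X.presheaf.stalk x) {t} = ⊤ := ⟨g, hg⟩
  have ht₀ := Classical.choose_spec ht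
  obtain ⟨u, hu⟩ : ∃ u : X.presheaf.stalk x, u • g = Classical.choose ht :=
    Submodule.mem_span_singleton.1 (by rw [hg]; exact Submodule.mem_top)
  obtain ⟨v, hv⟩ : ∃ v : X.presheaf.stalk x, v • Classical.choose ht = g :=
    Submodule.mem_span_singleton.1 (by rw [ht₀]; exact Submodule.mem_top)
  set sp := (X.presheaf.stalkSpecializes h).hom with hsp
  set e : Cyc.secFibre L ξ :=
    Submodule.Quotient.mk (L.presheaf.stalkSpecializes h g) with he_def
  have he : e ≠ 0 := by
    intro he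
    apply hs
    rw [hψ, he, smul_zero]
  have h3 : (Submodule.Quotient.mk (L.presheaf.stalkSpecializes h (Classical.choose ht)) :
      Cyc.secFibre L ξ) = sp u • e := by
    rw [← hu, stalkSpecializes_smul]
    rfl
  have he' : e = sp v • (Submodule.Quotient.mk
      (L.presheaf.stalkSpecializes h (Classical.choose ht)) : Cyc.secFibre L ξ) := by
    conv_lhs => rw [he_def, ← hv, stalkSpecializes_smul]
    rfl
  have hφ : ∃ φ : X.presheaf.stalk ξ, s = φ • (Submodule.Quotient.mk
      (L.presheaf.stalkSpecializes h (Classical.choose ht)) : Cyc.secFibre L ξ) :=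
    ⟨ψ * sp v, by rw [mul_smul, ← he']; exact hψ⟩
  unfold Cyc.secOrdAt
  rw [dif_pos ht, dif_pos hφ]
  have hφ' := Classical.choose_spec hφ
  set φ := Classical.choose hφ
  have hvu : IsUnit (v * u) := by
    by_contra hnu
    have h1 : IsUnit (1 - v * u) :=
      IsLocalRing.isUnit_one_sub_self_of_mem_nonunits _ hnu
    have h2 : (1 - v * u) • g = 0 := by
      rw [sub_smul, one_smul, mul_smul, hu, hv, sub_self]
    have h4 : g = 0 := h1.smul_eq_zero.1 h2
    apply he
    rw [he_def, h4, map_zero]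
    rfl
  have hu' : IsUnit u := isUnit_of_mul_isUnit_right hvu
  have h7 : s = (φ * sp u) • e := by
    rw [mul_smul, ← h3]
    exact hφ'
  have h8 : X.residue ξ (φ * sp u) = X.residue ξ ψ :=
    residue_eq_of_smul_eq_smul L ξ he (h7.symm.trans hψ)
  have hc : (X.residue ξ) (sp u) =
      algebraMap (Cyc.LocQuot x ξ h) (X.residueField ξ) (Ideal.Quotient.mk _ u) := rfl
  have hcu : IsUnit (algebraMap (Cyc.LocQuot x ξ h) (X.residueField ξ) (Ideal.Quotient.mk _ u)) :=
    (hu'.map _).map _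
  have hψ0 : X.residue ξ ψ ≠ 0 :=
    residue_ne_zero_of_smul_ne_zero L ξ (e := e) (hψ ▸ hs)
  have h9 : X.residue ξ φ = X.residue ξ ψ *
      (algebraMap (Cyc.LocQuot x ξ h) (X.residueField ξ) (Ideal.Quotient.mk _ u))⁻¹ := by
    rw [← h8, map_mul, hc, mul_assoc, mul_inv_cancel₀ hcu.ne_zero, mul_one]
  unfold Cyc.ordAt
  rw [h9, ordFrac_mul' _ _ hψ0 (inv_ne_zero hcu.ne_zero), ordFrac_inv' _ _ hcu.ne_zero,
    ordFrac_algebraMap_of_isUnit _ _ (hu'.map _)]
  simp

theorem exists_smul_mk_eq (L : X.Modules) (ξ : X) (g : L.presheaf.stalk ξ)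
    (hg : Submodule.span (X.presheaf.stalk ξ) {g} = ⊤) (t : Cyc.secFibre L ξ) :
    ∃ ψ : X.presheaf.stalk ξ, t = ψ • (Submodule.Quotient.mk g : Cyc.secFibre L ξ) := by
  obtain ⟨m, rfl⟩ := Submodule.Quotient.mk_surjective _ t
  obtain ⟨ψ, hψ⟩ : ∃ ψ : X.presheaf.stalk ξ, ψ • g = m :=
    Submodule.mem_span_singleton.1 (by rw [hg]; exact Submodule.mem_top)
  exact ⟨ψ, by rw [← hψ]; rfl⟩

theorem exists_smul_eq (L : X.Modules) (hL : IsLocCyc L) (ξ : X) (s t : Cyc.secFibre L ξ)
    (ht : t ≠ 0) : ∃ ρ : X.presheaf.stalk ξ, s = ρ • t := by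
  obtain ⟨g, hg⟩ := hL.cyc ξ
  obtain ⟨a, ha⟩ := exists_smul_mk_eq L ξ g hg t
  obtain ⟨b, hb⟩ := exists_smul_mk_eq L ξ g hg s
  have hau : IsUnit a := by
    by_contra hnu
    apply ht
    rw [ha]
    exact smul_eq_zero_of_mem L ξ ((IsLocalRing.mem_maximalIdeal _).2 hnu) _
  obtain ⟨a', rfl⟩ := hau
  refine ⟨b * ↑a'⁻¹, ?_⟩
  rw [ha, hb, mul_smul, ← mul_smul (↑a'⁻¹ : ↑(X.presheaf.stalk ξ)), Units.inv_mul, one_smul]

theorem secOrdAt_smul (L : X.Modules) (hL : IsLocCyc L) (x ξ : X) (h : ξ ⤳ x)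
    (t : Cyc.secFibre L ξ) (ρ : X.presheaf.stalk ξ) (hρt : ρ • t ≠ 0) :
    Cyc.secOrdAt L ξ x h (ρ • t) =
      Cyc.ordAt x ξ h (X.residue ξ ρ) + Cyc.secOrdAt L ξ x h t := by
  obtain ⟨g, hg⟩ := hL.cyc x
  have hg' := hL.spec x ξ h g hg
  obtain ⟨ψ, hψ⟩ := exists_smul_mk_eq L ξ _ hg' t
  have ht : t ≠ 0 := by
    rintro rfl
    exact hρt (smul_zero _)
  have h1 : ρ • t = (ρ * ψ) • (Submodule.Quotient.mk (L.presheaf.stalkSpecializes h g) :
      Cyc.secFibre L ξ) := by rw [mul_smul, ← hψ]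
  rw [secOrdAt_eq L x ξ h t ht g hg ψ hψ, secOrdAt_eq L x ξ h (ρ • t) hρt g hg (ρ * ψ) h1, map_mul]
  unfold Cyc.ordAt
  exact ordFrac_mul' _ _ (residue_ne_zero_of_smul_ne_zero L ξ hρt)
    (residue_ne_zero_of_smul_ne_zero L ξ (hψ ▸ ht))

end Groth.Agent.Lib.helper16.SecOrd
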