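import Groth.Agent.Lib.Helper16.SecOrd3

/-!
# `c_1` of a trivial module (helper16)

* `ratEquivZero_of_global_generator`: if a global section of `L` generates all stalks then
  `c_1(L) ∩ α ∼ 0`.
* `ratEquivZero_c1CapFun_structureModule`: `c_1(O_X) ∩ α ∼ 0`.
-/

set_option autoImplicit false
universe u
open CategoryTheory CategoryTheory.Limits AlgebraicGeometry TopologicalSpace Opposite

namespace Groth.Agent.Lib.helper16.SecOrd

open Groth.Agent.Lib.helper16.QCohAss

variable {X : Scheme.{u}}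

theorem isLocCyc_of_global_generator (L : X.Modules) (σ : Γ(L, ⊤))
    (hσ : ∀ x : X, Submodule.span (X.presheaf.stalk x)
      {(L.presheaf.germ ⊤ x trivial).hom σ} = ⊤) : IsLocCyc L where
  cyc x := ⟨_, hσ x⟩
  spec x ξ h t ht := by
    obtain ⟨v, hv⟩ : ∃ v : X.presheaf.stalk x, v • t = (L.presheaf.germ ⊤ x trivial).hom σ :=
      Submodule.mem_span_singleton.1 (by rw [ht]; exact Submodule.mem_top)
    have e2 : L.presheaf.stalkSpecializes h ((L.presheaf.germ ⊤ x trivial).hom σ) =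
        (L.presheaf.germ ⊤ ξ trivial).hom σ :=
      ConcreteCategory.congr_hom (TopCat.Presheaf.germ_stalkSpecializes L.presheaf
        (show x ∈ (⊤ : X.Opens) from trivial) h) σ
    rw [eq_top_iff, ← hσ ξ, Submodule.span_singleton_le_iff_mem, ← e2, ← hv,
      stalkSpecializes_smul]
    exact Submodule.smul_mem _ _ (Submodule.mem_span_singleton_self _)

theorem ratEquivZero_of_global_generator (δ : X → ℤ) (L : X.Modules) (σ : Γ(L, ⊤))
    (hσ : ∀ x : X, Submodule.span (X.presheaf.stalk x)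
      {(L.presheaf.germ ⊤ x trivial).hom σ} = ⊤)
    (k : ℤ) (α : AlgebraicCycle X ℤ) (hα : α ∈ Cyc.Zk X δ (k + 1))
    (s : (ξ : X) → Cyc.secFibre L ξ) (hs : ∀ ξ, s ξ ≠ 0) (γ : AlgebraicCycle X ℤ)
    (hγ : ⇑γ = Cyc.c1CapFun δ L ⇑α s) : Cyc.RatEquivZero δ k γ := by
  have hL := isLocCyc_of_global_generator L σ hσ
  let t : (ξ : X) → Cyc.secFibre L ξ := fun ξ =>
    Submodule.Quotient.mk ((L.presheaf.germ ⊤ ξ trivial).hom σ)
  have ht : ∀ ξ, t ξ ≠ 0 := by
    intro ξ h0
    obtain ⟨ψ, hψ⟩ := exists_smul_mk_eq L ξ _ (hσ ξ) (s ξ)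
    apply hs ξ
    rw [hψ]
    change ψ • t ξ = 0
    rw [h0, smul_zero]
  have h0 : Cyc.c1CapFun δ L ⇑α t = 0 := by
    funext x
    unfold Cyc.c1CapFun
    apply finsum_eq_zero_of_forall_eq_zero
    intro ξ
    have : Cyc.secDivFun δ L ξ (t ξ) x = 0 := by
      unfold Cyc.secDivFun
      split_ifs with h
      · have e2 : L.presheaf.stalkSpecializes h.1 ((L.presheaf.germ ⊤ x trivial).hom σ) =
            (L.presheaf.germ ⊤ ξ trivial).hom σ :=
          ConcreteCategory.congr_hom (TopCat.Presheaf.germ_stalkSpecializes L.presheaf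
            (show x ∈ (⊤ : X.Opens) from trivial) h.1) σ
        rw [secOrdAt_eq L x ξ h.1 (t ξ) (ht ξ) _ (hσ x) 1 (by rw [one_smul, e2]), map_one]
        unfold Cyc.ordAt
        exact ordFrac_one' _ _
      · rfl
    rw [this, mul_zero]
  have h1 := ratEquiv_c1CapFun_of_sections X δ L hL k α hα s t hs ht γ 0 hγ
    (by rw [h0]; rfl)
  unfold Cyc.RatEquiv at h1
  rwa [sub_zero] at h1

theorem span_germ_one_structureModule (x : X) :
    Submodule.span (X.presheaf.stalk x)
      {((Coh.structureModule X).presheaf.germ ⊤ x trivial).hom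
        ((1 : Γ(X, ⊤)) : Γ(Coh.structureModule X, ⊤))} = ⊤ := by
  rw [eq_top_iff]
  intro m _
  obtain ⟨U, hxU, a, rfl⟩ := TopCat.Presheaf.exists_germ_eq _ m
  have key : ∀ a' : Γ(X, U),
      ((Coh.structureModule X).presheaf.germ U x hxU).hom (a' : Γ(Coh.structureModule X, U)) =
      (X.presheaf.germ U x hxU).hom a' • ((Coh.structureModule X).presheaf.germ U x hxU).hom
        ((1 : Γ(X, U)) : Γ(Coh.structureModule X, U)) := by
    intro a'
    rw [← germ_smul']
    congr 1
    exact (mul_one a').symm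
  have h2 : ((Coh.structureModule X).presheaf.germ U x hxU).hom
      ((1 : Γ(X, U)) : Γ(Coh.structureModule X, U)) =
      ((Coh.structureModule X).presheaf.germ ⊤ x trivial).hom
        ((1 : Γ(X, ⊤)) : Γ(Coh.structureModule X, ⊤)) := by
    have h3 := TopCat.Presheaf.germ_res_apply (Coh.structureModule X).presheaf
      (homOfLE (le_top : U ≤ ⊤)) x hxU ((1 : Γ(X, ⊤)) : Γ(Coh.structureModule X, ⊤))
    rw [← h3]
    congr 1
    exact (map_one (X.presheaf.map (homOfLE (le_top : U ≤ ⊤)).op).hom).symm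
  change ((Coh.structureModule X).presheaf.germ U x hxU).hom a ∈ _
  rw [key a, h2]
  exact Submodule.smul_mem _ _ (Submodule.mem_span_singleton_self _)

theorem ratEquivZero_c1CapFun_structureModule (δ : X → ℤ) (k : ℤ) (α : AlgebraicCycle X ℤ)
    (hα : α ∈ Cyc.Zk X δ (k + 1))
    (s : (ξ : X) → Cyc.secFibre (Coh.structureModule X) ξ) (hs : ∀ ξ, s ξ ≠ 0)
    (γ : AlgebraicCycle X ℤ) (hγ : ⇑γ = Cyc.c1CapFun δ (Coh.structureModule X) ⇑α s) :
    Cyc.RatEquivZero δ k γ :=
  ratEquivZero_of_global_generator δ (Coh.structureModule X) _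
    span_germ_one_structureModule k α hα s hs γ hγ

end Groth.Agent.Lib.helper16.SecOrd
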