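import Groth.Agent.Lib.Helper16.SecOrd3
import Groth.Agent.Lib.Helper25.PullTensorIso

/-!
# Additivity of `c_1` in the invertible module (helper16)

* `ratEquivZero_of_sum_divFun`: a cycle of the form `Σ_ξ α(ξ) · div(r_ξ)` is rationally equivalent to 0.
* `span_germ_tmul`: the germ of `a ⊗ b` generates `(L ⊗ N)_x` if the germs of `a`, `b` generate
  `L_x`, `N_x`.
* `ratEquiv_c1CapFun_tensor`: `c_1(L) ∩ α + c_1(N) ∩ α ∼ c_1(L ⊗ N) ∩ α`.
-/

set_option autoImplicit false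
universe u
open CategoryTheory CategoryTheory.Limits AlgebraicGeometry TopologicalSpace Opposite TensorProduct

namespace Groth.Agent.Lib.helper16.SecOrd

open Groth.Agent.Lib.Helper25.PullTensorIso Groth.Agent.Lib.Helper25.StalkPre

variable {X : Scheme.{u}}

theorem ratEquivZero_of_sum_divFun (δ : X → ℤ) (k : ℤ) (α : AlgebraicCycle X ℤ)
    (hα : α ∈ Cyc.Zk X δ (k + 1)) (r : ∀ ξ : X, X.residueField ξ) (hr : ∀ ξ, r ξ ≠ 0)
    (γ : AlgebraicCycle X ℤ) (hγ : ∀ x, γ x = ∑ᶠ ξ, α ξ * Cyc.divFun δ ξ (r ξ) x) :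
    Cyc.RatEquivZero δ k γ := by
  refine ⟨{ξ : X // α ξ ≠ 0}, fun i => i.1, fun i => r i.1 ^ (α i.1), ?_, ?_, ?_, ?_⟩
  · intro i
    by_contra hne
    exact i.2 (hα i.1 hne)
  · intro i
    exact zpow_ne_zero _ (hr i.1)
  · intro x
    obtain ⟨V, hV, hfin⟩ := α.supportLocallyFiniteWithinDomain' x trivial
    refine ⟨interior V, isOpen_interior, mem_interior_iff_mem_nhds.2 hV, ?_⟩
    apply (hfin.preimage Subtype.val_injective.injOn).subset
    rintro i ⟨z, hz1, hz2⟩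
    have hiz : i.1 ⤳ z := specializes_iff_mem_closure.2 hz1
    exact ⟨interior_subset (hiz.mem_open isOpen_interior hz2), i.2⟩
  · intro x
    rw [hγ x]
    have h3 : ∀ i : {ξ : X // α ξ ≠ 0}, Cyc.divFun δ i.1 (r i.1 ^ (α i.1)) x =
        (fun ξ => α ξ * Cyc.divFun δ ξ (r ξ) x) i.1 := fun i =>
      divFun_zpow δ i.1 (r i.1) (hr i.1) (α i.1) x
    rw [finsum_congr h3, finsum_subtype_eq_finsum_cond (fun ξ => α ξ ≠ 0)
      (f := fun ξ => α ξ * Cyc.divFun δ ξ (r ξ) x)]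
    apply finsum_congr
    intro ξ
    by_cases hξ : α ξ = 0
    · simp [hξ]
    · simp [hξ]

section tensor

variable (L N : X.Modules) (x : X)

/-- the linear stalk isomorphism of a tensor product -/
noncomputable def tensorStalkEquiv :
    (CohB1.tensorMod L N).presheaf.stalk x ≃ₗ[X.presheaf.stalk x]
      (L.presheaf.stalk x) ⊗[X.presheaf.stalk x] (N.presheaf.stalk x) :=
  (tensorBiStalkIso x L N).toLinearEquiv

theorem tensorStalkEquiv_germ_tmul (U : X.Opens) (hx : x ∈ U) (a : L.val.obj (op U))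
    (b : N.val.obj (op U)) :
    tensorStalkEquiv L N x
      ((CohB1.tensorMod L N).presheaf.germ U x hx (SecTwist.tmul L N U a b)) =
    (L.presheaf.germ U x hx a : L.presheaf.stalk x) ⊗ₜ[X.presheaf.stalk x]
      (N.presheaf.germ U x hx b : N.presheaf.stalk x) :=
  tensorBiStalkIso_hom_germ_tmul x L N U hx a b

theorem germ_tmul_smul {U U' : X.Opens} (hx : x ∈ U) (hx' : x ∈ U') (a : L.val.obj (op U))
    (b : N.val.obj (op U)) (a' : L.val.obj (op U')) (b' : N.val.obj (op U'))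
    (c₁ c₂ : X.presheaf.stalk x)
    (h₁ : (L.presheaf.germ U' x hx' a' : L.presheaf.stalk x) = c₁ • L.presheaf.germ U x hx a)
    (h₂ : (N.presheaf.germ U' x hx' b' : N.presheaf.stalk x) = c₂ • N.presheaf.germ U x hx b) :
    ((CohB1.tensorMod L N).presheaf.germ U' x hx' (SecTwist.tmul L N U' a' b') :
      (CohB1.tensorMod L N).presheaf.stalk x) =
      (c₁ * c₂) • (CohB1.tensorMod L N).presheaf.germ U x hx (SecTwist.tmul L N U a b) := by
  apply (tensorStalkEquiv L N x).injective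
  rw [map_smul, tensorStalkEquiv_germ_tmul, tensorStalkEquiv_germ_tmul, h₁, h₂,
    TensorProduct.smul_tmul_smul]

theorem span_germ_tmul {U : X.Opens} (hx : x ∈ U) (a : L.val.obj (op U)) (b : N.val.obj (op U))
    (ha : Submodule.span (X.presheaf.stalk x)
      {(L.presheaf.germ U x hx a : L.presheaf.stalk x)} = ⊤)
    (hb : Submodule.span (X.presheaf.stalk x)
      {(N.presheaf.germ U x hx b : N.presheaf.stalk x)} = ⊤) :
    Submodule.span (X.presheaf.stalk x)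
      {((CohB1.tensorMod L N).presheaf.germ U x hx (SecTwist.tmul L N U a b) :
        (CohB1.tensorMod L N).presheaf.stalk x)} = ⊤ := by
  rw [eq_top_iff]
  intro m _
  have key : ∀ z : (L.presheaf.stalk x) ⊗[X.presheaf.stalk x] (N.presheaf.stalk x),
      ∃ c : X.presheaf.stalk x, z = c • ((L.presheaf.germ U x hx a : L.presheaf.stalk x)
        ⊗ₜ[X.presheaf.stalk x] (N.presheaf.germ U x hx b : N.presheaf.stalk x)) := by
    intro z
    induction z using TensorProduct.induction_on with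
    | zero => exact ⟨0, by rw [zero_smul]⟩
    | tmul p q =>
      obtain ⟨c₁, rfl⟩ : ∃ c₁ : X.presheaf.stalk x, c₁ • _ = p :=
        Submodule.mem_span_singleton.1 (by rw [ha]; exact Submodule.mem_top)
      obtain ⟨c₂, rfl⟩ : ∃ c₂ : X.presheaf.stalk x, c₂ • _ = q :=
        Submodule.mem_span_singleton.1 (by rw [hb]; exact Submodule.mem_top)
      exact ⟨c₁ * c₂, by rw [TensorProduct.smul_tmul_smul]⟩
    | add z₁ z₂ h₁ h₂ =>
      obtain ⟨c₁, rfl⟩ := h₁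
      obtain ⟨c₂, rfl⟩ := h₂
      exact ⟨c₁ + c₂, by rw [add_smul]⟩
  obtain ⟨c, hc⟩ := key (tensorStalkEquiv L N x m)
  rw [Submodule.mem_span_singleton]
  refine ⟨c, ?_⟩
  apply (tensorStalkEquiv L N x).injective
  rw [map_smul, tensorStalkEquiv_germ_tmul, hc]

end tensor

section rep

variable (L N : X.Modules)

/-- common local generators of `L` and `N` at a point -/
theorem exists_common_generators (hL : IsLocCyc L) (hN : IsLocCyc N) (x : X) :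
    ∃ (U : X.Opens) (hx : x ∈ U) (a : L.val.obj (op U)) (b : N.val.obj (op U)),
      Submodule.span (X.presheaf.stalk x) {(L.presheaf.germ U x hx a : L.presheaf.stalk x)} = ⊤ ∧
      Submodule.span (X.presheaf.stalk x) {(N.presheaf.germ U x hx b : N.presheaf.stalk x)} = ⊤ := by
  obtain ⟨t₁, ht₁⟩ := hL.cyc x
  obtain ⟨t₂, ht₂⟩ := hN.cyc x
  obtain ⟨U₁, hx₁, a₁, rfl⟩ := TopCat.Presheaf.exists_germ_eq _ t₁
  obtain ⟨U₂, hx₂, b₂, rfl⟩ := TopCat.Presheaf.exists_germ_eq _ t₂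
  refine ⟨U₁ ⊓ U₂, ⟨hx₁, hx₂⟩, L.presheaf.map (homOfLE inf_le_left).op a₁,
    N.presheaf.map (homOfLE inf_le_right).op b₂, ?_, ?_⟩
  · have := TopCat.Presheaf.germ_res_apply L.presheaf (homOfLE (inf_le_left : U₁ ⊓ U₂ ≤ U₁)) x
      ⟨hx₁, hx₂⟩ a₁
    erw [this]
    exact ht₁
  · have := TopCat.Presheaf.germ_res_apply N.presheaf (homOfLE (inf_le_right : U₁ ⊓ U₂ ≤ U₂)) x
      ⟨hx₁, hx₂⟩ b₂
    erw [this]
    exact ht₂

/-- a presentation of a triple of rational sections of `L`, `N`, `L ⊗ N` at `ξ` in terms of local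
generators `a`, `b`, `a ⊗ b` -/
structure Rep (ξ : X) (sL : Cyc.secFibre L ξ) (sN : Cyc.secFibre N ξ)
    (sT : Cyc.secFibre (CohB1.tensorMod L N) ξ) where
  U : X.Opens
  hξ : ξ ∈ U
  a : L.val.obj (op U)
  b : N.val.obj (op U)
  ψL : X.presheaf.stalk ξ
  ψN : X.presheaf.stalk ξ
  ψT : X.presheaf.stalk ξ
  ha : Submodule.span (X.presheaf.stalk ξ) {(L.presheaf.germ U ξ hξ a : L.presheaf.stalk ξ)} = ⊤
  hb : Submodule.span (X.presheaf.stalk ξ) {(N.presheaf.germ U ξ hξ b : N.presheaf.stalk ξ)} = ⊤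
  hL : sL = ψL • (Submodule.Quotient.mk (L.presheaf.germ U ξ hξ a : L.presheaf.stalk ξ) :
    Cyc.secFibre L ξ)
  hN : sN = ψN • (Submodule.Quotient.mk (N.presheaf.germ U ξ hξ b : N.presheaf.stalk ξ) :
    Cyc.secFibre N ξ)
  hT : sT = ψT • (Submodule.Quotient.mk
    ((CohB1.tensorMod L N).presheaf.germ U ξ hξ (SecTwist.tmul L N U a b) :
      (CohB1.tensorMod L N).presheaf.stalk ξ) : Cyc.secFibre (CohB1.tensorMod L N) ξ)

variable {L N}

theorem Rep.cross {ξ : X} {sL : Cyc.secFibre L ξ} {sN : Cyc.secFibre N ξ}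
    {sT : Cyc.secFibre (CohB1.tensorMod L N) ξ} (hsL : sL ≠ 0) (hsN : sN ≠ 0) (hsT : sT ≠ 0)
    (R₁ R₂ : Rep L N ξ sL sN sT) :
    X.residue ξ R₁.ψL * X.residue ξ R₁.ψN * X.residue ξ R₂.ψT =
      X.residue ξ R₂.ψL * X.residue ξ R₂.ψN * X.residue ξ R₁.ψT := by
  obtain ⟨cL, hcL⟩ : ∃ c : X.presheaf.stalk ξ, c • (L.presheaf.germ R₁.U ξ R₁.hξ R₁.a :
      L.presheaf.stalk ξ) = L.presheaf.germ R₂.U ξ R₂.hξ R₂.a :=
    Submodule.mem_span_singleton.1 (by rw [R₁.ha]; exact Submodule.mem_top)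
  obtain ⟨cN, hcN⟩ : ∃ c : X.presheaf.stalk ξ, c • (N.presheaf.germ R₁.U ξ R₁.hξ R₁.b :
      N.presheaf.stalk ξ) = N.presheaf.germ R₂.U ξ R₂.hξ R₂.b :=
    Submodule.mem_span_singleton.1 (by rw [R₁.hb]; exact Submodule.mem_top)
  have hcT := germ_tmul_smul L N ξ R₁.hξ R₂.hξ R₁.a R₁.b R₂.a R₂.b cL cN hcL.symm hcN.symm
  have e1 : X.residue ξ (R₂.ψL * cL) = X.residue ξ R₁.ψL := by
    refine residue_eq_of_smul_eq_smul L ξ (e := Submodule.Quotient.mk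
      (L.presheaf.germ R₁.U ξ R₁.hξ R₁.a : L.presheaf.stalk ξ)) ?_ ?_
    · intro h0
      apply hsL
      rw [R₁.hL, h0, smul_zero]
    · rw [← R₁.hL, mul_smul, ← Submodule.Quotient.mk_smul, hcL]
      exact R₂.hL.symm
  have e2 : X.residue ξ (R₂.ψN * cN) = X.residue ξ R₁.ψN := by
    refine residue_eq_of_smul_eq_smul N ξ (e := Submodule.Quotient.mk
      (N.presheaf.germ R₁.U ξ R₁.hξ R₁.b : N.presheaf.stalk ξ)) ?_ ?_
    · intro h0
      apply hsN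
      rw [R₁.hN, h0, smul_zero]
    · rw [← R₁.hN, mul_smul, ← Submodule.Quotient.mk_smul, hcN]
      exact R₂.hN.symm
  have e3 : X.residue ξ (R₂.ψT * (cL * cN)) = X.residue ξ R₁.ψT := by
    refine residue_eq_of_smul_eq_smul (CohB1.tensorMod L N) ξ (e := Submodule.Quotient.mk
      ((CohB1.tensorMod L N).presheaf.germ R₁.U ξ R₁.hξ (SecTwist.tmul L N R₁.U R₁.a R₁.b) :
        (CohB1.tensorMod L N).presheaf.stalk ξ)) ?_ ?_
    · intro h0
      apply hsT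
      rw [R₁.hT, h0, smul_zero]
    · rw [← R₁.hT, mul_smul, ← Submodule.Quotient.mk_smul, ← hcT]
      exact R₂.hT.symm
  rw [← e1, ← e2, ← e3]
  simp only [map_mul]
  ring

theorem germ_spec (M : X.Modules) {x ξ : X} (h : ξ ⤳ x) {U : X.Opens} (hx : x ∈ U)
    (m : M.val.obj (op U)) :
    M.presheaf.stalkSpecializes h (M.presheaf.germ U x hx m : M.presheaf.stalk x) =
      (M.presheaf.germ U ξ (h.mem_open U.isOpen hx) m : M.presheaf.stalk ξ) :=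
  ConcreteCategory.congr_hom (TopCat.Presheaf.germ_stalkSpecializes M.presheaf hx h) m

theorem nonempty_rep (hL : IsLocCyc L) (hN : IsLocCyc N) (ξ : X) (sL : Cyc.secFibre L ξ)
    (sN : Cyc.secFibre N ξ) (sT : Cyc.secFibre (CohB1.tensorMod L N) ξ) :
    Nonempty (Rep L N ξ sL sN sT) := by
  obtain ⟨U, hξ, a, b, ha, hb⟩ := exists_common_generators L N hL hN ξ
  obtain ⟨ψL, hψL⟩ := exists_smul_mk_eq L ξ _ ha sL
  obtain ⟨ψN, hψN⟩ := exists_smul_mk_eq N ξ _ hb sN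
  obtain ⟨ψT, hψT⟩ := exists_smul_mk_eq (CohB1.tensorMod L N) ξ _
    (span_germ_tmul L N ξ hξ a b ha hb) sT
  exact ⟨⟨U, hξ, a, b, ψL, ψN, ψT, ha, hb, hψL, hψN, hψT⟩⟩

theorem secOrdAt_tensor (hL : IsLocCyc L) (hN : IsLocCyc N) {x ξ : X} (h : ξ ⤳ x)
    {sL : Cyc.secFibre L ξ} {sN : Cyc.secFibre N ξ}
    {sT : Cyc.secFibre (CohB1.tensorMod L N) ξ} (hsL : sL ≠ 0) (hsN : sN ≠ 0) (hsT : sT ≠ 0)
    (R : Rep L N ξ sL sN sT) :
    Cyc.secOrdAt L ξ x h sL + Cyc.secOrdAt N ξ x h sN -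
        Cyc.secOrdAt (CohB1.tensorMod L N) ξ x h sT =
      Cyc.ordAt x ξ h (X.residue ξ R.ψL * X.residue ξ R.ψN * (X.residue ξ R.ψT)⁻¹) := by
  obtain ⟨U, hx, a, b, ha, hb⟩ := exists_common_generators L N hL hN x
  have hξ : ξ ∈ U := h.mem_open U.isOpen hx
  have ha' := hL.spec x ξ h _ ha
  have hb' := hN.spec x ξ h _ hb
  rw [germ_spec L h hx a] at ha'
  rw [germ_spec N h hx b] at hb'
  have hT := span_germ_tmul L N x hx a b ha hb
  obtain ⟨ψL, hψL⟩ := exists_smul_mk_eq L ξ _ ha' sL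
  obtain ⟨ψN, hψN⟩ := exists_smul_mk_eq N ξ _ hb' sN
  obtain ⟨ψT, hψT⟩ := exists_smul_mk_eq (CohB1.tensorMod L N) ξ _
    (span_germ_tmul L N ξ hξ a b ha' hb') sT
  let R' : Rep L N ξ sL sN sT := ⟨U, hξ, a, b, ψL, ψN, ψT, ha', hb', hψL, hψN, hψT⟩
  have hcross := Rep.cross hsL hsN hsT R R'
  have h1 : Cyc.secOrdAt L ξ x h sL = Cyc.ordAt x ξ h (X.residue ξ ψL) :=
    secOrdAt_eq L x ξ h sL hsL _ ha ψL (by rw [germ_spec L h hx a]; exact hψL)
  have h2 : Cyc.secOrdAt N ξ x h sN = Cyc.ordAt x ξ h (X.residue ξ ψN) :=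
    secOrdAt_eq N x ξ h sN hsN _ hb ψN (by rw [germ_spec N h hx b]; exact hψN)
  have h3 : Cyc.secOrdAt (CohB1.tensorMod L N) ξ x h sT = Cyc.ordAt x ξ h (X.residue ξ ψT) :=
    secOrdAt_eq (CohB1.tensorMod L N) x ξ h sT hsT _ hT ψT
      (by rw [germ_spec (CohB1.tensorMod L N) h hx]; exact hψT)
  have n1 : X.residue ξ ψL ≠ 0 := residue_ne_zero_of_smul_ne_zero L ξ (hψL ▸ hsL)
  have n2 : X.residue ξ ψN ≠ 0 := residue_ne_zero_of_smul_ne_zero N ξ (hψN ▸ hsN)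
  have n3 : X.residue ξ ψT ≠ 0 :=
    residue_ne_zero_of_smul_ne_zero (CohB1.tensorMod L N) ξ (hψT ▸ hsT)
  have m3 : X.residue ξ R.ψT ≠ 0 :=
    residue_ne_zero_of_smul_ne_zero (CohB1.tensorMod L N) ξ (R.hT ▸ hsT)
  have hratio : X.residue ξ R.ψL * X.residue ξ R.ψN * (X.residue ξ R.ψT)⁻¹ =
      X.residue ξ ψL * X.residue ξ ψN * (X.residue ξ ψT)⁻¹ := by
    have hc : X.residue ξ R.ψL * X.residue ξ R.ψN * X.residue ξ ψT =
        X.residue ξ ψL * X.residue ξ ψN * X.residue ξ R.ψT := hcross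
    field_simp
    rw [hc]; ring
  rw [h1, h2, h3, hratio]
  unfold Cyc.ordAt
  rw [ordFrac_mul' _ _ (mul_ne_zero n1 n2) (inv_ne_zero n3), ordFrac_mul' _ _ n1 n2,
    ordFrac_inv' _ _ n3]
  ring

end rep

theorem ratEquiv_c1CapFun_tensor (δ : X → ℤ) (L N : X.Modules) (hL : IsLocCyc L)
    (hN : IsLocCyc N) (k : ℤ) (α : AlgebraicCycle X ℤ) (hα : α ∈ Cyc.Zk X δ (k + 1))
    (sL : (ξ : X) → Cyc.secFibre L ξ) (hsL : ∀ ξ, sL ξ ≠ 0)
    (sN : (ξ : X) → Cyc.secFibre N ξ) (hsN : ∀ ξ, sN ξ ≠ 0)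
    (sT : (ξ : X) → Cyc.secFibre (CohB1.tensorMod L N) ξ) (hsT : ∀ ξ, sT ξ ≠ 0)
    (γL γN γT : AlgebraicCycle X ℤ) (hγL : ⇑γL = Cyc.c1CapFun δ L ⇑α sL)
    (hγN : ⇑γN = Cyc.c1CapFun δ N ⇑α sN)
    (hγT : ⇑γT = Cyc.c1CapFun δ (CohB1.tensorMod L N) ⇑α sT) :
    Cyc.RatEquiv δ k (γL + γN) γT := by
  let R : ∀ ξ, Rep L N ξ (sL ξ) (sN ξ) (sT ξ) := fun ξ =>
    (nonempty_rep hL hN ξ (sL ξ) (sN ξ) (sT ξ)).some
  let r : ∀ ξ : X, X.residueField ξ := fun ξ =>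
    X.residue ξ (R ξ).ψL * X.residue ξ (R ξ).ψN * (X.residue ξ (R ξ).ψT)⁻¹
  have hr : ∀ ξ, r ξ ≠ 0 := by
    intro ξ
    have n1 : X.residue ξ (R ξ).ψL ≠ 0 :=
      residue_ne_zero_of_smul_ne_zero L ξ ((R ξ).hL ▸ hsL ξ)
    have n2 : X.residue ξ (R ξ).ψN ≠ 0 :=
      residue_ne_zero_of_smul_ne_zero N ξ ((R ξ).hN ▸ hsN ξ)
    have n3 : X.residue ξ (R ξ).ψT ≠ 0 :=
      residue_ne_zero_of_smul_ne_zero (CohB1.tensorMod L N) ξ ((R ξ).hT ▸ hsT ξ)
    exact mul_ne_zero (mul_ne_zero n1 n2) (inv_ne_zero n3)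
  have hterm : ∀ ξ x, Cyc.secDivFun δ L ξ (sL ξ) x + Cyc.secDivFun δ N ξ (sN ξ) x -
      Cyc.secDivFun δ (CohB1.tensorMod L N) ξ (sT ξ) x = Cyc.divFun δ ξ (r ξ) x := by
    intro ξ x
    unfold Cyc.secDivFun Cyc.divFun
    split_ifs with h
    · exact secOrdAt_tensor hL hN h.1 (hsL ξ) (hsN ξ) (hsT ξ) (R ξ)
    · simp
  have hsupp : ∀ (x : X) (F : X → ℤ), (∀ ξ, ¬ ξ ⤳ x → F ξ = 0) →
      (Function.support fun ξ => α ξ * F ξ).Finite := by
    intro x F hF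
    refine (finite_specializes_support α x).subset ?_
    intro ξ hξ
    rw [Function.mem_support] at hξ
    refine ⟨fun h => hξ (by rw [h, zero_mul]), ?_⟩
    by_contra hne
    exact hξ (by rw [hF ξ hne, mul_zero])
  have hsec0 : ∀ (M : X.Modules) (u : (ξ : X) → Cyc.secFibre M ξ) (x ξ : X), ¬ ξ ⤳ x →
      Cyc.secDivFun δ M ξ (u ξ) x = 0 := by
    intro M u x ξ hne
    unfold Cyc.secDivFun
    rw [dif_neg (fun h => hne h.1)]
  unfold Cyc.RatEquiv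
  refine ratEquivZero_of_sum_divFun δ k α hα r hr _ ?_
  intro x
  rw [Function.locallyFinsuppWithin.coe_sub, Function.locallyFinsuppWithin.coe_add,
    Pi.sub_apply, Pi.add_apply, hγL, hγN, hγT]
  unfold Cyc.c1CapFun
  have hLs := hsupp x _ (hsec0 L sL x)
  have hNs := hsupp x _ (hsec0 N sN x)
  have hTs := hsupp x _ (hsec0 (CohB1.tensorMod L N) sT x)
  rw [← finsum_add_distrib hLs hNs, ← finsum_sub_distrib (hLs.union hNs |>.subset
    (Function.support_add _ _)) hTs]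
  apply finsum_congr
  intro ξ
  rw [← hterm ξ x]
  ring

end Groth.Agent.Lib.helper16.SecOrd
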