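import Groth.Agent.Lib.Helper16.SecOrd3

/-!
# Independence of `c₁(L) ∩ α` of the sections, weak form (helper16)

`ratEquiv_c1CapFun_of_sections'`: as `ratEquiv_c1CapFun_of_sections`, but the rational sections
only need to be nonzero at the points of the support of `α`.
-/

set_option autoImplicit false
universe u
open CategoryTheory CategoryTheory.Limits AlgebraicGeometry TopologicalSpace Opposite

namespace Groth.Agent.Lib.helper16.SecOrd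

variable {X : Scheme.{u}}

theorem ratEquiv_c1CapFun_of_sections' (X : Scheme.{u}) (δ : X → ℤ) (L : X.Modules)
    (hL : IsLocCyc L) (k : ℤ) (α : AlgebraicCycle X ℤ) (hα : α ∈ Cyc.Zk X δ (k + 1))
    (s t : (ξ : X) → Cyc.secFibre L ξ) (hs : ∀ ξ, α ξ ≠ 0 → s ξ ≠ 0)
    (ht : ∀ ξ, α ξ ≠ 0 → t ξ ≠ 0)
    (γ₁ γ₂ : AlgebraicCycle X ℤ) (h₁ : ⇑γ₁ = Cyc.c1CapFun δ L ⇑α s)
    (h₂ : ⇑γ₂ = Cyc.c1CapFun δ L ⇑α t) : Cyc.RatEquiv δ k γ₁ γ₂ := by
  classical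
  have hex : ∀ ξ, ∃ ρ : X.presheaf.stalk ξ, (α ξ ≠ 0 → s ξ = ρ • t ξ) ∧ (α ξ = 0 → ρ = 1) := by
    intro ξ
    by_cases hξ : α ξ = 0
    · exact ⟨1, fun h => absurd hξ h, fun _ => rfl⟩
    · obtain ⟨ρ, hρ⟩ := exists_smul_eq L hL ξ (s ξ) (t ξ) (ht ξ hξ)
      exact ⟨ρ, fun _ => hρ, fun h => absurd h hξ⟩
  choose ρ hρ hρ1 using hex
  have hρt : ∀ ξ, α ξ ≠ 0 → ρ ξ • t ξ ≠ 0 := fun ξ hξ => hρ ξ hξ ▸ hs ξ hξ
  let r : ∀ ξ, X.residueField ξ := fun ξ => X.residue ξ (ρ ξ)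
  have hr : ∀ ξ, r ξ ≠ 0 := by
    intro ξ
    by_cases hξ : α ξ = 0
    · show X.residue ξ (ρ ξ) ≠ 0
      rw [hρ1 ξ hξ, map_one]
      exact one_ne_zero
    · exact residue_ne_zero_of_smul_ne_zero L ξ (hρt ξ hξ)
  have hdiff : ∀ ξ x, α ξ ≠ 0 → Cyc.secDivFun δ L ξ (s ξ) x =
      Cyc.divFun δ ξ (r ξ) x + Cyc.secDivFun δ L ξ (t ξ) x := by
    intro ξ x hξ
    rw [hρ ξ hξ]
    exact secDivFun_smul δ L hL ξ (t ξ) (ρ ξ) (hρt ξ hξ) x
  -- finiteness of supports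
  have hsupp : ∀ (x : X) (F : X → ℤ), (∀ ξ, ¬ ξ ⤳ x → F ξ = 0) →
      (Function.support fun ξ => α ξ * F ξ).Finite := by
    intro x F hF
    refine (finite_specializes_support α x).subset ?_
    intro ξ hξ
    rw [Function.mem_support] at hξ
    refine ⟨fun h => hξ (by rw [h, zero_mul]), ?_⟩
    by_contra hne
    exact hξ (by rw [hF ξ hne, mul_zero])
  have hsec0 : ∀ (u : (ξ : X) → Cyc.secFibre L ξ) (x ξ : X), ¬ ξ ⤳ x →
      Cyc.secDivFun δ L ξ (u ξ) x = 0 := by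
    intro u x ξ hne
    unfold Cyc.secDivFun
    rw [dif_neg (fun h => hne h.1)]
  have hsub : ∀ x, γ₁ x - γ₂ x = ∑ᶠ ξ, α ξ * Cyc.divFun δ ξ (r ξ) x := by
    intro x
    rw [h₁, h₂]
    unfold Cyc.c1CapFun
    rw [← finsum_sub_distrib (hsupp x _ (hsec0 s x)) (hsupp x _ (hsec0 t x))]
    apply finsum_congr
    intro ξ
    by_cases hξ : α ξ = 0
    · rw [hξ]; ring
    · rw [hdiff ξ x hξ]
      ring
  -- the rational equivalence
  unfold Cyc.RatEquiv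
  refine ⟨{ξ : X // α ξ ≠ 0}, fun i => i.1, fun i => r i.1 ^ (α i.1), ?_, ?_, ?_, ?_⟩
  · intro i
    by_contra hne
    exact i.2 (hα i.1 hne)
  · intro i
    exact zpow_ne_zero _ (hr i.1)
  · intro x
    obtain ⟨V, hV, hfin⟩ := α.supportLocallyFiniteWithinDomain' x trivial
    refine ⟨interior V, isOpen_interior, mem_interior_iff_mem_nhds.2 hV, ?_⟩
    apply (hfin.preimage Subtype.val_injective.injOn).subset
    rintro i ⟨z, hz1, hz2⟩
    have hiz : i.1 ⤳ z := specializes_iff_mem_closure.2 hz1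
    exact ⟨interior_subset (hiz.mem_open isOpen_interior hz2), i.2⟩
  · intro x
    rw [Function.locallyFinsuppWithin.coe_sub, Pi.sub_apply, hsub x]
    have h3 : ∀ i : {ξ : X // α ξ ≠ 0}, Cyc.divFun δ i.1 (r i.1 ^ (α i.1)) x =
        (fun ξ => α ξ * Cyc.divFun δ ξ (r ξ) x) i.1 := fun i =>
      divFun_zpow δ i.1 (r i.1) (hr i.1) (α i.1) x
    rw [finsum_congr h3, finsum_subtype_eq_finsum_cond (fun ξ => α ξ ≠ 0)
      (f := fun ξ => α ξ * Cyc.divFun δ ξ (r ξ) x)]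
    apply finsum_congr
    intro ξ
    by_cases hξ : α ξ = 0
    · simp [hξ]
    · simp [hξ]

end Groth.Agent.Lib.helper16.SecOrd
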