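import Mathlib
import Groth.Prelude.Def_ProjUP
import Groth.Agent.Lib.Helper12.ProjUP6
import Groth.Agent.Lib.Helper12.ProjUP7
import Groth.Agent.Lib.Helper12.ProjGlobalFn
import Groth.Agent.Lib.Helper19.ProjSpaceProper
import Groth.Agent.S10867

/-!
# Separating points and tangent vectors (helper16)

Towards Hartshorne II.7.3 for morphisms `f : X ⟶ P^n_k`.
-/

set_option autoImplicit false
universe u

open CategoryTheory CategoryTheory.Limits AlgebraicGeometry Opposite TopologicalSpace

namespace Groth.Agent.Lib.helper16.SepPts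

open Groth.Agent.Lib.helper11.IsoLocus Groth.Agent.Lib.helper11.InvHom
open Groth.Agent.Lib.helper11.GenLocus Groth.Agent.Lib.helper11.InvMod
open Groth.Agent.Lib.helper12.ProjUP1 Groth.Agent.Lib.helper12.ProjUP3
open Groth.Agent.Lib.helper12.ProjUP4 Groth.Agent.Lib.helper12.ProjUP5
open Groth.Agent.Lib.helper12.ProjUP6
open Scheme.Modules

section General

variable {X : Scheme.{u}} {L : X.Modules}

/-- the germ at `x` of the section `t` -/
noncomputable def gen (t : Coh.structureModule X ⟶ L) (x : X) : L.presheaf.stalk x :=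
  (L.presheaf.germ ⊤ x trivial).hom (sec t ⊤)

theorem germ_sec (t : Coh.structureModule X ⟶ L) (x : X) (W : X.Opens) (hx : x ∈ W) :
    (L.presheaf.germ W x hx).hom (sec t W) = gen t x := by
  unfold gen
  rw [← res_sec t (homOfLE le_top : W ⟶ ⊤)]
  exact TopCat.Presheaf.germ_res_apply L.presheaf (homOfLE le_top : W ⟶ ⊤) x hx _

/-- At a point of the generating locus of `t`, the stalk is free on the germ of `t`. -/
theorem bijective_smul_gen (t : Coh.structureModule X ⟶ L) (x : X)
    (hx : x ∈ CohB1.genLocus L t) :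
    Function.Bijective (fun a : X.presheaf.stalk x => a • gen t x) := by
  constructor
  · -- injective
    intro a b hab
    have hsub : (a - b) • gen t x = 0 := by
      rw [sub_smul]; exact sub_eq_zero.mpr hab
    suffices h : a - b = 0 from sub_eq_zero.mp h
    obtain ⟨W, hxW, c, hc⟩ := TopCat.Presheaf.exists_germ_eq X.presheaf (a - b)
    -- shrink to genLocus
    let W' : X.Opens := W ⊓ CohB1.genLocus L t
    have hxW' : x ∈ W' := ⟨hxW, hx⟩
    let c' : Γ(X, W') := X.presheaf.map (homOfLE (inf_le_left : W' ≤ W)).op c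
    have hc' : (X.presheaf.germ W' x hxW').hom c' = a - b := by
      rw [← hc]
      exact TopCat.Presheaf.germ_res_apply X.presheaf (homOfLE (inf_le_left : W' ≤ W)) x hxW' c
    have h1 : (L.presheaf.germ W' x hxW').hom (c' • sec t W') = 0 := by
      rw [germ_smul'', hc', germ_sec, hsub]
    obtain ⟨W'', hxW'', iU, iV, hW''⟩ := TopCat.Presheaf.germ_eq L.presheaf x hxW' hxW'
      (c' • sec t W') 0 (by rw [map_zero]; exact h1)
    rw [map_zero] at hW''
    have hle : W'' ≤ W' := iU.le
    have h2 : (X.presheaf.map (homOfLE hle).op c' : Γ(X, W'')) • sec t W'' = 0 := by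
      rw [← res_sec t (homOfLE hle), ← map_smul']
      exact hW''
    have h3 : X.presheaf.map (homOfLE hle).op c' = 0 := by
      apply (bijective_app_of_le_genLocus t (hle.trans inf_le_right)).1
      simp only
      rw [h2, zero_smul]
    rw [← hc', ← TopCat.Presheaf.germ_res_apply X.presheaf (homOfLE hle) x hxW'' c', h3, map_zero]
  · -- surjective
    intro v
    obtain ⟨W, hxW, s, hs⟩ := TopCat.Presheaf.exists_germ_eq L.presheaf v
    let W' : X.Opens := W ⊓ CohB1.genLocus L t
    have hxW' : x ∈ W' := ⟨hxW, hx⟩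
    obtain ⟨c, hc⟩ := (bijective_app_of_le_genLocus t (inf_le_right : W' ≤ _)).2
      (L.presheaf.map (homOfLE (inf_le_left : W' ≤ W)).op s)
    refine ⟨(X.presheaf.germ W' x hxW').hom c, ?_⟩
    simp only at hc ⊢
    rw [← germ_sec t x W' hxW', ← germ_smul'', hc, ← hs]
    exact TopCat.Presheaf.germ_res_apply L.presheaf (homOfLE (inf_le_left : W' ≤ W)) x hxW' s


/-- membership in `I • L_x` in terms of the coordinate with respect to the generator -/
theorem smul_gen_mem_iff (t : Coh.structureModule X ⟶ L) (x : X)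
    (hx : x ∈ CohB1.genLocus L t) (I : Ideal (X.presheaf.stalk x)) (a : X.presheaf.stalk x) :
    a • gen t x ∈ (I • (⊤ : Submodule (X.presheaf.stalk x) (L.presheaf.stalk x))) ↔ a ∈ I := by
  have hbij := bijective_smul_gen t x hx
  let φ : X.presheaf.stalk x →ₗ[X.presheaf.stalk x] L.presheaf.stalk x :=
    LinearMap.toSpanSingleton (X.presheaf.stalk x) (L.presheaf.stalk x) (gen t x)
  have hφ : ∀ b, φ b = b • gen t x := fun b => rfl
  have hrange : LinearMap.range φ = ⊤ := LinearMap.range_eq_top.mpr hbij.2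
  have hmap : (I • (⊤ : Submodule (X.presheaf.stalk x) (L.presheaf.stalk x))) =
      Submodule.map φ I := by
    rw [← hrange, ← Submodule.map_top, ← Submodule.map_smul'', smul_eq_mul, Ideal.mul_top]
  constructor
  · intro h
    rw [hmap] at h
    obtain ⟨a', ha', haa'⟩ := h
    have : a' = a := hbij.1 haa'
    rw [← this]; exact ha'
  · intro h
    exact Submodule.smul_mem_smul h trivial

theorem exists_eq_smul_gen (t : Coh.structureModule X ⟶ L) (x : X)
    (hx : x ∈ CohB1.genLocus L t) (v : L.presheaf.stalk x) :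
    ∃ a : X.presheaf.stalk x, v = a • gen t x := by
  obtain ⟨a, ha⟩ := (bijective_smul_gen t x hx).2 v
  exact ⟨a, ha.symm⟩

end General


section Pn

variable (k : Type u) [Field k] (n : ℕ)
variable {X : Scheme.{u}} (f : X ⟶ Proj (CohB1.polyGrading n k))

/-- `f⁻¹ D₊(x_i)` is in the generating locus of the pulled-back coordinate `x_i` -/
theorem preimage_Dp_le (i : Fin (n + 1)) :
    f ⁻¹ᵁ Dp k n i ≤ CohB1.genLocus _ (nu f i) := by
  rw [← genLocus_tP k n i]
  exact le_genLocus_pullHom f isInvertible_twist_one (tP k n i)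

theorem genLocus_nu (i : Fin (n + 1)) :
    CohB1.genLocus _ (nu f i) = f ⁻¹ᵁ Dp k n i := by
  have h := Groth.Agent.Lib.helper11.InvPullback.genLocus_pullback f
    (Twist.twist (CohB1.polyGrading n k) ((1 : ℕ) : ℤ)) isInvertible_twist_one
    (tP k n i) (Groth.Agent.Lib.helper11.InvMod.pullbackUnitIso f).symm
  rw [genLocus_tP k n i] at h
  exact h

/-- the germ of the pulled-back coordinate `x_l` in terms of the generator `x_i` -/
theorem gen_nu (i l : Fin (n + 1)) (x : X) (hx : f x ∈ Dp k n i) :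
    gen (nu f l) x =
      (f.stalkMap x).hom (((Proj (CohB1.polyGrading n k)).presheaf.germ (Dp k n i) (f x) hx).hom
        (cP k n i l)) • gen (nu f i) x := by
  have hV := preimage_Dp_le k n f i
  have hD : Dp k n i ≤ CohB1.genLocus _ (tP k n i) := (genLocus_tP k n i).ge
  have h1 : ratio (nu f i) (nu f l) (f ⁻¹ᵁ Dp k n i) hV = f.app (Dp k n i) (cP k n i l) := by
    unfold nu
    rw [ratio_pullHom f (tP k n i) (tP k n l) (Dp k n i) hD, ratio_tP]
  have h2 := ratio_smul (nu f i) (nu f l) (f ⁻¹ᵁ Dp k n i) hV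
  have hx' : x ∈ f ⁻¹ᵁ Dp k n i := hx
  have h3 := congrArg (((Scheme.Modules.pullback f).obj
    (Twist.twist (CohB1.polyGrading n k) ((1 : ℕ) : ℤ))).presheaf.germ (f ⁻¹ᵁ Dp k n i) x hx').hom h2
  rw [germ_smul'', germ_sec, germ_sec, h1] at h3
  rw [← h3]
  congr 1
  exact (Scheme.Hom.germ_stalkMap_apply f (Dp k n i) x hx (cP k n i l)).symm


/-! ### The sections `s_c = Σ c_l s_l` of the statement -/

variable {k n}
variable (pX : X ⟶ Spec (CommRingCat.of k)) (g : X ⟶ CohB1.ProjSpace n k)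

/-- the pullback of `O(1)` -/
noncomputable abbrev Lf : X.Modules :=
  (Scheme.Modules.pullback g).obj (Twist.twistProjSpace n k 1)

/-- the section `Σ c_l s_l` -/
noncomputable abbrev sC (c : Fin (n + 1) → k) : ProjUP.Γm (Lf g) :=
  ∑ i, ProjUP.toGlobal pX (c i) • ProjUP.pullSec g (Twist.twistProjSpace n k 1) (ProjUP.coord n k i)

/-- `s_c` vanishes at `P` -/
noncomputable abbrev Van (c : Fin (n + 1) → k) (P : X) : Prop :=
  ((Lf g).presheaf.germ ⊤ P trivial).hom (sC pX g c) ∈
    (IsLocalRing.maximalIdeal ↑(X.presheaf.stalk P) •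
      (⊤ : Submodule ↑(X.presheaf.stalk P) ↑((Lf g).presheaf.stalk P)))

theorem pullSec_coord (l : Fin (n + 1)) :
    ProjUP.pullSec g (Twist.twistProjSpace n k 1) (ProjUP.coord n k l) = sec (nu g l) ⊤ := by
  have h0 : sec (tP k n l) ⊤ = ProjUP.coord n k l := by
    rw [sec_tP]
    rfl
  have h2 := sec_pullHom g (tP k n l) ⊤
  refine Eq.trans ?_ h2.symm
  exact congrArg (Groth.Agent.Lib.helper12.PullTensor.unitSec g
    (Twist.twist (CohB1.polyGrading n k) ((1 : ℕ) : ℤ)) ⊤) h0.symm

variable (k n) in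
/-- the function `Σ c_l x_l / x_i` on `D₊(x_i)` -/
noncomputable def gC (i : Fin (n + 1)) (c : Fin (n + 1) → k) :
    Γ(Proj (CohB1.polyGrading n k), Dp k n i) :=
  ∑ l, ((Proj (CohB1.polyGrading n k)).presheaf.map (homOfLE (le_top : Dp k n i ≤ ⊤)).op).hom
    (ProjUP.toGlobal (CohB1.ProjSpace.toSpec n k) (c l)) * cP k n i l

theorem toGlobal_eq (hg : g ≫ CohB1.ProjSpace.toSpec n k = pX) (a : k) :
    ProjUP.toGlobal pX a = g.appTop.hom (ProjUP.toGlobal (CohB1.ProjSpace.toSpec n k) a) := by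
  subst hg
  unfold ProjUP.toGlobal
  rw [Scheme.Hom.comp_appTop]
  rfl

theorem germ_sC (hg : g ≫ CohB1.ProjSpace.toSpec n k = pX) (i : Fin (n + 1))
    (c : Fin (n + 1) → k) (x : X) (hx : g x ∈ Dp k n i) :
    ((Lf g).presheaf.germ ⊤ x trivial).hom (sC pX g c) =
      (g.stalkMap x).hom (((Proj (CohB1.polyGrading n k)).presheaf.germ (Dp k n i) (g x) hx).hom
        (gC k n i c)) • gen (nu g i) x := by
  have hR : (g.stalkMap x).hom
      (((Proj (CohB1.polyGrading n k)).presheaf.germ (Dp k n i) (g x) hx).hom (gC k n i c)) =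
      ∑ l, (g.stalkMap x).hom (((Proj (CohB1.polyGrading n k)).presheaf.germ (Dp k n i) (g x) hx).hom
        (((Proj (CohB1.polyGrading n k)).presheaf.map (homOfLE (le_top : Dp k n i ≤ ⊤)).op).hom
          (ProjUP.toGlobal (CohB1.ProjSpace.toSpec n k) (c l)))) *
        (g.stalkMap x).hom (((Proj (CohB1.polyGrading n k)).presheaf.germ (Dp k n i) (g x) hx).hom
          (cP k n i l)) := by
    unfold gC
    refine (congrArg (g.stalkMap x).hom ((map_sum _ _ _).trans
      (Finset.sum_congr rfl fun l _ => map_mul _ _ _))).trans ?_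
    exact (map_sum (g.stalkMap x).hom _ _).trans (Finset.sum_congr rfl fun l _ => map_mul _ _ _)
  have hL : ((Lf g).presheaf.germ ⊤ x trivial).hom (sC pX g c) =
      ∑ l, ((Lf g).presheaf.germ ⊤ x trivial).hom (ProjUP.toGlobal pX (c l) •
        ProjUP.pullSec g (Twist.twistProjSpace n k 1) (ProjUP.coord n k l)) :=
    map_sum _ _ _
  rw [hL, hR, Finset.sum_smul]
  refine Finset.sum_congr rfl fun l _ => ?_
  rw [pullSec_coord, germ_smul'', mul_smul]
  have h1 : ((Lf g).presheaf.germ ⊤ x trivial).hom (sec (nu g l) ⊤) = gen (nu g l) x := rfl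
  rw [h1, gen_nu k n g i l x hx]
  congr 1
  rw [toGlobal_eq pX g hg]
  have h2 := Scheme.Hom.germ_stalkMap_apply g ⊤ x trivial
    (ProjUP.toGlobal (CohB1.ProjSpace.toSpec n k) (c l))
  have h3 := TopCat.Presheaf.germ_res_apply (Proj (CohB1.polyGrading n k)).presheaf
    (homOfLE (le_top : Dp k n i ≤ ⊤)) (g x) hx
    (ProjUP.toGlobal (CohB1.ProjSpace.toSpec n k) (c l))
  rw [h3]
  exact h2.symm


theorem stalkMap_mem_iff (x : X) (a : (CohB1.ProjSpace n k).presheaf.stalk (g x)) :
    (g.stalkMap x).hom a ∈ IsLocalRing.maximalIdeal (X.presheaf.stalk x) ↔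
      a ∈ IsLocalRing.maximalIdeal ((CohB1.ProjSpace n k).presheaf.stalk (g x)) := by
  rw [IsLocalRing.mem_maximalIdeal, IsLocalRing.mem_maximalIdeal, mem_nonunits_iff,
    mem_nonunits_iff, not_iff_not]
  exact isUnit_map_iff (g.stalkMap x).hom a

/-- vanishing of `s_c` at `x` in terms of the function `Σ c_l x_l / x_i` at `g x` -/
theorem van_iff (hg : g ≫ CohB1.ProjSpace.toSpec n k = pX) (i : Fin (n + 1))
    (c : Fin (n + 1) → k) (x : X) (hx : g x ∈ Dp k n i) :
    Van pX g c x ↔ g x ∉ (Proj (CohB1.polyGrading n k)).basicOpen (gC k n i c) := by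
  unfold Van
  rw [germ_sC pX g hg i c x hx]
  have hxg : x ∈ CohB1.genLocus _ (nu g i) := preimage_Dp_le k n g i hx
  have h1 := smul_gen_mem_iff (nu g i) x hxg (IsLocalRing.maximalIdeal (X.presheaf.stalk x))
    ((g.stalkMap x).hom (((Proj (CohB1.polyGrading n k)).presheaf.germ (Dp k n i) (g x) hx).hom
        (gC k n i c)))
  refine h1.trans ?_
  rw [stalkMap_mem_iff, IsLocalRing.mem_maximalIdeal, mem_nonunits_iff, not_iff_not]
  exact ((Proj (CohB1.polyGrading n k)).mem_basicOpen (gC k n i c) (g x) hx).symm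


theorem exists_mem_Dp (y : Proj (CohB1.polyGrading n k)) : ∃ i : Fin (n + 1), y ∈ Dp k n i := by
  obtain ⟨i, hi⟩ := Groth.Agent.Lib.helper28.TwistPn.exists_X_notMem n k y
  exact ⟨i, (ProjectiveSpectrum.mem_basicOpen (CohB1.polyGrading n k) _ y).mpr hi⟩

/-- the set of germs at `P` of sections `s_c` vanishing at `P` -/
noncomputable abbrev VanGerms (P : X) : Set ↑((Lf g).presheaf.stalk P) :=
  {v | ∃ c : Fin (n + 1) → k,
    v = ((Lf g).presheaf.germ ⊤ P trivial).hom (sC pX g c) ∧
      v ∈ (IsLocalRing.maximalIdeal ↑(X.presheaf.stalk P) •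
        (⊤ : Submodule ↑(X.presheaf.stalk P) ↑((Lf g).presheaf.stalk P)))}

/-- **(⇐)**: separating points (weak form) and tangent vectors implies closed immersion -/
theorem isClosedImmersion_of_sep [IsAlgClosed k] [IsProper pX]
    (hg : g ≫ CohB1.ProjSpace.toSpec n k = pX)
    (hsep : ∀ P Q : X, IsClosed ({P} : Set X) → IsClosed ({Q} : Set X) → P ≠ Q →
      ∃ c : Fin (n + 1) → k, (Van pX g c P ∧ ¬ Van pX g c Q) ∨ (Van pX g c Q ∧ ¬ Van pX g c P))
    (htan : ∀ P : X, IsClosed ({P} : Set X) →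
      (IsLocalRing.maximalIdeal ↑(X.presheaf.stalk P) •
          (⊤ : Submodule ↑(X.presheaf.stalk P) ↑((Lf g).presheaf.stalk P))) ≤
        Submodule.span ↑(X.presheaf.stalk P) (VanGerms pX g P) ⊔
          (IsLocalRing.maximalIdeal ↑(X.presheaf.stalk P) ^ 2 •
            (⊤ : Submodule ↑(X.presheaf.stalk P) ↑((Lf g).presheaf.stalk P)))) :
    IsClosedImmersion g := by
  haveI hq : IsProper (CohB1.ProjSpace.toSpec n k) :=
    Groth.Agent.Lib.helper19.ProjSpaceProper.proper_toSpec n k
  haveI : IsProper (g ≫ CohB1.ProjSpace.toSpec n k) := by rw [hg]; infer_instance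
  haveI : IsProper g := IsProper.of_comp g (CohB1.ProjSpace.toSpec n k)
  haveI : LocallyOfFiniteType (g ≫ CohB1.ProjSpace.toSpec n k) := inferInstance
  refine Groth.Agent.S10867.result' k g (CohB1.ProjSpace.toSpec n k) ?_ ?_
  · -- injectivity on closed points
    intro P hP Q hQ hPQ
    by_contra hne
    obtain ⟨i, hi⟩ := exists_mem_Dp (g P)
    have hiQ : g Q ∈ Dp k n i := by
      have : g Q = g P := hPQ.symm
      rw [this]; exact hi
    obtain ⟨c, hc⟩ := hsep P Q hP hQ hne
    have h1 := van_iff pX g hg i c P hi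
    have h2 := van_iff pX g hg i c Q hiQ
    have h3 : g Q = g P := hPQ.symm
    rw [h3] at h2
    rcases hc with ⟨hcP, hcQ⟩ | ⟨hcQ, hcP⟩
    · exact hcQ (h2.mpr (h1.mp hcP))
    · exact hcP (h1.mpr (h2.mp hcQ))
  · -- cotangent condition
    intro P hP
    obtain ⟨i, hi⟩ := exists_mem_Dp (g P)
    have hPg : P ∈ CohB1.genLocus _ (nu g i) := preimage_Dp_le k n g i hi
    apply le_antisymm
    · refine sup_le ?_ ?_
      · rw [Ideal.map_le_iff_le_comap]
        intro a ha
        exact (stalkMap_mem_iff g P a).mpr ha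
      · exact Ideal.pow_le_self two_ne_zero
    · intro b hb
      have h1 : b • gen (nu g i) P ∈ (IsLocalRing.maximalIdeal ↑(X.presheaf.stalk P) •
          (⊤ : Submodule ↑(X.presheaf.stalk P) ↑((Lf g).presheaf.stalk P))) :=
        (smul_gen_mem_iff (nu g i) P hPg _ b).mpr hb
      have h2 := htan P hP h1
      obtain ⟨w, hw, w', hw', hww'⟩ := Submodule.mem_sup.mp h2
      -- w in the span
      have hspan : ∀ w ∈ Submodule.span ↑(X.presheaf.stalk P) (VanGerms pX g P),
          ∃ a ∈ Ideal.map (g.stalkMap P).hom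
            (IsLocalRing.maximalIdeal ((CohB1.ProjSpace n k).presheaf.stalk (g P))),
            w = a • gen (nu g i) P := by
        intro w hw
        induction hw using Submodule.span_induction with
        | mem v hv =>
          obtain ⟨c, rfl, hvm⟩ := hv
          refine ⟨_, ?_, germ_sC pX g hg i c P hi⟩
          apply Ideal.mem_map_of_mem
          have h3 : Van pX g c P := hvm
          rw [van_iff pX g hg i c P hi] at h3
          rw [IsLocalRing.mem_maximalIdeal, mem_nonunits_iff]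
          intro hu
          exact h3 (((Proj (CohB1.polyGrading n k)).mem_basicOpen (gC k n i c) (g P) hi).mpr hu)
        | zero => exact ⟨0, Ideal.zero_mem _, (zero_smul _ _).symm⟩
        | add v₁ v₂ _ _ h₁ h₂ =>
          obtain ⟨a₁, ha₁, rfl⟩ := h₁
          obtain ⟨a₂, ha₂, rfl⟩ := h₂
          exact ⟨a₁ + a₂, Ideal.add_mem _ ha₁ ha₂, (add_smul _ _ _).symm⟩
        | smul r v _ h₁ =>
          obtain ⟨a₁, ha₁, rfl⟩ := h₁
          exact ⟨r * a₁, Ideal.mul_mem_left _ _ ha₁, (mul_smul _ _ _).symm⟩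
      obtain ⟨a, ha, rfl⟩ := hspan w hw
      obtain ⟨a', rfl⟩ := exists_eq_smul_gen (nu g i) P hPg w'
      have ha' : a' ∈ IsLocalRing.maximalIdeal ↑(X.presheaf.stalk P) ^ 2 :=
        (smul_gen_mem_iff (nu g i) P hPg _ a').mp hw'
      have hb' : b = a + a' := by
        apply (bijective_smul_gen (nu g i) P hPg).1
        simp only
        exact hww'.symm.trans (add_smul _ _ _).symm
      rw [hb']
      exact Submodule.add_mem_sup ha ha'

end Pn


section PnPoints

open HomogeneousLocalization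

variable (k : Type u) [Field k] (n : ℕ)

theorem X_mem_one (i : Fin (n + 1)) :
    (MvPolynomial.X i : MvPolynomial (Fin (n + 1)) k) ∈ CohB1.polyGrading n k 1 :=
  Groth.Agent.Lib.helper28.TwistPn.X_mem n k i

theorem isAffineOpen_Dp (i : Fin (n + 1)) : IsAffineOpen (Dp k n i) :=
  Proj.isAffineOpen_basicOpen (CohB1.polyGrading n k) _ (X_mem_one k n i) one_pos

/-- the structure map `k → Γ(P^n, D₊(x_i))` -/
noncomputable def psiD (i : Fin (n + 1)) : k →+* Γ(Proj (CohB1.polyGrading n k), Dp k n i) :=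
  ((Proj (CohB1.polyGrading n k)).presheaf.map (homOfLE (le_top : Dp k n i ≤ ⊤)).op).hom.comp
    (ProjUP.toGlobal (CohB1.ProjSpace.toSpec n k))

theorem gC_eq (i : Fin (n + 1)) (c : Fin (n + 1) → k) :
    gC k n i c = ∑ l, psiD k n i (c l) * cP k n i l := rfl

theorem psiD_eq (i : Fin (n + 1)) (c : k) :
    psiD k n i c = (Proj.awayToSection (CohB1.polyGrading n k)
      (MvPolynomial.X i : MvPolynomial (Fin (n + 1)) k)).hom
        (Groth.Agent.Lib.helper12.ProjBC.strHom (CohB1.polyGrading n k) (MvPolynomial.X i) c) :=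
  Groth.Agent.Lib.helper12.ProjGlobalFn.gl_restrict (CohB1.polyGrading n k) c
    (MvPolynomial.X i) (X_mem_one k n i) one_pos

theorem finiteType_psiD (i : Fin (n + 1)) : (psiD k n i).FiniteType := by
  haveI : IsProper (CohB1.ProjSpace.toSpec n k) :=
    Groth.Agent.Lib.helper19.ProjSpaceProper.proper_toSpec n k
  have e : Dp k n i ≤ (CohB1.ProjSpace.toSpec n k) ⁻¹ᵁ ⊤ := fun _ _ => trivial
  have h1 : ((CohB1.ProjSpace.toSpec n k).appLE ⊤ (Dp k n i) e).hom.FiniteType :=
    (CohB1.ProjSpace.toSpec n k).finiteType_appLE (isAffineOpen_top _) (isAffineOpen_Dp k n i) e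
  have h3 : ((Scheme.ΓSpecIso (CommRingCat.of k)).inv.hom).FiniteType :=
    RingHom.FiniteType.of_surjective _
      (ConcreteCategory.bijective_of_isIso (Scheme.ΓSpecIso (CommRingCat.of k)).inv).2
  have h4 := RingHom.FiniteType.comp h1 h3
  exact h4


/-- the surjection `k[x_0..x_n] → Γ(P^n, D₊(x_i))`, dehomogenisation -/
noncomputable def Theta (i : Fin (n + 1)) :
    MvPolynomial (Fin (n + 1)) k →+* Γ(Proj (CohB1.polyGrading n k), Dp k n i) :=
  (Proj.awayToSection (CohB1.polyGrading n k)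
      (MvPolynomial.X i : MvPolynomial (Fin (n + 1)) k)).hom.comp
    (dehom (CohB1.polyGrading n k) (X_mem_one k n i))

theorem Theta_surjective (i : Fin (n + 1)) : Function.Surjective (Theta k n i) := by
  intro b
  have hbij := ConcreteCategory.bijective_of_isIso
    (Proj.basicOpenIsoAway (CohB1.polyGrading n k) _ (X_mem_one k n i) one_pos).hom
  obtain ⟨z, hz⟩ := hbij.2 b
  obtain ⟨m, a, ha, rfl⟩ := Away.mk_surjective (𝒜 := CohB1.polyGrading n k) (X_mem_one k n i) z
  have ha' : a ∈ CohB1.polyGrading n k m := by rwa [smul_eq_mul, mul_one] at ha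
  refine ⟨a, ?_⟩
  unfold Theta
  rw [RingHom.comp_apply, dehom_apply_of_mem (CohB1.polyGrading n k) (X_mem_one k n i) ha']
  rw [← hz, Proj.basicOpenIsoAway_hom]

theorem Theta_X (i l : Fin (n + 1)) : Theta k n i (MvPolynomial.X l) = cP k n i l := by
  unfold Theta
  rw [RingHom.comp_apply,
    dehom_apply_of_mem (CohB1.polyGrading n k) (X_mem_one k n i) (X_mem_one k n l), cP_eq]

theorem Theta_C (i : Fin (n + 1)) (c : k) : Theta k n i (MvPolynomial.C c) = psiD k n i c := by
  unfold Theta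
  rw [RingHom.comp_apply, psiD_eq]
  congr 1
  exact dehom_zero (CohB1.polyGrading n k) (X_mem_one k n i)
    (algebraMap k (CohB1.polyGrading n k 0) c)

/-- modulo the ideal `(x_l/x_i - a_l)`, every function on `D₊(x_i)` is a constant -/
theorem exists_sub_mem_span (i : Fin (n + 1)) (a : Fin (n + 1) → k)
    (b : Γ(Proj (CohB1.polyGrading n k), Dp k n i)) :
    ∃ c : k, b - psiD k n i c ∈
      Ideal.span (Set.range fun l => cP k n i l - psiD k n i (a l)) := by
  obtain ⟨p, rfl⟩ := Theta_surjective k n i b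
  induction p using MvPolynomial.induction_on with
  | C c => exact ⟨c, by rw [Theta_C, sub_self]; exact Ideal.zero_mem _⟩
  | add p q hp hq =>
    obtain ⟨c, hc⟩ := hp
    obtain ⟨d, hd⟩ := hq
    refine ⟨c + d, ?_⟩
    have : Theta k n i (p + q) - psiD k n i (c + d) =
        (Theta k n i p - psiD k n i c) + (Theta k n i q - psiD k n i d) := by
      rw [map_add, map_add]; ring
    rw [this]
    exact Ideal.add_mem _ hc hd
  | mul_X p l hp =>
    obtain ⟨c, hc⟩ := hp
    refine ⟨c * a l, ?_⟩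
    have hl : cP k n i l - psiD k n i (a l) ∈
        Ideal.span (Set.range fun l => cP k n i l - psiD k n i (a l)) :=
      Ideal.subset_span ⟨l, rfl⟩
    have : Theta k n i (p * MvPolynomial.X l) - psiD k n i (c * a l) =
        (Theta k n i p - psiD k n i c) * cP k n i l +
          psiD k n i c * (cP k n i l - psiD k n i (a l)) := by
      rw [map_mul, map_mul, Theta_X]; ring
    rw [this]
    exact Ideal.add_mem _ (Ideal.mul_mem_right _ _ hc) (Ideal.mul_mem_left _ _ hl)


variable {k n}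

/-- the prime ideal of a point of `D₊(x_i)` -/
noncomputable abbrev Npt (i : Fin (n + 1)) (y : Proj (CohB1.polyGrading n k))
    (hy : y ∈ Dp k n i) : Ideal Γ(Proj (CohB1.polyGrading n k), Dp k n i) :=
  ((isAffineOpen_Dp k n i).primeIdealOf ⟨y, hy⟩).asIdeal

theorem mem_Npt_iff (i : Fin (n + 1)) (y : Proj (CohB1.polyGrading n k)) (hy : y ∈ Dp k n i)
    (b : Γ(Proj (CohB1.polyGrading n k), Dp k n i)) :
    b ∈ Npt i y hy ↔ y ∉ (Proj (CohB1.polyGrading n k)).basicOpen b := by
  letI := (Proj (CohB1.polyGrading n k)).presheaf.algebra_section_stalk (U := Dp k n i) ⟨y, hy⟩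
  haveI := (isAffineOpen_Dp k n i).isLocalization_stalk ⟨y, hy⟩
  rw [← IsLocalization.AtPrime.to_map_mem_maximal_iff
    ((Proj (CohB1.polyGrading n k)).presheaf.stalk y) (Npt i y hy) b,
    IsLocalRing.mem_maximalIdeal, mem_nonunits_iff, not_iff_not]
  exact ((Proj (CohB1.polyGrading n k)).mem_basicOpen b y hy).symm

theorem psiD_notMem_Npt (i : Fin (n + 1)) (y : Proj (CohB1.polyGrading n k)) (hy : y ∈ Dp k n i)
    (c : k) (hc : c ≠ 0) : psiD k n i c ∉ Npt i y hy := by
  intro h
  have h1 : psiD k n i c * psiD k n i c⁻¹ ∈ Npt i y hy := Ideal.mul_mem_right _ _ h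
  rw [← map_mul, mul_inv_cancel₀ hc, map_one] at h1
  exact (Ideal.IsPrime.ne_top inferInstance) ((Ideal.eq_top_iff_one _).mpr h1)

/-- a point of `D₊(x_i)` with coordinates `a` has prime ideal `(x_l/x_i - a_l)` -/
theorem Npt_eq_span (i : Fin (n + 1)) (y : Proj (CohB1.polyGrading n k)) (hy : y ∈ Dp k n i)
    (a : Fin (n + 1) → k)
    (ha : ∀ l, cP k n i l - psiD k n i (a l) ∈ Npt i y hy) :
    Npt i y hy = Ideal.span (Set.range fun l => cP k n i l - psiD k n i (a l)) := by
  have hle : Ideal.span (Set.range fun l => cP k n i l - psiD k n i (a l)) ≤ Npt i y hy := by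
    rw [Ideal.span_le]
    rintro _ ⟨l, rfl⟩
    exact ha l
  refine le_antisymm ?_ hle
  intro b hb
  obtain ⟨c, hc⟩ := exists_sub_mem_span k n i a b
  have h1 : psiD k n i c ∈ Npt i y hy := by
    have : psiD k n i c = b - (b - psiD k n i c) := by ring
    rw [this]
    exact Ideal.sub_mem _ hb (hle hc)
  have hc0 : c = 0 := by
    by_contra hne
    exact psiD_notMem_Npt i y hy c hne h1
  rw [hc0, map_zero, sub_zero] at hc
  exact hc

theorem eq_of_coords (i : Fin (n + 1)) (y y' : Proj (CohB1.polyGrading n k))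
    (hy : y ∈ Dp k n i) (hy' : y' ∈ Dp k n i) (a : Fin (n + 1) → k)
    (ha : ∀ l, cP k n i l - psiD k n i (a l) ∈ Npt i y hy)
    (ha' : ∀ l, cP k n i l - psiD k n i (a l) ∈ Npt i y' hy') : y = y' := by
  have h1 := Npt_eq_span i y hy a ha
  have h2 := Npt_eq_span i y' hy' a ha'
  have h3 : (isAffineOpen_Dp k n i).primeIdealOf ⟨y, hy⟩ =
      (isAffineOpen_Dp k n i).primeIdealOf ⟨y', hy'⟩ := PrimeSpectrum.ext (h1.trans h2.symm)
  exact congrArg Subtype.val
    (Groth.Agent.S10867.primeIdealOf_injective (isAffineOpen_Dp k n i) h3)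

/-- closed points have coordinates in `k` -/
theorem exists_coords [IsAlgClosed k] (i : Fin (n + 1)) (y : Proj (CohB1.polyGrading n k))
    (hy : y ∈ Dp k n i) (hcl : IsClosed ({y} : Set (Proj (CohB1.polyGrading n k)))) :
    ∃ a : Fin (n + 1) → k, ∀ l, cP k n i l - psiD k n i (a l) ∈ Npt i y hy := by
  have hmax : (Npt i y hy).IsMaximal :=
    (isAffineOpen_Dp k n i).primeIdealOf_isMaximal_of_isClosed ⟨y, hy⟩ hcl
  have h := Groth.Agent.S10867.residue_alg (psiD k n i) (finiteType_psiD k n i) (Npt i y hy) hmax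
  choose a ha using fun l => h (cP k n i l)
  exact ⟨a, ha⟩

/-- the maximal ideal of the local ring at a point with coordinates `a` -/
theorem maximalIdeal_eq_span (i : Fin (n + 1)) (y : Proj (CohB1.polyGrading n k))
    (hy : y ∈ Dp k n i) (a : Fin (n + 1) → k)
    (ha : ∀ l, cP k n i l - psiD k n i (a l) ∈ Npt i y hy) :
    IsLocalRing.maximalIdeal ((Proj (CohB1.polyGrading n k)).presheaf.stalk y) =
      Ideal.span (Set.range fun l =>
        ((Proj (CohB1.polyGrading n k)).presheaf.germ (Dp k n i) y hy).hom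
          (cP k n i l - psiD k n i (a l))) := by
  letI := (Proj (CohB1.polyGrading n k)).presheaf.algebra_section_stalk (U := Dp k n i) ⟨y, hy⟩
  haveI := (isAffineOpen_Dp k n i).isLocalization_stalk ⟨y, hy⟩
  have h1 := IsLocalization.AtPrime.map_eq_maximalIdeal (Npt i y hy)
    ((Proj (CohB1.polyGrading n k)).presheaf.stalk y)
  rw [← h1, Npt_eq_span i y hy a ha, Ideal.map_span, ← Set.range_comp]
  rfl


theorem cP_self (i : Fin (n + 1)) : cP k n i i = 1 := by
  have hD : Dp k n i ≤ CohB1.genLocus _ (tP k n i) := (genLocus_tP k n i).ge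
  rw [← ratio_tP i i hD]
  exact ratio_self _ _ _

/-- the coefficient vector of the linear form `x_l - a_l x_i` -/
noncomputable def cvec (a : Fin (n + 1) → k) (i l : Fin (n + 1)) : Fin (n + 1) → k :=
  Pi.single l (1 : k) - Pi.single i (a l)

theorem sum_single (i l : Fin (n + 1)) (v : k) :
    ∑ j, psiD k n i ((Pi.single l v : Fin (n + 1) → k) j) * cP k n i j =
      psiD k n i v * cP k n i l := by
  classical
  rw [Finset.sum_eq_single l]
  · rw [Pi.single_eq_same]
  · intro j _ hj
    rw [Pi.single_eq_of_ne hj, map_zero, zero_mul]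
  · intro h; exact absurd (Finset.mem_univ l) h

theorem gC_cvec (a : Fin (n + 1) → k) (i l : Fin (n + 1)) :
    gC k n i (cvec a i l) = cP k n i l - psiD k n i (a l) := by
  rw [gC_eq]
  unfold cvec
  simp only [Pi.sub_apply, map_sub, sub_mul]
  rw [Finset.sum_sub_distrib, sum_single, sum_single, map_one, one_mul, cP_self, mul_one]

/-- `D(x_i/x_{i'}) ⊆ D₊(x_i)` -/
theorem basicOpen_cP_le (i' i : Fin (n + 1)) :
    (Proj (CohB1.polyGrading n k)).basicOpen (cP k n i' i) ≤ Dp k n i := by
  intro z hz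
  have hz' : z ∈ Dp k n i' := (Proj (CohB1.polyGrading n k)).basicOpen_le _ hz
  have hzg : z ∈ CohB1.genLocus _ (tP k n i') := by rw [genLocus_tP]; exact hz'
  rw [← genLocus_tP k n i]
  have hu : IsUnit (((Proj (CohB1.polyGrading n k)).presheaf.germ (Dp k n i') z hz').hom
      (cP k n i' i)) :=
    ((Proj (CohB1.polyGrading n k)).mem_basicOpen (cP k n i' i) z hz').mp hz
  have h1 : gen (tP k n i) z = ((Proj (CohB1.polyGrading n k)).presheaf.germ (Dp k n i') z hz').hom
      (cP k n i' i) • gen (tP k n i') z := by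
    have h2 := congrArg ((Twist.twist (CohB1.polyGrading n k) ((1 : ℕ) : ℤ)).presheaf.germ
      (Dp k n i') z hz').hom (cP_smul k n i' i)
    rw [germ_smul'', germ_sec, germ_sec] at h2
    exact h2.symm
  obtain ⟨j, hj⟩ := exists_mem_genLocus_of_span (k := 1) isInvertible_twist_one
    (fun _ => tP k n i) z (by
      rw [eq_top_iff]
      intro v _
      obtain ⟨b, rfl⟩ := exists_eq_smul_gen (tP k n i') z hzg v
      obtain ⟨u, hu'⟩ := hu
      have : b • gen (tP k n i') z = (b * ↑u⁻¹) • gen (tP k n i) z := by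
        rw [h1, ← hu', ← mul_smul, mul_assoc, Units.inv_mul, mul_one]
      rw [this]
      exact Submodule.smul_mem _ _ (Submodule.subset_span ⟨0, rfl⟩))
  exact hj


variable {X : Scheme.{u}} (pX : X ⟶ Spec (CommRingCat.of k)) (g : X ⟶ CohB1.ProjSpace n k)

theorem van_cvec (hg : g ≫ CohB1.ProjSpace.toSpec n k = pX) (i l : Fin (n + 1))
    (a : Fin (n + 1) → k) (x : X) (hx : g x ∈ Dp k n i) :
    Van pX g (cvec a i l) x ↔ cP k n i l - psiD k n i (a l) ∈ Npt i (g x) hx := by
  rw [van_iff pX g hg i _ x hx, gC_cvec, mem_Npt_iff]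
  exact Iff.rfl

/-- **(⇒)**, separation of points (strong form) -/
theorem sep_points_of_isClosedImmersion [IsAlgClosed k] [IsClosedImmersion g]
    (hg : g ≫ CohB1.ProjSpace.toSpec n k = pX)
    (P Q : X) (hP : IsClosed ({P} : Set X)) (hPQ : P ≠ Q) :
    ∃ c : Fin (n + 1) → k, Van pX g c P ∧ ¬ Van pX g c Q := by
  have hycl : IsClosed ({g P} : Set (Proj (CohB1.polyGrading n k))) := by
    have := g.isClosedEmbedding.isClosedMap _ hP
    rwa [Set.image_singleton] at this
  obtain ⟨i, hi⟩ := exists_mem_Dp (g P)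
  obtain ⟨a, ha⟩ := exists_coords i (g P) hi hycl
  by_contra hcon
  push Not at hcon
  have hvQ : ∀ l, Van pX g (cvec a i l) Q := fun l =>
    hcon _ ((van_cvec pX g hg i l a P hi).mpr (ha l))
  -- step 1 : g Q ∈ D₊(x_i)
  have hiQ : g Q ∈ Dp k n i := by
    by_contra hnot
    obtain ⟨i', hi'⟩ := exists_mem_Dp (g Q)
    have h1 : cP k n i' i ∈ Npt i' (g Q) hi' := by
      rw [mem_Npt_iff]
      intro h
      exact hnot (basicOpen_cP_le i' i h)
    have h2 : ∀ l, cP k n i' l ∈ Npt i' (g Q) hi' := by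
      intro l
      have h3 := (mem_Npt_iff i' (g Q) hi' _).mpr ((van_iff pX g hg i' _ Q hi').mp (hvQ l))
      rw [gC_eq] at h3
      unfold cvec at h3
      simp only [Pi.sub_apply, map_sub, sub_mul] at h3
      rw [Finset.sum_sub_distrib, sum_single, sum_single, map_one, one_mul] at h3
      have : cP k n i' l = (cP k n i' l - psiD k n i' (a l) * cP k n i' i) +
          psiD k n i' (a l) * cP k n i' i := by ring
      rw [this]
      exact Ideal.add_mem _ h3 (Ideal.mul_mem_left _ _ h1)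
    have h4 := h2 i'
    rw [cP_self] at h4
    exact (Ideal.IsPrime.ne_top inferInstance) ((Ideal.eq_top_iff_one _).mpr h4)
  -- step 2
  have ha' : ∀ l, cP k n i l - psiD k n i (a l) ∈ Npt i (g Q) hiQ := fun l =>
    (van_cvec pX g hg i l a Q hiQ).mp (hvQ l)
  have heq : g P = g Q := eq_of_coords i (g P) (g Q) hi hiQ a ha ha'
  exact hPQ (g.isClosedEmbedding.injective heq)

/-- **(⇒)**, separation of tangent vectors -/
theorem sep_tangent_of_isClosedImmersion [IsAlgClosed k] [IsClosedImmersion g]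
    (hg : g ≫ CohB1.ProjSpace.toSpec n k = pX) (P : X) (hP : IsClosed ({P} : Set X)) :
    (IsLocalRing.maximalIdeal ↑(X.presheaf.stalk P) •
        (⊤ : Submodule ↑(X.presheaf.stalk P) ↑((Lf g).presheaf.stalk P))) ≤
      Submodule.span ↑(X.presheaf.stalk P) (VanGerms pX g P) := by
  have hycl : IsClosed ({g P} : Set (Proj (CohB1.polyGrading n k))) := by
    have := g.isClosedEmbedding.isClosedMap _ hP
    rwa [Set.image_singleton] at this
  obtain ⟨i, hi⟩ := exists_mem_Dp (g P)
  obtain ⟨a, ha⟩ := exists_coords i (g P) hi hycl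
  have hPg : P ∈ CohB1.genLocus _ (nu g i) := preimage_Dp_le k n g i hi
  intro v hv
  obtain ⟨b, rfl⟩ := exists_eq_smul_gen (nu g i) P hPg v
  have hb : b ∈ IsLocalRing.maximalIdeal ↑(X.presheaf.stalk P) :=
    (smul_gen_mem_iff (nu g i) P hPg _ b).mp hv
  obtain ⟨a0, rfl⟩ := g.stalkMap_surjective P b
  have ha0 : a0 ∈ IsLocalRing.maximalIdeal ((CohB1.ProjSpace n k).presheaf.stalk (g P)) :=
    (stalkMap_mem_iff g P a0).mp hb
  have hmax := maximalIdeal_eq_span i (g P) hi a ha
  have ha0' : a0 ∈ Ideal.span (Set.range fun l =>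
        ((Proj (CohB1.polyGrading n k)).presheaf.germ (Dp k n i) (g P) hi).hom
          (cP k n i l - psiD k n i (a l))) := by
    rw [← hmax]; exact ha0
  obtain ⟨r, hr⟩ := (Ideal.mem_span_range_iff_exists_fun).mp ha0'
  have hsum : (g.stalkMap P).hom a0 • gen (nu g i) P =
      ∑ l, (g.stalkMap P).hom (r l) •
        ((Lf g).presheaf.germ ⊤ P trivial).hom (sC pX g (cvec a i l)) := by
    rw [← hr, map_sum, Finset.sum_smul]
    refine Finset.sum_congr rfl fun l _ => ?_
    rw [germ_sC pX g hg i (cvec a i l) P hi, gC_cvec, map_mul, mul_smul]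
    rfl
  rw [hsum]
  refine Submodule.sum_mem _ fun l _ => Submodule.smul_mem _ _ (Submodule.subset_span ?_)
  exact ⟨cvec a i l, rfl, (van_cvec pX g hg i l a P hi).mpr (ha l)⟩

end PnPoints

end Groth.Agent.Lib.helper16.SepPts
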