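import Groth.Agent.Lib.Helper16.RegImmDim1
import Groth.Agent.Lib.Helper26.CMPoly3
import Groth.Agent.Lib.Helper17.NodalNormal

/-!
# The spectrum of a discrete valuation ring as a base for Chow homology (helper16)

* `asIdeal_eq_bot_or`: the two points of `Spec R`;
* `deltaS`, `isSetup_spec_dvr`: `(Spec R, δ_S)` with `δ_S(η) = 0`, `δ_S(s) = -1` is a setup.
-/

set_option autoImplicit false
universe u
open CategoryTheory CategoryTheory.Limits AlgebraicGeometry TopologicalSpace Opposite IsLocalRing

namespace Groth.Agent.Lib.helper16.SpFun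

variable (R : Type u) [CommRing R] [IsDomain R] [IsDiscreteValuationRing R]

theorem asIdeal_eq_bot_or (p : PrimeSpectrum R) :
    p.asIdeal = ⊥ ∨ p.asIdeal = maximalIdeal R := by
  by_cases h : p.asIdeal = ⊥
  · exact Or.inl h
  · exact Or.inr (IsLocalRing.eq_maximalIdeal (p.isPrime.isMaximal h))

open Classical in
/-- the dimension function on `Spec R`: `0` at the generic point and `-1` at the closed point. -/
noncomputable def deltaS (p : Spec (CommRingCat.of R)) : ℤ :=
  if (show PrimeSpectrum R from p).asIdeal = ⊥ then 0 else -1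

theorem deltaS_of_eq_bot {p : Spec (CommRingCat.of R)}
    (h : (show PrimeSpectrum R from p).asIdeal = ⊥) : deltaS R p = 0 := by
  unfold deltaS; rw [if_pos h]

theorem deltaS_of_ne_bot {p : Spec (CommRingCat.of R)}
    (h : (show PrimeSpectrum R from p).asIdeal ≠ ⊥) : deltaS R p = -1 := by
  unfold deltaS; rw [if_neg h]

theorem maximalIdeal_ne_bot : maximalIdeal R ≠ ⊥ := fun h =>
  IsDiscreteValuationRing.not_isField R (IsLocalRing.isField_iff_maximalIdeal_eq.mpr h)

theorem isDimFun_deltaS : Cyc.IsDimFun (Spec (CommRingCat.of R)) (deltaS R) := by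
  intro x y hxy hne
  have hle : (show PrimeSpectrum R from x).asIdeal ≤ (show PrimeSpectrum R from y).asIdeal :=
    (PrimeSpectrum.le_iff_specializes (show PrimeSpectrum R from x)
      (show PrimeSpectrum R from y)).2 hxy
  have hne' : (show PrimeSpectrum R from x).asIdeal ≠ (show PrimeSpectrum R from y).asIdeal :=
    fun h => hne (PrimeSpectrum.ext h)
  have hx : (show PrimeSpectrum R from x).asIdeal = ⊥ := by
    rcases asIdeal_eq_bot_or R x with h | h
    · exact h
    · exfalso
      rcases asIdeal_eq_bot_or R y with h' | h'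
      · rw [h, h'] at hle
        exact maximalIdeal_ne_bot R (le_bot_iff.1 hle)
      · exact hne' (h.trans h'.symm)
  have hy : (show PrimeSpectrum R from y).asIdeal ≠ ⊥ := fun h => hne' (hx.trans h.symm)
  rw [deltaS_of_eq_bot R hx, deltaS_of_ne_bot R hy]
  exact ⟨by norm_num, fun _ => by norm_num⟩

theorem isSetup_spec_dvr : Cyc.IsSetup (Spec (CommRingCat.of R)) (deltaS R) := by
  refine ⟨inferInstance, fun x => ?_, isDimFun_deltaS R⟩
  letI : Algebra R ((Spec (CommRingCat.of R)).presheaf.stalk x) :=
    StructureSheaf.stalkAlgebra R x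
  haveI : IsLocalization.AtPrime ((Spec (CommRingCat.of R)).presheaf.stalk x)
      (show PrimeSpectrum R from x).asIdeal := StructureSheaf.IsLocalization.to_stalk R x
  have hdim : ringKrullDim ((Spec (CommRingCat.of R)).presheaf.stalk x) ≤ 1 := by
    rw [IsLocalization.AtPrime.ringKrullDim_eq_height (show PrimeSpectrum R from x).asIdeal,
      ← IsDiscreteValuationRing.ringKrullDim_eq_one R]
    exact Ideal.height_le_ringKrullDim_of_ne_top Ideal.IsPrime.ne_top'
  haveI := Groth.Agent.Lib.helper26.CMPoly.isCohenMacaulayRing_of_isDomain_of_dim_le_one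
    ((Spec (CommRingCat.of R)).presheaf.stalk x) hdim
  exact Groth.Agent.Lib.helper26.CMPoly.isUniversallyCatenary_of_cm _

end Groth.Agent.Lib.helper16.SpFun
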