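import Groth.Agent.Lib.Helper16.SpFun1
import Groth.Agent.Lib.Helper16.RegImmDim3
import Groth.Agent.Lib.Helper3.QFinTop
import Groth.Agent.S9684

/-!
# The dimension function on a scheme locally of finite type over a discrete valuation ring
(helper16)

* `deltaX a`: `δ_X(x) = δ_S(a x) + trdeg κ(x)/κ(a x)`; `isDimFun_deltaX`;
* `deltaX_fiberι_of_eq_bot`, `deltaX_fiberι_of_ne_bot`: comparison with the dimension functions
  of the fibres.
-/

set_option autoImplicit false
universe u
open CategoryTheory CategoryTheory.Limits AlgebraicGeometry TopologicalSpace Opposite IsLocalRing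

namespace Groth.Agent.Lib.helper16.SpFun

open Groth.Agent.Lib.helper3.DimIneq Groth.Agent.Lib.helper3.FibreField
  Groth.Agent.Lib.helper3.QFinTop Groth.Agent.Lib.helper16.RegImmDim

variable (R : Type u) [CommRing R] [IsDomain R] [IsDiscreteValuationRing R]
  {X : Scheme.{u}} (a : X ⟶ Spec (CommRingCat.of R)) [LocallyOfFiniteType a]

/-- the transcendence degree of `κ(x)` over `κ(a x)` as a natural number. -/
noncomputable def tdNat (x : X) : ℕ := (exists_nat_td_residueFieldMap a x).choose

theorem tdNat_spec (x : X) : td (a.residueFieldMap x).hom = (tdNat R a x : Cardinal.{u}) :=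
  (exists_nat_td_residueFieldMap a x).choose_spec

/-- the dimension function on `X` induced by `δ_S`. -/
noncomputable def deltaX (x : X) : ℤ := deltaS R (a x) + tdNat R a x

theorem deltaCompat_deltaX : Cyc.DeltaCompat a (deltaX R a) (deltaS R) := fun x =>
  ⟨tdNat R a x, tdNat_spec R a x, rfl⟩

theorem isDimFun_deltaX : Cyc.IsDimFun X (deltaX R a) :=
  Groth.Agent.S9684.result a (deltaS R) (isSetup_spec_dvr R) (deltaX R a) (deltaCompat_deltaX R a)

/-- the transcendence degree on a fibre agrees with the one on `X`. -/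
theorem td_fiber (y : Spec (CommRingCat.of R)) (z : a.fiber y) :
    td ((a.fiberToSpecResidueField y).residueFieldMap z).hom =
      td (a.residueFieldMap (a.fiberι y z)).hom := by
  exact (td_residueFieldMap_eq_td_resMap ((Spec (CommRingCat.of R)).residueField y)
    (a.fiberToSpecResidueField y) z).trans (td_resMap_fiber a y z)

theorem deltaX_fiberι (y : Spec (CommRingCat.of R)) (δy : ↥(a.fiber y) → ℤ)
    (hδ : Cyc.DeltaCompat (a.fiberToSpecResidueField y) δy (fun _ => 0)) (z : a.fiber y) :
    deltaX R a (a.fiberι y z) = deltaS R y + δy z := by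
  obtain ⟨n, hn, hδn⟩ := hδ z
  have h1 : td ((a.fiberToSpecResidueField y).residueFieldMap z).hom = (n : Cardinal.{u}) := hn
  rw [td_fiber, tdNat_spec] at h1
  have h2 : tdNat R a (a.fiberι y z) = n := by exact_mod_cast h1
  unfold deltaX
  rw [h2, hδn, fiberι_mem]
  ring

theorem asIdeal_genericPoint :
    (show PrimeSpectrum R from genericPoint ↥(Spec (CommRingCat.of R))).asIdeal = ⊥ := by
  rw [genericPoint_eq_bot_of_affine (CommRingCat.of R)]
  rfl

theorem deltaS_genericPoint : deltaS R (genericPoint ↥(Spec (CommRingCat.of R))) = 0 :=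
  deltaS_of_eq_bot R (asIdeal_genericPoint R)

theorem deltaS_closedPoint : deltaS R (closedPoint R) = -1 :=
  deltaS_of_ne_bot R (maximalIdeal_ne_bot R)

end Groth.Agent.Lib.helper16.SpFun
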