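import Groth.Agent.Lib.Helper16.SpFun2
import Groth.Agent.Lib.Helper16.ModLen3
import Groth.Agent.Lib.Helper17.FibreStalk

/-!
# Stalks of the fibres of a scheme over an affine base (helper16)

* `map_maximalIdeal_stalkMap`: `𝔪_{S,a x} O_{X,x} = 𝔭_{a x} O_{X,x}` for `S = Spec R`;
* `length_stalk_pullback_of_surjective`: the length of the stalk of a pullback along a morphism
  surjective on the stalk;
* `length_stalk_fiber`: the length of the stalk of the restriction of a module to a fibre;
* `tau_mem_pOf_iff`: `r ∈ R` vanishes at a generization `ξ` of `x` iff `r ∈ 𝔭_{a ξ}`.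
-/

set_option autoImplicit false
universe u
open CategoryTheory CategoryTheory.Limits AlgebraicGeometry TopologicalSpace Opposite IsLocalRing
open Pointwise

namespace Groth.Agent.Lib.helper16.SpFun

open Groth.Agent.Lib.helper16.CohStalk Groth.Agent.Lib.helper16.OrdGen
  Groth.Agent.Lib.helper16.DivSum Groth.Agent.Lib.helper16.ModLen
  Groth.Agent.Lib.helper17.StalkPullback Groth.Agent.Lib.helper17.FibreStalk
  Groth.Agent.Lib.helper17.NodalNormal

section general

variable {R : Type u} [CommRing R] {X : Scheme.{u}} (a : X ⟶ Spec (CommRingCat.of R))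

/-- `𝔪_{S,a x} O_{X,x} = 𝔭_{a x} O_{X,x}`. -/
theorem map_maximalIdeal_stalkMap (x : X) :
    (maximalIdeal ((Spec (CommRingCat.of R)).presheaf.stalk (a x))).map (a.stalkMap x).hom =
      ((show PrimeSpectrum R from a x).asIdeal).map (tau a x) := by
  letI : Algebra R ((Spec (CommRingCat.of R)).presheaf.stalk (a x)) :=
    StructureSheaf.stalkAlgebra R (a x)
  haveI : IsLocalization.AtPrime ((Spec (CommRingCat.of R)).presheaf.stalk (a x))
      (show PrimeSpectrum R from a x).asIdeal := StructureSheaf.IsLocalization.to_stalk R (a x)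
  rw [← IsLocalization.AtPrime.map_eq_maximalIdeal (show PrimeSpectrum R from a x).asIdeal
    ((Spec (CommRingCat.of R)).presheaf.stalk (a x)), Ideal.map_map]
  congr 1
  exact stalkMap_comp_algebraMap a x

theorem stalkSpecializes_tau {x ξ : X} (h : ξ ⤳ x) (r : R) :
    (X.presheaf.stalkSpecializes h).hom (tau a x r) = tau a ξ r :=
  ConcreteCategory.congr_hom (TopCat.Presheaf.germ_stalkSpecializes X.presheaf
    (show x ∈ (⊤ : X.Opens) from trivial) h) (Coh.toGlobal a r)

/-- `r ∈ R` vanishes at the generization `ξ` of `x` iff `r ∈ 𝔭_{a ξ}`. -/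
theorem tau_mem_pOf_iff {x ξ : X} (h : ξ ⤳ x) (r : R) :
    tau a x r ∈ pOf h ↔ r ∈ (show PrimeSpectrum R from a ξ).asIdeal := by
  rw [mem_pOf_iff, asIdeal_apply a ξ, Ideal.mem_comap]
  have := stalkSpecializes_tau a h r
  change (X.presheaf.stalkSpecializes h).hom (tau a x r) ∈ _ ↔ _
  rw [this]

end general

/-- the length of the stalk of a pullback along a morphism surjective on the stalk. -/
theorem length_stalk_pullback_of_surjective {D X : Scheme.{u}} (i : D ⟶ X) (F : X.Modules)
    [F.IsQuasicoherent] (d : D) (hs : Function.Surjective (i.stalkMap d).hom) :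
    Module.length (D.presheaf.stalk d) (((Scheme.Modules.pullback i).obj F).presheaf.stalk d) =
      Module.length (X.presheaf.stalk (i d)) (F.presheaf.stalk (i d) ⧸
        (RingHom.ker (i.stalkMap d).hom) •
          (⊤ : Submodule (X.presheaf.stalk (i d)) (F.presheaf.stalk (i d)))) := by
  letI := (i.stalkMap d).hom.toAlgebra
  letI := FlatMod.moduleStalkOver i ((Scheme.Modules.pullback i).obj F) d
  haveI := isScalarTower_moduleStalkOver i ((Scheme.Modules.pullback i).obj F) d
  obtain ⟨ψ, hψ⟩ := exists_isBaseChange_stalk_pullback i F d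
  exact length_of_isBaseChange_surjective ψ hψ hs

section fibre

variable {R : Type u} [CommRing R] {X : Scheme.{u}} (a : X ⟶ Spec (CommRingCat.of R))

/-- the length of the stalk of the restriction of a quasi-coherent module to a fibre. -/
theorem length_stalk_fiber (y : Spec (CommRingCat.of R)) (z : a.fiber y) (F : X.Modules)
    [F.IsQuasicoherent] :
    Module.length ((a.fiber y).presheaf.stalk z)
        (((Scheme.Modules.pullback (a.fiberι y)).obj F).presheaf.stalk z) =
      Module.length (X.presheaf.stalk (a.fiberι y z)) (F.presheaf.stalk (a.fiberι y z) ⧸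
        (((show PrimeSpectrum R from a (a.fiberι y z)).asIdeal).map (tau a (a.fiberι y z))) •
          (⊤ : Submodule (X.presheaf.stalk (a.fiberι y z)) (F.presheaf.stalk (a.fiberι y z)))) := by
  rw [length_stalk_pullback_of_surjective (a.fiberι y) F z ((a.fiberι y).stalkMap_surjective z),
    ker_fiberι_stalkMap, map_maximalIdeal_stalkMap]

theorem length_stalk_fiber_of_eq_bot (y : Spec (CommRingCat.of R)) (z : a.fiber y) (F : X.Modules)
    [F.IsQuasicoherent] (hy : (show PrimeSpectrum R from y).asIdeal = ⊥) :
    Module.length ((a.fiber y).presheaf.stalk z)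
        (((Scheme.Modules.pullback (a.fiberι y)).obj F).presheaf.stalk z) =
      Module.length (X.presheaf.stalk (a.fiberι y z)) (F.presheaf.stalk (a.fiberι y z)) := by
  rw [length_stalk_fiber, Groth.Agent.Lib.helper3.QFinTop.fiberι_mem, hy, Ideal.map_bot,
    Submodule.bot_smul]
  exact (Submodule.quotEquivOfEqBot _ rfl).length_eq

theorem length_stalk_fiber_of_eq_span (y : Spec (CommRingCat.of R)) (z : a.fiber y) (F : X.Modules)
    [F.IsQuasicoherent] (ϖ : R) (hy : (show PrimeSpectrum R from y).asIdeal = Ideal.span {ϖ}) :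
    Module.length ((a.fiber y).presheaf.stalk z)
        (((Scheme.Modules.pullback (a.fiberι y)).obj F).presheaf.stalk z) =
      Module.length (X.presheaf.stalk (a.fiberι y z)) (F.presheaf.stalk (a.fiberι y z) ⧸
        (tau a (a.fiberι y z) ϖ) •
          (⊤ : Submodule (X.presheaf.stalk (a.fiberι y z)) (F.presheaf.stalk (a.fiberι y z)))) := by
  rw [length_stalk_fiber, Groth.Agent.Lib.helper3.QFinTop.fiberι_mem, hy, Ideal.map_span,
    Set.image_singleton, Submodule.ideal_span_singleton_smul]

end fibre

end Groth.Agent.Lib.helper16.SpFun
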