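import Groth.Agent.Lib.Helper16.SpFun3

/-!
# Specialization of the cycle of a flat coherent module over a discrete valuation ring (helper16)
-/

set_option autoImplicit false
universe u
open CategoryTheory CategoryTheory.Limits AlgebraicGeometry TopologicalSpace Opposite IsLocalRing
open Pointwise

namespace Groth.Agent.Lib.helper16.SpFun

open Groth.Agent.Lib.helper16.CohStalk Groth.Agent.Lib.helper16.OrdGen
  Groth.Agent.Lib.helper16.DivSum Groth.Agent.Lib.helper16.ModLen
  Groth.Agent.Lib.helper16.StalkLoc
  Groth.Agent.Lib.helper17.StalkPullback Groth.Agent.Lib.helper17.FibreStalk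
  Groth.Agent.Lib.helper17.NodalNormal Groth.Agent.Lib.helper3.QFinTop

section general

variable {R : Type u} [CommRing R] {X : Scheme.{u}} (a : X ⟶ Spec (CommRingCat.of R))

/-- the multiplicity term of `Cyc.spFun` as an order of vanishing. -/
theorem spFun_mult_eq_ord {x ξ : X} (h : ξ ⤳ x) (ϖ : R)
    (hx : (show PrimeSpectrum R from a x).asIdeal = Ideal.span {ϖ}) :
    Module.length (X.presheaf.stalk x) (Cyc.LocQuot x ξ h ⧸
      (maximalIdeal ((Spec (CommRingCat.of R)).presheaf.stalk (a x))).map
        ((Ideal.Quotient.mk (RingHom.ker (Cyc.specMap x ξ h))).comp (a.stalkMap x).hom)) =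
    Ring.ord (Cyc.LocQuot x ξ h) (Ideal.Quotient.mk (pOf h) (tau a x ϖ)) := by
  have hI : (maximalIdeal ((Spec (CommRingCat.of R)).presheaf.stalk (a x))).map
        ((Ideal.Quotient.mk (RingHom.ker (Cyc.specMap x ξ h))).comp (a.stalkMap x).hom) =
      Ideal.span {Ideal.Quotient.mk (pOf h) (tau a x ϖ)} := by
    rw [← Ideal.map_map, map_maximalIdeal_stalkMap, hx, Ideal.map_span, Set.image_singleton,
      Ideal.map_span, Set.image_singleton]
  rw [hI]
  unfold Ring.ord
  exact Module.length_eq_of_surjective Ideal.Quotient.mk_surjective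

/-- a generic point of the support through `x` avoids a regular element. -/
theorem exists_generization_notMem [IsLocallyNoetherian X] (F : X.Modules) (hF : Coh.IsCoh F)
    (x : X) (c : X.presheaf.stalk x)
    (hreg : Function.Injective (fun m : F.presheaf.stalk x => c • m))
    (hnt : Nontrivial (F.presheaf.stalk x)) :
    ∃ (ξ : X) (h : ξ ⤳ x), Nontrivial (F.presheaf.stalk ξ) ∧ c ∉ pOf h := by
  haveI : F.IsQuasicoherent := hF.1
  haveI : Module.Finite (X.presheaf.stalk x) (F.presheaf.stalk x) := finite_stalk_of_isCoh F hF x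
  have hann : Module.annihilator (X.presheaf.stalk x) (F.presheaf.stalk x) ≠ ⊤ := by
    rw [Ne, Module.annihilator_eq_top_iff]
    exact not_subsingleton _
  obtain ⟨⟨p, hp⟩⟩ := Ideal.nonempty_minimalPrimes hann
  have hpp : p.IsPrime := hp.1.1
  have hsp := specializes_fromSpecStalk x (⟨p, hpp⟩ : PrimeSpectrum (X.presheaf.stalk x))
  have hpof := pOf_fromSpecStalk x (⟨p, hpp⟩ : PrimeSpectrum (X.presheaf.stalk x)) hsp
  refine ⟨X.fromSpecStalk x ⟨p, hpp⟩, hsp, ?_, ?_⟩
  · rw [nontrivial_stalk_iff_mem_support F hsp]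
    have : (⟨pOf hsp, inferInstance⟩ : PrimeSpectrum (X.presheaf.stalk x)) = ⟨p, hpp⟩ :=
      PrimeSpectrum.ext hpof
    rw [this]
    exact Module.mem_support_iff_of_finite.2 hp.1.2
  · rw [hpof]
    exact (show IsSMulRegular (F.presheaf.stalk x) c from hreg).notMem_of_mem_minimalPrimes hp

end general

variable (R : Type u) [CommRing R] [IsDomain R] [IsDiscreteValuationRing R]
  {X : Scheme.{u}} (a : X ⟶ Spec (CommRingCat.of R))

theorem apply_eq_or (ξ : X) :
    a ξ = genericPoint ↥(Spec (CommRingCat.of R)) ∨ a ξ = closedPoint R := by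
  rcases asIdeal_eq_bot_or R (a ξ) with h | h
  · left
    exact PrimeSpectrum.ext (h.trans (asIdeal_genericPoint R).symm)
  · right
    exact PrimeSpectrum.ext h

theorem genericPoint_ne_closedPoint :
    genericPoint ↥(Spec (CommRingCat.of R)) ≠ closedPoint R := by
  intro h
  have h1 := asIdeal_genericPoint R
  rw [h] at h1
  exact maximalIdeal_ne_bot R h1

/-- a uniformizer acts injectively on the stalks of a module flat over `R`. -/
theorem injective_tau_smul (F : X.Modules) (hflat : FlatMod.IsFlatOver a F) (x : X) (ϖ : R)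
    (hϖ : ϖ ≠ 0) : Function.Injective (fun m : F.presheaf.stalk x => tau a x ϖ • m) := by
  letI : Algebra R ((Spec (CommRingCat.of R)).presheaf.stalk (a x)) :=
    StructureSheaf.stalkAlgebra R (a x)
  haveI : IsLocalization.AtPrime ((Spec (CommRingCat.of R)).presheaf.stalk (a x))
      (show PrimeSpectrum R from a x).asIdeal := StructureSheaf.IsLocalization.to_stalk R (a x)
  letI := FlatMod.moduleStalkOver a F x
  haveI : Module.Flat ((Spec (CommRingCat.of R)).presheaf.stalk (a x)) (F.presheaf.stalk x) :=
    hflat x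
  haveI : IsDomain ((Spec (CommRingCat.of R)).presheaf.stalk (a x)) :=
    IsLocalization.isDomain_of_atPrime _ (show PrimeSpectrum R from a x).asIdeal
  have hinj : Function.Injective
      (algebraMap R ((Spec (CommRingCat.of R)).presheaf.stalk (a x))) :=
    IsLocalization.injective _ (show (show PrimeSpectrum R from a x).asIdeal.primeCompl ≤
      nonZeroDivisors R from Ideal.primeCompl_le_nonZeroDivisors _)
  have hnz : algebraMap R ((Spec (CommRingCat.of R)).presheaf.stalk (a x)) ϖ ∈
      nonZeroDivisors ((Spec (CommRingCat.of R)).presheaf.stalk (a x)) :=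
    mem_nonZeroDivisors_of_ne_zero (fun h0 => hϖ (hinj (by rw [h0, map_zero])))
  have hr := Module.Flat.isSMulRegular_of_nonZeroDivisors (M := F.presheaf.stalk x) hnz
  have e : (a.stalkMap x).hom (algebraMap R ((Spec (CommRingCat.of R)).presheaf.stalk (a x)) ϖ) =
      tau a x ϖ := RingHom.congr_fun (stalkMap_comp_algebraMap a x) ϖ
  intro m m' h
  apply hr
  change (a.stalkMap x).hom (algebraMap R ((Spec (CommRingCat.of R)).presheaf.stalk (a x)) ϖ) • m =
    (a.stalkMap x).hom (algebraMap R ((Spec (CommRingCat.of R)).presheaf.stalk (a x)) ϖ) • m'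
  rw [e]
  exact h

end Groth.Agent.Lib.helper16.SpFun
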