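import Groth.Agent.Lib.Helper16.SpFun5

/-!
# `sp [F_η]_r = [F_s]_r` (helper16): the sum formula
-/

set_option autoImplicit false
universe u
open CategoryTheory CategoryTheory.Limits AlgebraicGeometry TopologicalSpace Opposite IsLocalRing
open Pointwise

namespace Groth.Agent.Lib.helper16.SpFun

open Groth.Agent.Lib.helper16.CohStalk Groth.Agent.Lib.helper16.OrdGen
  Groth.Agent.Lib.helper16.DivSum Groth.Agent.Lib.helper16.ModLen
  Groth.Agent.Lib.helper16.StalkLoc
  Groth.Agent.Lib.helper17.StalkPullback Groth.Agent.Lib.helper17.FibreStalk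
  Groth.Agent.Lib.helper17.NodalNormal Groth.Agent.Lib.helper3.QFinTop

variable (R : Type u) [CommRing R] [IsDomain R] [IsDiscreteValuationRing R]
  {X : Scheme.{u}} (a : X ⟶ Spec (CommRingCat.of R)) [LocallyOfFiniteType a]
  [IsLocallyNoetherian X]
  (δη : ↥(a.fiber (genericPoint ↥(Spec (CommRingCat.of R)))) → ℤ)
  (δs : ↥(a.fiber (IsLocalRing.closedPoint R)) → ℤ)
  (hδη : Cyc.DeltaCompat (a.fiberToSpecResidueField (genericPoint ↥(Spec (CommRingCat.of R))))
    δη (fun _ => 0))
  (hδs : Cyc.DeltaCompat (a.fiberToSpecResidueField (IsLocalRing.closedPoint R)) δs (fun _ => 0))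
  (r : ℤ) (F : X.Modules) (hF : Coh.IsCoh F) (hflat : FlatMod.IsFlatOver a F)
  (hdim : ∀ ζ : ↥(a.fiber (genericPoint ↥(Spec (CommRingCat.of R)))),
    Nontrivial (((Scheme.Modules.pullback
      (a.fiberι (genericPoint ↥(Spec (CommRingCat.of R))))).obj F).presheaf.stalk ζ) → δη ζ ≤ r)

include hδη hδs hF hflat hdim in
/-- **`sp [F_η]_r = [F_s]_r`** on coefficient functions. -/
theorem spFun_sheafFun_eq (x : ↥(a.fiber (IsLocalRing.closedPoint R))) :
    Cyc.spFun a (genericPoint ↥(Spec (CommRingCat.of R))) (IsLocalRing.closedPoint R) δη δs r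
      (Cyc.sheafFun δη r ((Scheme.Modules.pullback
        (a.fiberι (genericPoint ↥(Spec (CommRingCat.of R))))).obj F)) x =
    Cyc.sheafFun δs r ((Scheme.Modules.pullback
      (a.fiberι (IsLocalRing.closedPoint R))).obj F) x := by
  classical
  haveI : F.IsQuasicoherent := hF.1
  obtain ⟨ϖ, hϖ⟩ := IsDiscreteValuationRing.exists_irreducible R
  have hm : maximalIdeal R = Ideal.span {ϖ} := hϖ.maximalIdeal_eq
  unfold Cyc.spFun
  show _ = if δs x = r then _ else 0
  by_cases hk : δs x = r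
  swap
  · rw [if_neg hk, if_neg hk]
  rw [if_pos hk, if_pos hk]
  set xb := a.fiberι (closedPoint R) x with hxb
  have haxb : a xb = closedPoint R := fiberι_mem a (closedPoint R) x
  have haxb' : (show PrimeSpectrum R from a xb).asIdeal = Ideal.span {ϖ} := by
    rw [haxb]; exact hm
  have hreg := injective_tau_smul R a F hflat xb ϖ hϖ.ne_zero
  have hcm : tau a xb ϖ ∈ maximalIdeal (X.presheaf.stalk xb) := by
    have h2 := asIdeal_apply a xb
    have h3 : ϖ ∈ (show PrimeSpectrum R from a xb).asIdeal := by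
      rw [haxb']; exact Ideal.mem_span_singleton_self _
    rw [h2] at h3
    exact h3
  have hδxb : deltaX R a xb = r - 1 := by
    rw [hxb, deltaX_fiberι R a _ δs hδs x, deltaS_closedPoint, hk]; ring
  -- points of the support on the closed fibre
  have hFL : ∀ (ξ : X) (h : ξ ⤳ xb), Nontrivial (F.presheaf.stalk ξ) → tau a xb ϖ ∈ pOf h →
      ξ = xb := by
    intro ξ h hnt hmem
    by_contra hne
    rw [tau_mem_pOf_iff] at hmem
    have hξs : a ξ = closedPoint R := by
      rcases apply_eq_or R a ξ with h1 | h1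
      · exfalso
        rw [h1, asIdeal_genericPoint R] at hmem
        exact hϖ.ne_zero hmem
      · exact h1
    obtain ⟨x', rfl⟩ := exists_fiber_point a _ ξ hξs
    have hnt' := nontrivial_fiber_of_eq_span a _ x' F hF ϖ hm hnt
    have h1 := delta_le_of_nontrivial R a δη δs hδη hδs r F hF hflat hdim x' hnt'
    have h2 := (isDimFun_deltaX R a _ _ h hne).1
    rw [hδxb, deltaX_fiberι R a _ δs hδs x', deltaS_closedPoint] at h2
    omega
  rw [length_stalk_fiber_of_eq_span a _ x F ϖ hm,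
    toNat_length_quot_module_eq_finsum_points F hF xb (tau a xb ϖ) hcm hreg hFL]
  -- reindex
  have hne : ∀ ζ : ↥(a.fiber (genericPoint ↥(Spec (CommRingCat.of R)))),
      a.fiberι (genericPoint ↥(Spec (CommRingCat.of R))) ζ ≠ xb := by
    intro ζ he
    have h1 := fiberι_mem a (genericPoint ↥(Spec (CommRingCat.of R))) ζ
    rw [he, haxb] at h1
    exact genericPoint_ne_closedPoint R h1.symm
  let ι : {ζ : ↥(a.fiber (genericPoint ↥(Spec (CommRingCat.of R)))) // δη ζ = r ∧
      (a.fiberι (genericPoint ↥(Spec (CommRingCat.of R))) ζ) ⤳ xb} →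
        {ξ : X // ξ ⤳ xb ∧ ξ ≠ xb} :=
    fun ζ => ⟨a.fiberι (genericPoint ↥(Spec (CommRingCat.of R))) ζ.1, ζ.2.2, hne ζ.1⟩
  have hι : Function.Injective ι := by
    intro ζ ζ' h
    have h1 : a.fiberι (genericPoint ↥(Spec (CommRingCat.of R))) ζ.1 =
        a.fiberι (genericPoint ↥(Spec (CommRingCat.of R))) ζ'.1 := congrArg Subtype.val h
    exact Subtype.ext (fiberι_injective a _ h1)
  symm
  rw [← finsum_mem_univ, finsum_mem_inter_support_eq' _ Set.univ (Set.range ι) (by
    intro ξ hξ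
    simp only [Set.mem_univ, true_iff]
    have hnt : Nontrivial (F.presheaf.stalk ξ.1) := by
      by_contra hnt
      rw [not_nontrivial_iff_subsingleton] at hnt
      apply hξ
      show ((Module.length (X.presheaf.stalk ξ.1) (F.presheaf.stalk ξ.1)).toNat : ℤ) * _ = 0
      rw [Module.length_eq_zero]
      simp
    have hcp : tau a xb ϖ ∉ pOf ξ.2.1 := fun hmem => ξ.2.2 (hFL ξ.1 ξ.2.1 hnt hmem)
    rw [tau_mem_pOf_iff] at hcp
    have hξη : a ξ.1 = genericPoint ↥(Spec (CommRingCat.of R)) := by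
      rcases apply_eq_or R a ξ.1 with h1 | h1
      · exact h1
      · exfalso
        apply hcp
        rw [h1]
        change ϖ ∈ maximalIdeal R
        rw [hm]
        exact Ideal.mem_span_singleton_self _
    obtain ⟨ζ, hζ, hζr, hζδ⟩ := deltaX_le_of_generic R a δη hδη r F hF hdim ξ.1 hξη hnt
    have h2 := (isDimFun_deltaX R a _ _ ξ.2.1 ξ.2.2).1
    rw [hδxb, hζδ] at h2
    exact ⟨⟨ζ, by omega, by rw [hζ]; exact ξ.2.1⟩, Subtype.ext hζ⟩), finsum_mem_range hι]
  refine finsum_congr fun ζ => ?_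
  have hsh : Cyc.sheafFun δη r ((Scheme.Modules.pullback
        (a.fiberι (genericPoint ↥(Spec (CommRingCat.of R))))).obj F) ζ.1 =
      ((Module.length (X.presheaf.stalk (ι ζ).1) (F.presheaf.stalk (ι ζ).1)).toNat : ℤ) := by
    unfold Cyc.sheafFun
    rw [if_pos ζ.2.1, length_stalk_fiber_of_eq_bot a _ ζ.1 F (asIdeal_genericPoint R)]
  rw [hsh, spFun_mult_eq_ord a ζ.2.2 ϖ haxb']

end Groth.Agent.Lib.helper16.SpFun
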