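import Groth.Agent.Lib.Helper16.SpFun6
import Groth.Agent.Lib.Helper16.FLF5
import Groth.Agent.Lib.Helper16.CycClosed1
import Groth.Agent.Lib.Helper11.InvMod

/-!
# Closed subschemes flat over a discrete valuation ring: preparations (helper16)

* `length_self_ringEquiv`: the length of a ring over itself is invariant under ring isomorphisms;
* `nonempty_stalk_linearEquiv`: stalks of invertible modules;
* `isFlatOver_structureModule`: `O_W` is flat over `S` if `W → S` is flat;
* `length_stalk_fiber_structureModule`: the stalks of `O_W` restricted to a fibre;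
* `fibIso`: `W ×_X X_y ≅ W_y`;
* `subschemeFun_snd`, `subschemeFun_snd_eq_zero`: the cycle of `W ×_X X_y ⊆ X_y`.
-/

set_option autoImplicit false
universe u
open CategoryTheory CategoryTheory.Limits AlgebraicGeometry TopologicalSpace Opposite IsLocalRing
open Pointwise

namespace Groth.Agent.Lib.helper16.SpFun

open Groth.Agent.Lib.helper16.CohStalk Groth.Agent.Lib.helper16.OrdGen
  Groth.Agent.Lib.helper16.DivSum Groth.Agent.Lib.helper16.ModLen
  Groth.Agent.Lib.helper16.StalkLoc Groth.Agent.Lib.helper16.CycClosed
  Groth.Agent.Lib.helper17.StalkPullback Groth.Agent.Lib.helper17.FibreStalk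
  Groth.Agent.Lib.helper17.NodalNormal Groth.Agent.Lib.helper3.QFinTop

theorem length_self_ringEquiv {A B : Type*} [CommRing A] [CommRing B] (e : A ≃+* B) :
    Module.length A A = Module.length B B := by
  let f : A →ₛₗ[(e : A →+* B)] B :=
    { toFun := e
      map_add' := map_add e
      map_smul' := fun r m => by
        change e (r * m) = e r * e m
        exact map_mul e r m }
  have hf : Function.Bijective f := e.bijective
  haveI : RingHomSurjective (e : A →+* B) := ⟨e.surjective⟩
  rw [Module.length, Module.length, WithBot.unbot_inj,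
    Order.krullDim_eq_of_orderIso (Submodule.orderIsoMapComapOfBijective f hf)]

/-- the stalk of an invertible module is free of rank one -/
theorem nonempty_stalk_linearEquiv {X : Scheme.{u}} (L : X.Modules) (hL : PicF.IsInvertible L)
    (x : X) : Nonempty (L.presheaf.stalk x ≃ₗ[X.presheaf.stalk x] X.presheaf.stalk x) := by
  have h1 := (Groth.Agent.Lib.helper16.FLF.isInvertible_iff_isFinLocFreeOfRank_one L).mp hL
  obtain ⟨hfree, hfin⟩ := Groth.Agent.Lib.helper16.FLF.free_stalk_of_isFinLocFree L
    (Groth.Agent.Lib.helper16.FLF.isFinLocFree_of_isFinLocFreeOfRank h1) x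
  have hrk := Groth.Agent.Lib.helper16.FLF.finrank_stalk_of_isFinLocFreeOfRank L h1 x
  obtain ⟨e⟩ := Module.nonempty_linearEquiv_of_finrank_eq_one hrk
  exact ⟨e.symm⟩

theorem isCoh_structureModule (X : Scheme.{u}) : Coh.IsCoh (Coh.structureModule X) :=
  haveI : (Coh.structureModule X).IsQuasicoherent :=
    Groth.Agent.Lib.helper16.FLF.isQuasicoherent_of_isFinLocFree _
      (Groth.Agent.Lib.helper16.FLF.isFinLocFree_structureModule X)
  Groth.Agent.Lib.helper16.CohFinite.isCoh_of_finite_sections (Coh.structureModule X)
    (fun U : X.affineOpens => U.1) (fun U => U.2) (iSup_affineOpens_eq_top X)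
    (fun U => inferInstanceAs (Module.Finite Γ(X, U.1) Γ(X, U.1)))

/-- `O_W` is flat over `S` if `W → S` is flat. -/
theorem isFlatOver_structureModule {W S : Scheme.{u}} (f : W ⟶ S) [Flat f] :
    FlatMod.IsFlatOver f (Coh.structureModule W) := by
  intro w
  obtain ⟨e⟩ := nonempty_stalk_linearEquiv (Coh.structureModule W)
    (Groth.Agent.Lib.helper11.InvMod.isInvertible_structureModule W) w
  have hfl : (f.stalkMap w).hom.Flat := (Flat.iff_flat_stalkMap f).1 inferInstance w
  letI := (f.stalkMap w).hom.toAlgebra
  letI := FlatMod.moduleStalkOver f (Coh.structureModule W) w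
  haveI : Module.Flat (S.presheaf.stalk (f w)) (W.presheaf.stalk w) := hfl
  let e' : (Coh.structureModule W).presheaf.stalk w ≃ₗ[S.presheaf.stalk (f w)]
      W.presheaf.stalk w :=
    { e with
      map_smul' := fun r m => e.map_smul ((f.stalkMap w).hom r) m }
  exact Module.Flat.of_linearEquiv e'

section fibre

variable {X Y : Scheme.{u}} (f : X ⟶ Y)

/-- the stalks of the restriction of `O_X` to a fibre. -/
theorem length_stalk_fiber_structureModule (y : Y) (z : f.fiber y) :
    Module.length ((f.fiber y).presheaf.stalk z)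
        (((Scheme.Modules.pullback (f.fiberι y)).obj
          (Coh.structureModule X)).presheaf.stalk z) =
      Module.length ((f.fiber y).presheaf.stalk z) ((f.fiber y).presheaf.stalk z) := by
  obtain ⟨e⟩ := nonempty_stalk_linearEquiv _
    (Groth.Agent.Lib.helper11.InvMod.isInvertible_pullback (f.fiberι y)
      (Groth.Agent.Lib.helper11.InvMod.isInvertible_structureModule X)) z
  exact e.length_eq

theorem nontrivial_stalk_fiber_structureModule (y : Y) (z : f.fiber y) :
    Nontrivial (((Scheme.Modules.pullback (f.fiberι y)).obj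
          (Coh.structureModule X)).presheaf.stalk z) := by
  obtain ⟨e⟩ := nonempty_stalk_linearEquiv _
    (Groth.Agent.Lib.helper11.InvMod.isInvertible_pullback (f.fiberι y)
      (Groth.Agent.Lib.helper11.InvMod.isInvertible_structureModule X)) z
  exact e.toEquiv.nontrivial

end fibre

section closed

variable {W X S : Scheme.{u}} (a : X ⟶ S) (ι : W ⟶ X)

/-- `W ×_X X_y ≅ W_y`. -/
noncomputable def fibIso (y : S) : pullback ι (a.fiberι y) ≅ (ι ≫ a).fiber y :=
  pullbackRightPullbackFstIso a (S.fromSpecResidueField y) ι

theorem fibIso_hom_fiberι (y : S) :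
    (fibIso a ι y).hom ≫ (ι ≫ a).fiberι y = pullback.fst ι (a.fiberι y) :=
  pullbackRightPullbackFstIso_hom_fst a (S.fromSpecResidueField y) ι

theorem fibIso_inv_fst (y : S) :
    (fibIso a ι y).inv ≫ pullback.fst ι (a.fiberι y) = (ι ≫ a).fiberι y :=
  pullbackRightPullbackFstIso_inv_fst a (S.fromSpecResidueField y) ι

/-- the local rings of isomorphic schemes. -/
theorem length_stalk_iso {P Q : Scheme.{u}} (e : P ≅ Q) (q : Q) :
    Module.length (P.presheaf.stalk (e.inv q)) (P.presheaf.stalk (e.inv q)) =
      Module.length (Q.presheaf.stalk q) (Q.presheaf.stalk q) := by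
  haveI : IsIso (e.inv.stalkMap q) := inferInstance
  exact length_self_ringEquiv (asIso (e.inv.stalkMap q)).commRingCatIsoToRingEquiv

variable [IsClosedImmersion ι]

theorem ι_injective : Function.Injective ι := ι.isClosedEmbedding.injective

open Classical in
/-- the cycle of `W ×_X X_y ⊆ X_y` at a point of `W`. -/
theorem subschemeFun_snd (y : S) (δy : ↥(a.fiber y) → ℤ) (r : ℤ) (z₀ : a.fiber y)
    (z' : (ι ≫ a).fiber y) (hz : ι ((ι ≫ a).fiberι y z') = a.fiberι y z₀) :
    Cyc.subschemeFun δy r (pullback.snd ι (a.fiberι y)) z₀ =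
      if δy z₀ = r then ((Module.length (((ι ≫ a).fiber y).presheaf.stalk z')
        (((ι ≫ a).fiber y).presheaf.stalk z')).toNat : ℤ) else 0 := by
  unfold Cyc.subschemeFun
  by_cases hk : δy z₀ = r
  swap
  · rw [if_neg hk, if_neg hk]
  rw [if_pos hk, if_pos hk]
  have hset : {z : ↥(pullback ι (a.fiberι y)) | pullback.snd ι (a.fiberι y) z = z₀} =
      {(fibIso a ι y).inv z'} := by
    ext z
    simp only [Set.mem_setOf_eq, Set.mem_singleton_iff]
    have hcond : ∀ z : ↥(pullback ι (a.fiberι y)),
        ι (pullback.fst ι (a.fiberι y) z) = a.fiberι y (pullback.snd ι (a.fiberι y) z) := by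
      intro z
      have := congrArg (fun g => g z) (pullback.condition (f := ι) (g := a.fiberι y))
      simpa only [Scheme.Hom.comp_apply] using this
    have hfst : ∀ z : ↥(pullback ι (a.fiberι y)),
        (ι ≫ a).fiberι y ((fibIso a ι y).hom z) = pullback.fst ι (a.fiberι y) z := by
      intro z
      have := congrArg (fun g => g z) (fibIso_hom_fiberι a ι y)
      simpa only [Scheme.Hom.comp_apply] using this
    constructor
    · intro h
      have h1 : pullback.fst ι (a.fiberι y) z = (ι ≫ a).fiberι y z' := by
        apply ι_injective ι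
        rw [hcond, h, hz]
      have h2 : (fibIso a ι y).hom z = z' := by
        apply fiberι_injective (ι ≫ a) y
        rw [hfst, h1]
      rw [← h2]
      exact (congrArg (fun g => g z) (fibIso a ι y).hom_inv_id).symm
    · intro h
      apply fiberι_injective a y
      rw [← hcond, ← hfst, h]
      have : (fibIso a ι y).hom ((fibIso a ι y).inv z') = z' :=
        congrArg (fun g => g z') (fibIso a ι y).inv_hom_id
      rw [this, hz]
  rw [hset, finsum_mem_singleton, length_stalk_iso (fibIso a ι y) z']

open Classical in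
theorem subschemeFun_snd_eq_zero (y : S) (δy : ↥(a.fiber y) → ℤ) (r : ℤ) (z₀ : a.fiber y)
    (hz : a.fiberι y z₀ ∉ Set.range ι) :
    Cyc.subschemeFun δy r (pullback.snd ι (a.fiberι y)) z₀ = 0 := by
  unfold Cyc.subschemeFun
  have hset : {z : ↥(pullback ι (a.fiberι y)) | pullback.snd ι (a.fiberι y) z = z₀} = ∅ := by
    ext z
    simp only [Set.mem_setOf_eq, Set.mem_empty_iff_false, iff_false]
    intro h
    apply hz
    refine ⟨pullback.fst ι (a.fiberι y) z, ?_⟩
    have := congrArg (fun g => g z) (pullback.condition (f := ι) (g := a.fiberι y))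
    simp only [Scheme.Hom.comp_apply] at this
    rw [this, h]
  rw [hset, finsum_mem_empty, ite_self]

end closed

end Groth.Agent.Lib.helper16.SpFun
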