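import Groth.Agent.Lib.Helper16.SpFun7

/-!
# `sp [W_η]_r = [W_s]_r` for a closed subscheme flat over a discrete valuation ring (helper16)
-/

set_option autoImplicit false
universe u
open CategoryTheory CategoryTheory.Limits AlgebraicGeometry TopologicalSpace Opposite IsLocalRing
open Pointwise

namespace Groth.Agent.Lib.helper16.SpFun

open Groth.Agent.Lib.helper16.CohStalk Groth.Agent.Lib.helper16.OrdGen
  Groth.Agent.Lib.helper16.DivSum Groth.Agent.Lib.helper16.ModLen
  Groth.Agent.Lib.helper16.StalkLoc Groth.Agent.Lib.helper16.CycClosed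
  Groth.Agent.Lib.helper16.CycOpen
  Groth.Agent.Lib.helper17.StalkPullback Groth.Agent.Lib.helper17.FibreStalk
  Groth.Agent.Lib.helper17.NodalNormal Groth.Agent.Lib.helper3.QFinTop
  Groth.Agent.Lib.helper3.DimIneq Groth.Agent.Lib.helper3.FibreField

section general

variable {R : Type u} [CommRing R] {X W : Scheme.{u}} (a : X ⟶ Spec (CommRingCat.of R))
  (ι : W ⟶ X)

theorem stalkMap_tau (w : W) (r : R) :
    (ι.stalkMap w).hom (tau a (ι w) r) = tau (ι ≫ a) w r := by
  rw [← stalkMap_comp_algebraMap a (ι w), ← stalkMap_comp_algebraMap (ι ≫ a) w]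
  simp only [RingHom.comp_apply]
  rw [Scheme.Hom.stalkMap_comp]
  rfl

variable [IsClosedImmersion ι]

/-- the multiplicity term of `Cyc.spFun` is compatible with closed immersions. -/
theorem spFun_mult_closedImmersion (x₁ ξ₁ : X) (h₁ : ξ₁ ⤳ x₁) (w ω : W) (h₂ : ω ⤳ w)
    (e₁ : ι w = x₁) (e₂ : ι ω = ξ₁) (ϖ : R)
    (hx : (show PrimeSpectrum R from a x₁).asIdeal = Ideal.span {ϖ}) :
    Module.length (X.presheaf.stalk x₁) (Cyc.LocQuot x₁ ξ₁ h₁ ⧸
      (maximalIdeal ((Spec (CommRingCat.of R)).presheaf.stalk (a x₁))).map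
        ((Ideal.Quotient.mk (RingHom.ker (Cyc.specMap x₁ ξ₁ h₁))).comp (a.stalkMap x₁).hom)) =
    Module.length (W.presheaf.stalk w) (Cyc.LocQuot w ω h₂ ⧸
      (maximalIdeal ((Spec (CommRingCat.of R)).presheaf.stalk ((ι ≫ a) w))).map
        ((Ideal.Quotient.mk (RingHom.ker (Cyc.specMap w ω h₂))).comp
          ((ι ≫ a).stalkMap w).hom)) := by
  subst e₁ e₂
  rw [spFun_mult_eq_ord a h₁ ϖ hx, spFun_mult_eq_ord (ι ≫ a) h₂ ϖ hx,
    ord_ringEquiv (locQuotEquiv ι w ω h₂ h₁), locQuotEquiv_mk]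
  congr 2
  exact stalkMap_tau a ι w ϖ

end general

variable (R : Type u) [CommRing R] [IsDomain R] [IsDiscreteValuationRing R]
  {X W : Scheme.{u}} (a : X ⟶ Spec (CommRingCat.of R)) [LocallyOfFiniteType a]
  (ι : W ⟶ X) [IsClosedImmersion ι]

theorem tdNat_comp (w : W) : tdNat R (ι ≫ a) w = tdNat R a (ι w) := by
  have h1 := tdNat_spec R (ι ≫ a) w
  have h2 := tdNat_spec R a (ι w)
  have h3 : td ((ι ≫ a).residueFieldMap w).hom = td (a.residueFieldMap (ι w)).hom := by
    rw [Scheme.residueFieldMap_comp]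
    change td ((ι.residueFieldMap w).hom.comp (a.residueFieldMap (ι w)).hom) = _
    exact td_comp_right _ _ (residueFieldMap_surjective _ _)
  rw [h3, h2] at h1
  exact_mod_cast h1.symm

/-- the dimension functions of the fibres of `W` and of `X` agree. -/
theorem tdNat_fiber_eq (y : Spec (CommRingCat.of R)) (δy : ↥(a.fiber y) → ℤ)
    (hδ : Cyc.DeltaCompat (a.fiberToSpecResidueField y) δy (fun _ => 0))
    (z' : (ι ≫ a).fiber y) (z₀ : a.fiber y)
    (hz : ι ((ι ≫ a).fiberι y z') = a.fiberι y z₀) :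
    (tdNat R (ι ≫ a) ((ι ≫ a).fiberι y z') : ℤ) = δy z₀ := by
  have h1 := deltaX_fiberι R a y δy hδ z₀
  unfold deltaX at h1
  rw [fiberι_mem] at h1
  rw [tdNat_comp, hz]
  omega

theorem deltaCompat_tdNat (y : Spec (CommRingCat.of R)) :
    Cyc.DeltaCompat (a.fiberToSpecResidueField y)
      (fun z => (tdNat R a (a.fiberι y z) : ℤ)) (fun _ => 0) := fun z =>
  ⟨tdNat R a (a.fiberι y z), (td_fiber R a y z).trans (tdNat_spec R a _), (zero_add _).symm⟩

end Groth.Agent.Lib.helper16.SpFun
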