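import Groth.Agent.Lib.Helper16.SpFun8

/-!
# `sp [W_η]_r = [W_s]_r` (helper16): the main theorem
-/

set_option autoImplicit false
universe u
open CategoryTheory CategoryTheory.Limits AlgebraicGeometry TopologicalSpace Opposite IsLocalRing
open Pointwise

namespace Groth.Agent.Lib.helper16.SpFun

open Groth.Agent.Lib.helper16.CohStalk Groth.Agent.Lib.helper16.OrdGen
  Groth.Agent.Lib.helper16.DivSum Groth.Agent.Lib.helper16.ModLen
  Groth.Agent.Lib.helper16.StalkLoc Groth.Agent.Lib.helper16.CycClosed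
  Groth.Agent.Lib.helper16.CycOpen
  Groth.Agent.Lib.helper17.StalkPullback Groth.Agent.Lib.helper17.FibreStalk
  Groth.Agent.Lib.helper17.NodalNormal Groth.Agent.Lib.helper3.QFinTop
  Groth.Agent.Lib.helper3.DimIneq Groth.Agent.Lib.helper3.FibreField

section

variable (R : Type u) [CommRing R] [IsDomain R] [IsDiscreteValuationRing R]
  {X : Scheme.{u}} (a : X ⟶ Spec (CommRingCat.of R)) [LocallyOfFiniteType a]

/-- the dimension function of a fibre. -/
noncomputable def deltaFib (y : Spec (CommRingCat.of R)) (z : a.fiber y) : ℤ :=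
  (tdNat R a (a.fiberι y z) : ℤ)

theorem deltaCompat_deltaFib (y : Spec (CommRingCat.of R)) :
    Cyc.DeltaCompat (a.fiberToSpecResidueField y) (deltaFib R a y) (fun _ => 0) :=
  deltaCompat_tdNat R a y

end

variable (R : Type u) [CommRing R] [IsDomain R] [IsDiscreteValuationRing R]
  {X W : Scheme.{u}} (a : X ⟶ Spec (CommRingCat.of R)) [LocallyOfFiniteType a]
  (ι : W ⟶ X) [IsClosedImmersion ι] [Flat (ι ≫ a)]
  (δη : ↥(a.fiber (genericPoint ↥(Spec (CommRingCat.of R)))) → ℤ)
  (δs : ↥(a.fiber (IsLocalRing.closedPoint R)) → ℤ)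
  (hδη : Cyc.DeltaCompat (a.fiberToSpecResidueField (genericPoint ↥(Spec (CommRingCat.of R))))
    δη (fun _ => 0))
  (hδs : Cyc.DeltaCompat (a.fiberToSpecResidueField (IsLocalRing.closedPoint R)) δs (fun _ => 0))
  (r : ℤ)
  (hdim : ∀ ζ : ↥(a.fiber (genericPoint ↥(Spec (CommRingCat.of R)))),
    a.fiberι (genericPoint ↥(Spec (CommRingCat.of R))) ζ ∈ Set.range ⇑ι → δη ζ ≤ r)

include hδη hδs hdim in
theorem spFun_subschemeFun_eq :
    (∀ x : ↥(a.fiber (IsLocalRing.closedPoint R)),
      a.fiberι (IsLocalRing.closedPoint R) x ∈ Set.range ⇑ι → δs x ≤ r) ∧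
    Cyc.spFun a (genericPoint ↥(Spec (CommRingCat.of R))) (IsLocalRing.closedPoint R) δη δs r
      (Cyc.subschemeFun δη r
        (pullback.snd ι (a.fiberι (genericPoint ↥(Spec (CommRingCat.of R)))))) =
    Cyc.subschemeFun δs r (pullback.snd ι (a.fiberι (IsLocalRing.closedPoint R))) := by
  classical
  haveI : IsLocallyNoetherian X := LocallyOfFiniteType.isLocallyNoetherian a
  haveI : IsLocallyNoetherian W := LocallyOfFiniteType.isLocallyNoetherian (ι ≫ a)
  obtain ⟨ϖ, hϖ⟩ := IsDiscreteValuationRing.exists_irreducible R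
  have hm : maximalIdeal R = Ideal.span {ϖ} := hϖ.maximalIdeal_eq
  -- the dimension functions on the fibres of `W`
  have hdWe := deltaCompat_deltaFib R (ι ≫ a) (genericPoint ↥(Spec (CommRingCat.of R)))
  have hdWs := deltaCompat_deltaFib R (ι ≫ a) (closedPoint R)
  have hF := isCoh_structureModule W
  have hflat := isFlatOver_structureModule (ι ≫ a)
  have hdim' : ∀ ζ : ↥((ι ≫ a).fiber (genericPoint ↥(Spec (CommRingCat.of R)))),
      Nontrivial (((Scheme.Modules.pullback ((ι ≫ a).fiberι (genericPoint ↥(Spec (CommRingCat.of R))))).obj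
        (Coh.structureModule W)).presheaf.stalk ζ) → (deltaFib R (ι ≫ a) (genericPoint ↥(Spec (CommRingCat.of R)))) ζ ≤ r := by
    intro ζ' _
    obtain ⟨ζ, hζ⟩ := exists_fiber_point a (genericPoint ↥(Spec (CommRingCat.of R))) (ι ((ι ≫ a).fiberι (genericPoint ↥(Spec (CommRingCat.of R))) ζ'))
      (fiberι_mem (ι ≫ a) (genericPoint ↥(Spec (CommRingCat.of R))) ζ')
    have h1 := tdNat_fiber_eq R a ι (genericPoint ↥(Spec (CommRingCat.of R))) δη hδη ζ' ζ hζ.symm
    have h2 := hdim ζ ⟨_, hζ.symm⟩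
    show (tdNat R (ι ≫ a) ((ι ≫ a).fiberι (genericPoint ↥(Spec (CommRingCat.of R))) ζ') : ℤ) ≤ r
    rw [h1]
    exact h2
  have P1 := delta_le_of_nontrivial R (ι ≫ a) (deltaFib R (ι ≫ a) (genericPoint ↥(Spec (CommRingCat.of R)))) (deltaFib R (ι ≫ a) (closedPoint R)) hdWe hdWs r (Coh.structureModule W) hF
    hflat hdim'
  have P2 := spFun_sheafFun_eq R (ι ≫ a) (deltaFib R (ι ≫ a) (genericPoint ↥(Spec (CommRingCat.of R)))) (deltaFib R (ι ≫ a) (closedPoint R)) hdWe hdWs r (Coh.structureModule W) hF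
    hflat hdim'
  -- points of `W` on the closed fibre
  have hpt : ∀ (x : ↥(a.fiber (closedPoint R))) (w : W), ι w = a.fiberι (closedPoint R) x →
      ∃ z' : ↥((ι ≫ a).fiber (closedPoint R)),
        ι ((ι ≫ a).fiberι (closedPoint R) z') = a.fiberι (closedPoint R) x ∧ (deltaFib R (ι ≫ a) (closedPoint R)) z' = δs x := by
    intro x w hw
    have haw : (ι ≫ a) w = closedPoint R := by
      have h1 := fiberι_mem a (closedPoint R) x
      rw [← hw] at h1
      exact h1
    obtain ⟨z', hz'⟩ := exists_fiber_point (ι ≫ a) (closedPoint R) w haw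
    have hz : ι ((ι ≫ a).fiberι (closedPoint R) z') = a.fiberι (closedPoint R) x := by
      rw [hz', hw]
    exact ⟨z', hz, tdNat_fiber_eq R a ι (closedPoint R) δs hδs z' x hz⟩
  refine ⟨?_, ?_⟩
  · rintro x ⟨w, hw⟩
    obtain ⟨z', hz, hδz⟩ := hpt x w hw
    rw [← hδz]
    exact P1 z' (nontrivial_stalk_fiber_structureModule (ι ≫ a) (closedPoint R) z')
  · funext x
    by_cases hxW : a.fiberι (closedPoint R) x ∈ Set.range ι
    · obtain ⟨w, hw⟩ := hxW
      obtain ⟨z', hz, hδz⟩ := hpt x w hw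
      rw [subschemeFun_snd a ι (closedPoint R) δs r x z' hz]
      have hP2 := P2 z'
      have hsh : Cyc.sheafFun (deltaFib R (ι ≫ a) (closedPoint R)) r ((Scheme.Modules.pullback
          ((ι ≫ a).fiberι (closedPoint R))).obj (Coh.structureModule W)) z' =
          if δs x = r then ((Module.length (((ι ≫ a).fiber (closedPoint R)).presheaf.stalk z')
            (((ι ≫ a).fiber (closedPoint R)).presheaf.stalk z')).toNat : ℤ) else 0 := by
        unfold Cyc.sheafFun
        rw [hδz, length_stalk_fiber_structureModule]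
      rw [← hsh, ← hP2]
      unfold Cyc.spFun
      rw [hδz]
      by_cases hk : δs x = r
      swap
      · rw [if_neg hk, if_neg hk]
      rw [if_pos hk, if_pos hk]
      -- reindex
      have hJex : ∀ ζ' : ↥((ι ≫ a).fiber (genericPoint ↥(Spec (CommRingCat.of R)))), ∃ ζ : ↥(a.fiber (genericPoint ↥(Spec (CommRingCat.of R)))),
          a.fiberι (genericPoint ↥(Spec (CommRingCat.of R))) ζ = ι ((ι ≫ a).fiberι (genericPoint ↥(Spec (CommRingCat.of R))) ζ') := fun ζ' =>
        exists_fiber_point a (genericPoint ↥(Spec (CommRingCat.of R))) (ι ((ι ≫ a).fiberι (genericPoint ↥(Spec (CommRingCat.of R))) ζ')) (fiberι_mem (ι ≫ a) (genericPoint ↥(Spec (CommRingCat.of R))) ζ')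
      choose J₀ hJ₀ using hJex
      have hJδ : ∀ ζ' : ↥((ι ≫ a).fiber (genericPoint ↥(Spec (CommRingCat.of R)))), (deltaFib R (ι ≫ a) (genericPoint ↥(Spec (CommRingCat.of R)))) ζ' = δη (J₀ ζ') := fun ζ' =>
        tdNat_fiber_eq R a ι (genericPoint ↥(Spec (CommRingCat.of R))) δη hδη ζ' (J₀ ζ') (hJ₀ ζ').symm
      let J : {ζ' : ↥((ι ≫ a).fiber (genericPoint ↥(Spec (CommRingCat.of R)))) // (deltaFib R (ι ≫ a) (genericPoint ↥(Spec (CommRingCat.of R)))) ζ' = r ∧
          ((ι ≫ a).fiberι (genericPoint ↥(Spec (CommRingCat.of R))) ζ') ⤳ ((ι ≫ a).fiberι (closedPoint R) z')} →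
          {ζ : ↥(a.fiber (genericPoint ↥(Spec (CommRingCat.of R)))) // δη ζ = r ∧ (a.fiberι (genericPoint ↥(Spec (CommRingCat.of R))) ζ) ⤳ (a.fiberι (closedPoint R) x)} :=
        fun ζ' => ⟨J₀ ζ'.1, by rw [← hJδ]; exact ζ'.2.1, by
          rw [hJ₀, ← hz]
          exact (specializes_iff_closedImmersion ι _ _).2 ζ'.2.2⟩
      have hJinj : Function.Injective J := by
        intro ζ₁ ζ₂ h
        have h1 : J₀ ζ₁.1 = J₀ ζ₂.1 := congrArg Subtype.val h
        have h2 : ι ((ι ≫ a).fiberι (genericPoint ↥(Spec (CommRingCat.of R))) ζ₁.1) = ι ((ι ≫ a).fiberι (genericPoint ↥(Spec (CommRingCat.of R))) ζ₂.1) := by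
          rw [← hJ₀, ← hJ₀, h1]
        exact Subtype.ext (fiberι_injective (ι ≫ a) (genericPoint ↥(Spec (CommRingCat.of R))) (ι_injective ι h2))
      rw [← finsum_mem_univ, finsum_mem_inter_support_eq' _ Set.univ (Set.range J) (by
        intro ζ hζ
        simp only [Set.mem_univ, true_iff]
        have hne : Cyc.subschemeFun δη r (pullback.snd ι (a.fiberι (genericPoint ↥(Spec (CommRingCat.of R))))) ζ.1 ≠ 0 := by
          intro h0
          apply hζ
          show Cyc.subschemeFun δη r (pullback.snd ι (a.fiberι (genericPoint ↥(Spec (CommRingCat.of R))))) ζ.1 * _ = 0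
          rw [h0, zero_mul]
        have hmem : a.fiberι (genericPoint ↥(Spec (CommRingCat.of R))) ζ.1 ∈ Set.range ι := by
          by_contra hnot
          exact hne (subschemeFun_snd_eq_zero a ι (genericPoint ↥(Spec (CommRingCat.of R))) δη r ζ.1 hnot)
        obtain ⟨ω, hω⟩ := hmem
        have haω : (ι ≫ a) ω = (genericPoint ↥(Spec (CommRingCat.of R))) := by
          have h1 := fiberι_mem a (genericPoint ↥(Spec (CommRingCat.of R))) ζ.1
          rw [← hω] at h1
          exact h1
        obtain ⟨ζ', hζ'⟩ := exists_fiber_point (ι ≫ a) (genericPoint ↥(Spec (CommRingCat.of R))) ω haω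
        have hιζ' : ι ((ι ≫ a).fiberι (genericPoint ↥(Spec (CommRingCat.of R))) ζ') = a.fiberι (genericPoint ↥(Spec (CommRingCat.of R))) ζ.1 := by rw [hζ', hω]
        have hJζ : J₀ ζ' = ζ.1 := by
          apply fiberι_injective a (genericPoint ↥(Spec (CommRingCat.of R)))
          rw [hJ₀, hιζ']
        refine ⟨⟨ζ', ?_, ?_⟩, Subtype.ext hJζ⟩
        · rw [hJδ, hJζ]; exact ζ.2.1
        · apply (specializes_iff_closedImmersion ι _ _).1
          rw [hιζ', hz]
          exact ζ.2.2), finsum_mem_range hJinj]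
      refine finsum_congr fun ζ' => ?_
      have e1 : Cyc.subschemeFun δη r (pullback.snd ι (a.fiberι (genericPoint ↥(Spec (CommRingCat.of R))))) (J ζ').1 =
          Cyc.sheafFun (deltaFib R (ι ≫ a) (genericPoint ↥(Spec (CommRingCat.of R)))) r ((Scheme.Modules.pullback ((ι ≫ a).fiberι (genericPoint ↥(Spec (CommRingCat.of R))))).obj
            (Coh.structureModule W)) ζ'.1 := by
        rw [subschemeFun_snd a ι (genericPoint ↥(Spec (CommRingCat.of R))) δη r (J ζ').1 ζ'.1 (hJ₀ ζ'.1).symm]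
        unfold Cyc.sheafFun
        rw [length_stalk_fiber_structureModule, if_pos (J ζ').2.1, if_pos ζ'.2.1]
      have haxb : (show PrimeSpectrum R from a (a.fiberι (closedPoint R) x)).asIdeal =
          Ideal.span {ϖ} := by
        rw [fiberι_mem a (closedPoint R) x]; exact hm
      rw [e1, spFun_mult_closedImmersion a ι _ _ (J ζ').2.2 _ _ ζ'.2.2 hz (hJ₀ ζ'.1).symm ϖ haxb]
    · rw [subschemeFun_snd_eq_zero a ι (closedPoint R) δs r x hxW]
      unfold Cyc.spFun
      split_ifs
      · apply finsum_eq_zero_of_forall_eq_zero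
        intro ζ
        have hnot : a.fiberι (genericPoint ↥(Spec (CommRingCat.of R))) ζ.1 ∉ Set.range ι := by
          rintro ⟨ω, hω⟩
          apply hxW
          have h1 := ζ.2.2
          rw [← hω] at h1
          exact mem_range_of_specializes ι ω _ h1
        rw [subschemeFun_snd_eq_zero a ι (genericPoint ↥(Spec (CommRingCat.of R))) δη r ζ.1 hnot, zero_mul]
      · rfl

end Groth.Agent.Lib.helper16.SpFun
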