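import Mathlib
import Groth.Prelude.Def_CurvBase
import Groth.Agent.Lib.Helper16.QCohAss

/-!
# Weakly associated points of `M~` on `Spec A` (helper16)

`weakAss_tilde_iff`: the point `p` of `Spec A` is weakly associated to `M~` iff `p` is minimal over
the annihilator of an element of `M`.
-/

set_option autoImplicit false
universe u
open CategoryTheory CategoryTheory.Limits AlgebraicGeometry

namespace Groth.Agent.Lib.helper16.TildeAss

open Groth.Agent.Lib.helper16.QCohAss in
/-- (c) the prime of `Γ(Spec A, ⊤)` attached to the point `p` contracts to `p`. -/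
theorem comap_primeIdealOf (A : CommRingCat.{u}) (p : Spec A) :
    Ideal.comap (Scheme.ΓSpecIso A).inv.hom
      ((isAffineOpen_top (Spec A)).primeIdealOf ⟨p, trivial⟩).asIdeal = p.asIdeal := by
  have h1 := (isAffineOpen_top (Spec A)).fromSpec_primeIdealOf ⟨p, trivial⟩
  rw [IsAffineOpen.fromSpec_top, Scheme.isoSpec_Spec_inv] at h1
  have h2 := congrArg PrimeSpectrum.asIdeal h1
  exact h2

/-- the bijection `M → Γ(M~, ⊤)` -/
noncomputable def t (A : CommRingCat.{u}) (M : ModuleCat.{u} A) : M → Γ(tilde M, ⊤) :=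
  fun m => (tilde.toOpen M ⊤).hom m

theorem t_bijective (A : CommRingCat.{u}) (M : ModuleCat.{u} A) : Function.Bijective (t A M) :=
  ConcreteCategory.bijective_of_isIso (tilde.toOpen M ⊤)

theorem t_smul (A : CommRingCat.{u}) (M : ModuleCat.{u} A) (a : A) (m : M) :
    t A M (a • m) = (Scheme.ΓSpecIso A).inv.hom a • t A M m := by
  have h1 : t A M (a • m) = a • t A M m := (tilde.toOpen M ⊤).hom.map_smul a m
  rw [h1, Scheme.Modules.smul_Spec_def]
  congr 1

open Groth.Agent.Lib.helper16.QCohAss in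
theorem ann_eq_comap (A : CommRingCat.{u}) (M : ModuleCat.{u} A) (m : M) :
    ann A m = Ideal.comap (Scheme.ΓSpecIso A).inv.hom (ann Γ(Spec A, ⊤) (t A M m)) := by
  ext a
  rw [Ideal.mem_comap, mem_ann, mem_ann, ← t_smul]
  constructor
  · intro h; rw [h]; exact (tilde.toOpen M ⊤).hom.map_zero
  · intro h
    apply (t_bijective A M).1
    rw [h]; exact ((tilde.toOpen M ⊤).hom.map_zero).symm

open Groth.Agent.Lib.helper16.QCohAss in
theorem weakAss_tilde_iff (A : CommRingCat.{u}) (M : ModuleCat.{u} A) (p : Spec A) :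
    Curv2.IsWeakAssPoint (tilde M) p ↔ ∃ m : M, p.asIdeal ∈ (ann A m).minimalPrimes := by
  rw [isWeakAssPoint_iff (tilde M) (isAffineOpen_top (Spec A)) p trivial]
  have hsurj : Function.Surjective (Scheme.ΓSpecIso A).inv.hom :=
    (ConcreteCategory.bijective_of_isIso (Scheme.ΓSpecIso A).inv).2
  constructor
  · rintro ⟨m', hm'⟩
    obtain ⟨m, rfl⟩ := (t_bijective A M).2 m'
    refine ⟨m, ?_⟩
    rw [ann_eq_comap, ← comap_primeIdealOf]
    exact Ideal.minimalPrimes_comap_of_surjective hsurj hm'
  · rintro ⟨m, hm⟩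
    refine ⟨t A M m, ?_⟩
    rw [ann_eq_comap, Ideal.comap_minimalPrimes_eq_of_surjective hsurj] at hm
    obtain ⟨q', hq', hq'p⟩ := hm
    rw [← comap_primeIdealOf] at hq'p
    have := Ideal.comap_injective_of_surjective _ hsurj hq'p
    rwa [this] at hq'


end Groth.Agent.Lib.helper16.TildeAss
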