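import Mathlib
import Groth.Prelude.Def_W4c6modpairsegaMP
import Groth.Agent.Lib.Helper16.EffCartier2
import Groth.Agent.Lib.Helper7.IdealComap

set_option autoImplicit false
universe u
open CategoryTheory CategoryTheory.Limits AlgebraicGeometry TopologicalSpace Opposite

namespace Groth.Agent.Lib.helper16.ValTest

open Scheme.IdealSheafData Groth.Agent.Lib.helper16.EffCartier Groth.Agent.Lib.helper16.EffCartier2

/-- a valuation ring of the residue field at a minimal prime below `𝔭`, dominating `A_𝔭`. -/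
theorem exists_valuationRing {A : Type u} [CommRing A] (𝔭 : Ideal A) [𝔭.IsPrime] :
    ∃ (𝔮 : Ideal A) (_ : 𝔮.IsPrime) (_ : 𝔮 ∈ minimalPrimes A) (_ : 𝔮 ≤ 𝔭)
      (V : ValuationSubring (FractionRing (A ⧸ 𝔮))) (φ : A →+* V),
      (∀ a, ((φ a : V) : FractionRing (A ⧸ 𝔮)) =
        algebraMap (A ⧸ 𝔮) (FractionRing (A ⧸ 𝔮)) (Ideal.Quotient.mk 𝔮 a)) ∧
      ∀ a ∈ 𝔭, ¬ IsUnit (φ a) := by
  obtain ⟨𝔮, hq, hqp⟩ := Ideal.exists_minimalPrimes_le (I := (⊥ : Ideal A)) (J := 𝔭) bot_le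
  haveI : 𝔮.IsPrime := hq.1.1
  let K := FractionRing (A ⧸ 𝔮)
  let ψ : A →+* K := (algebraMap (A ⧸ 𝔮) K).comp (Ideal.Quotient.mk 𝔮)
  have hψ : ∀ y : 𝔭.primeCompl, IsUnit (ψ y) := by
    rintro ⟨y, hy⟩
    apply IsUnit.mk0
    show algebraMap (A ⧸ 𝔮) K (Ideal.Quotient.mk 𝔮 y) ≠ 0
    rw [Ne, map_eq_zero_iff _ (IsFractionRing.injective (A ⧸ 𝔮) K), Ideal.Quotient.eq_zero_iff_mem]
    exact fun h => hy (hqp h)
  let f : Localization.AtPrime 𝔭 →+* K := IsLocalization.lift hψ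
  obtain ⟨V, hV, hloc⟩ := IsLocalRing.exists_factor_valuationRing f
  let φ : A →+* V :=
    { toFun := fun a => ⟨f (algebraMap A (Localization.AtPrime 𝔭) a), hV _⟩
      map_one' := by ext; simp
      map_mul' := fun a b => by ext; simp
      map_zero' := by ext; simp
      map_add' := fun a b => by ext; simp }
  refine ⟨𝔮, inferInstance, hq, hqp, V, φ, fun a => ?_, fun a ha hu => ?_⟩
  · show f (algebraMap A (Localization.AtPrime 𝔭) a) = _
    rw [IsLocalization.lift_eq]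
    rfl
  · have h1 : IsUnit ((f.codRestrict V.toSubring hV) (algebraMap A (Localization.AtPrime 𝔭) a)) := by
      obtain ⟨u, hu⟩ := hu
      refine ⟨⟨⟨(u : V), u.val.2⟩, ⟨((u⁻¹ : Vˣ) : V), (u⁻¹ : Vˣ).val.2⟩, ?_, ?_⟩, ?_⟩
      · ext; exact congrArg Subtype.val u.mul_inv
      · ext; exact congrArg Subtype.val u.inv_mul
      · ext
        exact congrArg Subtype.val hu
    have h2 := hloc.map_nonunit _ h1
    rw [IsLocalization.AtPrime.isUnit_to_map_iff (Localization.AtPrime 𝔭) 𝔭] at h2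
    exact h2 ha

section scheme

variable {X : Scheme.{u}} {W : X.Opens} (hW : IsAffineOpen W) {R : CommRingCat.{u}}
  (φ : Γ(X, W) ⟶ R)

lemma top_le_preimage : (⊤ : (Spec R).Opens) ≤ (Spec.map φ ≫ hW.fromSpec) ⁻¹ᵁ W := by
  intro y _
  show hW.fromSpec (Spec.map φ y) ∈ W
  have : hW.fromSpec (Spec.map φ y) ∈ hW.fromSpec.opensRange := ⟨_, rfl⟩
  rwa [hW.opensRange_fromSpec] at this

/-- for `p = Spec.map φ ≫ hW.fromSpec`, the `appLE` on the top open is `φ` up to `ΓSpecIso`. -/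
lemma appLE_SpecMap_fromSpec :
    (Spec.map φ ≫ hW.fromSpec).appLE W ⊤ (top_le_preimage hW φ) =
      φ ≫ (Scheme.ΓSpecIso R).inv := by
  apply Spec.map_injective
  rw [← cancel_mono hW.fromSpec,
    IsAffineOpen.SpecMap_appLE_fromSpec _ hW (isAffineOpen_top _) (top_le_preimage hW φ),
    IsAffineOpen.fromSpec_top, Scheme.isoSpec_Spec_inv, Spec.map_comp, Category.assoc]

/-- ideal of the pullback along `Spec R → W ⊆ X` on the top open. -/
lemma ideal_comap_SpecMap_fromSpec (I : X.IdealSheafData) (t : Γ(X, W))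
    (hIW : I.ideal ⟨W, hW⟩ = Ideal.span {t}) :
    (I.comap (Spec.map φ ≫ hW.fromSpec)).ideal ⟨⊤, isAffineOpen_top _⟩ =
      Ideal.span {(Scheme.ΓSpecIso R).inv.hom (φ.hom t)} := by
  rw [Groth.Agent.Lib.helper7.IdealComap.ideal_comap (Spec.map φ ≫ hW.fromSpec) I hW
    (isAffineOpen_top _) (top_le_preimage hW φ), hIW, Ideal.map_span, Set.image_singleton,
    appLE_SpecMap_fromSpec]
  rfl

lemma ΓSpecIso_inv_injective : Function.Injective (Scheme.ΓSpecIso R).inv.hom := by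
  intro a b hab
  have := congrArg (Scheme.ΓSpecIso R).hom.hom hab
  rwa [← CommRingCat.comp_apply, ← CommRingCat.comp_apply, Iso.inv_hom_id] at this

/-- the pullback is effective Cartier when `φ t` is a nonzerodivisor. -/
theorem isEffCartier_comap_SpecMap_fromSpec (I : X.IdealSheafData) (t : Γ(X, W))
    (hIW : I.ideal ⟨W, hW⟩ = Ideal.span {t}) (ht : φ.hom t ∈ nonZeroDivisors R) :
    BlowUp.IsEffCartierIdeal (I.comap (Spec.map φ ≫ hW.fromSpec)) := by
  intro y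
  refine ⟨⟨⊤, isAffineOpen_top _⟩, trivial, (Scheme.ΓSpecIso R).inv.hom (φ.hom t), ?_,
    ideal_comap_SpecMap_fromSpec hW φ I t hIW⟩
  rw [mem_nonZeroDivisors_iff_right]
  intro s hs
  obtain ⟨s', rfl⟩ : ∃ s', (Scheme.ΓSpecIso R).inv.hom s' = s :=
    ⟨(Scheme.ΓSpecIso R).hom.hom s, by
      rw [← CommRingCat.comp_apply, Iso.hom_inv_id]; rfl⟩
  rw [← map_mul] at hs
  have h0 : s' * φ.hom t = 0 := ΓSpecIso_inv_injective (by rw [hs, map_zero])
  rw [(mem_nonZeroDivisors_iff_right.mp ht) s' h0, map_zero]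

/-- if the pullback is the unit ideal then `φ t` is a unit. -/
theorem isUnit_of_comap_SpecMap_fromSpec_eq_top (I : X.IdealSheafData) (t : Γ(X, W))
    (hIW : I.ideal ⟨W, hW⟩ = Ideal.span {t})
    (h : I.comap (Spec.map φ ≫ hW.fromSpec) = ⊤) : IsUnit (φ.hom t) := by
  have h1 := ideal_comap_SpecMap_fromSpec hW φ I t hIW
  rw [h, Scheme.IdealSheafData.ideal_top, Pi.top_apply] at h1
  have h2 : IsUnit ((Scheme.ΓSpecIso R).inv.hom (φ.hom t)) :=
    Ideal.span_singleton_eq_top.mp h1.symm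
  have h3 := h2.map (Scheme.ΓSpecIso R).hom.hom
  rwa [← CommRingCat.comp_apply, Iso.inv_hom_id] at h3

end scheme

end Groth.Agent.Lib.helper16.ValTest
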