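import Mathlib
import Groth.Prelude.Def_W4c6modpairsegaMP
import Groth.Agent.Lib.Helper16.ValTest

set_option autoImplicit false
universe u
open CategoryTheory CategoryTheory.Limits AlgebraicGeometry TopologicalSpace Opposite

namespace Groth.Agent.Lib.helper16.ValTest2

open Scheme.IdealSheafData Groth.Agent.Lib.helper16.EffCartier Groth.Agent.Lib.helper16.EffCartier2
  Groth.Agent.Lib.helper16.ValTest

section valring

variable {V : Type u} [CommRing V] [IsDomain V] [ValuationRing V] (τ : V) (hτ : τ ≠ 0)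

/-- the largest prime of a valuation ring not containing `τ`. -/
def rIdeal : Ideal V where
  carrier := {x | ∀ n : ℕ, ¬ x ∣ τ ^ n}
  zero_mem' := fun n h => (pow_ne_zero n hτ) (zero_dvd_iff.mp h)
  add_mem' := by
    intro x y hx hy n hdvd
    rcases ValuationRing.dvd_total x y with hxy | hyx
    · exact hx n ((dvd_add (dvd_refl x) hxy).trans hdvd)
    · exact hy n ((dvd_add hyx (dvd_refl y)).trans hdvd)
  smul_mem' := fun c x hx n hdvd => hx n ((Dvd.intro_left c rfl).trans hdvd)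

lemma mem_rIdeal {x : V} : x ∈ rIdeal τ hτ ↔ ∀ n : ℕ, ¬ x ∣ τ ^ n := Iff.rfl

lemma tau_not_mem : τ ∉ rIdeal τ hτ := fun h => h 1 (by rw [pow_one])

lemma not_isUnit_of_mem {x : V} (hx : x ∈ rIdeal τ hτ) : ¬ IsUnit x := fun hu =>
  hx 0 (hu.dvd)

instance rIdeal_isPrime : (rIdeal τ hτ).IsPrime where
  ne_top' := fun h => by
    have : (1 : V) ∈ rIdeal τ hτ := h ▸ Submodule.mem_top
    exact not_isUnit_of_mem τ hτ this isUnit_one
  mem_or_mem' := by
    intro x y hxy
    by_contra hcon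
    push Not at hcon
    obtain ⟨hx, hy⟩ := hcon
    rw [mem_rIdeal] at hx hy
    push Not at hx hy
    obtain ⟨n, hn⟩ := hx
    obtain ⟨m, hm⟩ := hy
    exact hxy (n + m) (by rw [pow_add]; exact mul_dvd_mul hn hm)

lemma tau_mem_of_ne (P : Ideal V) [P.IsPrime] (h : rIdeal τ hτ ≤ P) (hne : P ≠ rIdeal τ hτ) :
    τ ∈ P := by
  have : ¬ P ≤ rIdeal τ hτ := fun h' => hne (le_antisymm h' h)
  obtain ⟨x, hxP, hxr⟩ := SetLike.not_le_iff_exists.mp this
  rw [mem_rIdeal] at hxr
  push Not at hxr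
  obtain ⟨n, hn⟩ := hxr
  exact Ideal.IsPrime.mem_of_pow_mem inferInstance n (Ideal.mem_of_dvd P hn hxP)

include hτ in
/-- the quotient valuation ring. -/
theorem exists_quotient_valuationRing (a : V) (ha : ¬ IsUnit a) :
    ∃ (R : Type u) (_ : CommRing R) (_ : IsDomain R) (_ : ValuationRing R) (π : V →+* R),
      π τ ≠ 0 ∧ ¬ IsUnit (π a) ∧ ∀ P : Ideal R, P.IsPrime → P ≠ ⊥ → π τ ∈ P := by
  refine ⟨V ⧸ rIdeal τ hτ, inferInstance, inferInstance,
    Function.Surjective.valuationRing (Ideal.Quotient.mk (rIdeal τ hτ))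
      Ideal.Quotient.mk_surjective, Ideal.Quotient.mk (rIdeal τ hτ), ?_, ?_, ?_⟩
  · rw [Ne, Ideal.Quotient.eq_zero_iff_mem]
    exact tau_not_mem τ hτ
  · intro hu
    obtain ⟨b, hb⟩ := isUnit_iff_exists_inv.mp hu
    obtain ⟨b, rfl⟩ := Ideal.Quotient.mk_surjective b
    rw [← map_mul, ← map_one (Ideal.Quotient.mk (rIdeal τ hτ)), Ideal.Quotient.eq] at hb
    have h1 : ¬ IsUnit (a * b) := fun h => ha (isUnit_of_mul_isUnit_left h)
    have h2 : a * b ∈ IsLocalRing.maximalIdeal V := (IsLocalRing.mem_maximalIdeal _).mpr h1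
    have h3 : IsUnit (a * b - 1) := by
      have : IsUnit (1 - a * b) := by
        by_contra hcon
        have h4 : 1 - a * b ∈ IsLocalRing.maximalIdeal V := (IsLocalRing.mem_maximalIdeal _).mpr hcon
        have h5 : (1 : V) ∈ IsLocalRing.maximalIdeal V := by
          have := Ideal.add_mem _ h4 h2
          rwa [sub_add_cancel] at this
        exact (IsLocalRing.mem_maximalIdeal _).mp h5 isUnit_one
      rw [← neg_sub]
      exact this.neg
    exact not_isUnit_of_mem τ hτ hb h3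
  · intro P hP hne
    haveI := hP
    have hle : rIdeal τ hτ ≤ P.comap (Ideal.Quotient.mk (rIdeal τ hτ)) := by
      intro x hx
      rw [Ideal.mem_comap, Ideal.Quotient.eq_zero_iff_mem.mpr hx]
      exact P.zero_mem
    have hne' : P.comap (Ideal.Quotient.mk (rIdeal τ hτ)) ≠ rIdeal τ hτ := by
      intro heq
      apply hne
      rw [eq_bot_iff]
      intro y hy
      obtain ⟨y, rfl⟩ := Ideal.Quotient.mk_surjective y
      have : y ∈ P.comap (Ideal.Quotient.mk (rIdeal τ hτ)) := hy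
      rw [heq] at this
      rw [Ideal.mem_bot, Ideal.Quotient.eq_zero_iff_mem]
      exact this
    exact tau_mem_of_ne τ hτ (P.comap (Ideal.Quotient.mk (rIdeal τ hτ))) hle hne'

end valring

section scheme

variable {X : Scheme.{u}} {W : X.Opens} (hW : IsAffineOpen W) {R : CommRingCat.{u}}
  (φ : Γ(X, W) ⟶ R)

lemma mem_interior_comap_iff (I : X.IdealSheafData) (t : Γ(X, W))
    (hIW : I.ideal ⟨W, hW⟩ = Ideal.span {t}) (x : Spec R) :
    x ∈ ModPair.interior (I.comap (Spec.map φ ≫ hW.fromSpec)) ↔ φ.hom t ∉ x.asIdeal := by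
  show x ∉ (I.comap (Spec.map φ ≫ hW.fromSpec)).support ↔ _
  rw [mem_support_iff_of_mem (U := ⟨⊤, isAffineOpen_top _⟩) (by trivial),
    ideal_comap_SpecMap_fromSpec hW φ I t hIW, Scheme.mem_zeroLocus_iff]
  constructor
  · intro h hmem
    apply h
    intro f hf hx
    obtain ⟨c, rfl⟩ := Ideal.mem_span_singleton'.mp hf
    rw [Scheme.basicOpen_mul] at hx
    have hxτ : x ∈ (Spec R).basicOpen ((Scheme.ΓSpecIso R).inv (φ.hom t)) := hx.2
    rw [basicOpen_eq_of_affine] at hxτ
    exact hxτ hmem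
  · intro hnot h
    apply h _ (Ideal.mem_span_singleton_self _)
    show x ∈ (Spec R).basicOpen ((Scheme.ΓSpecIso R).inv (φ.hom t))
    rw [basicOpen_eq_of_affine]
    exact hnot

/-- if the pullbacks of `I` and `J` agree, the generators are associated. -/
lemma span_eq_of_comap_eq (I J : X.IdealSheafData) (t s : Γ(X, W))
    (hIW : I.ideal ⟨W, hW⟩ = Ideal.span {t}) (hJW : J.ideal ⟨W, hW⟩ = Ideal.span {s})
    (h : I.comap (Spec.map φ ≫ hW.fromSpec) = J.comap (Spec.map φ ≫ hW.fromSpec)) :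
    Ideal.span {φ.hom t} = Ideal.span {φ.hom s} := by
  have h1 := ideal_comap_SpecMap_fromSpec hW φ I t hIW
  have h2 := ideal_comap_SpecMap_fromSpec hW φ J s hJW
  rw [h, h2] at h1
  have h3 := congrArg (Ideal.map (Scheme.ΓSpecIso R).hom.hom) h1
  have key : ∀ r : R, (Scheme.ΓSpecIso R).hom.hom ((Scheme.ΓSpecIso R).inv.hom r) = r := fun r => by
    rw [← CommRingCat.comp_apply, Iso.inv_hom_id]
    rfl
  rw [Ideal.map_span, Ideal.map_span, Set.image_singleton, Set.image_singleton, key, key] at h3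
  exact h3.symm

end scheme

end Groth.Agent.Lib.helper16.ValTest2
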